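import Cfsg.Agent.Lib.Fusion.Aut

/-!
# Normal, central and closed subgroups; normalizer and centralizer systems, through `IsMap`
-/

set_option autoImplicit false

namespace Cfsg.Agent.Fusion

open Cfsg
open Cfsg.FusionSystem (normalizerIn centralizerIn normalizerHom centralizerHom)

variable {Ω : Type*} [Group Ω] {S : Subgroup Ω} {F : FusionSystem S}

theorem map_subgroupOf_coe {Q M : Subgroup Ω} (hQM : Q ≤ M) {ψ : M →* Ω} {f : Ω → Ω}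
    (hψ : ∀ x : M, ψ x = f x) : ((Q.subgroupOf M).map ψ : Set Ω) = f '' (Q : Set Ω) := by
  ext y
  constructor
  · rintro ⟨x, hx, rfl⟩
    exact ⟨x, hx, (hψ x).symm⟩
  · rintro ⟨x, hx, rfl⟩
    exact ⟨⟨x, hQM hx⟩, hx, hψ _⟩

/-- `ExtendsTo F Q P f`: the restriction of `f` to `P` extends to a map on `P ⊔ Q` stabilising `Q`. -/
def ExtendsStab (F : FusionSystem S) (Q P : Subgroup Ω) (f : Ω → Ω) : Prop :=
  ∃ f', IsMap F (P ⊔ Q) f' ∧ Set.EqOn f' f P ∧ f' '' (Q : Set Ω) = (Q : Set Ω)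

/-- The restriction of `f` to `P` extends to a map on `P ⊔ Q` fixing `Q` pointwise. -/
def ExtendsFix (F : FusionSystem S) (Q P : Subgroup Ω) (f : Ω → Ω) : Prop :=
  ∃ f', IsMap F (P ⊔ Q) f' ∧ Set.EqOn f' f P ∧ ∀ x ∈ Q, f' x = x

theorem extendsStab_iff {Q P : Subgroup Ω} {φ : P →* Ω} {f : Ω → Ω} (hf : ∀ x : P, φ x = f x) :
    (∃ ψ ∈ F.Hom (P ⊔ Q), (∀ x : P, ψ (Subgroup.inclusion le_sup_left x) = φ x) ∧
      (Q.subgroupOf (P ⊔ Q)).map ψ = Q) ↔ ExtendsStab F Q P f := by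
  constructor
  · rintro ⟨ψ, hψ, h1, h2⟩
    refine ⟨extFun ψ, isMap_extFun hψ, fun x hx => ?_, ?_⟩
    · rw [extFun_of_mem ψ (le_sup_left (b := Q) hx)]
      exact (h1 ⟨x, hx⟩).trans (hf _)
    · rw [← map_subgroupOf_coe (le_sup_right (a := P) (b := Q)) (fun x => (extFun_coe ψ x).symm), h2]
  · rintro ⟨f', ⟨ψ, hψ, hψf⟩, he, hQ⟩
    exact ⟨ψ, hψ, fun x => (hψf _).trans ((he x.2).trans (hf x).symm),
      SetLike.coe_injective ((map_subgroupOf_coe le_sup_right hψf).trans hQ)⟩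

theorem extendsFix_iff {Q P : Subgroup Ω} {φ : P →* Ω} {f : Ω → Ω} (hf : ∀ x : P, φ x = f x) :
    (∃ ψ ∈ F.Hom (P ⊔ Q), (∀ x : P, ψ (Subgroup.inclusion le_sup_left x) = φ x) ∧
      ∀ x : Q, ψ (Subgroup.inclusion le_sup_right x) = x) ↔ ExtendsFix F Q P f := by
  constructor
  · rintro ⟨ψ, hψ, h1, h2⟩
    refine ⟨extFun ψ, isMap_extFun hψ, fun x hx => ?_, fun x hx => ?_⟩
    · rw [extFun_of_mem ψ (le_sup_left (b := Q) hx)]
      exact (h1 ⟨x, hx⟩).trans (hf _)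
    · rw [extFun_of_mem ψ (le_sup_right (a := P) hx)]
      exact h2 ⟨x, hx⟩
  · rintro ⟨f', ⟨ψ, hψ, hψf⟩, he, hQ⟩
    exact ⟨ψ, hψ, fun x => (hψf _).trans ((he x.2).trans (hf x).symm),
      fun x => (hψf _).trans (hQ x x.2)⟩

theorem isNormal_iff {Q : Subgroup Ω} :
    F.IsNormal Q ↔ Q ≤ S ∧ ∀ P f, IsMap F P f → ExtendsStab F Q P f := by
  refine and_congr_right fun _ => ⟨?_, fun h P φ hφ => ?_⟩
  · rintro h P f ⟨φ, hφ, hφf⟩
    exact (extendsStab_iff hφf).mp (h P φ hφ)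
  · exact (extendsStab_iff fun x => (extFun_coe φ x).symm).mpr (h P _ (isMap_extFun hφ))

theorem isCentral_iff {Q : Subgroup Ω} :
    F.IsCentral Q ↔ Q ≤ S ∧ ∀ P f, IsMap F P f → ExtendsFix F Q P f := by
  refine and_congr_right fun _ => ⟨?_, fun h P φ hφ => ?_⟩
  · rintro h P f ⟨φ, hφ, hφf⟩
    exact (extendsFix_iff hφf).mp (h P φ hφ)
  · exact (extendsFix_iff fun x => (extFun_coe φ x).symm).mpr (h P _ (isMap_extFun hφ))

theorem stronglyClosed_iff {T : Subgroup Ω} :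
    F.StronglyClosed T ↔ T ≤ S ∧ ∀ R f, IsMap F R f → ∀ x ∈ R, x ∈ T → f x ∈ T := by
  refine and_congr_right fun _ => ⟨?_, fun h R hR φ hφ x => ?_⟩
  · rintro h R f hf x hx hxT
    obtain ⟨φ, hφ, hφf⟩ := hf.mono (inf_le_left : R ⊓ T ≤ R)
    exact hφf ⟨x, hx, hxT⟩ ▸ h (R ⊓ T) inf_le_right φ hφ ⟨x, hx, hxT⟩
  · simpa using h R _ (isMap_extFun hφ) x x.2 (hR x.2)

theorem mem_normalizerHom {Q P : Subgroup Ω} {φ : P →* Ω} {f : Ω → Ω} (hf : ∀ x : P, φ x = f x) :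
    φ ∈ F.normalizerHom Q P ↔ IsMap F P f ∧ P ≤ normalizerIn S Q ∧
      (∀ x ∈ P, f x ∈ normalizerIn S Q) ∧ ExtendsStab F Q P f := by
  refine and_congr ⟨fun h => ⟨φ, h, hf⟩, fun h => h.mem_hom hf⟩
    (and_congr_right fun _ => and_congr ⟨fun h x hx => hf ⟨x, hx⟩ ▸ h ⟨x, hx⟩, fun h x => hf x ▸ h x x.2⟩
      (extendsStab_iff hf))

theorem mem_centralizerHom {Q P : Subgroup Ω} {φ : P →* Ω} {f : Ω → Ω} (hf : ∀ x : P, φ x = f x) :
    φ ∈ F.centralizerHom Q P ↔ IsMap F P f ∧ P ≤ centralizerIn S Q ∧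
      (∀ x ∈ P, f x ∈ centralizerIn S Q) ∧ ExtendsFix F Q P f := by
  refine and_congr ⟨fun h => ⟨φ, h, hf⟩, fun h => h.mem_hom hf⟩
    (and_congr_right fun _ => and_congr ⟨fun h x hx => hf ⟨x, hx⟩ ▸ h ⟨x, hx⟩, fun h x => hf x ▸ h x x.2⟩
      (extendsFix_iff hf))

theorem IsNormalizerSystem.isMap_iff {Q : Subgroup Ω} {E : FusionSystem (normalizerIn S Q)}
    (hE : F.IsNormalizerSystem Q E) {P : Subgroup Ω} {f : Ω → Ω} :
    IsMap E P f ↔ IsMap F P f ∧ P ≤ normalizerIn S Q ∧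
      (∀ x ∈ P, f x ∈ normalizerIn S Q) ∧ ExtendsStab F Q P f := by
  constructor
  · rintro ⟨φ, hφ, hφf⟩
    rw [hE P] at hφ
    exact (mem_normalizerHom hφf).mp hφ
  · intro h
    obtain ⟨φ, -, hφf⟩ := id h.1
    exact ⟨φ, by rw [hE P]; exact (mem_normalizerHom hφf).mpr h, hφf⟩

theorem IsCentralizerSystem.isMap_iff {Q : Subgroup Ω} {E : FusionSystem (centralizerIn S Q)}
    (hE : F.IsCentralizerSystem Q E) {P : Subgroup Ω} {f : Ω → Ω} :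
    IsMap E P f ↔ IsMap F P f ∧ P ≤ centralizerIn S Q ∧
      (∀ x ∈ P, f x ∈ centralizerIn S Q) ∧ ExtendsFix F Q P f := by
  constructor
  · rintro ⟨φ, hφ, hφf⟩
    rw [hE P] at hφ
    exact (mem_centralizerHom hφf).mp hφ
  · intro h
    obtain ⟨φ, -, hφf⟩ := id h.1
    exact ⟨φ, by rw [hE P]; exact (mem_centralizerHom hφf).mpr h, hφf⟩

end Cfsg.Agent.Fusion
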