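import Cfsg.Agent.Lib.Fusion.Receptive

/-!
# Saturation: the Sylow and extension axioms
-/

set_option autoImplicit false

namespace Cfsg.Agent.Fusion

open Cfsg
open Cfsg.FusionSystem (normalizerIn centralizerIn extender)

variable {Ω : Type*} [Group Ω] {S : Subgroup Ω} {F : FusionSystem S} {p : ℕ} [Fact p.Prime]

theorem exists_automized_receptive (hF : F.IsSaturated p) {P : Subgroup Ω} (hP : P ≤ S) :
    ∃ R, F.IsConj P R ∧ F.IsFullyAutomized p R ∧ F.IsReceptive R :=
  hF P hP

/-- For a fully normalized `P` in a saturated system, a map onto `N_S(R)` of the normalizers,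
for a fully automized receptive conjugate `R`. -/
theorem exists_normalizer_iso [Finite S] (hS : IsPGroup p S) (hF : F.IsSaturated p) {P : Subgroup Ω}
    (hP : F.IsFullyNormalized P) :
    ∃ R f, F.IsFullyAutomized p R ∧ F.IsReceptive R ∧ IsIso F P R f ∧
      IsIso F (normalizerIn S P) (normalizerIn S R) f := by
  obtain ⟨R, hR, h₁, h₂⟩ := hF P hP.1
  obtain ⟨f, hf, hfP, hfN⟩ := exists_normalizer_map hS h₁ h₂ hR
  refine ⟨R, f, h₁, h₂, hfP, hf, Set.ext fun y => ⟨?_, fun hy => ?_⟩⟩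
  · rintro ⟨x, hx, rfl⟩
    exact hfN x hx
  · exact surjOn_of_card_le inf_le_left hf.injOn hfN (hP.2 R hR) y hy

theorem fullyAutomized_of_fullyNormalized [Finite S] (hS : IsPGroup p S) (hF : F.IsSaturated p)
    {P : Subgroup Ω} (hP : F.IsFullyNormalized P) : F.IsFullyAutomized p P := by
  obtain ⟨R, f, h₁, -, hfP, hfN⟩ := exists_normalizer_iso hS hF hP
  refine ⟨hP.1, ?_⟩
  obtain ⟨T, hT⟩ := h₁.2
  refine ⟨T.comapOfInjective hfP.autEquiv.toMonoidHom hfP.autEquiv.injective ?_, ?_⟩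
  · rw [MonoidHom.range_eq_top.mpr hfP.autEquiv.surjective]
    exact le_top
  change (T : Subgroup (F.autGroup R)).comap hfP.autEquiv.toMonoidHom = _
  rw [hT]
  ext α
  rw [Subgroup.mem_comap, Subgroup.mem_subgroupOf, Subgroup.mem_subgroupOf]
  show MulAut.congr hfP.equiv (α : MulAut P) ∈ _ ↔ _
  constructor
  · intro h
    obtain ⟨k, hk, hkα⟩ := mem_autInducedBy.mp h
    obtain ⟨g, hg, rfl⟩ := hfN.exists_preimage (y := k) ⟨hk, mem_normalizer_of_induces hkα⟩
    refine mem_autInducedBy.mpr ⟨g, hg.1, fun x => ?_⟩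
    have h1 := hkα (hfP.equiv x)
    rw [congr_apply_equiv, hfP.equiv_apply,
      ← hfN.1.map_conj hg (le_normalizerIn hP.1 x.2)] at h1
    exact hfN.1.injOn (le_normalizerIn hP.1 (Subtype.mem _))
      (le_normalizerIn hP.1 (conj_mem_of_mem_normalizer hg.2 x.2)) h1
  · intro h
    obtain ⟨g, hg, hgα⟩ := mem_autInducedBy.mp h
    have hgN : g ∈ normalizerIn S P := ⟨hg, mem_normalizer_of_induces hgα⟩
    rw [show (α : MulAut P) = conjAutHom S P ⟨g, hgN⟩ from MulEquiv.ext fun x => Subtype.ext (hgα x),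
      congr_autInducedBy_mem hfP hgN]
    exact ⟨f g, (hfN.mem hgN).1, fun x hx => hfN.1.map_conj hgN (le_normalizerIn hP.1 hx)⟩

theorem receptive_of_fullyCentralized [Finite S] (hS : IsPGroup p S) (hF : F.IsSaturated p)
    {Q : Subgroup Ω} (hQ : F.IsFullyCentralized Q) : F.IsReceptive Q := by
  refine isReceptive_of hQ.1 fun P θ hθ M hPM hM => ?_
  obtain ⟨R, hQR, h₁, h₂⟩ := hF Q hQ.1
  obtain ⟨f, hf, hfQ, hfN⟩ := exists_normalizer_map hS h₁ h₂ hQR
  have hC : ∀ y ∈ centralizerIn S R, ∃ c ∈ centralizerIn S Q, f c = y :=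
    surjOn_of_card_le inf_le_left
      (hf.injOn.mono fun x hx => centralizerIn_le_normalizerIn S Q hx)
      (fun x hx => map_mem_centralizer hf (le_normalizerIn hQ.1) hfQ.2
        (centralizerIn_le_normalizerIn S Q hx) hx.2) (hQ.2 R hQR)
  obtain ⟨I, hI⟩ := hf.exists_image
  obtain ⟨fi, hfi, hfil, -⟩ := hI.exists_inv
  have hθR : IsIso F P R (f ∘ θ) := hθ.comp hfQ
  have hgN : ∀ {g h : Ω}, g ∈ Subgroup.normalizer (P : Set Ω) → h ∈ S →
      (∀ x ∈ P, θ (g * x * g⁻¹) = h * θ x * h⁻¹) → h ∈ normalizerIn S Q := by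
    intro g h hg hh H
    refine ⟨hh, Subgroup.mem_normalizer_iff.mpr fun y => ⟨fun hy => ?_, fun hy => ?_⟩⟩
    · obtain ⟨x, hx, rfl⟩ := hθ.exists_preimage hy
      rw [← H x hx]
      exact hθ.mem (conj_mem_of_mem_normalizer hg hx)
    · obtain ⟨x, hx, hxy⟩ := hθ.exists_preimage hy
      have hx' : g⁻¹ * x * g ∈ P := by
        simpa using conj_mem_of_mem_normalizer (inv_mem hg) hx
      have := H _ hx'
      rw [show g * (g⁻¹ * x * g) * g⁻¹ = x by group, hxy] at this
      rw [mul_left_cancel (mul_right_cancel this)]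
      exact hθ.mem hx'
  have hM' : IsExtendable S P (f ∘ θ) M := by
    refine ⟨hM.1, fun g hg => ?_⟩
    obtain ⟨hgP, h, hh, H⟩ := hM.2 g hg
    have hhN := hgN hgP hh H
    refine ⟨hgP, f h, hf.apply_mem hhN, fun x hx => ?_⟩
    rw [Function.comp_apply, Function.comp_apply, H x hx, hf.map_conj hhN (le_normalizerIn hQ.1 (hθ.mem hx))]
  obtain ⟨χ, hχ, he⟩ := receptive_extend h₂ hθR hM'
  refine ⟨fi ∘ χ, ((hχ.mono le_sup_right).comp hfi.1 ?_), fun x hx => ?_⟩
  · intro g hg
    obtain ⟨hgP, h, hh, H⟩ := hM.2 g hg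
    have hhN := hgN hgP hh H
    have hc : χ g * (f h)⁻¹ ∈ centralizerIn S R := by
      refine ⟨S.mul_mem (hχ.apply_mem (le_sup_right (a := P) hg)) (S.inv_mem (hf.apply_mem hhN)),
        Subgroup.mem_centralizer_iff.mpr fun y hy => ?_⟩
      obtain ⟨x, hx, rfl⟩ := hθR.exists_preimage hy
      have hy' : (f ∘ θ) x ∈ R := hy
      have h1 : χ (g * x * g⁻¹) = χ g * (f ∘ θ) x * (χ g)⁻¹ := by
        rw [hχ.map_conj (le_sup_right (a := P) hg) (le_sup_left (b := M) hx), he hx]
      rw [he (conj_mem_of_mem_normalizer hgP hx), Function.comp_apply, H x hx,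
        hf.map_conj hhN (le_normalizerIn hQ.1 (hθ.mem hx))] at h1
      have key : ∀ a b z : Ω, b * z * b⁻¹ = a * z * a⁻¹ → (a⁻¹ * b) * z = z * (a⁻¹ * b) := by
        intro a b z hz
        calc a⁻¹ * b * z = a⁻¹ * (b * z * b⁻¹) * b := by group
          _ = a⁻¹ * (a * z * a⁻¹) * b := by rw [hz]
          _ = z * (a⁻¹ * b) := by group
      have h2 : ∀ z ∈ R, χ g * (f h)⁻¹ * z = z * (χ g * (f h)⁻¹) := by
        intro z hz
        have hz' : (f h)⁻¹ * z * f h ∈ R := by
          have hfh := hfN h hhN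
          simpa using conj_mem_of_mem_normalizer (inv_mem hfh.2) hz
        obtain ⟨x, hx, hxz⟩ := hθR.exists_preimage hz'
        have h1 : χ (g * x * g⁻¹) = χ g * (f ∘ θ) x * (χ g)⁻¹ := by
          rw [hχ.map_conj (le_sup_right (a := P) hg) (le_sup_left (b := M) hx), he hx]
        rw [he (conj_mem_of_mem_normalizer hgP hx), Function.comp_apply, H x hx,
          hf.map_conj hhN (le_normalizerIn hQ.1 (hθ.mem hx)), ← Function.comp_apply (f := f), hxz] at h1
        rw [show f h * ((f h)⁻¹ * z * f h) * (f h)⁻¹ = z by group] at h1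
        conv_rhs => rw [h1]
        group
      exact (h2 _ hy').symm
    obtain ⟨c, hc, hfc⟩ := hC _ hc
    have : χ g = f (c * h) := by
      rw [hf.map_mul (centralizerIn_le_normalizerIn S Q hc) hhN, hfc]
      group
    rw [this]
    exact hI.mem (mul_mem (centralizerIn_le_normalizerIn S Q hc) hhN)
  · rw [Function.comp_apply, he hx, Function.comp_apply, hfil _ (le_normalizerIn hQ.1 (hθ.mem hx))]

theorem fullyCentralized_of_fullyNormalized [Finite S] (hS : IsPGroup p S) (hF : F.IsSaturated p)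
    {P : Subgroup Ω} (hP : F.IsFullyNormalized P) : F.IsFullyCentralized P := by
  obtain ⟨R, f, -, h₂, hfP, hfN⟩ := exists_normalizer_iso hS hF hP
  refine ⟨hP.1, fun Q hQ => ((fullyCentralized_of_receptive h₂).2 Q
    (isConj_trans (isConj_symm hfP.isConj) hQ)).trans ?_⟩
  obtain ⟨fi, hfi, hfil, hfir⟩ := hfN.exists_inv
  refine card_le_of_injOn inf_le_left
    (hfi.1.injOn.mono fun x hx => centralizerIn_le_normalizerIn S R hx) fun x hx => ?_
  refine map_mem_centralizer hfi.1 (le_normalizerIn hfP.cod_le) ?_ (centralizerIn_le_normalizerIn S R hx) hx.2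
  ext y
  constructor
  · rintro ⟨z, hz, rfl⟩
    obtain ⟨a, ha, rfl⟩ := hfP.exists_preimage hz
    rw [hfil a (le_normalizerIn hP.1 ha)]
    exact ha
  · intro hy
    exact ⟨f y, hfP.mem hy, hfil y (le_normalizerIn hP.1 hy)⟩

theorem receptive_of_fullyNormalized [Finite S] (hS : IsPGroup p S) (hF : F.IsSaturated p)
    {P : Subgroup Ω} (hP : F.IsFullyNormalized P) : F.IsReceptive P :=
  receptive_of_fullyCentralized hS hF (fullyCentralized_of_fullyNormalized hS hF hP)

theorem fullyNormalized_self : F.IsFullyNormalized S := by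
  refine ⟨le_rfl, fun Q hQ => ?_⟩
  rw [normalizerIn_self]
  by_cases hfin : Finite S
  · exact Subgroup.card_le_of_le inf_le_left
  · haveI := not_finite_iff_infinite.mp hfin
    have : Infinite (normalizerIn S Q) := by
      have hc := isConj_card hQ
      have : Infinite Q := by
        obtain ⟨f, hf⟩ := isConj_iff.mp hQ
        exact Infinite.of_injective _ hf.equiv.injective
      exact Infinite.of_injective _
        (Subgroup.inclusion_injective (le_normalizerIn (isConj_le_right hQ)))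
    rw [Nat.card_eq_zero_of_infinite (α := normalizerIn S Q)]
    exact Nat.zero_le _

/-- The two axioms imply saturation. -/
theorem isSaturated_of_axioms [Finite S]
    (h₁ : ∀ P, F.IsFullyNormalized P → F.IsFullyCentralized P ∧ F.IsFullyAutomized p P)
    (h₂ : ∀ P, F.IsFullyCentralized P → F.IsReceptive P) : F.IsSaturated p := fun P hP =>
  let ⟨Q, hPQ, hQ⟩ := exists_fullyNormalized hP
  ⟨Q, hPQ, (h₁ Q hQ).2, h₂ Q (h₁ Q hQ).1⟩

end Cfsg.Agent.Fusion
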