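import Cfsg.Agent.Lib.Fusion.Closed

/-!
# Building subsystems; normalizer and centralizer systems
-/

set_option autoImplicit false

namespace Cfsg.Agent.Fusion

open Cfsg
open Cfsg.FusionSystem (normalizerIn centralizerIn)

variable {Ω : Type*} [Group Ω] {S : Subgroup Ω} {F : FusionSystem S}

/-- The subsystem over `T` with maps described by the predicate `M` on functions. -/
noncomputable def mkSub (F : FusionSystem S) (T : Subgroup Ω) (M : Subgroup Ω → (Ω → Ω) → Prop)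
    (hcongr : ∀ {P f g}, M P f → Set.EqOn f g (P : Set Ω) → M P g)
    (hsub : ∀ {P f}, M P f → IsMap F P f ∧ P ≤ T ∧ ∀ x ∈ P, f x ∈ T)
    (hconj : ∀ {P : Subgroup Ω} {g : Ω}, P ≤ T → g ∈ T → M P fun x => g * x * g⁻¹)
    (hcomp : ∀ {P Q f g}, M P f → M Q g → (∀ x ∈ P, f x ∈ Q) → M P (g ∘ f))
    (hinv : ∀ {P Q f g}, M P f → IsIso F P Q f → IsIso F Q P g → (∀ x ∈ P, g (f x) = x) → M Q g) :
    FusionSystem T where
  Hom P := {φ | M P (extFun φ)}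
  le_of_mem {P φ} h := ⟨(hsub h).2.1, fun x => extFun_coe φ x ▸ (hsub h).2.2 x x.2⟩
  injective_of_mem {P φ} h := F.injective_of_mem (mem_hom_iff_isMap.mpr (hsub h).1)
  conj_mem {P g} hP hg := hcongr (hconj hP hg) fun x hx => (extFun_of_mem (conjHom P g) hx).symm
  comp_mem {P Q φ ψ} hφ hψ h :=
    hcongr (hcomp hφ hψ fun x hx => by rw [extFun_of_mem φ hx]; exact h _) fun x hx => by
      rw [extFun_of_mem _ hx, Function.comp_apply, extFun_of_mem φ hx, extFun_of_mem ψ (h ⟨x, hx⟩)]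
      rfl
  inv_mem {P φ} h := by
    have hφ : φ ∈ F.Hom P := mem_hom_iff_isMap.mpr (hsub h).1
    have hi := IsMap.isIso_range hφ
    obtain ⟨g, hg, hgl, -⟩ := hi.exists_inv
    obtain ⟨ψ, -, hψg⟩ := id hg.1
    refine ⟨ψ, hcongr (hinv h hi hg hgl) fun y hy => (hψg ⟨y, hy⟩).symm.trans (extFun_of_mem ψ hy).symm,
      fun x => ?_⟩
    rw [hψg]
    exact (congrArg g (extFun_coe φ x).symm).trans (hgl x x.2)

theorem isMap_mkSub {T : Subgroup Ω} {M : Subgroup Ω → (Ω → Ω) → Prop} {hcongr hsub hconj hcomp hinv}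
    {P : Subgroup Ω} {f : Ω → Ω} : IsMap (mkSub F T M hcongr hsub hconj hcomp hinv) P f ↔ M P f := by
  constructor
  · rintro ⟨φ, hφ, hf⟩
    exact hcongr hφ fun x hx => (extFun_of_mem φ hx).trans (hf ⟨x, hx⟩)
  · intro h
    obtain ⟨φ, -, hf⟩ := id (hsub h).1
    exact ⟨φ, hcongr h fun x hx => ((extFun_of_mem φ hx).trans (hf ⟨x, hx⟩)).symm, hf⟩

theorem isMap_mem_sup {M P Q R : Subgroup Ω} {f : Ω → Ω} (h : IsMap F M f) (hPM : P ≤ M) (hQM : Q ≤ M)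
    (hP : ∀ x ∈ P, f x ∈ R) (hQ : ∀ x ∈ Q, f x ∈ R) : ∀ x ∈ P ⊔ Q, f x ∈ R := by
  obtain ⟨φ, -, hφf⟩ := id h
  intro x hx
  have h1 : P ⊔ Q ≤ (R.comap φ).map M.subtype := sup_le
    (fun y hy => ⟨⟨y, hPM hy⟩, show φ ⟨y, hPM hy⟩ ∈ R by rw [hφf]; exact hP y hy, rfl⟩)
    (fun y hy => ⟨⟨y, hQM hy⟩, show φ ⟨y, hQM hy⟩ ∈ R by rw [hφf]; exact hQ y hy, rfl⟩)
  obtain ⟨⟨z, hz⟩, hzR, rfl⟩ := h1 hx
  exact hφf ⟨z, hz⟩ ▸ hzR

theorem IsIso.sup {P P' Q Q' : Subgroup Ω} {f : Ω → Ω} (h : IsMap F (P ⊔ Q) f)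
    (hP : f '' (P : Set Ω) = (P' : Set Ω)) (hQ : f '' (Q : Set Ω) = (Q' : Set Ω)) :
    IsIso F (P ⊔ Q) (P' ⊔ Q') f := by
  obtain ⟨φ, -, hφf⟩ := id h
  refine ⟨h, Set.Subset.antisymm ?_ ?_⟩
  · rintro _ ⟨x, hx, rfl⟩
    refine isMap_mem_sup h le_sup_left le_sup_right ?_ ?_ x hx
    · exact fun y hy => Subgroup.mem_sup_left (show f y ∈ (P' : Set Ω) by rw [← hP]; exact ⟨y, hy, rfl⟩)
    · exact fun y hy => Subgroup.mem_sup_right (show f y ∈ (Q' : Set Ω) by rw [← hQ]; exact ⟨y, hy, rfl⟩)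
  · intro y hy
    have : P' ⊔ Q' ≤ φ.range := by
      refine sup_le (fun z hz => ?_) (fun z hz => ?_)
      · rw [← SetLike.mem_coe, ← hP] at hz
        obtain ⟨x, hx, rfl⟩ := hz
        exact ⟨⟨x, le_sup_left (b := Q) hx⟩, hφf _⟩
      · rw [← SetLike.mem_coe, ← hQ] at hz
        obtain ⟨x, hx, rfl⟩ := hz
        exact ⟨⟨x, le_sup_right (a := P) hx⟩, hφf _⟩
    obtain ⟨x, rfl⟩ := this hy
    exact ⟨x, x.2, (hφf x).symm⟩

theorem ExtendsStab.congr {Q P : Subgroup Ω} {f g : Ω → Ω} (h : ExtendsStab F Q P f)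
    (hfg : Set.EqOn f g P) : ExtendsStab F Q P g := by
  obtain ⟨f', h1, h2, h3⟩ := h
  exact ⟨f', h1, h2.trans hfg, h3⟩

theorem ExtendsFix.congr {Q P : Subgroup Ω} {f g : Ω → Ω} (h : ExtendsFix F Q P f)
    (hfg : Set.EqOn f g P) : ExtendsFix F Q P g := by
  obtain ⟨f', h1, h2, h3⟩ := h
  exact ⟨f', h1, h2.trans hfg, h3⟩

theorem ExtendsFix.stab {Q P : Subgroup Ω} {f : Ω → Ω} (h : ExtendsFix F Q P f) :
    ExtendsStab F Q P f := by
  obtain ⟨f', h1, h2, h3⟩ := h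
  exact ⟨f', h1, h2, (Set.image_congr h3).trans (Set.image_id' _)⟩

theorem ExtendsStab.mem {Q P : Subgroup Ω} {f' : Ω → Ω} (h : f' '' (Q : Set Ω) = (Q : Set Ω))
    {x : Ω} (hx : x ∈ Q) : f' x ∈ Q ⊔ P := by
  refine Subgroup.mem_sup_left ?_
  rw [← SetLike.mem_coe, ← h]
  exact ⟨x, hx, rfl⟩

theorem ExtendsStab.comp {Q P P' : Subgroup Ω} {f g : Ω → Ω} (hf : ExtendsStab F Q P f)
    (hg : ExtendsStab F Q P' g) (h : ∀ x ∈ P, f x ∈ P') : ExtendsStab F Q P (g ∘ f) := by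
  obtain ⟨f', h1, h2, h3⟩ := hf
  obtain ⟨g', k1, k2, k3⟩ := hg
  refine ⟨g' ∘ f', h1.comp k1 (isMap_mem_sup h1 le_sup_left le_sup_right
    (fun x hx => Subgroup.mem_sup_left (h2 hx ▸ h x hx))
    (fun x hx => sup_comm Q P' ▸ ExtendsStab.mem h3 hx)), fun x hx => ?_, by rw [Set.image_comp, h3, k3]⟩
  rw [Function.comp_apply, h2 hx, k2 (h x hx), Function.comp_apply]

theorem ExtendsFix.comp {Q P P' : Subgroup Ω} {f g : Ω → Ω} (hf : ExtendsFix F Q P f)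
    (hg : ExtendsFix F Q P' g) (h : ∀ x ∈ P, f x ∈ P') : ExtendsFix F Q P (g ∘ f) := by
  obtain ⟨f', h1, h2, h3⟩ := hf
  obtain ⟨g', k1, k2, k3⟩ := hg
  refine ⟨g' ∘ f', h1.comp k1 (isMap_mem_sup h1 le_sup_left le_sup_right
    (fun x hx => Subgroup.mem_sup_left (h2 hx ▸ h x hx))
    (fun x hx => Subgroup.mem_sup_right ((h3 x hx).symm ▸ hx))), fun x hx => ?_, fun x hx => ?_⟩
  · rw [Function.comp_apply, h2 hx, k2 (h x hx), Function.comp_apply]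
  · rw [Function.comp_apply, h3 x hx, k3 x hx]

theorem ExtendsStab.inv {Q P P' : Subgroup Ω} {f g : Ω → Ω} (hf : ExtendsStab F Q P f)
    (hi : IsIso F P P' f) (hgl : ∀ x ∈ P, g (f x) = x) : ExtendsStab F Q P' g := by
  obtain ⟨f', h1, h2, h3⟩ := hf
  obtain ⟨k, hk, hkl, -⟩ := (IsIso.sup h1 ((Set.image_congr h2).trans hi.2) h3).exists_inv
  refine ⟨k, hk.1, fun y hy => ?_, Set.Subset.antisymm ?_ fun x hx => ?_⟩
  · obtain ⟨x, hx, rfl⟩ := hi.exists_preimage hy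
    rw [← h2 hx, hkl x (le_sup_left (b := Q) hx), h2 hx, hgl x hx]
  · rintro _ ⟨y, hy, rfl⟩
    rw [← h3] at hy
    obtain ⟨x, hx, rfl⟩ := hy
    rwa [hkl x (le_sup_right (a := P) hx)]
  · exact ⟨f' x, h3 ▸ ⟨x, hx, rfl⟩, hkl x (le_sup_right (a := P) hx)⟩

theorem ExtendsFix.inv {Q P P' : Subgroup Ω} {f g : Ω → Ω} (hf : ExtendsFix F Q P f)
    (hi : IsIso F P P' f) (hgl : ∀ x ∈ P, g (f x) = x) : ExtendsFix F Q P' g := by
  obtain ⟨f', h1, h2, h3⟩ := hf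
  obtain ⟨k, hk, hkl, -⟩ :=
    (IsIso.sup h1 ((Set.image_congr h2).trans hi.2) ((Set.image_congr h3).trans (Set.image_id' _))).exists_inv
  refine ⟨k, hk.1, fun y hy => ?_, fun x hx => ?_⟩
  · obtain ⟨x, hx, rfl⟩ := hi.exists_preimage hy
    rw [← h2 hx, hkl x (le_sup_left (b := Q) hx), h2 hx, hgl x hx]
  · have := hkl x (le_sup_right (a := P) hx)
    rwa [h3 x hx] at this

theorem image_conj_eq_self {g : Ω} {Q : Subgroup Ω} (hg : g ∈ Subgroup.normalizer (Q : Set Ω)) :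
    (fun x => g * x * g⁻¹) '' (Q : Set Ω) = (Q : Set Ω) := by
  refine Set.Subset.antisymm ?_ fun y hy => ?_
  · rintro _ ⟨x, hx, rfl⟩
    exact conj_mem_of_mem_normalizer hg hx
  · exact ⟨g⁻¹ * y * g, by simpa using conj_mem_of_mem_normalizer (Subgroup.inv_mem _ hg) hy, by simp [mul_assoc]⟩

/-- The normalizer fusion system. -/
noncomputable def normalizerSystem (F : FusionSystem S) (Q : Subgroup Ω) (hQ : Q ≤ S) :
    FusionSystem (normalizerIn S Q) :=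
  mkSub F (normalizerIn S Q)
    (fun P f => IsMap F P f ∧ P ≤ normalizerIn S Q ∧ (∀ x ∈ P, f x ∈ normalizerIn S Q) ∧ ExtendsStab F Q P f)
    (fun h hfg => ⟨h.1.congr hfg, h.2.1, fun x hx => hfg hx ▸ h.2.2.1 x hx, h.2.2.2.congr hfg⟩)
    (fun h => ⟨h.1, h.2.1, h.2.2.1⟩)
    (fun {P g} hP hg => ⟨isMap_conj (hP.trans inf_le_left) hg.1, hP,
      fun x hx => Subgroup.mul_mem _ (Subgroup.mul_mem _ hg (hP hx)) (Subgroup.inv_mem _ hg),
      _, isMap_conj (sup_le (hP.trans inf_le_left) hQ) hg.1, fun _ _ => rfl, image_conj_eq_self hg.2⟩)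
    (fun hf hg h => ⟨hf.1.comp hg.1 h, hf.2.1, fun x hx => hg.2.2.1 _ (h x hx), hf.2.2.2.comp hg.2.2.2 h⟩)
    (fun hf hi hg hgl => ⟨hg.1, fun y hy => by
        obtain ⟨x, hx, rfl⟩ := hi.exists_preimage hy
        exact hf.2.2.1 x hx,
      fun y hy => hf.2.1 (hg.mem hy), hf.2.2.2.inv hi hgl⟩)

/-- The centralizer fusion system. -/
noncomputable def centralizerSystem (F : FusionSystem S) (Q : Subgroup Ω) (hQ : Q ≤ S) :
    FusionSystem (centralizerIn S Q) :=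
  mkSub F (centralizerIn S Q)
    (fun P f => IsMap F P f ∧ P ≤ centralizerIn S Q ∧ (∀ x ∈ P, f x ∈ centralizerIn S Q) ∧ ExtendsFix F Q P f)
    (fun h hfg => ⟨h.1.congr hfg, h.2.1, fun x hx => hfg hx ▸ h.2.2.1 x hx, h.2.2.2.congr hfg⟩)
    (fun h => ⟨h.1, h.2.1, h.2.2.1⟩)
    (fun {P g} hP hg => ⟨isMap_conj (hP.trans inf_le_left) hg.1, hP,
      fun x hx => Subgroup.mul_mem _ (Subgroup.mul_mem _ hg (hP hx)) (Subgroup.inv_mem _ hg),
      _, isMap_conj (sup_le (hP.trans inf_le_left) hQ) hg.1, fun _ _ => rfl, fun x hx => by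
        show g * x * g⁻¹ = x
        rw [← Subgroup.mem_centralizer_iff.mp hg.2 x hx]
        group⟩)
    (fun hf hg h => ⟨hf.1.comp hg.1 h, hf.2.1, fun x hx => hg.2.2.1 _ (h x hx), hf.2.2.2.comp hg.2.2.2 h⟩)
    (fun hf hi hg hgl => ⟨hg.1, fun y hy => by
        obtain ⟨x, hx, rfl⟩ := hi.exists_preimage hy
        exact hf.2.2.1 x hx,
      fun y hy => hf.2.1 (hg.mem hy), hf.2.2.2.inv hi hgl⟩)

theorem isNormalizerSystem_normalizerSystem (Q : Subgroup Ω) (hQ : Q ≤ S) :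
    F.IsNormalizerSystem Q (normalizerSystem F Q hQ) := by
  intro P
  ext φ
  rw [mem_normalizerHom (f := extFun φ) fun x => (extFun_coe φ x).symm]
  rfl

theorem isCentralizerSystem_centralizerSystem (Q : Subgroup Ω) (hQ : Q ≤ S) :
    F.IsCentralizerSystem Q (centralizerSystem F Q hQ) := by
  intro P
  ext φ
  rw [mem_centralizerHom (f := extFun φ) fun x => (extFun_coe φ x).symm]
  rfl

theorem IsNormalizerSystem.unique {Q : Subgroup Ω} {E E' : FusionSystem (normalizerIn S Q)}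
    (h : F.IsNormalizerSystem Q E) (h' : F.IsNormalizerSystem Q E') : E = E' :=
  fusion_ext fun P => (h P).trans (h' P).symm

theorem IsCentralizerSystem.unique {Q : Subgroup Ω} {E E' : FusionSystem (centralizerIn S Q)}
    (h : F.IsCentralizerSystem Q E) (h' : F.IsCentralizerSystem Q E') : E = E' :=
  fusion_ext fun P => (h P).trans (h' P).symm

end Cfsg.Agent.Fusion
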