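import Cfsg.Agent.Lib.Fusion.Closed
import Cfsg.Agent.Lib.Fusion.Subsystem
import Cfsg.Agent.Fusion92.LocalModel

/-!
# Models of constrained fusion systems
-/

set_option autoImplicit false
set_option maxHeartbeats 400000

namespace Cfsg.Agent.Fusion

open Cfsg
open Cfsg.FusionSystem (normalizerIn centralizerIn)

universe u v

variable {Ω : Type u} [Group Ω] {S : Subgroup Ω} {F : FusionSystem S} {p : ℕ}

theorem normal_le_normalizer {Q : Subgroup Ω} (h : F.IsNormal Q) :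
    S ≤ Subgroup.normalizer (Q : Set Ω) := by
  obtain ⟨hQS, hQ⟩ := isNormal_iff.mp h
  intro g hg
  obtain ⟨f', -, he, hQ'⟩ := hQ S _ (isMap_conj le_rfl hg)
  rw [Set.image_congr fun x hx => he (hQS hx)] at hQ'
  refine Subgroup.mem_normalizer_iff.mpr fun x => ⟨fun hx => ?_, fun hx => ?_⟩
  · rw [← SetLike.mem_coe, ← hQ']
    exact ⟨x, hx, rfl⟩
  · rw [← SetLike.mem_coe, ← hQ'] at hx
    obtain ⟨y, hy, hyx⟩ := hx
    rwa [← mul_left_cancel (mul_right_cancel hyx)]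

theorem normal_normalizerIn_eq {Q : Subgroup Ω} (h : F.IsNormal Q) : normalizerIn S Q = S :=
  inf_eq_left.mpr (normal_le_normalizer h)

theorem normal_fullyNormalized [Finite S] {Q : Subgroup Ω} (h : F.IsNormal Q) : F.IsFullyNormalized Q :=
  ⟨h.1, fun R _ => by
    rw [normal_normalizerIn_eq h]
    exact Subgroup.card_le_of_le (normalizerIn_le S R)⟩

theorem normal_extendsStab {Q P : Subgroup Ω} (h : F.IsNormal Q) {f : Ω → Ω} (hf : IsMap F P f) :
    ExtendsStab F Q P f :=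
  (isNormal_iff.mp h).2 P f hf

variable [Fact p.Prime]

theorem exists_model [Finite S] (hS : IsPGroup p S) (hF : F.IsConstrained p) :
    ∃ (G : Type u) (_ : Group G) (ι : S →* G), F.IsModel p G ι := by
  obtain ⟨hsat, Q, hQn, hQc⟩ := hF
  have hN := normal_normalizerIn_eq hQn
  obtain ⟨L, hG, hL, ι, h⟩ := Fusion92.exists_isLocal hS hsat hQc (normal_fullyNormalized hQn)
  let e : S →* ↥(normalizerIn S Q) := Subgroup.inclusion hN.ge
  have he : Function.Surjective e := fun y => ⟨⟨y, hN.le y.2⟩, rfl⟩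
  have hr : (ι.comp e).range = ι.range := by
    rw [MonoidHom.range_comp, MonoidHom.range_eq_top.mpr he, ← MonoidHom.range_eq_map]
  obtain ⟨T, hT⟩ := h.sylow
  refine ⟨L, hG, ι.comp e, hL, ⟨h.shape.inj.comp (Subgroup.inclusion_injective _), fun P hP φ hφ => ?_⟩,
    ⟨T, hT.trans hr.symm⟩, h.centralizer_pCore_le hS⟩
  have hfe : ∀ x : P, extFun φ x = φ x := fun x => extFun_coe φ x
  have hv : ∀ x ∈ P, extFun φ x ∈ normalizerIn S Q := fun x hx => by
    rw [extFun_of_mem φ hx]; exact hN.ge (hφ _)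
  have hval : ∀ x : P, (ι.comp e) ⟨φ x, hφ x⟩ = ι ⟨extFun φ x, hv x x.2⟩ := fun x =>
    congrArg ι (Subtype.ext (hfe x).symm)
  constructor
  · intro hm
    obtain ⟨g, hg⟩ := (h.realizes P (hP.trans hN.ge) _ hv).mp
      ⟨isMap_extFun hm, normal_extendsStab hQn (isMap_extFun hm)⟩
    exact ⟨g, fun x => (hval x).trans (hg x x.2)⟩
  · rintro ⟨g, hg⟩
    exact mem_hom_iff_isMap.mpr ((h.realizes P (hP.trans hN.ge) _ hv).mpr
      ⟨g, fun x hx => (hval ⟨x, hx⟩).symm.trans (hg ⟨x, hx⟩)⟩).1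

theorem model_isLocal [Finite S] (hS : IsPGroup p S) (hsat : F.IsSaturated p) {Q : Subgroup Ω}
    (hQn : F.IsNormal Q) (hQc : F.IsCentric Q) {G : Type v} [Group G] {ι : S →* G}
    (hG : F.IsModel p G ι) :
    Fusion92.IsLocal F p Q (ι.comp (Subgroup.inclusion (normalizerIn_le S Q))) := by
  have hN := normal_normalizerIn_eq hQn
  obtain ⟨hfin, ⟨hinj, hreal⟩, ⟨T, hT⟩, hcore⟩ := hG
  have he : Function.Surjective (Subgroup.inclusion (normalizerIn_le S Q)) :=
    fun y => ⟨⟨y, hN.ge y.2⟩, rfl⟩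
  have hr : (ι.comp (Subgroup.inclusion (normalizerIn_le S Q))).range = ι.range := by
    rw [MonoidHom.range_comp, MonoidHom.range_eq_top.mpr he, ← MonoidHom.range_eq_map]
  refine Fusion92.IsLocal.of_isModel hS hsat hQc (isNormalizerSystem_normalizerSystem Q hQn.1)
    ⟨hfin, ⟨hinj.comp (Subgroup.inclusion_injective _), fun P hP φ hφ => ?_⟩, ⟨T, hT.trans hr.symm⟩, hcore⟩
  rw [isNormalizerSystem_normalizerSystem Q hQn.1 P, mem_normalizerHom (f := extFun φ) fun x => (extFun_coe φ x).symm]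
  have hP' : P ≤ S := hP.trans (normalizerIn_le S Q)
  constructor
  · rintro ⟨hm, -⟩
    exact (hreal P hP' φ fun x => (hφ x).1).mp (mem_hom_iff_isMap.mpr hm)
  · rintro ⟨g, hg⟩
    have hm := mem_hom_iff_isMap.mp ((hreal P hP' φ fun x => (hφ x).1).mpr ⟨g, hg⟩)
    exact ⟨hm, hP, fun x hx => hN.ge (hm.apply_mem hx), normal_extendsStab hQn hm⟩

theorem model_unique [Finite S] (hS : IsPGroup p S) (hF : F.IsConstrained p) {G₁ : Type v}
    {G₂ : Type*} [Group G₁] [Group G₂] (ι₁ : S →* G₁) (ι₂ : S →* G₂) (h₁ : F.IsModel p G₁ ι₁)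
    (h₂ : F.IsModel p G₂ ι₂) : ∃ φ : G₁ ≃* G₂, ∀ x : S, φ (ι₁ x) = ι₂ x := by
  obtain ⟨hsat, Q, hQn, hQc⟩ := hF
  obtain ⟨e, he⟩ := (model_isLocal hS hsat hQn hQc h₁).exists_iso hS (model_isLocal hS hsat hQn hQc h₂)
  exact ⟨e, fun x => he ⟨x, (normal_normalizerIn_eq hQn).ge x.2⟩⟩

end Cfsg.Agent.Fusion
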