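import Cfsg.Agent.Lib.Fusion.Alperin
import Cfsg.Agent.Lib.Fusion.Subsystem
import Cfsg.Agent.Lib.Fusion.Constrained
import Cfsg.Agent.Fusion92.Congruence
import Mathlib.GroupTheory.SemidirectProduct
import Mathlib.GroupTheory.Commutator.Basic

/-!
# Normality criteria for subgroups in a saturated fusion system
-/

set_option autoImplicit false
set_option maxHeartbeats 400000

namespace Cfsg.Agent.Fusion

open Cfsg
open Cfsg.FusionSystem (normalizerIn centralizerIn)
open scoped commutatorElement Pointwise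

variable {Ω : Type*} [Group Ω] {S : Subgroup Ω} {F : FusionSystem S} {p : ℕ}

theorem stronglyClosed_of_normal {Q : Subgroup Ω} (h : F.IsNormal Q) : F.StronglyClosed Q := by
  refine stronglyClosed_iff.mpr ⟨h.1, fun R f hf x hxR hxQ => ?_⟩
  obtain ⟨f', hf', he, hQ⟩ := normal_extendsStab h hf
  rw [← he hxR, ← SetLike.mem_coe, ← hQ]
  exact ⟨x, hxQ, rfl⟩

theorem stronglyClosed_le_normalizer [Finite S] {Q : Subgroup Ω} (h : F.StronglyClosed Q) :
    S ≤ Subgroup.normalizer (Q : Set Ω) :=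
  Fusion92.le_normalizer_closed h

/-- An element of `N_S(P)` whose automorphism lies in a normal `p`-subgroup of `Aut_F(P)` is in `P`,
if `P` is centric and radical. -/
theorem mem_of_normal_pSubgroup {P : Subgroup Ω} (hc : F.IsCentric P) (hr : F.IsRadical p P)
    (N : Subgroup (F.autGroup P)) (hN : N.Normal) (hNp : IsPGroup p N) {g : Ω}
    (hg : g ∈ normalizerIn S P) (α : F.autGroup P) (hα : α ∈ N)
    (hαg : ∀ x : P, ((α : MulAut P) x : Ω) = g * x * g⁻¹) : g ∈ P := by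
  have h1 : (α : MulAut P) ∈ Cfsg.Inn P := by
    rw [← hr.2]
    exact ⟨α, Subgroup.mem_sSup_of_mem (show N ∈ {M : Subgroup (F.autGroup P) | M.Normal ∧ IsPGroup p M} from ⟨hN, hNp⟩) hα, rfl⟩
  obtain ⟨a, ha, hax⟩ := mem_inn.mp h1
  have hcent : a⁻¹ * g ∈ centralizerIn S P := by
    refine ⟨S.mul_mem (S.inv_mem (hc.1 ha)) hg.1, Subgroup.mem_centralizer_iff.mpr fun x hx => ?_⟩
    have h : g * x * g⁻¹ = a * x * a⁻¹ := (hαg ⟨x, hx⟩).symm.trans (hax ⟨x, hx⟩)
    calc x * (a⁻¹ * g) = a⁻¹ * (a * x * a⁻¹) * g := by group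
      _ = a⁻¹ * (g * x * g⁻¹) * g := by rw [h]
      _ = a⁻¹ * g * x := by group
  have := P.mul_mem ha (hc.2 P (isConj_refl hc.1) hcent)
  rwa [mul_inv_cancel_left] at this

/-- If `N_Q(P) ≤ P` for a subgroup `Q` of `S` normalized by `P`, then `Q ≤ P`. -/
theorem le_of_normalizer_le [Finite S] [Fact p.Prime] (hS : IsPGroup p S) {P Q : Subgroup Ω}
    (hP : P ≤ S) (hQ : Q ≤ S) (hPQ : P ≤ Subgroup.normalizer (Q : Set Ω))
    (h : ∀ g ∈ Q, g ∈ Subgroup.normalizer (P : Set Ω) → g ∈ P) : Q ≤ P := by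
  by_contra hne
  have hlt : P < P ⊔ Q := lt_of_le_of_ne le_sup_left fun he => hne (le_sup_right.trans he.ge)
  have hle : P ⊔ Q ≤ S := sup_le hP hQ
  haveI := finite_of_le hle
  obtain ⟨g, ⟨hg, hgN⟩, hgP⟩ := SetLike.exists_of_lt (lt_normalizerIn (hS.to_le hle) hlt)
  obtain ⟨a, ha, q, hq, rfl⟩ : g ∈ (P : Set Ω) * (Q : Set Ω) := by
    rw [← Subgroup.coe_mul_of_left_le_normalizer_right P Q hPQ]
    exact hg
  refine hgP (P.mul_mem ha (h q hq ?_))
  have := Subgroup.mul_mem _ (Subgroup.inv_mem _ (P.le_normalizer ha)) hgN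
  rwa [inv_mul_cancel_left] at this

/-- A normal subgroup is contained in every centric radical subgroup. -/
theorem normal_le_centric_radical [Finite S] [Fact p.Prime] (hS : IsPGroup p S) {Q P : Subgroup Ω}
    (hQ : F.IsNormal Q) (hc : F.IsCentric P) (hr : F.IsRadical p P) : Q ≤ P := by
  have hPN : P ≤ Subgroup.normalizer (Q : Set Ω) := hc.1.trans (normal_le_normalizer hQ)
  refine le_of_normalizer_le hS hc.1 hQ.1 hPN fun g hgQ hgP => ?_
  let N : Subgroup (F.autGroup P) := (autInducedBy Q P).subgroupOf (F.autGroup P)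
  have hN : N.Normal := by
    refine ⟨fun β hβ α => ?_⟩
    rw [Subgroup.mem_subgroupOf, mem_autInducedBy] at hβ ⊢
    obtain ⟨q, hq, hqβ⟩ := hβ
    obtain ⟨f', hf', he, hQ'⟩ := normal_extendsStab (Q := Q) hQ ((mem_autGroup hc.1).mp α.2).1
    refine ⟨f' q, by rw [← SetLike.mem_coe, ← hQ']; exact ⟨q, hq, rfl⟩, fun x => ?_⟩
    obtain ⟨y, rfl⟩ := (α : MulAut P).surjective x
    simp only [Subgroup.coe_mul, Subgroup.coe_inv, MulAut.mul_apply]
    rw [show ((α : MulAut P)⁻¹) ((α : MulAut P) y) = y from (α : MulAut P).symm_apply_apply y,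
      ← autFun_coe, ← he (Subtype.mem _), hqβ, hf'.map_conj (Subgroup.mem_sup_right hq) (Subgroup.mem_sup_left y.2),
      he y.2, autFun_coe]
  have hp : IsPGroup p N := by
    have h1 : IsPGroup p (autInducedBy Q P) :=
      range_conjAutHom Q P ▸ (hS.to_le ((normalizerIn_le Q P).trans hQ.1)).of_surjective _
        (conjAutHom Q P).rangeRestrict_surjective
    exact h1.comap_of_injective _ (Subgroup.subtype_injective _)
  have hgS : g ∈ normalizerIn S P := ⟨hQ.1 hgQ, hgP⟩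
  have hm : conjAutHom S P ⟨g, hgS⟩ ∈ autInducedBy S P := by
    rw [← range_conjAutHom]; exact ⟨_, rfl⟩
  exact mem_of_normal_pSubgroup hc hr N hN hp hgS ⟨_, autInducedBy_le_autGroup hc.1 hm⟩
    (Subgroup.mem_subgroupOf.mpr (mem_autInducedBy.mpr ⟨g, hgQ, fun x => rfl⟩)) fun x => rfl

/-- The automorphisms in `Aut_F(P)` stabilising each step of a chain of invariant subgroups. -/
def chainStab (F : FusionSystem S) {P : Subgroup Ω} (D : ℕ → Subgroup Ω) (n : ℕ)
    (hinv : ∀ i ≤ n, ∀ α ∈ F.autGroup P, autFun α '' (D i : Set Ω) = (D i : Set Ω)) (hDP : ∀ i, D i ≤ P) :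
    Subgroup (F.autGroup P) where
  carrier := {α | ∀ i < n, ∀ x ∈ D (i + 1), x⁻¹ * autFun (α : MulAut P) x ∈ D i}
  one_mem' := fun i _ x hx => by
    rw [OneMemClass.coe_one, autFun_one (hDP _ hx)]
    simp
  mul_mem' {α β} ha hb := fun i hi x hx => by
    rw [Subgroup.coe_mul, autFun_mul _ _ (hDP _ hx), Function.comp_apply]
    have h1 : autFun (β : MulAut P) x ∈ D (i + 1) := by
      rw [← SetLike.mem_coe, ← hinv _ hi _ β.2]
      exact ⟨x, hx, rfl⟩
    have := (D i).mul_mem (hb i hi x hx) (ha i hi _ h1)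
    simpa [mul_assoc] using this
  inv_mem' {α} ha := fun i hi x hx => by
    have h1 : autFun ((α⁻¹ : F.autGroup P) : MulAut P) x ∈ D (i + 1) := by
      rw [← SetLike.mem_coe, ← hinv _ hi _ (α⁻¹ : F.autGroup P).2]
      exact ⟨x, hx, rfl⟩
    have h2 : autFun (α : MulAut P) (autFun ((α⁻¹ : F.autGroup P) : MulAut P) x) = x := by
      rw [autFun_of_mem _ (hDP _ hx), autFun_coe, Subgroup.coe_inv]
      exact congrArg Subtype.val ((α : MulAut P).apply_symm_apply _)
    have := (D i).inv_mem (ha i hi _ h1)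
    rw [h2] at this
    simpa using this

theorem chainStab_normal {P : Subgroup Ω} (D : ℕ → Subgroup Ω) (n : ℕ)
    (hinv : ∀ i ≤ n, ∀ α ∈ F.autGroup P, autFun α '' (D i : Set Ω) = (D i : Set Ω)) (hDP : ∀ i, D i ≤ P) :
    (chainStab F D n hinv hDP).Normal := by
  refine ⟨fun α ha β i hi x hx => ?_⟩
  have hmem : ∀ (γ : F.autGroup P) (j : ℕ), j ≤ n → ∀ y ∈ D j, autFun (γ : MulAut P) y ∈ D j := by
    intro γ j hj y hy
    rw [← SetLike.mem_coe, ← hinv _ hj _ γ.2]
    exact ⟨y, hy, rfl⟩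
  have hm := hmem β⁻¹ _ hi x hx
  have h1 := hmem β i hi.le _ (ha i hi _ hm)
  rw [Subgroup.coe_mul, Subgroup.coe_mul, Subgroup.coe_inv, autFun_mul _ _ (hDP _ hx), Function.comp_apply]
  rw [Subgroup.coe_inv] at hm h1
  rw [autFun_mul _ _ (hDP _ hm), Function.comp_apply]
  obtain ⟨y, hy, hyx⟩ : ∃ y : P, (y : Ω) = autFun ((β : MulAut P)⁻¹) x ∧ (β : MulAut P) y = ⟨x, hDP _ hx⟩ :=
    ⟨(β : MulAut P)⁻¹ ⟨x, hDP _ hx⟩, (autFun_of_mem _ _).symm, (β : MulAut P).apply_symm_apply _⟩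
  rw [← hy] at h1 ⊢
  rw [autFun_coe, autFun_coe] at *
  have e : ((y : Ω)⁻¹ * ((α : MulAut P) y : Ω)) = ((y⁻¹ * (α : MulAut P) y : P) : Ω) := rfl
  rw [e, autFun_coe, map_mul, map_inv, hyx] at h1
  exact h1

theorem chainStab_isPGroup [Fact p.Prime] {P : Subgroup Ω} [Finite P] (hP : IsPGroup p P)
    (D : ℕ → Subgroup Ω) (n : ℕ)
    (hinv : ∀ i ≤ n, ∀ α ∈ F.autGroup P, autFun α '' (D i : Set Ω) = (D i : Set Ω)) (hDP : ∀ i, D i ≤ P)
    (h0 : D 0 = ⊥) (hn : D n = P) : IsPGroup p (chainStab F D n hinv hDP) := by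
  haveI := finite_mulAut P
  intro γ
  obtain ⟨k, m, hm, hkm⟩ := Nat.exists_eq_pow_mul_and_not_dvd (orderOf_pos γ).ne' p (Fact.out : p.Prime).ne_one
  refine ⟨k, ?_⟩
  set δ := γ ^ p ^ k with hδ
  have hδm : δ ^ m = 1 := by rw [hδ, ← pow_mul, ← hkm, pow_orderOf_eq_one]
  suffices h : ∀ i ≤ n, ∀ x : P, (x : Ω) ∈ D i → ((δ : F.autGroup P) : MulAut P) x = x by
    apply Subtype.ext
    apply Subtype.ext
    refine MulEquiv.ext fun x => ?_
    exact h n le_rfl x (hn ▸ x.2)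
  intro i hi
  induction i with
  | zero =>
    intro x hx
    rw [h0, Subgroup.mem_bot] at hx
    rw [show x = 1 from Subtype.ext hx, map_one]
  | succ i ih =>
    intro x hx
    set d := ((δ : F.autGroup P) : MulAut P) with hd
    have ha : ((x⁻¹ * d x : P) : Ω) ∈ D i := by
      have := δ.2 i hi x hx
      rwa [autFun_coe] at this
    have hfix := ih (Nat.le_of_succ_le hi) _ ha
    set a := x⁻¹ * d x with ha'
    have hiter : ∀ j : ℕ, (d ^ j) x = x * a ^ j := by
      intro j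
      induction j with
      | zero => simp
      | succ j ihj =>
        rw [pow_succ', MulAut.mul_apply, ihj, map_mul, map_pow, hfix, pow_succ', ← mul_assoc, ← mul_assoc, ha']
        simp
    have ham : a ^ m = 1 := by
      have h2 := hiter m
      have : d ^ m = 1 := by
        rw [hd]
        have := congrArg (fun z : chainStab F D n hinv hDP => ((z : F.autGroup P) : MulAut P)) hδm
        simpa using this
      rw [this, MulAut.one_apply] at h2
      exact mul_eq_left.mp h2.symm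
    obtain ⟨l, hl⟩ := hP a
    have ha1 : a = 1 := by
      have hco : Nat.Coprime m (p ^ l) :=
        (((Fact.out : p.Prime).coprime_iff_not_dvd.mpr hm).symm).pow_right l
      have := Nat.dvd_gcd (orderOf_dvd_of_pow_eq_one ham) (orderOf_dvd_of_pow_eq_one hl)
      rw [hco.gcd_eq_one, Nat.dvd_one, orderOf_eq_one_iff] at this
      exact this
    have := hiter 1
    rwa [pow_one, pow_one, ha1, mul_one] at this

/-- If conjugation by `g ∈ N_S(P)` stabilises an invariant chain of the centric radical `P`, then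
`g ∈ P`. -/
theorem radical_chain [Finite S] [Fact p.Prime] (hS : IsPGroup p S) {P : Subgroup Ω}
    (hc : F.IsCentric P) (hr : F.IsRadical p P) (D : ℕ → Subgroup Ω) (n : ℕ) (hDP : ∀ i, D i ≤ P)
    (h0 : D 0 = ⊥) (hn : D n = P)
    (hinv : ∀ i ≤ n, ∀ α ∈ F.autGroup P, autFun α '' (D i : Set Ω) = (D i : Set Ω)) {g : Ω}
    (hg : g ∈ normalizerIn S P)
    (hstab : ∀ i < n, ∀ x ∈ D (i + 1), x⁻¹ * (g * x * g⁻¹) ∈ D i) : g ∈ P := by
  haveI := finite_of_le hc.1
  have hm : conjAutHom S P ⟨g, hg⟩ ∈ autInducedBy S P := by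
    rw [← range_conjAutHom]; exact ⟨_, rfl⟩
  refine mem_of_normal_pSubgroup hc hr _ (chainStab_normal D n hinv hDP)
    (chainStab_isPGroup (hS.to_le hc.1) D n hinv hDP h0 hn) hg ⟨_, autInducedBy_le_autGroup hc.1 hm⟩
    (fun i hi x hx => ?_) fun x => rfl
  rw [autFun_of_mem _ (hDP _ hx)]
  exact hstab i hi x hx

theorem closed_autFun_image [Finite S] {T P : Subgroup Ω} (hT : F.StronglyClosed T) (hP : P ≤ S)
    {α : MulAut P} (hα : α ∈ F.autGroup P) :
    autFun α '' ((T ⊓ P : Subgroup Ω) : Set Ω) = ((T ⊓ P : Subgroup Ω) : Set Ω) := by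
  have hiso := (mem_autGroup hP).mp hα
  have hm : ∀ x ∈ T ⊓ P, autFun α x ∈ T ⊓ P := fun x hx =>
    ⟨Fusion92.closed_apply hT hiso.1 hx.2 hx.1, hiso.mem hx.2⟩
  refine Set.Subset.antisymm ?_ fun y hy => ?_
  · rintro _ ⟨x, hx, rfl⟩
    exact hm x hx
  · exact surjOn_of_card_le (inf_le_right.trans hP) (hiso.1.mono inf_le_right).injOn hm le_rfl y hy

/-- Invariance under the automorphisms of `S` and of the essential subgroups gives normality. -/
theorem isNormal_of_invariant [Finite S] [Fact p.Prime] (hS : IsPGroup p S) (hF : F.IsSaturated p)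
    {Q : Subgroup Ω} (h : ∀ P, (P = S ∨ F.IsEssential p P) →
      Q ≤ P ∧ ∀ α ∈ F.autGroup P, autFun α '' (Q : Set Ω) = (Q : Set Ω)) : F.IsNormal Q := by
  refine isNormal_iff.mpr ⟨(h S (Or.inl rfl)).1,
    alperin_induction hS hF (fun P f => ExtendsStab F Q P f) (fun _ _ _ h1 h2 => h1.congr h2)
      (fun _ _ _ _ hf _ h1 h2 => h1.comp h2 fun _ hx => hf.mem hx) ?_ ?_⟩
  · rintro P P' f - hle ⟨f', hf', he, hQ⟩
    exact ⟨f', hf'.mono (sup_le_sup_right hle Q), he.mono hle, hQ⟩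
  · intro E hE f hf
    obtain ⟨hQE, hinv⟩ := h E hE
    obtain ⟨α, hα, he⟩ := hf.exists_aut
    exact ⟨f, hf.1.mono (sup_le le_rfl hQE), fun _ _ => rfl,
      ((Set.image_congr fun x hx => (he (hQE hx)).symm)).trans (hinv α hα)⟩

/-- A strongly closed subgroup contained in all centric radical subgroups is normal. -/
theorem isNormal_of_closed_le [Finite S] [Fact p.Prime] (hS : IsPGroup p S) (hF : F.IsSaturated p)
    {Q : Subgroup Ω} (hQ : F.StronglyClosed Q)
    (h : ∀ P, F.IsCentric P → F.IsRadical p P → Q ≤ P) : F.IsNormal Q := by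
  refine isNormal_of_invariant hS hF fun P hP => ?_
  have key : F.IsCentric P ∧ F.IsRadical p P := by
    rcases hP with rfl | hP
    · exact ⟨isCentric_self, isRadical_self hS hF⟩
    · exact ⟨hP.1, isRadical_of_essential hS hP⟩
  have hQP := h P key.1 key.2
  refine ⟨hQP, fun α hα => ?_⟩
  have := closed_autFun_image hQ key.1.1 hα
  rwa [inf_eq_left.mpr hQP] at this

/-- The series criterion. -/
theorem isNormal_of_series [Finite S] [Fact p.Prime] (hS : IsPGroup p S) (hF : F.IsSaturated p)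
    {Q : Subgroup Ω} (D : ℕ → Subgroup Ω) (n : ℕ) (h0 : D 0 = ⊥) (hn : D n = Q)
    (hcl : ∀ i ≤ n, F.StronglyClosed (D i)) (hcomm : ∀ i < n, ⁅Q, D (i + 1)⁆ ≤ D i) : F.IsNormal Q := by
  have hQ : F.StronglyClosed Q := hn ▸ hcl n le_rfl
  refine isNormal_of_closed_le hS hF hQ fun P hc hr => ?_
  refine le_of_normalizer_le hS hc.1 hQ.1 (hc.1.trans (stronglyClosed_le_normalizer hQ)) fun g hgQ hgP => ?_
  let E : ℕ → Subgroup Ω := fun i => if i ≤ n then D i ⊓ P else P
  refine radical_chain hS hc hr E (n + 1) (fun i => ?_) ?_ ?_ ?_ ⟨hQ.1 hgQ, hgP⟩ ?_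
  · show (if i ≤ n then D i ⊓ P else P) ≤ P
    split
    · exact inf_le_right
    · exact le_rfl
  · show (if (0 : ℕ) ≤ n then D 0 ⊓ P else P) = ⊥
    rw [if_pos (Nat.zero_le n), h0, bot_inf_eq]
  · show (if n + 1 ≤ n then D (n + 1) ⊓ P else P) = P
    rw [if_neg (by omega)]
  · intro i _ α hα
    dsimp only [E]
    split
    · exact closed_autFun_image (hcl i (by omega)) hc.1 hα
    · exact autFun_image α
  · intro i hi x hx
    have hxP : x ∈ P := by
      change x ∈ (if i + 1 ≤ n then D (i + 1) ⊓ P else P) at hx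
      split at hx
      · exact hx.2
      · exact hx
    have hP' : x⁻¹ * (g * x * g⁻¹) ∈ P := P.mul_mem (P.inv_mem hxP) (conj_mem_of_mem_normalizer hgP hxP)
    show x⁻¹ * (g * x * g⁻¹) ∈ (if i ≤ n then D i ⊓ P else P)
    rw [if_pos (by omega : i ≤ n)]
    refine ⟨?_, hP'⟩
    rcases Nat.lt_or_ge i n with hlt | hge
    · change x ∈ (if i + 1 ≤ n then D (i + 1) ⊓ P else P) at hx
      rw [if_pos (by omega : i + 1 ≤ n)] at hx
      have h1 : ⁅g, x⁆ ∈ D i := hcomm i hlt (Subgroup.commutator_mem_commutator hgQ hx.1)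
      have h2 := conj_mem_of_mem_normalizer
        (stronglyClosed_le_normalizer (hcl i hlt.le) (S.inv_mem (hc.1 hxP))) h1
      rw [commutatorElement_def] at h2
      simpa [mul_assoc] using h2
    · obtain rfl : i = n := by omega
      rw [hn]
      have h2 := conj_mem_of_mem_normalizer (stronglyClosed_le_normalizer hQ (S.inv_mem (hc.1 hxP))) hgQ
      simpa [mul_assoc] using Q.mul_mem h2 (Q.inv_mem hgQ)

/-- A strongly closed abelian subgroup is normal. -/
theorem isNormal_of_abelian [Finite S] [Fact p.Prime] (hS : IsPGroup p S) (hF : F.IsSaturated p)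
    {Q : Subgroup Ω} (hQ : F.StronglyClosed Q) (hab : ∀ x ∈ Q, ∀ y ∈ Q, x * y = y * x) : F.IsNormal Q := by
  refine isNormal_of_series hS hF (fun i => if i = 0 then ⊥ else Q) 1 rfl rfl (fun i _ => ?_) fun i hi => ?_
  · by_cases h : i = 0
    · simp only [h, if_true]
      exact stronglyClosed_iff.mpr ⟨bot_le, fun R f hf x _ hx => by
        rw [Subgroup.mem_bot] at hx ⊢
        rw [hx, hf.map_one]⟩
    · simpa [h] using hQ
  · obtain rfl : i = 0 := by omega
    refine Subgroup.commutator_le.mpr fun x hx y hy => ?_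
    simp only [Nat.zero_add, one_ne_zero, if_false] at hy
    simp only [if_true, Subgroup.mem_bot]
    rw [commutatorElement_def, hab x hx y hy]
    group

theorem isNormal_char {Q U : Subgroup Ω} (hQ : F.IsNormal Q) (hUQ : U ≤ Q)
    (hU : (U.subgroupOf Q).Characteristic) : F.IsNormal U := by
  refine isNormal_iff.mpr ⟨hUQ.trans hQ.1, fun P f hf => ?_⟩
  obtain ⟨f', h1, h2, h3⟩ := normal_extendsStab hQ hf
  refine ⟨f', h1.mono (sup_le_sup_left hUQ P), h2, ?_⟩
  have hiso : IsIso F Q Q f' := ⟨h1.mono le_sup_right, h3⟩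
  have hfix := Subgroup.characteristic_iff_map_eq.mp hU hiso.equiv
  ext y
  constructor
  · rintro ⟨x, hx, rfl⟩
    have hm : hiso.equiv ⟨x, hUQ hx⟩ ∈ (U.subgroupOf Q).map hiso.equiv.toMonoidHom :=
      ⟨⟨x, hUQ hx⟩, hx, rfl⟩
    rw [hfix] at hm
    exact hm
  · intro hy
    have hm : (⟨y, hUQ hy⟩ : Q) ∈ (U.subgroupOf Q).map hiso.equiv.toMonoidHom := by
      rw [hfix]; exact hy
    obtain ⟨x, hx, hxy⟩ := hm
    exact ⟨x, hx, congrArg Subtype.val hxy⟩

/-- The images of the upper central series of a subgroup. -/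
def zSer (Q : Subgroup Ω) (i : ℕ) : Subgroup Ω := (Subgroup.upperCentralSeries ↥Q i).map Q.subtype

theorem zSer_le (Q : Subgroup Ω) (i : ℕ) : zSer Q i ≤ Q := Subgroup.map_subtype_le _

theorem zSer_zero (Q : Subgroup Ω) : zSer Q 0 = ⊥ := by
  rw [zSer, Subgroup.upperCentralSeries_zero, Subgroup.map_bot]

theorem zSer_commutator (Q : Subgroup Ω) (i : ℕ) : ⁅Q, zSer Q (i + 1)⁆ ≤ zSer Q i := by
  refine Subgroup.commutator_le.mpr fun g hg x hx => ?_
  obtain ⟨x, hx, rfl⟩ := hx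
  have := Subgroup.mem_upperCentralSeries_succ_iff.mp hx ⟨g, hg⟩
  refine ⟨⁅x, ⟨g, hg⟩⁆⁻¹, Subgroup.inv_mem _ this, ?_⟩
  rw [commutatorElement_inv]
  rfl

theorem exists_zSer_top [Finite S] [Fact p.Prime] (hS : IsPGroup p S) {Q : Subgroup Ω} (hQ : Q ≤ S) :
    ∃ n, zSer Q n = Q := by
  haveI := finite_of_le hQ
  haveI := (hS.to_le hQ).isNilpotent
  refine ⟨Group.nilpotencyClass Q, ?_⟩
  rw [zSer, Subgroup.upperCentralSeries_nilpotencyClass, ← MonoidHom.range_eq_map, Subgroup.range_subtype]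

theorem zSer_subgroupOf_char (Q : Subgroup Ω) (i : ℕ) : ((zSer Q i).subgroupOf Q).Characteristic := by
  rw [zSer, Subgroup.subgroupOf, Subgroup.comap_map_eq_self_of_injective Q.subtype_injective]
  infer_instance

theorem isNormal_of_maps_extend [Finite S] [Fact p.Prime] (hS : IsPGroup p S) (hF : F.IsSaturated p)
    {R : Subgroup Ω} (hRS : R ≤ S)
    (h : ∀ P f, P ≤ R → IsMap F P f → ∃ α ∈ F.autGroup R, Set.EqOn (autFun α) f P) : F.IsNormal R := by
  obtain ⟨n, hn⟩ := exists_zSer_top hS hRS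
  refine isNormal_of_series hS hF (zSer R) n (zSer_zero R) hn (fun i _ => ?_) fun i _ => zSer_commutator R i
  refine stronglyClosed_iff.mpr ⟨(zSer_le R i).trans hRS, fun P f hf x hx hxR => ?_⟩
  obtain ⟨α, hα, he⟩ := h _ f inf_le_right (hf.mono (inf_le_left : P ⊓ R ≤ P))
  rw [← he ⟨hx, zSer_le R i hxR⟩, autFun_of_mem α (zSer_le R i hxR)]
  have hfix := Subgroup.characteristic_iff_map_eq.mp (zSer_subgroupOf_char R i) α
  have hm : α ⟨x, zSer_le R i hxR⟩ ∈ ((zSer R i).subgroupOf R).map α.toMonoidHom := ⟨_, hxR, rfl⟩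
  rw [hfix] at hm
  exact hm

/-- A subgroup on which all maps are trivial is central. -/
theorem isCentral_of_fixed [Finite S] [Fact p.Prime] (hS : IsPGroup p S) (hF : F.IsSaturated p)
    {Q : Subgroup Ω} (hQ : Q ≤ S) (h : ∀ P f, IsMap F P f → ∀ x ∈ P, x ∈ Q → f x = x) :
    F.IsCentral Q := by
  refine isCentral_iff.mpr ⟨hQ, alperin_induction_cr hS hF (fun P f => ExtendsFix F Q P f)
    (fun _ _ _ h1 h2 => h1.congr h2)
    (fun _ _ _ _ hf _ h1 h2 => h1.comp h2 fun _ hx => hf.mem hx) ?_ ?_⟩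
  · rintro P P' f - hle ⟨f', hf', he, hQ'⟩
    exact ⟨f', hf'.mono (sup_le_sup_right hle Q), he.mono hle, hQ'⟩
  · intro E hc _ _ f hf
    have hQE : Q ≤ E := fun x hx => hc.2 E (isConj_refl hc.1) ⟨hQ hx, Subgroup.mem_centralizer_iff.mpr
      fun y hy => (mul_inv_eq_iff_eq_mul.mp (h S _ (isMap_conj le_rfl (hc.1 hy)) x (hQ hx) hx))⟩
    exact ⟨f, hf.1.mono (sup_le le_rfl hQE), fun _ _ => rfl, fun x hx => h E f hf.1 x (hQE hx) hx⟩

theorem stronglyClosed_sup [Finite S] [Fact p.Prime] (hS : IsPGroup p S) (hF : F.IsSaturated p)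
    {T₁ T₂ : Subgroup Ω} (h₁ : F.StronglyClosed T₁) (h₂ : F.StronglyClosed T₂) :
    F.StronglyClosed (T₁ ⊔ T₂) := by
  refine stronglyClosed_iff.mpr ⟨sup_le h₁.1 h₂.1, fun R f hf x hx hxT => ?_⟩
  obtain ⟨f', hf', hm⟩ := Fusion92.exists_map_mod hS hF h₁ hf
  obtain ⟨a, ha, b, hb, rfl⟩ : x ∈ (T₁ : Set Ω) * (T₂ : Set Ω) := by
    rw [← Subgroup.coe_mul_of_left_le_normalizer_right T₁ T₂ (h₁.1.trans (stronglyClosed_le_normalizer h₂))]
    exact hxT
  have hbm : b ∈ R ⊔ T₁ := by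
    have := Subgroup.mul_mem _ (Subgroup.inv_mem _ (Subgroup.mem_sup_right (S := R) ha)) (Subgroup.mem_sup_left (T := T₁) hx)
    rwa [inv_mul_cancel_left] at this
  have h3 : f' (a * b) ∈ T₁ ⊔ T₂ := by
    rw [hf'.map_mul (Subgroup.mem_sup_right ha) hbm]
    exact Subgroup.mul_mem _ (Subgroup.mem_sup_left (Fusion92.closed_apply h₁ hf' (Subgroup.mem_sup_right ha) ha))
      (Subgroup.mem_sup_right (Fusion92.closed_apply h₂ hf' hbm hb))
  have h4 := Subgroup.mul_mem _ h3 (Subgroup.inv_mem _ (Subgroup.mem_sup_left (T := T₂) (hm _ hx)))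
  simpa [mul_assoc] using h4

theorem exists_trivialization [Fact p.Prime] {A N : Type*} [Group A] [Group N] [Finite A] [Finite N]
    (hA : IsPGroup p A) (hN : IsPGroup p N) (φ : A →* MulAut N) :
    ∃ (n : ℕ) (L : ℕ → Subgroup N), L 0 = ⊥ ∧ L n = ⊤ ∧
      (∀ i a x, x ∈ L i → φ a x ∈ L i) ∧ ∀ i a x, x ∈ L (i + 1) → φ a x * x⁻¹ ∈ L i := by
  haveI : Finite (N ⋊[φ] A) :=
    Finite.of_equiv (N × A) SemidirectProduct.equivProd.symm
  have hp : IsPGroup p (N ⋊[φ] A) := by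
    obtain ⟨a, ha⟩ := IsPGroup.iff_card.mp hA
    obtain ⟨b, hb⟩ := IsPGroup.iff_card.mp hN
    exact IsPGroup.of_card (n := b + a) (by rw [SemidirectProduct.card, ha, hb, pow_add])
  haveI := hp.isNilpotent
  refine ⟨Group.nilpotencyClass (N ⋊[φ] A), fun i => (Subgroup.upperCentralSeries (N ⋊[φ] A) i).comap (SemidirectProduct.inl (φ := φ)), ?_, ?_, ?_, ?_⟩
  · dsimp only
    rw [Subgroup.upperCentralSeries_zero, MonoidHom.comap_bot, MonoidHom.ker_eq_bot_iff]
    exact SemidirectProduct.inl_injective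
  · dsimp only
    rw [Subgroup.upperCentralSeries_nilpotencyClass, Subgroup.comap_top]
  · intro i a x hx
    rw [Subgroup.mem_comap] at hx ⊢
    rw [SemidirectProduct.inl_aut, map_inv]
    exact (inferInstance : (Subgroup.upperCentralSeries (N ⋊[φ] A) i).Normal).conj_mem _ hx _
  · intro i a x hx
    rw [Subgroup.mem_comap] at hx ⊢
    have h1 := Subgroup.inv_mem _ (Subgroup.mem_upperCentralSeries_succ_iff.mp hx (SemidirectProduct.inr a))
    rw [commutatorElement_inv, commutatorElement_def] at h1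
    rw [map_mul, map_inv, SemidirectProduct.inl_aut, map_inv]
    exact h1

/-- The criterion of a normal subgroup with abelian quotient. -/
theorem isNormal_of_abelian_over_normal [Finite S] [Fact p.Prime] (hS : IsPGroup p S)
    (hF : F.IsSaturated p) {Q Q₁ : Subgroup Ω} (hQ : F.StronglyClosed Q) (hQ₁Q : Q₁ ≤ Q)
    (hQ₁ : F.IsNormal Q₁) (hab : ⁅Q, Q⁆ ≤ Q₁) (hAut : IsPGroup p ↥(F.autGroup Q₁)) : F.IsNormal Q := by
  haveI := finite_of_le hQ₁.1
  haveI := finite_mulAut Q₁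
  obtain ⟨n, L, hL0, hLn, hLinv, hLc⟩ :=
    exists_trivialization hAut (hS.to_le hQ₁.1) (F.autGroup Q₁).subtype
  have hle : ∀ i, (L i).map Q₁.subtype ≤ Q₁ := fun i => Subgroup.map_subtype_le _
  refine isNormal_of_series hS hF (fun i => if i ≤ n then (L i).map Q₁.subtype else Q) (n + 1) ?_ ?_ ?_ ?_
  · simp [hL0]
  · simp
  · intro i _
    show F.StronglyClosed (if i ≤ n then (L i).map Q₁.subtype else Q)
    split
    · refine stronglyClosed_iff.mpr ⟨(hle i).trans hQ₁.1, fun R f hf x hx hxL => ?_⟩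
      obtain ⟨y, hy, rfl⟩ := hxL
      obtain ⟨f', hf', he, hQ'⟩ := normal_extendsStab hQ₁ hf
      obtain ⟨α, hα, hαe⟩ := (show IsIso F Q₁ Q₁ f' from ⟨hf'.mono le_sup_right, hQ'⟩).exists_aut
      exact ⟨α y, hLinv i ⟨α, hα⟩ y hy,
        ((autFun_coe α y).symm.trans ((hαe y.2).trans (he hx)) : ((α y : Q₁) : Ω) = f y)⟩
    · exact hQ
  · intro i hi
    show ⁅Q, (if i + 1 ≤ n then (L (i + 1)).map Q₁.subtype else Q)⁆ ≤
      (if i ≤ n then (L i).map Q₁.subtype else Q)
    rw [if_pos (by omega : i ≤ n)]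
    rcases Nat.lt_or_ge i n with hlt | hge
    · rw [if_pos (by omega : i + 1 ≤ n)]
      refine Subgroup.commutator_le.mpr fun q hq x hx => ?_
      obtain ⟨y, hy, rfl⟩ := hx
      have hqN : q ∈ normalizerIn S Q₁ := ⟨hQ.1 hq, normal_le_normalizer hQ₁ (hQ.1 hq)⟩
      refine ⟨_, hLc i ⟨conjAutHom S Q₁ ⟨q, hqN⟩, autInducedBy_le_autGroup hQ₁.1
        (range_conjAutHom S Q₁ ▸ ⟨_, rfl⟩)⟩ y hy, ?_⟩
      rfl
    · obtain rfl : i = n := by omega
      rw [if_neg (by omega), hLn, ← MonoidHom.range_eq_map, Subgroup.range_subtype]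
      exact hab

end Cfsg.Agent.Fusion
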