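import Cfsg.Agent.LocalEven61.StronglyEmbedded
import Cfsg.Prelude.Def_Solvable

/-!
# Strongly embedded subgroups: the graph criterion
-/

set_option autoImplicit false

namespace Cfsg.Agent.Fusion

open Cfsg

variable {X : Type*} [Group X] {p : ℕ}

/-- Elements `x` such that some nontrivial element of `T` is conjugated by `x` into `T`. -/
def linkSet (T : Subgroup X) : Set X := {x | ∃ t ∈ T, t ≠ 1 ∧ x * t * x⁻¹ ∈ T}

theorem spe_closure_linkSet [Finite X] [Fact p.Prime] (T : Sylow p X) (hne : (T : Subgroup X) ≠ ⊥)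
    (h : Subgroup.closure (linkSet (T : Subgroup X)) ≠ ⊤) :
    IsStronglyPEmbedded p (Subgroup.closure (linkSet (T : Subgroup X))) := by
  refine ⟨?_, h, T, ?_⟩
  · obtain ⟨k, hk⟩ := IsPGroup.iff_card.mp T.isPGroup'
    have hk0 : k ≠ 0 := by
      rintro rfl
      exact hne (Subgroup.card_eq_one.mp (by simpa using hk))
    exact (hk ▸ dvd_pow_self p hk0).trans (Subgroup.card_subgroup_dvd_card _)
  · rw [LocalEven61.kGeneratedCore_one_le_iff T.isPGroup']
    intro Q hQT hQ n hn
    obtain ⟨t, ht, ht1⟩ := (Subgroup.bot_or_exists_ne_one Q).resolve_left hQ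
    exact Subgroup.subset_closure ⟨t, hQT ht, ht1, hQT ((Subgroup.mem_normalizer_iff.mp hn t).mp ht)⟩

theorem closure_linkSet_ne_top [Finite X] [Fact p.Prime] (T : Sylow p X) {M : Subgroup X}
    (hM : IsStronglyPEmbedded p M) : Subgroup.closure (linkSet (T : Subgroup X)) ≠ ⊤ := by
  have hN := LocalEven61.normalizersLE_of_spe hM
  have hc := LocalEven61.conjInterCoprime_of_normalizersLE hN
  obtain ⟨P, hP⟩ := LocalEven61.exists_sylow_le_of_normalizersLE (LocalEven61.dvd_card_of_spe hM) hN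
  obtain ⟨g, hg⟩ := MulAction.exists_smul_eq X T P
  intro htop
  apply hM.2.1
  rw [eq_top_iff]
  intro y _
  have key : Subgroup.closure (linkSet (T : Subgroup X)) ≤ M.comap (MulAut.conj g).toMonoidHom := by
    rw [Subgroup.closure_le]
    rintro x ⟨t, ht, ht1, hxt⟩
    have hmem : ∀ z ∈ (T : Subgroup X), g * z * g⁻¹ ∈ M := fun z hz =>
      hP (by rw [← hg, Sylow.coe_subgroup_smul]; exact ⟨z, hz, rfl⟩)
    by_contra hx
    have hx' : g * x * g⁻¹ ∉ M := hx
    apply hc _ hx'
    set u := g * (x * t * x⁻¹) * g⁻¹ with hu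
    have hum : u ∈ M ⊓ M.map (MulAut.conj (g * x * g⁻¹)).toMonoidHom := by
      refine ⟨hmem _ hxt, g * t * g⁻¹, hmem _ ht, ?_⟩
      simp [hu, mul_assoc]
    obtain ⟨k, hk⟩ := T.isPGroup'.exists_orderOf_eq_pow ⟨t, ht⟩
    have hu' : orderOf u = p ^ k := by
      rw [← hk, ← Subgroup.orderOf_coe,
        show u = MulAut.conj (g * x) t by simp [hu, mul_assoc], MulEquiv.orderOf_eq]
    have hk0 : k ≠ 0 := by
      rintro rfl
      rw [pow_zero] at hk
      exact ht1 (congrArg Subtype.val (orderOf_eq_one_iff.mp hk))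
    exact (hu' ▸ dvd_pow_self p hk0).trans (Subgroup.orderOf_dvd_natCard _ hum)
  have := key (htop.symm ▸ Subgroup.mem_top (g⁻¹ * y * g) : g⁻¹ * y * g ∈ _)
  simpa [mul_assoc] using this

theorem not_exists_spe_of_isPGroup [Finite X] [Fact p.Prime] (h : IsPGroup p X) (M : Subgroup X) :
    ¬ IsStronglyPEmbedded p M := by
  intro hM
  obtain ⟨P, hP⟩ := LocalEven61.exists_sylow_le_of_normalizersLE (LocalEven61.dvd_card_of_spe hM)
    (LocalEven61.normalizersLE_of_spe hM)
  obtain ⟨Q, hQ⟩ := IsPGroup.exists_le_sylow (P := (⊤ : Subgroup X)) (h.to_subgroup ⊤)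
  obtain ⟨g, hg⟩ := MulAction.exists_smul_eq X Q P
  refine hM.2.1 (eq_top_iff.mpr (le_trans ?_ hP))
  rw [← hg, Sylow.coe_subgroup_smul]
  intro x _
  exact ⟨g⁻¹ * x * g, hQ (Subgroup.mem_top _), by simp [mul_assoc]⟩

/-- A group with a strongly `p`-embedded subgroup has no nontrivial normal `p`-subgroup. -/
theorem eq_bot_of_spe [Finite X] [Fact p.Prime] {M N : Subgroup X} (hM : IsStronglyPEmbedded p M)
    (hN : N.Normal) (hNp : IsPGroup p N) : N = ⊥ := by
  by_contra hne
  have h := LocalEven61.normalizersLE_of_spe hM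
  obtain ⟨P, hP⟩ := LocalEven61.exists_sylow_le_of_normalizersLE (LocalEven61.dvd_card_of_spe hM) h
  have := h N ((hNp.le_sylow_of_normal P).trans hP) hNp hne
  rw [Subgroup.normalizer_eq_top] at this
  exact hM.2.1 (eq_top_iff.mpr this)

end Cfsg.Agent.Fusion
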