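import Cfsg.Agent.Lib.Fusion.Saturation
import Cfsg.Agent.Lib.Fusion.StronglyEmbedded
import Mathlib.GroupTheory.Nilpotent

/-!
# Alperin's fusion theorem for saturated fusion systems
-/

set_option autoImplicit false
set_option maxHeartbeats 300000

namespace Cfsg.Agent.Fusion

open Cfsg
open Cfsg.FusionSystem (normalizerIn centralizerIn)

variable {Ω : Type*} [Group Ω] {S : Subgroup Ω} {F : FusionSystem S} {p : ℕ} [Fact p.Prime]

theorem lt_normalizerIn [Finite S] (hS : IsPGroup p S) {P : Subgroup Ω} (hP : P < S) :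
    P < normalizerIn S P := by
  refine lt_of_le_of_ne (le_normalizerIn hP.le) fun h => ?_
  haveI := hS.isNilpotent
  have hlt : P.subgroupOf S < ⊤ := lt_of_le_of_ne le_top fun ht =>
    hP.not_ge (Subgroup.subgroupOf_eq_top.mp ht)
  obtain ⟨g, hgN, hgP⟩ := SetLike.exists_of_lt (normalizerCondition_of_isNilpotent _ hlt)
  rw [← Subgroup.subgroupOf_normalizer_eq hP.le] at hgN
  exact hgP (show (g : Ω) ∈ P from h.symm ▸ ⟨g.2, hgN⟩)

/-- `α` extends to a map on a strictly larger subgroup. -/
def IsExtendableAut (F : FusionSystem S) (P : Subgroup Ω) (α : MulAut P) : Prop :=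
  ∃ Q f, P < Q ∧ IsMap F Q f ∧ Set.EqOn f (autFun α) P

/-- The subgroup generated by the extendable automorphisms. -/
def extGen (F : FusionSystem S) (P : Subgroup Ω) : Subgroup (MulAut P) :=
  Subgroup.closure {α | IsExtendableAut F P α}

theorem isExtendableAut_setOf_eq (F : FusionSystem S) (P : Subgroup Ω) :
    {α : MulAut P | ∃ (Q : Subgroup Ω) (hPQ : P < Q) (φ : Q →* Ω), φ ∈ F.Hom Q ∧
      ∀ x : P, φ (Subgroup.inclusion hPQ.le x) = α x} = {α | IsExtendableAut F P α} := by
  ext α
  constructor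
  · rintro ⟨Q, hPQ, φ, hφ, h⟩
    refine ⟨Q, extFun φ, hPQ, isMap_extFun hφ, fun x hx => ?_⟩
    rw [extFun_of_mem φ (hPQ.le hx), autFun_of_mem α hx]
    exact h ⟨x, hx⟩
  · rintro ⟨Q, f, hPQ, ⟨φ, hφ, hφf⟩, h⟩
    exact ⟨Q, hPQ, φ, hφ, fun x => (hφf _).trans ((h x.2).trans (autFun_coe α x))⟩

theorem IsExtendableAut.mem_autGroup {P : Subgroup Ω} {α : MulAut P} (h : IsExtendableAut F P α) :
    α ∈ F.autGroup P := by
  obtain ⟨Q, f, hPQ, hf, he⟩ := h
  exact autGroup_mem_of_isMap ((hf.mono hPQ.le).congr he)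

theorem extGen_le (F : FusionSystem S) (P : Subgroup Ω) : extGen F P ≤ F.autGroup P :=
  (Subgroup.closure_le _).mpr fun _ h => h.mem_autGroup

theorem IsExtendableAut.inv {P : Subgroup Ω} {α : MulAut P} (h : IsExtendableAut F P α) :
    IsExtendableAut F P α⁻¹ := by
  obtain ⟨Q, f, hPQ, hf, he⟩ := h
  obtain ⟨Q', hQ'⟩ := hf.exists_image
  obtain ⟨g, hg, hgl, -⟩ := hQ'.exists_inv
  have hmem : ∀ x ∈ P, autFun α x ∈ Q' := fun x hx => he hx ▸ hQ'.mem (hPQ.le hx)
  have hback : ∀ x ∈ P, ∃ a ∈ P, autFun α a = x ∧ autFun α⁻¹ x = a := fun x hx => by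
    refine ⟨((α⁻¹ : MulAut P) ⟨x, hx⟩ : P), Subtype.mem _, ?_, autFun_of_mem _ hx⟩
    rw [autFun_coe]
    exact congrArg Subtype.val (α.apply_symm_apply ⟨x, hx⟩)
  refine ⟨Q', g, lt_of_le_of_ne (fun x hx => ?_) fun h => ?_, hg.1, fun x hx => ?_⟩
  · obtain ⟨a, ha, rfl, -⟩ := hback x hx
    exact hmem a ha
  · subst h
    obtain ⟨q, hq, hqP⟩ := SetLike.exists_of_lt hPQ
    obtain ⟨a, ha, hax, -⟩ := hback (f q) (hQ'.mem hq)
    exact hqP (hQ'.1.injOn (hPQ.le ha) hq ((he ha).trans hax) ▸ ha)
  · obtain ⟨a, ha, hax, hinv⟩ := hback x hx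
    rw [hinv, ← hax, ← he ha, hgl a (hPQ.le ha)]

/-- If `P` is fully normalized, proper and not centric, every automorphism extends. -/
theorem isExtendableAut_of_not_centric [Finite S] (hS : IsPGroup p S) (hF : F.IsSaturated p)
    {P : Subgroup Ω} (hPn : F.IsFullyNormalized P) (hc : ¬ F.IsCentric P) {α : MulAut P}
    (hα : α ∈ F.autGroup P) : IsExtendableAut F P α := by
  have hPc := fullyCentralized_of_fullyNormalized hS hF hPn
  have hr := receptive_of_fullyCentralized hS hF hPc
  have hiso := (mem_autGroup hPn.1).mp hα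
  obtain ⟨f', hf', he⟩ := receptive_extend hr hiso (isExtendable_centralizerIn _)
  refine ⟨P ⊔ centralizerIn S P, f', lt_of_le_of_ne le_sup_left fun h => hc ⟨hPn.1, fun Q hQ => ?_⟩,
    hf', he⟩
  have hCP : centralizerIn S P ≤ P := le_sup_right.trans h.ge
  obtain ⟨f, hf⟩ := isConj_iff.mp (isConj_symm hQ)
  obtain ⟨k, hk, hke⟩ := receptive_extend hr hf (isExtendable_centralizerIn f)
  intro c hc'
  have h1 := hCP (map_mem_centralizer hk le_sup_left ((Set.image_congr hke).trans hf.2)
    (le_sup_right (a := Q) hc') hc'.2)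
  obtain ⟨x, hx, hxc⟩ := hf.exists_preimage h1
  rw [← hke hx] at hxc
  rwa [← hk.injOn (le_sup_left (b := centralizerIn S Q) hx) (le_sup_right (a := Q) hc') hxc]

section Centric

variable [Finite S] (hS : IsPGroup p S) (hF : F.IsSaturated p)

/-- The Sylow subgroup `Out_S(P)` of `Out_F(P)` for a fully normalized `P`. -/
theorem exists_outSylow {P : Subgroup Ω} (hS : IsPGroup p S) (hF : F.IsSaturated p)
    (hPn : F.IsFullyNormalized P) [((Cfsg.Inn P).subgroupOf (F.autGroup P)).Normal] :
    ∃ T : Sylow p (F.autGroup P ⧸ (Cfsg.Inn P).subgroupOf (F.autGroup P)),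
      ∀ β : F.autGroup P, QuotientGroup.mk' _ β ∈ T.toSubgroup ↔ (β : MulAut P) ∈ autInducedBy S P := by
  haveI := finite_of_le hPn.1
  haveI := finite_mulAut P
  obtain ⟨R, hR⟩ := (fullyAutomized_of_fullyNormalized hS hF hPn).2
  refine ⟨R.mapSurjective (QuotientGroup.mk'_surjective _), fun β => ?_⟩
  rw [Sylow.coe_mapSurjective, hR, ← Subgroup.mem_comap, Subgroup.comap_map_eq,
    QuotientGroup.ker_mk', sup_eq_left.mpr fun γ hγ => inn_le_autInducedBy hPn.1 hγ]
  rfl

theorem outSylow_ne_bot {P : Subgroup Ω} (hS : IsPGroup p S) (hPS : P < S) (hc : F.IsCentric P)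
    [((Cfsg.Inn P).subgroupOf (F.autGroup P)).Normal]
    {T : Sylow p (F.autGroup P ⧸ (Cfsg.Inn P).subgroupOf (F.autGroup P))}
    (hT : ∀ β : F.autGroup P, QuotientGroup.mk' _ β ∈ T.toSubgroup ↔ (β : MulAut P) ∈ autInducedBy S P) :
    T.toSubgroup ≠ ⊥ := by
  intro hbot
  obtain ⟨g, hg, hgP⟩ := SetLike.exists_of_lt (lt_normalizerIn hS hPS)
  have hm : conjAutHom S P ⟨g, hg⟩ ∈ autInducedBy S P := by
    rw [← range_conjAutHom]
    exact ⟨_, rfl⟩
  have h1 := (hT ⟨_, autInducedBy_le_autGroup hPS.le hm⟩).mpr hm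
  rw [hbot, Subgroup.mem_bot, QuotientGroup.mk'_apply, QuotientGroup.eq_one_iff,
    Subgroup.mem_subgroupOf, mem_inn] at h1
  obtain ⟨a, ha, hax⟩ := h1
  have hcent : a⁻¹ * g ∈ centralizerIn S P := by
    refine ⟨S.mul_mem (S.inv_mem (hPS.le ha)) hg.1, Subgroup.mem_centralizer_iff.mpr fun x hx => ?_⟩
    have h : g * x * g⁻¹ = a * x * a⁻¹ := hax ⟨x, hx⟩
    calc x * (a⁻¹ * g) = a⁻¹ * (a * x * a⁻¹) * g := by group
      _ = a⁻¹ * (g * x * g⁻¹) * g := by rw [h]
      _ = a⁻¹ * g * x := by group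
  have := P.mul_mem ha (hc.2 P (isConj_refl hPS.le) hcent)
  rw [mul_inv_cancel_left] at this
  exact hgP this

include hS hF in
theorem isExtendableAut_iff_linkSet {P : Subgroup Ω} (hPS : P < S) (hPn : F.IsFullyNormalized P)
    (hc : F.IsCentric P) [((Cfsg.Inn P).subgroupOf (F.autGroup P)).Normal]
    {T : Sylow p (F.autGroup P ⧸ (Cfsg.Inn P).subgroupOf (F.autGroup P))}
    (hT : ∀ β : F.autGroup P, QuotientGroup.mk' _ β ∈ T.toSubgroup ↔ (β : MulAut P) ∈ autInducedBy S P)
    (α : F.autGroup P) :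
    IsExtendableAut F P (α : MulAut P) ↔ QuotientGroup.mk' _ α ∈ linkSet T.toSubgroup := by
  constructor
  · rintro ⟨Q, f, hPQ, hf, he⟩
    have hPQ' : P < normalizerIn Q P := by
      haveI := finite_of_le hf.dom_le
      exact lt_normalizerIn (hS.to_le hf.dom_le) hPQ
    obtain ⟨g, hg, hgP⟩ := SetLike.exists_of_lt hPQ'
    have hgS : g ∈ normalizerIn S P := ⟨hf.dom_le hg.1, hg.2⟩
    have hm : conjAutHom S P ⟨g, hgS⟩ ∈ autInducedBy S P := by
      rw [← range_conjAutHom]
      exact ⟨_, rfl⟩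
    refine ⟨QuotientGroup.mk' _ ⟨_, autInducedBy_le_autGroup hPS.le hm⟩, (hT _).mpr hm, fun h1 => ?_, ?_⟩
    · rw [QuotientGroup.mk'_apply, QuotientGroup.eq_one_iff, Subgroup.mem_subgroupOf, mem_inn] at h1
      obtain ⟨a, ha, hax⟩ := h1
      have hcent : a⁻¹ * g ∈ centralizerIn S P := by
        refine ⟨S.mul_mem (S.inv_mem (hPS.le ha)) hgS.1, Subgroup.mem_centralizer_iff.mpr fun x hx => ?_⟩
        have h : g * x * g⁻¹ = a * x * a⁻¹ := hax ⟨x, hx⟩
        calc x * (a⁻¹ * g) = a⁻¹ * (a * x * a⁻¹) * g := by group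
          _ = a⁻¹ * (g * x * g⁻¹) * g := by rw [h]
          _ = a⁻¹ * g * x := by group
      have := P.mul_mem ha (hc.2 P (isConj_refl hPS.le) hcent)
      rw [mul_inv_cancel_left] at this
      exact hgP this
    · rw [← map_inv, ← map_mul, ← map_mul, hT, mem_autInducedBy]
      refine ⟨f g, hf.apply_mem hg.1, fun x => ?_⟩
      obtain ⟨y, rfl⟩ := (α : MulAut P).surjective x
      simp only [Subgroup.coe_mul, Subgroup.coe_inv, MulAut.mul_apply]
      rw [show ((α : MulAut P)⁻¹) ((α : MulAut P) y) = y from (α : MulAut P).symm_apply_apply y,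
        ← autFun_coe, ← he (Subtype.mem _), conjAutHom_apply, hf.map_conj hg.1 (hPQ.le y.2),
        he y.2, autFun_coe]
  · rintro ⟨t, ht, ht1, hconj⟩
    obtain ⟨β, rfl⟩ := QuotientGroup.mk'_surjective _ t
    rw [hT, mem_autInducedBy] at ht
    obtain ⟨g, hg, hgβ⟩ := ht
    have hgN : g ∈ normalizerIn S P := ⟨hg, mem_normalizer_of_induces hgβ⟩
    rw [← map_inv, ← map_mul, ← map_mul, hT, mem_autInducedBy] at hconj
    obtain ⟨h, hh, hhx⟩ := hconj
    have hiso := (mem_autGroup hPS.le).mp α.2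
    have hM : IsExtendable S P (autFun (α : MulAut P)) (Subgroup.zpowers g) := by
      obtain ⟨φ, -, hφf⟩ := id hiso.1
      have hge : g ∈ FusionSystem.extender S P φ :=
        (mem_extender_fun hφf).mpr ⟨hg, hgN.2, h, hh, fun x hx => by
          have := hhx ((α : MulAut P) ⟨x, hx⟩)
          simp only [Subgroup.coe_mul, Subgroup.coe_inv, MulAut.mul_apply] at this
          rw [show ((α : MulAut P)⁻¹) ((α : MulAut P) ⟨x, hx⟩) = ⟨x, hx⟩ from
            (α : MulAut P).symm_apply_apply _] at this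
          have hb : (β : MulAut P) ⟨x, hx⟩ = ⟨g * x * g⁻¹, conj_mem_of_mem_normalizer hgN.2 hx⟩ :=
            Subtype.ext (hgβ _)
          rw [hb] at this
          rw [autFun_of_mem _ (conj_mem_of_mem_normalizer hgN.2 hx), autFun_of_mem _ hx]
          exact this⟩
      have hle : Subgroup.zpowers g ≤ FusionSystem.extender S P φ := Subgroup.zpowers_le.mpr hge
      exact ⟨hle.trans (isExtendable_extender hφf).1, fun y hy => (isExtendable_extender hφf).2 y (hle hy)⟩
    obtain ⟨f', hf', he⟩ :=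
      receptive_extend (receptive_of_fullyNormalized hS hF hPn) hiso hM
    refine ⟨_, f', lt_of_le_of_ne le_sup_left fun hsup => ht1 ?_, hf', he⟩
    have hgP : g ∈ P := hsup.ge (Subgroup.mem_sup_right (Subgroup.mem_zpowers g))
    rw [QuotientGroup.mk'_apply, QuotientGroup.eq_one_iff, Subgroup.mem_subgroupOf, mem_inn]
    exact ⟨g, hgP, hgβ⟩

end Centric

/-- The dichotomy: `extGen` is everything, or `P` is essential. -/
theorem extGen_dichotomy [Finite S] (hS : IsPGroup p S) (hF : F.IsSaturated p) {P : Subgroup Ω}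
    (hPS : P < S) (hPn : F.IsFullyNormalized P) :
    (¬ F.IsEssential p P ∧ extGen F P = F.autGroup P) ∨
      (F.IsEssential p P ∧ ∃ _ : ((Cfsg.Inn P).subgroupOf (F.autGroup P)).Normal,
        IsStronglyPEmbedded p (((extGen F P).subgroupOf (F.autGroup P)).map
          (QuotientGroup.mk' ((Cfsg.Inn P).subgroupOf (F.autGroup P))))) := by
  haveI := finite_of_le hPS.le
  haveI := finite_mulAut P
  by_cases hc : F.IsCentric P
  · haveI hn := inn_subgroupOf_normal (F := F) (P := P)
    obtain ⟨T, hT⟩ := exists_outSylow hS hF hPn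
    have hset := isExtendableAut_iff_linkSet hS hF hPS hPn hc hT
    have hH : (extGen F P).subgroupOf (F.autGroup P) =
        (Subgroup.closure (linkSet T.toSubgroup)).comap (QuotientGroup.mk' _) := by
      apply le_antisymm
      · have : extGen F P ≤ ((Subgroup.closure (linkSet T.toSubgroup)).comap
            (QuotientGroup.mk' _)).map (F.autGroup P).subtype :=
          (Subgroup.closure_le _).mpr fun α hα =>
            ⟨⟨α, hα.mem_autGroup⟩, Subgroup.subset_closure ((hset _).mp hα), rfl⟩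
        intro α hα
        obtain ⟨β, hβ, hβα⟩ := this hα
        rwa [← Subtype.ext hβα]
      · intro α hα
        have hle : Subgroup.closure (linkSet T.toSubgroup) ≤
            ((extGen F P).subgroupOf (F.autGroup P)).map (QuotientGroup.mk' _) := by
          refine (Subgroup.closure_le _).mpr fun x hx => ?_
          obtain ⟨β, rfl⟩ := QuotientGroup.mk'_surjective _ x
          exact ⟨β, Subgroup.subset_closure ((hset β).mpr hx), rfl⟩
        obtain ⟨β, hβ, hβα⟩ := hle hα
        obtain ⟨t, ht, ht1⟩ := (Subgroup.bot_or_exists_ne_one T.toSubgroup).resolve_left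
          (outSylow_ne_bot hS hPS hc hT)
        have hker : β⁻¹ * α ∈ (extGen F P).subgroupOf (F.autGroup P) := by
          refine Subgroup.subset_closure ((hset (β⁻¹ * α)).mpr ⟨t, ht, ht1, ?_⟩)
          rw [map_mul, map_inv, hβα]
          simpa using ht
        simpa using mul_mem hβ hker
    by_cases htop : Subgroup.closure (linkSet T.toSubgroup) = ⊤
    · left
      refine ⟨fun ⟨_, _, _, E, hE⟩ => closure_linkSet_ne_top T hE htop, le_antisymm (extGen_le F P) ?_⟩
      rw [← Subgroup.subgroupOf_eq_top, hH, htop, Subgroup.comap_top]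
    · right
      refine ⟨⟨hc, hPn, hn, _, spe_closure_linkSet T (outSylow_ne_bot hS hPS hc hT) htop⟩, hn, ?_⟩
      rw [hH, Subgroup.map_comap_eq_self_of_surjective (QuotientGroup.mk'_surjective _)]
      exact spe_closure_linkSet T (outSylow_ne_bot hS hPS hc hT) htop
  · left
    exact ⟨fun h => hc h.1, le_antisymm (extGen_le F P) fun α hα =>
      Subgroup.subset_closure (isExtendableAut_of_not_centric hS hF hPn hc hα)⟩

/-- Alperin's fusion theorem as an induction principle. -/
theorem alperin_induction [Finite S] (hS : IsPGroup p S) (hF : F.IsSaturated p)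
    (C : Subgroup Ω → (Ω → Ω) → Prop)
    (hcongr : ∀ P f g, C P f → Set.EqOn f g (P : Set Ω) → C P g)
    (hcomp : ∀ P Q f g, IsIso F P Q f → IsMap F Q g → C P f → C Q g → C P (g ∘ f))
    (hmono : ∀ P Q f, IsMap F Q f → P ≤ Q → C Q f → C P f)
    (hbase : ∀ E, (E = S ∨ F.IsEssential p E) → ∀ f, IsIso F E E f → C E f) :
    ∀ P f, IsMap F P f → C P f := by
  suffices H : ∀ n P f, IsMap F P f → Nat.card S - Nat.card P = n → C P f from
    fun P f hf => H _ P f hf rfl
  intro n
  induction n using Nat.strong_induction_on with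
  | _ n ih =>
    intro P f hf hn
    have hbig : ∀ Q g, IsMap F Q g → Nat.card P < Nat.card Q → C Q g := fun Q g hg hlt =>
      ih _ (by have := Subgroup.card_le_of_le hg.dom_le; omega) Q g hg rfl
    obtain ⟨I, hI⟩ := hf.exists_image
    rcases hf.dom_le.eq_or_lt with rfl | hlt
    · have hI' : I = P := Subgroup.eq_of_le_of_card_ge hI.cod_le hI.card_eq.le
      exact hbase P (Or.inl rfl) f (hI' ▸ hI)
    have hIlt : I < S := by
      refine lt_of_le_of_ne hI.cod_le fun h => ?_
      subst h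
      exact hlt.ne (Subgroup.eq_of_le_of_card_ge hlt.le hI.card_eq.ge)
    haveI := finite_of_le hlt.le
    obtain ⟨R, hR, hRn⟩ := exists_fullyNormalized (F := F) hlt.le
    have hRlt : R < S := by
      refine lt_of_le_of_ne hRn.1 fun h => ?_
      subst h
      exact hlt.ne (Subgroup.eq_of_le_of_card_ge hlt.le (isConj_card hR).ge)
    have hRa := fullyAutomized_of_fullyNormalized hS hF hRn
    have hRr := receptive_of_fullyNormalized hS hF hRn
    obtain ⟨u, hu, huP, -⟩ := exists_normalizer_map hS hRa hRr hR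
    obtain ⟨v, hv, hvI, -⟩ := exists_normalizer_map hS hRa hRr (isConj_trans (isConj_symm hI.isConj) hR)
    have hlt_card : ∀ {A : Subgroup Ω}, A < S → Nat.card A < Nat.card (normalizerIn S A) := by
      intro A hA
      haveI : Finite (normalizerIn S A) := finite_of_le (normalizerIn_le S A)
      by_contra hle
      exact (lt_normalizerIn hS hA).ne
        (Subgroup.eq_of_le_of_card_ge (lt_normalizerIn hS hA).le (not_lt.mp hle))
    have hCu : C P u := hmono _ _ u hu (le_normalizerIn hlt.le) (hbig _ u hu (hlt_card hlt))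
    obtain ⟨I', hI'⟩ := hv.exists_image
    obtain ⟨vi, hvi, hvil, -⟩ := hI'.exists_inv
    have hRI' : R ≤ I' := fun y hy => by
      obtain ⟨x, hx, rfl⟩ := hvI.exists_preimage hy
      exact hI'.mem (le_normalizerIn hI.cod_le hx)
    have hCv : C R vi := hmono _ _ vi hvi.1 hRI' (hbig _ vi hvi.1 (by
      rw [← hI'.card_eq, hI.card_eq]
      exact hlt_card hIlt))
    obtain ⟨ui, hui, huil, -⟩ := huP.exists_inv
    -- the automorphism of `R`
    have hθ : IsIso F R R (v ∘ f ∘ ui) := (hui.comp hI).comp hvI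
    have hAut : ∀ α ∈ F.autGroup R, C R (autFun α) := by
      have hbaseE : ∀ α, IsExtendableAut F R α → C R (autFun α) := by
        rintro α ⟨Q, g, hRQ, hg, he⟩
        haveI := finite_of_le hg.dom_le
        refine hcongr _ _ _ (hmono _ _ g hg hRQ.le (hbig Q g hg ?_)) he
        rw [isConj_card hR]
        by_contra hle
        exact hRQ.ne (Subgroup.eq_of_le_of_card_ge hRQ.le (not_lt.mp hle))
      rcases extGen_dichotomy hS hF hRlt hRn with ⟨-, heq⟩ | ⟨hess, -⟩
      · intro α hα
        rw [← heq] at hα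
        have h2 : ∀ β ∈ extGen F R, C R (autFun β) ∧ C R (autFun β⁻¹) := by
          intro β hβ
          induction hβ using Subgroup.closure_induction with
          | mem x hx => exact ⟨hbaseE x hx, hbaseE _ hx.inv⟩
          | one =>
            have h1 : C R (id : Ω → Ω) := hmono _ _ id (isMap_id (normalizerIn_le S R))
              (le_normalizerIn hRn.1) (hbig _ id (isMap_id (normalizerIn_le S R))
                (by rw [isConj_card hR]; exact hlt_card hRlt))
            rw [inv_one]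
            exact ⟨hcongr _ _ _ h1 autFun_one.symm, hcongr _ _ _ h1 autFun_one.symm⟩
          | mul x y hx hy hxC hyC =>
            have hxA := (mem_autGroup hRn.1).mp (extGen_le F R hx)
            have hyA := (mem_autGroup hRn.1).mp (extGen_le F R hy)
            refine ⟨hcongr _ _ _ (hcomp R R _ _ hyA hxA.1 hyC.1 hxC.1) (autFun_mul x y).symm, ?_⟩
            have hxA' := (mem_autGroup hRn.1).mp (inv_mem (extGen_le F R hx))
            have hyA' := (mem_autGroup hRn.1).mp (inv_mem (extGen_le F R hy))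
            rw [mul_inv_rev]
            exact hcongr _ _ _ (hcomp R R _ _ hxA' hyA'.1 hxC.2 hyC.2) (autFun_mul y⁻¹ x⁻¹).symm
          | inv x _ hx => rw [inv_inv]; exact ⟨hx.2, hx.1⟩
        exact (h2 α hα).1
      · intro α hα
        exact hbase R (Or.inr hess) _ ((mem_autGroup hRn.1).mp hα)
    obtain ⟨α, hα, hαe⟩ := hθ.exists_aut
    have hCθ : C R (v ∘ f ∘ ui) := hcongr _ _ _ (hAut α hα) hαe
    have hC1 : C P ((v ∘ f ∘ ui) ∘ u) := hcomp P R u _ huP hθ.1 hCu hCθ
    refine hcongr _ _ _ (hcomp P R _ vi (huP.comp hθ) (hvi.1.mono hRI') hC1 hCv) fun x hx => ?_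
    simp only [Function.comp_apply]
    rw [huil x hx, hvil _ (le_normalizerIn hI.cod_le (hI.mem hx))]

theorem isRadical_of_essential [Finite S] (hS : IsPGroup p S) {P : Subgroup Ω}
    (hP : F.IsEssential p P) : F.IsRadical p P := by
  obtain ⟨hc, -, hn, E, hE⟩ := hP
  haveI := finite_of_le hc.1
  haveI := finite_mulAut P
  refine ⟨hc.1, le_antisymm ?_ ?_⟩
  · rw [pCore, Subgroup.map_le_iff_le_comap, sSup_le_iff]
    rintro N ⟨hN, hNp⟩
    show N ≤ (Cfsg.Inn P).subgroupOf (F.autGroup P)
    have := eq_bot_of_spe hE (hN.map _ (QuotientGroup.mk'_surjective _)) (hNp.map _)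
    intro x hx
    have hx' : QuotientGroup.mk' ((Cfsg.Inn P).subgroupOf (F.autGroup P)) x ∈ (⊥ : Subgroup _) :=
      this ▸ Subgroup.mem_map_of_mem _ hx
    rwa [Subgroup.mem_bot, QuotientGroup.mk'_apply, QuotientGroup.eq_one_iff] at hx'
  · intro α hα
    refine ⟨⟨α, inn_le_autGroup hc.1 hα⟩,
      Subgroup.mem_sSup_of_mem (s := (Cfsg.Inn P).subgroupOf (F.autGroup P)) ?_ hα, rfl⟩
    refine ⟨hn, ?_⟩
    have : IsPGroup p (Cfsg.Inn P) :=
      (hS.to_le hc.1).of_surjective MulAut.conj.rangeRestrict (MulAut.conj).rangeRestrict_surjective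
    exact this.comap_of_injective _ (Subgroup.subtype_injective _)

theorem isCentric_self [Finite S] : F.IsCentric S := by
  exact ⟨le_rfl, fun Q hQ x hx =>
    Subgroup.eq_of_le_of_card_ge (isConj_le_right hQ) (isConj_card hQ).le ▸ hx.1⟩


theorem isRadical_self [Finite S] (hS : IsPGroup p S) (hF : F.IsSaturated p) : F.IsRadical p S := by
  haveI := finite_mulAut S
  have hA := fullyAutomized_of_fullyNormalized hS hF (fullyNormalized_self (F := F))
  obtain ⟨R, hR⟩ := hA.2
  rw [autInducedBy_self_eq_inn] at hR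
  have hn : ((Cfsg.Inn S).subgroupOf (F.autGroup S)).Normal := inn_subgroupOf_normal
  have hcore : pCore p (F.autGroup S) = (R : Subgroup (F.autGroup S)) := by
    apply le_antisymm
    · exact sSup_le fun N hN => @IsPGroup.le_sylow_of_normal p _ _ N hN.1 hN.2 R
    · exact le_sSup ⟨hR ▸ hn, R.isPGroup'⟩
  refine ⟨le_rfl, ?_⟩
  rw [hcore, hR]
  exact Subgroup.map_subgroupOf_eq_of_le (inn_le_autGroup le_rfl)

/-- Alperin induction over centric, radical, fully normalized subgroups. -/
theorem alperin_induction_cr [Finite S] (hS : IsPGroup p S) (hF : F.IsSaturated p)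
    (C : Subgroup Ω → (Ω → Ω) → Prop)
    (hcongr : ∀ P f g, C P f → Set.EqOn f g (P : Set Ω) → C P g)
    (hcomp : ∀ P Q f g, IsIso F P Q f → IsMap F Q g → C P f → C Q g → C P (g ∘ f))
    (hmono : ∀ P Q f, IsMap F Q f → P ≤ Q → C Q f → C P f)
    (hbase : ∀ E, F.IsCentric E → F.IsRadical p E → F.IsFullyNormalized E → ∀ f, IsIso F E E f → C E f) :
    ∀ P f, IsMap F P f → C P f := by
  refine alperin_induction hS hF C hcongr hcomp hmono fun E hE => ?_
  rcases hE with rfl | hE
  · exact hbase E isCentric_self (isRadical_self hS hF) fullyNormalized_self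
  · exact hbase E hE.1 (isRadical_of_essential hS hE) hE.2.1

/-- A system containing the automorphism groups at `S` and at the essential subgroups contains `F`. -/
theorem le_of_autGroup_le [Finite S] (hS : IsPGroup p S) (hF : F.IsSaturated p) (E : FusionSystem S)
    (h : ∀ P, (P = S ∨ F.IsEssential p P) → F.autGroup P ≤ E.autGroup P) : F ≤ E := by
  refine le_of_isMap (alperin_induction hS hF (fun P f => IsMap E P f) (fun _ _ _ h1 h2 => h1.congr h2)
    (fun _ _ _ _ hf _ h1 h2 => h1.comp h2 fun _ hx => hf.mem hx) (fun _ _ _ _ hle h1 => h1.mono hle) ?_)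
  intro P hP f hf
  obtain ⟨α, hα, he⟩ := hf.exists_aut
  exact ((mem_autGroup hf.dom_le).mp (h P hP hα)).1.congr he

/-- Generation by centric, radical, fully normalized subgroups. -/
theorem le_of_autGroup_le_cr [Finite S] (hS : IsPGroup p S) (hF : F.IsSaturated p) (E : FusionSystem S)
    (h : ∀ P, F.IsCentric P → F.IsRadical p P → F.IsFullyNormalized P → F.autGroup P ≤ E.autGroup P) :
    F ≤ E := by
  refine le_of_autGroup_le hS hF E fun P hP => ?_
  rcases hP with rfl | hP
  · exact h P isCentric_self (isRadical_self hS hF) fullyNormalized_self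
  · exact h P hP.1 (isRadical_of_essential hS hP) hP.2.1

end Cfsg.Agent.Fusion
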