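import Cfsg.Agent.Lib.Fusion.Aut
import Mathlib.GroupTheory.Sylow

/-!
# Receptive, fully centralized and fully normalized subgroups; saturated systems
-/

set_option autoImplicit false

namespace Cfsg.Agent.Fusion

open Cfsg
open Cfsg.FusionSystem (normalizerIn centralizerIn extender)

variable {Ω : Type*} [Group Ω] {S : Subgroup Ω} {F : FusionSystem S}

theorem mem_extender {P : Subgroup Ω} {φ : P →* Ω} {g : Ω} :
    g ∈ extender S P φ ↔ g ∈ S ∧ g ∈ Subgroup.normalizer (P : Set Ω) ∧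
      ∃ h ∈ S, ∀ (x : P) (hx : g * (x : Ω) * g⁻¹ ∈ P), φ ⟨g * x * g⁻¹, hx⟩ = h * φ x * h⁻¹ := by
  refine ⟨fun hg => ?_, fun hg => Subgroup.subset_closure hg⟩
  induction hg using Subgroup.closure_induction with
  | mem x hx => exact hx
  | one =>
    refine ⟨S.one_mem, Subgroup.one_mem _, 1, S.one_mem, fun x hx => ?_⟩
    rw [show (⟨1 * (x : Ω) * 1⁻¹, hx⟩ : P) = x from Subtype.ext (by simp)]
    simp
  | mul a b _ _ ha hb =>
    obtain ⟨haS, haN, h, hh, hha⟩ := ha
    obtain ⟨hbS, hbN, k, hk, hkb⟩ := hb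
    refine ⟨mul_mem haS hbS, mul_mem haN hbN, h * k, mul_mem hh hk, fun x hx => ?_⟩
    have h1 : b * (x : Ω) * b⁻¹ ∈ P := conj_mem_of_mem_normalizer hbN x.2
    have e : (⟨a * b * (x : Ω) * (a * b)⁻¹, hx⟩ : P) =
        ⟨a * (⟨b * x * b⁻¹, h1⟩ : P) * a⁻¹, conj_mem_of_mem_normalizer haN h1⟩ :=
      Subtype.ext (by simp [mul_assoc])
    rw [e, hha, hkb]
    simp [mul_assoc]
  | inv a _ ha =>
    obtain ⟨haS, haN, h, hh, hha⟩ := ha
    refine ⟨inv_mem haS, inv_mem haN, h⁻¹, inv_mem hh, fun x hx => ?_⟩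
    have h1 := hha ⟨_, hx⟩ (conj_mem_of_mem_normalizer haN hx)
    rw [show (⟨a * (a⁻¹ * (x : Ω) * a⁻¹⁻¹) * a⁻¹, conj_mem_of_mem_normalizer haN hx⟩ : P) = x from
      Subtype.ext (by group)] at h1
    rw [h1]
    group

theorem mem_extender_fun {P : Subgroup Ω} {φ : P →* Ω} {f : Ω → Ω} (hf : ∀ x : P, φ x = f x) {g : Ω} :
    g ∈ extender S P φ ↔ g ∈ S ∧ g ∈ Subgroup.normalizer (P : Set Ω) ∧
      ∃ h ∈ S, ∀ x ∈ P, f (g * x * g⁻¹) = h * f x * h⁻¹ := by
  rw [mem_extender]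
  refine and_congr_right fun _ => and_congr_right fun hN => exists_congr fun h => and_congr_right fun _ => ?_
  constructor
  · intro H x hx
    have := H ⟨x, hx⟩ (conj_mem_of_mem_normalizer hN hx)
    rwa [hf, hf] at this
  · intro H x hx
    rw [hf, hf]
    exact H x x.2

/-- A subgroup of `S` normalizing `P`, each of whose elements has its action transported by `f`
to conjugation by an element of `S`. -/
def IsExtendable (S P : Subgroup Ω) (f : Ω → Ω) (M : Subgroup Ω) : Prop :=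
  M ≤ S ∧ ∀ g ∈ M, g ∈ Subgroup.normalizer (P : Set Ω) ∧
    ∃ h ∈ S, ∀ x ∈ P, f (g * x * g⁻¹) = h * f x * h⁻¹

theorem isExtendable_self {P : Subgroup Ω} {f : Ω → Ω} (hf : IsMap F P f) : IsExtendable S P f P :=
  ⟨hf.dom_le, fun g hg => ⟨P.le_normalizer hg, f g, hf.apply_mem hg, fun _ hx => hf.map_conj hg hx⟩⟩

theorem isExtendable_centralizerIn {P : Subgroup Ω} (f : Ω → Ω) :
    IsExtendable S P f (centralizerIn S P) :=
  ⟨inf_le_left, fun g hg => ⟨Subgroup.centralizer_le_normalizer _ hg.2, 1, S.one_mem, fun x hx => by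
    rw [← Subgroup.mem_centralizer_iff.mp hg.2 x hx]; simp⟩⟩

theorem isExtendable_extender {P : Subgroup Ω} {φ : P →* Ω} {f : Ω → Ω} (hf : ∀ x : P, φ x = f x) :
    IsExtendable S P f (extender S P φ) :=
  ⟨fun _ hg => (mem_extender.mp hg).1, fun _ hg => ((mem_extender_fun hf).mp hg).2⟩

theorem le_extender_of_isExtendable {P : Subgroup Ω} {φ : P →* Ω} {f : Ω → Ω} {M : Subgroup Ω}
    (hf : ∀ x : P, φ x = f x) (h : IsExtendable S P f M) : M ≤ extender S P φ :=
  fun g hg => (mem_extender_fun hf).mpr ⟨h.1 hg, h.2 g hg⟩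

/-- An extendable subgroup may be enlarged by `P`. -/
theorem IsExtendable.sup_self {P M : Subgroup Ω} {f : Ω → Ω} (hf : IsMap F P f)
    (h : IsExtendable S P f M) : IsExtendable S P f (P ⊔ M) := by
  obtain ⟨φ, -, hφf⟩ := id hf
  have h' : P ⊔ M ≤ extender S P φ :=
    sup_le (le_extender_of_isExtendable hφf (isExtendable_self hf)) (le_extender_of_isExtendable hφf h)
  exact ⟨h'.trans (isExtendable_extender hφf).1, fun g hg => (isExtendable_extender hφf).2 g (h' hg)⟩

/-- Extension property of a receptive subgroup. -/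
theorem receptive_extend {P Q M : Subgroup Ω} {f : Ω → Ω} (hQ : F.IsReceptive Q) (hf : IsIso F P Q f)
    (hM : IsExtendable S P f M) : ∃ f', IsMap F (P ⊔ M) f' ∧ Set.EqOn f' f P := by
  obtain ⟨φ, hφ, hφf⟩ := hf.1
  have hr : φ.range = Q := by
    apply SetLike.coe_injective
    rw [← hf.2]
    ext y
    exact ⟨fun ⟨x, hx⟩ => ⟨x, x.2, (hφf x).symm.trans hx⟩, fun ⟨x, hx, hy⟩ => ⟨⟨x, hx⟩, (hφf _).trans hy⟩⟩
  obtain ⟨ψ, hψ, hψφ⟩ := hQ.2 P φ hφ hr
  have hle : P ⊔ M ≤ extender S P φ :=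
    sup_le (le_extender_of_isExtendable hφf (isExtendable_self hf.1)) (le_extender_of_isExtendable hφf hM)
  refine ⟨extFun ψ, (isMap_extFun hψ).mono hle, fun x hx => ?_⟩
  rw [extFun_of_mem ψ (hle (le_sup_left (a := P) (b := M) hx)), hψφ x hx]
  exact hφf ⟨x, hx⟩

/-- To prove receptivity it suffices to extend each isomorphism onto `Q` to each extendable subgroup. -/
theorem isReceptive_of {Q : Subgroup Ω} (hQ : Q ≤ S)
    (h : ∀ (P : Subgroup Ω) (f : Ω → Ω), IsIso F P Q f → ∀ M, P ≤ M → IsExtendable S P f M →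
      ∃ f', IsMap F M f' ∧ Set.EqOn f' f P) : F.IsReceptive Q := by
  refine ⟨hQ, fun P φ hφ hr => ?_⟩
  have hf : IsIso F P Q (extFun φ) := hr ▸ IsMap.isIso_range hφ
  have hext : ∀ x : P, φ x = extFun φ x := fun x => (extFun_coe φ x).symm
  obtain ⟨f', ⟨ψ, hψ, hψf⟩, he⟩ := h P _ hf (extender S P φ)
    (le_extender_of_isExtendable hext (isExtendable_self hf.1)) (isExtendable_extender hext)
  refine ⟨ψ, hψ, fun x hP hN => ?_⟩
  rw [hψf]
  exact (he hP).trans (extFun_of_mem φ hP)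

/-- A map carries the normalizer of a subgroup of its source into the normalizer of the image. -/
theorem map_mem_normalizer {P Q M : Subgroup Ω} {f' : Ω → Ω} (hf' : IsMap F M f') (hPM : P ≤ M)
    (him : f' '' (P : Set Ω) = (Q : Set Ω)) {g : Ω} (hg : g ∈ M)
    (hgN : g ∈ Subgroup.normalizer (P : Set Ω)) : f' g ∈ normalizerIn S Q := by
  refine ⟨hf'.apply_mem hg, Subgroup.mem_normalizer_iff.mpr fun y => ?_⟩
  have key : ∀ a ∈ M, a ∈ Subgroup.normalizer (P : Set Ω) → ∀ z ∈ Q, f' a * z * (f' a)⁻¹ ∈ Q := by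
    intro a ha haN z hz
    have : z ∈ f' '' (P : Set Ω) := by rw [him]; exact hz
    obtain ⟨x, hx, rfl⟩ := this
    rw [← hf'.map_conj ha (hPM hx)]
    have : f' (a * x * a⁻¹) ∈ f' '' (P : Set Ω) := ⟨_, conj_mem_of_mem_normalizer haN hx, rfl⟩
    rwa [him] at this
  refine ⟨key g hg hgN y, fun hy => ?_⟩
  have := key g⁻¹ (inv_mem hg) (inv_mem hgN) _ hy
  rw [hf'.map_inv hg] at this
  convert this using 1
  group

/-- A map carries the centralizer of a subgroup of its source into the centralizer of the image. -/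
theorem map_mem_centralizer {P Q M : Subgroup Ω} {f' : Ω → Ω} (hf' : IsMap F M f') (hPM : P ≤ M)
    (him : f' '' (P : Set Ω) = (Q : Set Ω)) {g : Ω} (hg : g ∈ M)
    (hgC : g ∈ Subgroup.centralizer (P : Set Ω)) : f' g ∈ centralizerIn S Q := by
  refine ⟨hf'.apply_mem hg, Subgroup.mem_centralizer_iff.mpr fun y hy => ?_⟩
  have : y ∈ f' '' (P : Set Ω) := by rw [him]; exact hy
  obtain ⟨x, hx, rfl⟩ := this
  rw [← hf'.map_mul (hPM hx) hg, ← hf'.map_mul hg (hPM hx),
    Subgroup.mem_centralizer_iff.mp hgC x hx]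

theorem isIso_eqOn_image {P Q M : Subgroup Ω} {f f' : Ω → Ω} (hf : IsIso F P Q f)
    (h : Set.EqOn f' f P) (hf' : IsMap F M f') (hPM : P ≤ M) : IsIso F P Q f' :=
  ⟨hf'.mono hPM, (Set.image_congr h).trans hf.2⟩

theorem card_le_of_injOn [Finite S] {M N : Subgroup Ω} {f : Ω → Ω} (hN : N ≤ S)
    (hf : Set.InjOn f M) (h : ∀ x ∈ M, f x ∈ N) : Nat.card M ≤ Nat.card N :=
  haveI := finite_of_le hN
  Nat.card_le_card_of_injective (fun x : M => (⟨f x, h x x.2⟩ : N))
    (fun x y hxy => Subtype.ext (hf x.2 y.2 (congrArg Subtype.val hxy)))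

theorem surjOn_of_card_le [Finite S] {M N : Subgroup Ω} {f : Ω → Ω} (hN : N ≤ S)
    (hf : Set.InjOn f M) (h : ∀ x ∈ M, f x ∈ N) (hcard : Nat.card N ≤ Nat.card M) :
    ∀ y ∈ N, ∃ x ∈ M, f x = y := by
  haveI := finite_of_le hN
  intro y hy
  let e : M → N := fun x => ⟨f x, h x x.2⟩
  have hinj : Function.Injective e := fun x z hxz => Subtype.ext (hf x.2 z.2 (congrArg Subtype.val hxz))
  obtain ⟨x, hx⟩ := (hinj.bijective_of_nat_card_le hcard).2 ⟨y, hy⟩
  exact ⟨x, x.2, congrArg Subtype.val hx⟩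

/-- A receptive subgroup is fully centralized. -/
theorem fullyCentralized_of_receptive [Finite S] {Q : Subgroup Ω} (h : F.IsReceptive Q) :
    F.IsFullyCentralized Q := by
  refine ⟨h.1, fun P hP => ?_⟩
  obtain ⟨f, hf⟩ := isConj_iff.mp (isConj_symm hP)
  obtain ⟨f', hf', he⟩ := receptive_extend h hf (isExtendable_centralizerIn f)
  refine card_le_of_injOn inf_le_left (hf'.injOn.mono (fun x hx => le_sup_right (a := P) hx)) fun x hx => ?_
  exact map_mem_centralizer hf' le_sup_left ((Set.image_congr he).trans hf.2) (le_sup_right (a := P) hx) hx.2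

/-! ### Fully automized receptive subgroups -/

/-- The image of `Aut_S(P)` under transport. -/
theorem congr_autInducedBy_mem {P Q : Subgroup Ω} {f : Ω → Ω} (hf : IsIso F P Q f) {g : Ω}
    (hg : g ∈ normalizerIn S P) :
    MulAut.congr hf.equiv (conjAutHom S P ⟨g, hg⟩) ∈ autInducedBy S Q ↔
      ∃ h ∈ S, ∀ x ∈ P, f (g * x * g⁻¹) = h * f x * h⁻¹ := by
  rw [mem_autInducedBy]
  refine exists_congr fun h => and_congr_right fun _ => ⟨fun H x hx => ?_, fun H y => ?_⟩
  · have := H (hf.equiv ⟨x, hx⟩)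
    rwa [congr_apply_equiv] at this
  · obtain ⟨x, rfl⟩ := hf.equiv.surjective y
    rw [congr_apply_equiv, hf.equiv_apply]
    exact H x x.2

/-- If `P` is fully automized and receptive, each conjugate has a map of its `S`-normalizer into
`N_S(P)` carrying it onto `P`. -/
theorem exists_normalizer_map [Finite S] {p : ℕ} [Fact p.Prime] (hS : IsPGroup p S) {P Q : Subgroup Ω}
    (h₁ : F.IsFullyAutomized p P) (h₂ : F.IsReceptive P) (hQ : F.IsConj Q P) :
    ∃ f, IsMap F (normalizerIn S Q) f ∧ IsIso F Q P f ∧ ∀ g ∈ normalizerIn S Q, f g ∈ normalizerIn S P := by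
  obtain ⟨f, hf⟩ := isConj_iff.mp hQ
  have hPS := h₁.1
  have hQS := hf.dom_le
  haveI := finite_of_le hPS
  haveI := finite_mulAut P
  let A : Subgroup (F.autGroup P) := (autInducedBy S P).subgroupOf (F.autGroup P)
  let B : Subgroup (F.autGroup P) :=
    ((autInducedBy S Q).map (MulAut.congr hf.equiv).toMonoidHom).subgroupOf (F.autGroup P)
  have hB : IsPGroup p B := by
    have h1 : IsPGroup p (autInducedBy S Q) :=
      range_conjAutHom S Q ▸ (hS.to_le (normalizerIn_le S Q)).of_surjective _ (conjAutHom S Q).rangeRestrict_surjective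
    exact (h1.map _).comap_of_injective _ (Subgroup.subtype_injective _)
  obtain ⟨R, hR⟩ := h₁.2
  obtain ⟨T, hT⟩ := hB.exists_le_sylow
  obtain ⟨χ, hχ⟩ := MulAction.exists_smul_eq (F.autGroup P) T R
  obtain ⟨fχ, hfχ⟩ : ∃ k, k = autFun (χ : MulAut P) := ⟨_, rfl⟩
  have hχiso : IsIso F P P fχ := hfχ ▸ (mem_autGroup hPS).mp χ.2
  have hg : IsIso F Q P (fχ ∘ f) := hf.comp hχiso
  have hM : IsExtendable S Q (fχ ∘ f) (normalizerIn S Q) := by
    refine ⟨normalizerIn_le S Q, fun g hgN => ⟨hgN.2, ?_⟩⟩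
    rw [← congr_autInducedBy_mem hg hgN]
    have hmem : MulAut.congr hf.equiv (conjAutHom S Q ⟨g, hgN⟩) ∈ F.autGroup P := by
      rw [← autGroup_map_congr hf]
      refine ⟨_, autInducedBy_le_autGroup hQS ?_, rfl⟩
      rw [← range_conjAutHom]
      exact ⟨_, rfl⟩
    have hTm : (⟨_, hmem⟩ : F.autGroup P) ∈ (T : Subgroup (F.autGroup P)) :=
      hT (Subgroup.mem_subgroupOf.mpr ⟨_, by rw [← range_conjAutHom]; exact ⟨_, rfl⟩, rfl⟩)
    have hconj : χ * ⟨_, hmem⟩ * χ⁻¹ ∈ (R : Subgroup (F.autGroup P)) := by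
      rw [← hχ, Sylow.coe_subgroup_smul]
      exact ⟨_, hTm, rfl⟩
    rw [hR, Subgroup.mem_subgroupOf] at hconj
    have heq : MulAut.congr hg.equiv (conjAutHom S Q ⟨g, hgN⟩) =
        (χ : MulAut P) * MulAut.congr hf.equiv (conjAutHom S Q ⟨g, hgN⟩) * (χ : MulAut P)⁻¹ := by
      refine MulEquiv.ext fun y => ?_
      obtain ⟨x, rfl⟩ := hg.equiv.surjective y
      apply Subtype.ext
      rw [congr_apply_equiv]
      have e1 : hg.equiv x = (χ : MulAut P) (hf.equiv x) := Subtype.ext (by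
        rw [hg.equiv_apply, Function.comp_apply, hfχ, ← hf.equiv_apply, autFun_coe])
      rw [e1, MulAut.mul_apply, MulAut.mul_apply,
        show ((χ : MulAut P)⁻¹) ((χ : MulAut P) (hf.equiv x)) = hf.equiv x from (χ : MulAut P).symm_apply_apply _]
      rw [Function.comp_apply, ← congr_apply_equiv hf, hfχ, autFun_coe]
    rw [heq]
    exact hconj
  obtain ⟨f', hf', he⟩ := receptive_extend h₂ hg hM
  refine ⟨f', hf'.mono le_sup_right, isIso_eqOn_image hg he hf' le_sup_left, fun g hgN => ?_⟩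
  exact map_mem_normalizer hf' le_sup_left ((Set.image_congr he).trans hg.2) (le_sup_right (a := Q) hgN) hgN.2

/-- Fully automized and receptive implies fully normalized. -/
theorem fullyNormalized_of_automized_receptive [Finite S] {p : ℕ} [Fact p.Prime] (hS : IsPGroup p S)
    {P : Subgroup Ω} (h₁ : F.IsFullyAutomized p P) (h₂ : F.IsReceptive P) : F.IsFullyNormalized P := by
  refine ⟨h₁.1, fun Q hQ => ?_⟩
  obtain ⟨f, hf, -, hfN⟩ := exists_normalizer_map hS h₁ h₂ (isConj_symm hQ)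
  exact card_le_of_injOn inf_le_left hf.injOn hfN

/-- Every conjugacy class contains a fully normalized subgroup. -/
theorem exists_fullyNormalized [Finite S] {P : Subgroup Ω} (hP : P ≤ S) :
    ∃ Q, F.IsConj P Q ∧ F.IsFullyNormalized Q := by
  classical
  have hex : ∃ n, ∃ Q, F.IsConj P Q ∧ Nat.card S - Nat.card (normalizerIn S Q) = n :=
    ⟨_, P, isConj_refl hP, rfl⟩
  obtain ⟨Q, hQ, hn⟩ := Nat.find_spec hex
  refine ⟨Q, hQ, isConj_le_right hQ, fun R hR => ?_⟩
  have h1 := Nat.find_min' hex ⟨R, isConj_trans hQ hR, rfl⟩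
  have h2 : Nat.card (normalizerIn S R) ≤ Nat.card S := Subgroup.card_le_of_le inf_le_left
  have h3 : Nat.card (normalizerIn S Q) ≤ Nat.card S := Subgroup.card_le_of_le inf_le_left
  omega

end Cfsg.Agent.Fusion
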