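import Cfsg.Agent.Lib.Fusion.Map
import Mathlib.Data.Finite.Defs
import Mathlib.GroupTheory.Index

/-!
# Automorphism groups of a fusion system and induced automorphisms
-/

set_option autoImplicit false

namespace Cfsg.Agent.Fusion

open Cfsg
open Cfsg.FusionSystem (normalizerIn centralizerIn extender)

variable {Ω : Type*} [Group Ω] {S : Subgroup Ω} {F : FusionSystem S}

/-- An automorphism of a subgroup, as a function on the ambient group. -/
noncomputable def autFun {P : Subgroup Ω} (α : MulAut P) : Ω → Ω :=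
  extFun (P.subtype.comp α.toMonoidHom)

@[simp] theorem autFun_coe {P : Subgroup Ω} (α : MulAut P) (x : P) :
    autFun α (x : Ω) = (α x : Ω) :=
  extFun_coe _ x

theorem autFun_of_mem {P : Subgroup Ω} (α : MulAut P) {x : Ω} (h : x ∈ P) :
    autFun α x = (α ⟨x, h⟩ : Ω) :=
  extFun_of_mem _ h

theorem autFun_one {P : Subgroup Ω} : Set.EqOn (autFun (1 : MulAut P)) id P := fun _ hx =>
  (autFun_of_mem _ hx).trans rfl

theorem autFun_mul {P : Subgroup Ω} (α β : MulAut P) :
    Set.EqOn (autFun (α * β)) (autFun α ∘ autFun β) P := fun x hx => by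
  rw [Function.comp_apply, autFun_of_mem β hx, autFun_coe, autFun_of_mem _ hx]
  rfl

theorem autFun_image {P : Subgroup Ω} (α : MulAut P) :
    autFun α '' (P : Set Ω) = (P : Set Ω) := by
  ext y
  constructor
  · rintro ⟨x, hx, rfl⟩
    rw [autFun_of_mem α hx]
    exact (α _).2
  · intro hy
    exact ⟨(α.symm ⟨y, hy⟩ : P), (α.symm ⟨y, hy⟩).2, by simp⟩

theorem mem_autGen_iff {P : Subgroup Ω} {α : MulAut P} :
    P.subtype.comp α.toMonoidHom ∈ F.Hom P ↔ IsMap F P (autFun α) :=
  mem_hom_iff_isMap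

/-- For `P ≤ S` the automorphisms of `P` in the system form a group: membership criterion. -/
theorem mem_autGroup {P : Subgroup Ω} (hP : P ≤ S) {α : MulAut P} :
    α ∈ F.autGroup P ↔ IsIso F P P (autFun α) := by
  constructor
  · intro h
    induction h using Subgroup.closure_induction with
    | mem x hx => exact ⟨mem_autGen_iff.mp hx, autFun_image x⟩
    | one => exact (isIso_id hP).congr autFun_one.symm
    | mul x y _ _ hx hy => exact (hy.comp hx).congr (autFun_mul x y).symm
    | inv x _ hx =>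
      obtain ⟨g, hg, hgl, hgr⟩ := hx.exists_inv
      refine hg.congr fun a ha => ?_
      have hb : ((x⁻¹ : MulAut P) ⟨a, ha⟩ : Ω) ∈ P := Subtype.mem _
      rw [autFun_of_mem _ ha, ← hgl _ hb]
      congr 1
      rw [autFun_coe]
      exact (congrArg Subtype.val (x.apply_symm_apply ⟨a, ha⟩)).symm
  · intro h
    exact Subgroup.subset_closure (mem_autGen_iff.mpr h.1)

theorem mem_autGroup_iff_hom {P : Subgroup Ω} (hP : P ≤ S) {α : MulAut P} :
    α ∈ F.autGroup P ↔ P.subtype.comp α.toMonoidHom ∈ F.Hom P :=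
  ⟨fun h => mem_autGen_iff.mpr ((mem_autGroup hP).mp h).1, fun h => Subgroup.subset_closure h⟩

theorem autGroup_mem_of_isMap {P : Subgroup Ω} {α : MulAut P} (h : IsMap F P (autFun α)) :
    α ∈ F.autGroup P :=
  Subgroup.subset_closure (mem_autGen_iff.mpr h)

theorem autGroup_eq_bot_of_not_le {P : Subgroup Ω} (hP : ¬ P ≤ S) : F.autGroup P = ⊥ := by
  rw [FusionSystem.autGroup, Subgroup.closure_eq_bot_iff]
  intro α hα
  exact absurd (F.le_of_mem hα).1 hP

/-- An isomorphism of the system from `P` onto itself is an element of the automorphism group. -/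
theorem IsIso.exists_aut {P : Subgroup Ω} {f : Ω → Ω} (h : IsIso F P P f) :
    ∃ α ∈ F.autGroup P, Set.EqOn (autFun α) f P := by
  have he : Set.EqOn (autFun (h.equiv : MulAut P)) f P := fun x hx =>
    (autFun_of_mem _ hx).trans (h.equiv_apply ⟨x, hx⟩)
  exact ⟨h.equiv, autGroup_mem_of_isMap (h.1.congr he.symm), he⟩

theorem IsIso.equiv_mem_autGroup {P : Subgroup Ω} {f : Ω → Ω} (h : IsIso F P P f) :
    (h.equiv : MulAut P) ∈ F.autGroup P :=
  autGroup_mem_of_isMap (h.1.congr fun x hx => ((autFun_of_mem _ hx).trans (h.equiv_apply ⟨x, hx⟩)).symm)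

theorem autGroup_mono {T : Subgroup Ω} {E : FusionSystem T} {P : Subgroup Ω}
    (h : E.Hom P ⊆ F.Hom P) : E.autGroup P ≤ F.autGroup P :=
  Subgroup.closure_mono fun _ hα => h hα

/-- Transport of the automorphism group along an isomorphism of the system. -/
theorem autGroup_map_congr {P Q : Subgroup Ω} {f : Ω → Ω} (h : IsIso F P Q f) :
    (F.autGroup P).map (MulAut.congr h.equiv).toMonoidHom = F.autGroup Q := by
  apply le_antisymm
  · rintro _ ⟨α, hα, rfl⟩
    obtain ⟨g, hg, hgl, hgr⟩ := h.exists_inv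
    refine (mem_autGroup h.cod_le).mpr (((hg.comp ((mem_autGroup h.dom_le).mp hα)).comp h).congr ?_)
    intro y hy
    rw [autFun_of_mem _ hy]
    show f (autFun α (g y)) = (h.equiv (α (h.equiv.symm ⟨y, hy⟩)) : Ω)
    rw [autFun_of_mem α (hg.mem hy), h.equiv_apply]
    congr 3
    apply Subtype.ext
    show g y = _
    have := hgl _ (Subtype.mem (h.equiv.symm ⟨y, hy⟩))
    rw [h.apply_equiv_symm] at this
    exact this
  · intro β hβ
    refine ⟨(MulAut.congr h.equiv).symm β, ?_, MulEquiv.apply_symm_apply _ β⟩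
    obtain ⟨g, hg, hgl, hgr⟩ := h.exists_inv
    refine (mem_autGroup h.dom_le).mpr (((h.comp ((mem_autGroup h.cod_le).mp hβ)).comp hg).congr ?_)
    intro x hx
    rw [autFun_of_mem _ hx]
    show g (autFun β (f x)) = (h.equiv.symm (β (h.equiv ⟨x, hx⟩)) : Ω)
    rw [autFun_of_mem β (h.mem hx)]
    have : (β ⟨f x, h.mem hx⟩ : Ω) = f (h.equiv.symm (β (h.equiv ⟨x, hx⟩)) : Ω) :=
      (h.apply_equiv_symm _).symm
    rw [this, hgl _ (Subtype.mem _)]

/-- `Aut_F(P)` and `Aut_F(Q)` are isomorphic for conjugate `P`, `Q`. -/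
noncomputable def IsIso.autEquiv {P Q : Subgroup Ω} {f : Ω → Ω} (h : IsIso F P Q f) :
    F.autGroup P ≃* F.autGroup Q :=
  ((MulAut.congr h.equiv).subgroupMap (F.autGroup P)).trans
    (MulEquiv.subgroupCongr (autGroup_map_congr h))

@[simp] theorem IsIso.autEquiv_coe {P Q : Subgroup Ω} {f : Ω → Ω} (h : IsIso F P Q f)
    (α : F.autGroup P) : ((h.autEquiv α : F.autGroup Q) : MulAut Q) = MulAut.congr h.equiv (α : MulAut P) :=
  rfl

/-- Value of a transported automorphism. -/
theorem congr_apply_equiv {P Q : Subgroup Ω} {f : Ω → Ω} (h : IsIso F P Q f) (α : MulAut P) (x : P) :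
    ((MulAut.congr h.equiv α) (h.equiv x) : Ω) = f (α x) := by
  show ((h.equiv (α (h.equiv.symm (h.equiv x))) : Q) : Ω) = _
  rw [h.equiv.symm_apply_apply, h.equiv_apply]

/-! ### Induced automorphisms -/

/-- `α` is conjugation by some element of `K`. -/
theorem mem_autInducedBy {K P : Subgroup Ω} {α : MulAut P} :
    α ∈ autInducedBy K P ↔ ∃ g ∈ K, ∀ x : P, (α x : Ω) = g * x * g⁻¹ := by
  constructor
  · intro h
    induction h using Subgroup.closure_induction with
    | mem x hx => exact hx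
    | one => exact ⟨1, K.one_mem, fun x => by simp⟩
    | mul x y _ _ hx hy =>
      obtain ⟨a, ha, hax⟩ := hx
      obtain ⟨b, hb, hby⟩ := hy
      refine ⟨a * b, K.mul_mem ha hb, fun z => ?_⟩
      rw [MulAut.mul_apply, hax, hby]
      group
    | inv x _ hx =>
      obtain ⟨a, ha, hax⟩ := hx
      refine ⟨a⁻¹, K.inv_mem ha, fun z => ?_⟩
      have := hax (x⁻¹ z)
      rw [show x (x⁻¹ z) = z from x.apply_symm_apply z] at this
      rw [this]
      group
  · exact fun h => Subgroup.subset_closure h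

theorem conj_mem_of_mem_normalizer {P : Subgroup Ω} {g x : Ω}
    (hg : g ∈ Subgroup.normalizer (P : Set Ω)) (hx : x ∈ P) : g * x * g⁻¹ ∈ P :=
  (Subgroup.mem_normalizer_iff.mp hg x).mp hx

/-- An element inducing an automorphism of `P` normalizes `P`. -/
theorem mem_normalizer_of_induces {P : Subgroup Ω} {α : MulAut P} {g : Ω}
    (h : ∀ x : P, (α x : Ω) = g * x * g⁻¹) : g ∈ Subgroup.normalizer (P : Set Ω) := by
  refine Subgroup.mem_normalizer_iff.mpr fun x => ⟨fun hx => ?_, fun hx => ?_⟩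
  · exact h ⟨x, hx⟩ ▸ (α _).2
  · have := h (α.symm ⟨_, hx⟩)
    rw [α.apply_symm_apply] at this
    rw [mul_left_cancel (mul_right_cancel this)]
    exact Subtype.mem _

/-- The homomorphism from `N_K(P)` to `Aut P` given by conjugation. -/
def conjAutHom (K P : Subgroup Ω) : ↥(normalizerIn K P) →* MulAut P where
  toFun g :=
    { toFun := fun x => ⟨(g : Ω) * x * (g : Ω)⁻¹, conj_mem_of_mem_normalizer g.2.2 x.2⟩
      invFun := fun x => ⟨(g : Ω)⁻¹ * x * (g : Ω), by
        simpa using conj_mem_of_mem_normalizer (inv_mem g.2.2) x.2⟩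
      left_inv := fun x => Subtype.ext (by simp [mul_assoc])
      right_inv := fun x => Subtype.ext (by simp [mul_assoc])
      map_mul' := fun x y => Subtype.ext (by simp [mul_assoc]) }
  map_one' := by ext x; simp
  map_mul' g h := by ext x; simp [mul_assoc]

@[simp] theorem conjAutHom_apply (K P : Subgroup Ω) (g : ↥(normalizerIn K P)) (x : P) :
    (conjAutHom K P g x : Ω) = g * x * (g : Ω)⁻¹ := rfl

theorem range_conjAutHom (K P : Subgroup Ω) : (conjAutHom K P).range = autInducedBy K P := by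
  ext α
  rw [mem_autInducedBy]
  constructor
  · rintro ⟨g, rfl⟩
    exact ⟨g, g.2.1, fun x => rfl⟩
  · rintro ⟨g, hg, h⟩
    exact ⟨⟨g, hg, mem_normalizer_of_induces h⟩, MulEquiv.ext fun x => Subtype.ext (h x).symm⟩

theorem ker_conjAutHom (K P : Subgroup Ω) :
    (conjAutHom K P).ker = (centralizerIn K P).subgroupOf (normalizerIn K P) := by
  ext g
  rw [MonoidHom.mem_ker, Subgroup.mem_subgroupOf]
  constructor
  · intro h
    refine ⟨g.2.1, Subgroup.mem_centralizer_iff.mpr fun x hx => ?_⟩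
    have := congrArg Subtype.val (DFunLike.congr_fun h ⟨x, hx⟩)
    simp only [conjAutHom_apply, MulAut.one_apply] at this
    exact (mul_inv_eq_iff_eq_mul.mp this).symm
  · intro h
    refine MulEquiv.ext fun x => Subtype.ext ?_
    simp only [conjAutHom_apply, MulAut.one_apply]
    rw [← Subgroup.mem_centralizer_iff.mp h.2 x x.2]
    group

theorem centralizerIn_le_normalizerIn (K P : Subgroup Ω) : centralizerIn K P ≤ normalizerIn K P :=
  inf_le_inf_left _ (Subgroup.centralizer_le_normalizer _)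

/-- `|Aut_K(P)| · |C_K(P)| = |N_K(P)|`. -/
theorem card_autInducedBy_mul (K P : Subgroup Ω) :
    Nat.card (autInducedBy K P) * Nat.card (centralizerIn K P) = Nat.card (normalizerIn K P) := by
  rw [← range_conjAutHom, ← Subgroup.index_ker, ker_conjAutHom,
    ← Nat.card_congr (Subgroup.subgroupOfEquivOfLe (centralizerIn_le_normalizerIn K P)).toEquiv]
  exact Subgroup.index_mul_card _

theorem autInducedBy_mono {K L P : Subgroup Ω} (h : K ≤ L) : autInducedBy K P ≤ autInducedBy L P :=
  Subgroup.closure_mono fun _ ⟨g, hg, hx⟩ => ⟨g, h hg, hx⟩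

theorem autInducedBy_le_autGroup {P : Subgroup Ω} (hP : P ≤ S) :
    autInducedBy S P ≤ F.autGroup P := by
  intro α hα
  obtain ⟨g, hg, hgx⟩ := mem_autInducedBy.mp hα
  exact autGroup_mem_of_isMap ((isMap_conj hP hg).congr fun x hx =>
    ((autFun_of_mem α hx).trans (hgx ⟨x, hx⟩)).symm)

theorem mem_inn {P : Subgroup Ω} {α : MulAut P} :
    α ∈ Cfsg.Inn P ↔ ∃ a ∈ P, ∀ x : P, (α x : Ω) = a * x * a⁻¹ := by
  constructor
  · rintro ⟨a, rfl⟩
    exact ⟨a, a.2, fun x => rfl⟩
  · rintro ⟨a, ha, h⟩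
    exact ⟨⟨a, ha⟩, MulEquiv.ext fun x => Subtype.ext (h x).symm⟩

theorem inn_eq_autInducedBy (P : Subgroup Ω) : Cfsg.Inn P = autInducedBy P P := by
  ext α
  rw [mem_inn, mem_autInducedBy]

theorem inn_le_autInducedBy {P : Subgroup Ω} (hP : P ≤ S) : Cfsg.Inn P ≤ autInducedBy S P := by
  rw [inn_eq_autInducedBy]
  exact autInducedBy_mono hP

theorem inn_le_autGroup {P : Subgroup Ω} (hP : P ≤ S) : Cfsg.Inn P ≤ F.autGroup P :=
  (inn_le_autInducedBy hP).trans (autInducedBy_le_autGroup hP)

theorem inn_subgroupOf_normal {P : Subgroup Ω} :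
    ((Cfsg.Inn P).subgroupOf (F.autGroup P)).Normal := by
  refine ⟨fun β hβ α => ?_⟩
  obtain ⟨a, ha⟩ := Subgroup.mem_subgroupOf.mp hβ
  refine Subgroup.mem_subgroupOf.mpr ⟨(α : MulAut P) a, MulEquiv.ext fun x => ?_⟩
  simp only [Subgroup.coe_mul, Subgroup.coe_inv, ← ha]
  simp [mul_assoc]

theorem autInducedBy_self_eq_inn : autInducedBy S S = Cfsg.Inn S := (inn_eq_autInducedBy S).symm

theorem normalizerIn_self (K : Subgroup Ω) : normalizerIn K K = K :=
  inf_eq_left.mpr K.le_normalizer

theorem le_normalizerIn {K P : Subgroup Ω} (h : P ≤ K) : P ≤ normalizerIn K P :=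
  le_inf h P.le_normalizer

theorem normalizerIn_le (K P : Subgroup Ω) : normalizerIn K P ≤ K := inf_le_left

theorem centralizerIn_le (K P : Subgroup Ω) : centralizerIn K P ≤ K := inf_le_left

theorem finite_of_le {K P : Subgroup Ω} [Finite K] (h : P ≤ K) : Finite P :=
  Finite.of_injective _ (Subgroup.inclusion_injective h)

theorem finite_mulAut (P : Type*) [Group P] [Finite P] : Finite (MulAut P) :=
  Finite.of_injective (fun α : MulAut P => (α : P → P)) DFunLike.coe_injective

end Cfsg.Agent.Fusion
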