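import Cfsg.Agent.Lib.Fusion.Alperin
import Cfsg.Agent.Lib.Fusion.Closed
import Cfsg.Agent.Fus93.Iso
import Cfsg.Agent.Lib.Transfer.Focal

/-!
# Invariant subsystems: the invariance and Frattini conditions, strong invariance
-/

set_option autoImplicit false
set_option maxHeartbeats 400000

namespace Cfsg.Agent.Fusion

open Cfsg
open Cfsg.FusionSystem (normalizerIn centralizerIn)

variable {Ω : Type*} [Group Ω] {S T : Subgroup Ω} {F : FusionSystem S} {E : FusionSystem T}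

/-- Strong invariance, through maps. -/
def StrongInv (E : FusionSystem T) (F : FusionSystem S) : Prop :=
  ∀ P P' Q φ ψ, P ≤ Q → Q ≤ T → IsMap E P φ → (∀ x ∈ P, φ x ∈ Q) → IsMap F Q ψ → IsIso F P P' ψ →
    ∃ χ, IsMap E P' χ ∧ ∀ x ∈ P, χ (ψ x) = ψ (φ x)

theorem invariant_inv (h : E.IsInvariantIn F) {P : Subgroup Ω} {f k : Ω → Ω} (hf : IsMap E P f)
    (hk : IsIso F T T k) {P' : Subgroup Ω} (hP' : (P' : Set Ω) = k '' P) :
    ∃ g, IsMap E P' g ∧ ∀ x ∈ P, g (k x) = k (f x) := by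
  obtain ⟨-, -, hinv, -⟩ := h
  obtain ⟨α, hα, hαe⟩ := hk.exists_aut
  obtain ⟨φ, hφ, hφf⟩ := id hf
  have hPT := hf.dom_le
  obtain ⟨χ, hχ, hχe⟩ := hinv P hPT φ hφ α hα
  have hset : ((P.subgroupOf T).map (T.subtype.comp α.toMonoidHom) : Set Ω) = (P' : Set Ω) := by
    rw [hP']
    ext y
    constructor
    · rintro ⟨x, hx, rfl⟩
      exact ⟨x, hx, (hαe x.2).symm.trans (autFun_coe α x)⟩
    · rintro ⟨x, hx, rfl⟩
      exact ⟨⟨x, hPT hx⟩, hx, ((autFun_of_mem α (hPT hx)).symm.trans (hαe (hPT hx)))⟩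
  obtain rfl : (P.subgroupOf T).map (T.subtype.comp α.toMonoidHom) = P' := SetLike.coe_injective hset
  refine ⟨extFun χ, isMap_extFun hχ, fun x hx => ?_⟩
  have hk' : k x = (α ⟨x, hPT hx⟩ : Ω) := (hαe (hPT hx)).symm.trans (autFun_of_mem α _)
  have hfx : φ ⟨x, hx⟩ ∈ T := (hφf ⟨x, hx⟩).symm ▸ hf.apply_mem hx
  have hmem : ((α ⟨x, hPT hx⟩ : T) : Ω) ∈ (P.subgroupOf T).map (T.subtype.comp α.toMonoidHom) :=
    ⟨⟨x, hPT hx⟩, hx, rfl⟩
  rw [hk', extFun_of_mem χ hmem, hχe ⟨x, hx⟩ hfx hmem, ← autFun_coe α ⟨_, hfx⟩, hαe hfx, hφf]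

theorem invariant_frattini (h : E.IsInvariantIn F) {P : Subgroup Ω} {f : Ω → Ω} (hf : IsMap F P f)
    (hPT : P ≤ T) : ∃ k g, IsIso F T T k ∧ IsMap E P g ∧ ∀ x ∈ P, f x = k (g x) := by
  obtain ⟨-, hT, -, hfr⟩ := h
  obtain ⟨φ, hφ, hφf⟩ := id hf
  obtain ⟨α, hα, φ₀, hφ₀, he⟩ := hfr P hPT φ hφ
  refine ⟨autFun α, extFun φ₀, (mem_autGroup hT.1).mp hα, isMap_extFun hφ₀, fun x hx => ?_⟩
  have hm : φ₀ ⟨x, hx⟩ ∈ T := (E.le_of_mem hφ₀).2 _
  rw [extFun_of_mem φ₀ hx, autFun_of_mem α hm, ← he ⟨x, hx⟩ hm, hφf]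

theorem strongInv_of_invariant (h : E.IsInvariantIn F) : StrongInv E F := by
  intro P P' Q φ ψ hPQ hQT hφ hφQ hψ hψP
  obtain ⟨k, g, hk, hg, hge⟩ := invariant_frattini h hψ hQT
  obtain ⟨g', hg', hgl, -⟩ := (show IsIso E P (hg.mono hPQ).exists_image.choose g from
    (hg.mono hPQ).exists_image.choose_spec).exists_inv
  set P₀ := (hg.mono hPQ).exists_image.choose with hP₀def
  have hP₀ : IsIso E P P₀ g := (hg.mono hPQ).exists_image.choose_spec
  have h1 : IsMap E P₀ (g ∘ φ ∘ g') := (hg'.comp_map hφ).comp hg (fun x hx => hφQ _ (hg'.mem hx))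
  have hset : (P' : Set Ω) = k '' (P₀ : Set Ω) := by
    rw [← hP₀.2, ← Set.image_comp, ← hψP.2]
    exact Set.image_congr fun x hx => hge x (hPQ hx)
  obtain ⟨χ, hχ, hχe⟩ := invariant_inv h h1 hk hset
  refine ⟨χ, hχ, fun x hx => ?_⟩
  rw [hge x (hPQ hx), hχe _ (hP₀.mem hx)]
  simp only [Function.comp_apply]
  rw [hgl x hx, hge _ (hφQ x hx)]

variable {p : ℕ} [Fact p.Prime]

theorem invariant_of_strongInv [Finite S] (hS : IsPGroup p S) (hF : F.IsSaturated p)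
    (hE : E.IsSubsystemOf F) (hT : F.StronglyClosed T) (h : StrongInv E F) : E.IsInvariantIn F := by
  have hTS := hT.1
  haveI := finite_of_le hTS
  have hclosed : ∀ {P : Subgroup Ω} {f : Ω → Ω}, IsMap F P f → P ≤ T → ∀ x ∈ P, f x ∈ T :=
    fun hf hPT x hx => (stronglyClosed_iff.mp hT).2 _ _ hf x hx (hPT hx)
  have hinv : ∀ P f, IsMap E P f → ∀ k, IsIso F T T k → ∀ P' : Subgroup Ω, (P' : Set Ω) = k '' P →
      ∃ g, IsMap E P' g ∧ ∀ x ∈ P, g (k x) = k (f x) := fun P f hf k hk P' hP' =>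
    h P P' T f k hf.dom_le le_rfl hf (fun x hx => hf.apply_mem hx) hk.1
      ⟨hk.1.mono hf.dom_le, hP'.symm⟩
  refine Fus93.isInvariantIn_of hE hT hinv ?_
  -- the Frattini condition is closed under composition
  let Fr : Subgroup Ω → (Ω → Ω) → Prop := fun P f =>
    ∃ k g, IsIso F T T k ∧ IsMap E P g ∧ ∀ x ∈ P, f x = k (g x)
  have hFrcomp : ∀ {P Q : Subgroup Ω} {f g : Ω → Ω}, Fr P f → Fr Q g → (∀ x ∈ P, f x ∈ Q) →
      Fr P (g ∘ f) := by
    rintro P Q f g ⟨k, f₀, hk, hf₀, hfe⟩ ⟨l, g₀, hl, hg₀, hge⟩ hfQ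
    obtain ⟨ki, hki, hkil, hkir⟩ := hk.exists_inv
    obtain ⟨Q', hQ'⟩ := (hki.1.mono hg₀.dom_le).exists_image
    obtain ⟨g₁, hg₁, hg₁e⟩ := hinv Q g₀ hg₀ ki hki Q' hQ'.2.symm
    have hval : ∀ x ∈ P, f₀ x = ki (f x) := fun x hx => by rw [hfe x hx, hkil _ (hf₀.apply_mem hx)]
    refine ⟨l ∘ k, g₁ ∘ f₀, hk.comp hl, hf₀.comp hg₁ (fun x hx => hval x hx ▸ hQ'.mem (hfQ x hx)),
      fun x hx => ?_⟩
    have h1 := hg₁e (f x) (hfQ x hx)
    simp only [Function.comp_apply]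
    rw [hval x hx, h1, hkir _ (hg₀.apply_mem (hfQ x hx)), ← hge _ (hfQ x hx)]
  have hFrE : ∀ {P : Subgroup Ω} {f : Ω → Ω}, IsMap E P f → Fr P f := fun hf =>
    ⟨id, _, isIso_id hTS, hf, fun _ _ => rfl⟩
  suffices key : ∀ n P f, IsMap F P f → P ≤ T → Nat.card T - Nat.card P = n → Fr P f from
    fun P f hf hPT => key _ P f hf hPT rfl
  intro n
  induction n using Nat.strong_induction_on with
  | _ n ih =>
  intro P f hf hPT hn
  rcases hPT.eq_or_lt with rfl | hlt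
  · have hm := hclosed hf le_rfl
    have him : f '' (P : Set Ω) = (P : Set Ω) := by
      refine Set.Subset.antisymm ?_ fun y hy => surjOn_of_card_le hTS hf.injOn hm le_rfl y hy
      rintro _ ⟨x, hx, rfl⟩
      exact hm x hx
    exact ⟨f, id, ⟨hf, him⟩, isMap_id le_rfl, fun _ _ => rfl⟩
  have hbig : ∀ Q g, IsMap F Q g → Q ≤ T → Nat.card P < Nat.card Q → Fr Q g := fun Q g hg hQ hlt =>
    ih _ (by have := Subgroup.card_le_of_le hQ; omega) Q g hg hQ rfl
  have hTp := hS.to_le hTS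
  have hcard : ∀ {A : Subgroup Ω}, A < T → Nat.card A < Nat.card (normalizerIn T A) := by
    intro A hA
    haveI : Finite (normalizerIn T A) := finite_of_le ((normalizerIn_le T A).trans hTS)
    by_contra hle
    exact (lt_normalizerIn hTp hA).ne
      (Subgroup.eq_of_le_of_card_ge (lt_normalizerIn hTp hA).le (not_lt.mp hle))
  obtain ⟨I, hI⟩ := hf.exists_image
  have hIT : I ≤ T := fun y hy => by
    obtain ⟨x, hx, rfl⟩ := hI.exists_preimage hy
    exact hclosed hf hPT x hx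
  have hIlt : I < T := by
    refine lt_of_le_of_ne hIT fun he => hlt.ne (Subgroup.eq_of_le_of_card_ge hPT ?_)
    rw [hI.card_eq, he]
  obtain ⟨R, hR, hRn⟩ := exists_fullyNormalized (F := F) (hPT.trans hTS)
  have hRa := fullyAutomized_of_fullyNormalized hS hF hRn
  have hRr := receptive_of_fullyNormalized hS hF hRn
  obtain ⟨u, hu, huP, -⟩ := exists_normalizer_map hS hRa hRr hR
  obtain ⟨v, hv, hvI, -⟩ := exists_normalizer_map hS hRa hRr (isConj_trans (isConj_symm hI.isConj) hR)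
  have hRT : R ≤ T := fun y hy => by
    obtain ⟨x, hx, rfl⟩ := huP.exists_preimage hy
    exact hclosed huP.1 hPT x hx
  have hRlt : R < T := by
    refine lt_of_le_of_ne hRT fun he => hlt.ne (Subgroup.eq_of_le_of_card_ge hPT ?_)
    rw [isConj_card hR, he]
  have hsub : ∀ A : Subgroup Ω, normalizerIn T A ≤ normalizerIn S A := fun A => inf_le_inf_right _ hTS
  have hCu : Fr P u := by
    obtain ⟨k, g, hk, hg, he⟩ := hbig _ u (hu.mono (hsub P)) (normalizerIn_le T P) (hcard hlt)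
    exact ⟨k, g, hk, hg.mono (le_normalizerIn hPT), fun x hx => he x (le_normalizerIn hPT hx)⟩
  obtain ⟨J, hJ⟩ := (hv.mono (hsub I)).exists_image
  have hJT : J ≤ T := fun y hy => by
    obtain ⟨x, hx, rfl⟩ := hJ.exists_preimage hy
    exact hclosed hJ.1 (normalizerIn_le T I) x hx
  obtain ⟨vi, hvi, hvil, -⟩ := hJ.exists_inv
  have hRJ : R ≤ J := fun y hy => by
    obtain ⟨x, hx, rfl⟩ := hvI.exists_preimage hy
    exact hJ.mem (le_normalizerIn hIT hx)
  have hCv : Fr R vi := by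
    obtain ⟨k, g, hk, hg, he⟩ := hbig J vi hvi.1 hJT (by
      rw [← hJ.card_eq, hI.card_eq]; exact hcard hIlt)
    exact ⟨k, g, hk, hg.mono hRJ, fun x hx => he x (hRJ hx)⟩
  obtain ⟨ui, hui, huil, -⟩ := huP.exists_inv
  have hθ : IsIso F R R (v ∘ f ∘ ui) := (hui.comp hI).comp hvI
  -- the automorphisms of `R`
  have hCθ : Fr R (v ∘ f ∘ ui) := by
    obtain ⟨γ, hγ, hγe⟩ := hθ.exists_aut
    haveI := finite_of_le hRn.1
    haveI := finite_mulAut R
    let A := F.autGroup R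
    let B : Subgroup A := (E.autGroup R).subgroupOf A
    have hB : B.Normal := by
      refine ⟨fun β hβ α => ?_⟩
      have hα := (mem_autGroup hRn.1).mp α.2
      have hβi := (mem_autGroup hRT).mp (Subgroup.mem_subgroupOf.mp hβ)
      obtain ⟨χ, hχ, hχe⟩ := h R R R _ _ le_rfl hRT hβi.1 (fun x hx => hβi.mem hx) hα.1 hα
      refine Subgroup.mem_subgroupOf.mpr (autGroup_mem_of_isMap (hχ.congr fun y hy => ?_))
      obtain ⟨x, hx, rfl⟩ := hα.exists_preimage hy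
      rw [hχe x hx, autFun_of_mem _ (hα.mem hx)]
      simp only [Subgroup.coe_mul, Subgroup.coe_inv, MulAut.mul_apply]
      rw [show (⟨autFun (α : MulAut R) x, hα.mem hx⟩ : R) = (α : MulAut R) ⟨x, hx⟩ from
        Subtype.ext (autFun_of_mem _ hx),
        show ((α : MulAut R)⁻¹) ((α : MulAut R) ⟨x, hx⟩) = ⟨x, hx⟩ from (α : MulAut R).symm_apply_apply _,
        autFun_of_mem (α : MulAut R) (hβi.mem hx)]
      congr 2
      exact Subtype.ext (autFun_of_mem _ hx)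
    obtain ⟨Y, hY⟩ := hRa.2
    obtain ⟨YB, hYB⟩ : ∃ YB : Sylow p B, (YB : Subgroup B) = (Y : Subgroup A).subgroupOf B :=
      Transfer.exists_sylow_subgroupOf_normal Y B
    have htop := Sylow.normalizer_sup_eq_top (N := B) YB
    obtain ⟨n, hn, b, hb, hnb⟩ := Subgroup.mem_sup_of_normal_right.mp (htop.ge (Subgroup.mem_top ⟨γ, hγ⟩))
    have hbE : Fr R (autFun (b : MulAut R)) :=
      hFrE ((mem_autGroup hRT).mp (Subgroup.mem_subgroupOf.mp hb)).1
    have hnExt : Fr R (autFun (n : MulAut R)) := by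
      have hiso := (mem_autGroup hRn.1).mp n.2
      have hM : IsExtendable S R (autFun (n : MulAut R)) (normalizerIn T R) := by
        refine ⟨(normalizerIn_le T R).trans hTS, fun g hg => ⟨hg.2, ?_⟩⟩
        rw [← congr_autInducedBy_mem hiso (hsub R hg)]
        have hS' : conjAutHom S R ⟨g, hsub R hg⟩ ∈ autInducedBy S R := by
          rw [← range_conjAutHom]; exact ⟨_, rfl⟩
        have hE' : conjAutHom S R ⟨g, hsub R hg⟩ ∈ E.autGroup R :=
          autGroup_mem_of_isMap ((isMap_conj hRT hg.1).congr fun x hx => by rw [autFun_of_mem _ hx]; rfl)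
        let c : A := ⟨_, autInducedBy_le_autGroup hRn.1 hS'⟩
        have hc : c ∈ (YB : Subgroup B).map B.subtype := by
          rw [hYB]
          exact ⟨⟨c, Subgroup.mem_subgroupOf.mpr hE'⟩, by
            show c ∈ (Y : Subgroup A)
            rw [hY]; exact Subgroup.mem_subgroupOf.mpr hS', rfl⟩
        have h1 := (Subgroup.mem_normalizer_iff.mp hn c).mp hc
        rw [hYB, Subgroup.subgroupOf_map_subtype] at h1
        have h2 := h1.1
        rw [hY] at h2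
        have e : hiso.equiv = (n : MulAut R) := MulEquiv.ext fun x => Subtype.ext (by
          rw [hiso.equiv_apply, autFun_coe])
        rw [e]
        exact h2
      obtain ⟨f', hf', he⟩ := receptive_extend hRr hiso hM
      obtain ⟨k, g, hk, hg, hge⟩ := hbig _ f' (hf'.mono le_sup_right) (normalizerIn_le T R)
        (by rw [isConj_card hR]; exact hcard hRlt)
      exact ⟨k, g, hk, hg.mono (le_normalizerIn hRT), fun x hx =>
        (he hx).symm.trans (hge x (le_normalizerIn hRT hx))⟩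
    have hbm : ∀ x ∈ R, autFun (b : MulAut R) x ∈ R := fun x hx => by
      rw [autFun_of_mem _ hx]; exact Subtype.mem _
    obtain ⟨k, g, hk, hg, hge⟩ := hFrcomp hbE hnExt hbm
    refine ⟨k, g, hk, hg, fun x hx => ?_⟩
    rw [← hge x hx, ← autFun_mul _ _ hx, ← Subgroup.coe_mul, hnb]
    exact (hγe hx).symm
  have h1 : Fr P ((v ∘ f ∘ ui) ∘ u) := hFrcomp hCu hCθ fun x hx => huP.mem hx
  obtain ⟨k, g, hk, hg, hge⟩ := hFrcomp h1 hCv fun x hx => hθ.mem (huP.mem hx)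
  refine ⟨k, g, hk, hg, fun x hx => ?_⟩
  rw [← hge x hx]
  simp only [Function.comp_apply]
  rw [huil x hx, hvil _ (le_normalizerIn hIT (hI.mem hx))]

theorem strongInv_iff {F : FusionSystem S} {E : FusionSystem T} :
    StrongInv E F ↔ ∀ (P Q : Subgroup Ω) (hPQ : P ≤ Q) (_ : Q ≤ T) (φ : P →* Ω) (_ : φ ∈ E.Hom P)
      (hφQ : ∀ x : P, φ x ∈ Q) (ψ : Q →* Ω) (_ : ψ ∈ F.Hom Q),
      ∃ χ ∈ E.Hom ((P.subgroupOf Q).map ψ), ∀ (x : P)
        (hx : ψ (Subgroup.inclusion hPQ x) ∈ (P.subgroupOf Q).map ψ),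
        χ ⟨ψ (Subgroup.inclusion hPQ x), hx⟩ = ψ ⟨φ x, hφQ x⟩ := by
  constructor
  · intro h P Q hPQ hQT φ hφ hφQ ψ hψ
    have hiso : IsIso F P ((P.subgroupOf Q).map ψ) (extFun ψ) :=
      ⟨(isMap_extFun hψ).mono hPQ, (map_subgroupOf_coe hPQ fun x => (extFun_coe ψ x).symm).symm⟩
    obtain ⟨c, ⟨χ, hχ, hχc⟩, hce⟩ := h P _ Q _ _ hPQ hQT (isMap_extFun hφ)
      (fun x hx => by rw [extFun_of_mem φ hx]; exact hφQ _) (isMap_extFun hψ) hiso
    refine ⟨χ, hχ, fun x hx => ?_⟩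
    have h1 := hce x x.2
    rw [extFun_coe, extFun_of_mem ψ (hPQ x.2), extFun_of_mem ψ (hφQ x)] at h1
    exact (hχc _).trans h1
  · intro h P P' Q f g hPQ hQT hf hfQ hg hiso
    obtain ⟨φ, hφ, hφf⟩ := id hf
    obtain ⟨ψ, hψ, hψg⟩ := id hg
    have hφQ : ∀ x : P, φ x ∈ Q := fun x => (hφf x).symm ▸ hfQ x x.2
    obtain ⟨χ, hχ, hχe⟩ := h P Q hPQ hQT φ hφ hφQ ψ hψ
    obtain rfl : (P.subgroupOf Q).map ψ = P' :=
      SetLike.coe_injective ((map_subgroupOf_coe hPQ hψg).trans hiso.2)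
    refine ⟨extFun χ, isMap_extFun hχ, fun x hx => ?_⟩
    have hm : ψ (Subgroup.inclusion hPQ ⟨x, hx⟩) ∈ (P.subgroupOf Q).map ψ := ⟨⟨x, hPQ hx⟩, hx, rfl⟩
    calc extFun χ (g x) = χ ⟨ψ (Subgroup.inclusion hPQ ⟨x, hx⟩), hm⟩ := by
            rw [← extFun_of_mem χ hm]
            exact congrArg (extFun χ) (hψg ⟨x, hPQ hx⟩).symm
      _ = ψ ⟨φ ⟨x, hx⟩, hφQ _⟩ := hχe _ hm
      _ = g (f x) := (hψg _).trans (congrArg g (hφf _))

end Cfsg.Agent.Fusion
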