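import Cfsg.Agent.Lib.Fusion.Saturation
import Cfsg.Agent.Lib.Fusion.Closed

/-!
# The fusion system of a finite group on a Sylow subgroup
-/

set_option autoImplicit false

namespace Cfsg.Agent.Fusion

open Cfsg
open Cfsg.FusionSystem (normalizerIn centralizerIn)

open scoped Pointwise

variable {G : Type*} [Group G]

theorem isMap_group_iff {S P : Subgroup G} {f : G → G} :
    IsMap (groupFusionSystem S) P f ↔
      P ≤ S ∧ (∀ x ∈ P, f x ∈ S) ∧ ∃ g : G, ∀ x ∈ P, f x = g * x * g⁻¹ := by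
  constructor
  · rintro ⟨φ, ⟨hP, hS, g, hg⟩, hf⟩
    exact ⟨hP, fun x hx => hf ⟨x, hx⟩ ▸ hS ⟨x, hx⟩, g, fun x hx => (hf ⟨x, hx⟩).symm.trans (hg ⟨x, hx⟩)⟩
  · rintro ⟨hP, hS, g, hg⟩
    refine ⟨(MulAut.conj g).toMonoidHom.comp P.subtype, ⟨hP, fun x => ?_, g, fun x => rfl⟩, fun x => (hg x x.2).symm⟩
    have := hS x x.2
    rw [hg x x.2] at this
    exact this

/-- Conjugation of a subgroup by an element. -/
def conjSub (g : G) (P : Subgroup G) : Subgroup G := P.map (MulAut.conj g).toMonoidHom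

theorem mem_conjSub {g : G} {P : Subgroup G} {y : G} : y ∈ conjSub g P ↔ g⁻¹ * y * g ∈ P := by
  constructor
  · rintro ⟨x, hx, rfl⟩
    simpa [mul_assoc] using hx
  · intro h
    exact ⟨_, h, by simp [mul_assoc]⟩

theorem conj_mem_conjSub {g : G} {P : Subgroup G} {x : G} (h : x ∈ P) :
    g * x * g⁻¹ ∈ conjSub g P :=
  ⟨x, h, rfl⟩

theorem conjSub_conjSub (g k : G) (P : Subgroup G) : conjSub g (conjSub k P) = conjSub (g * k) P := by
  ext y
  simp [mem_conjSub, mul_assoc]

@[simp] theorem conjSub_one (P : Subgroup G) : conjSub 1 P = P := by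
  ext y
  simp [mem_conjSub]

theorem conjSub_mono {g : G} {P Q : Subgroup G} (h : P ≤ Q) : conjSub g P ≤ conjSub g Q :=
  Subgroup.map_mono h

theorem card_conjSub (g : G) (P : Subgroup G) : Nat.card (conjSub g P) = Nat.card P :=
  Nat.card_congr (P.equivMapOfInjective _ (MulAut.conj g).injective).toEquiv.symm

theorem isPGroup_conjSub {p : ℕ} {g : G} {P : Subgroup G} (h : IsPGroup p P) :
    IsPGroup p (conjSub g P) :=
  h.map _

theorem mem_normalizer_conjSub {g x : G} {P : Subgroup G}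
    (hx : x ∈ Subgroup.normalizer (P : Set G)) :
    g * x * g⁻¹ ∈ Subgroup.normalizer (conjSub g P : Set G) := by
  refine Subgroup.mem_normalizer_iff.mpr fun y => ?_
  rw [mem_conjSub, mem_conjSub, Subgroup.mem_normalizer_iff.mp hx]
  group

theorem conjSub_normalizer (g : G) (P : Subgroup G) :
    conjSub g (Subgroup.normalizer (P : Set G)) = Subgroup.normalizer (conjSub g P : Set G) := by
  apply le_antisymm
  · rintro _ ⟨x, hx, rfl⟩
    exact mem_normalizer_conjSub hx
  · intro y hy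
    have := mem_normalizer_conjSub (g := g⁻¹) hy
    rw [conjSub_conjSub, inv_mul_cancel, conjSub_one] at this
    rw [mem_conjSub]
    simpa using this

theorem conjSub_centralizer (g : G) (P : Subgroup G) :
    conjSub g (Subgroup.centralizer (P : Set G)) = Subgroup.centralizer (conjSub g P : Set G) := by
  ext y
  rw [mem_conjSub, Subgroup.mem_centralizer_iff, Subgroup.mem_centralizer_iff]
  constructor
  · rintro h z hz
    have := h _ (mem_conjSub.mp hz)
    calc z * y = g * ((g⁻¹ * z * g) * (g⁻¹ * y * g)) * g⁻¹ := by group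
      _ = g * ((g⁻¹ * y * g) * (g⁻¹ * z * g)) * g⁻¹ := by rw [this]
      _ = y * z := by group
  · rintro h x hx
    have := h _ (conj_mem_conjSub (g := g) hx)
    calc x * (g⁻¹ * y * g) = g⁻¹ * ((g * x * g⁻¹) * y) * g := by group
      _ = g⁻¹ * (y * (g * x * g⁻¹)) * g := by rw [this]
      _ = g⁻¹ * y * g * x := by group

/-- `X` is a Sylow `p`-subgroup of `N`, both subgroups of an ambient group. -/
def IsSylowIn (p : ℕ) (X N : Subgroup G) : Prop :=
  ∃ R : Sylow p N, (R : Subgroup N) = X.subgroupOf N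

section
variable [Finite G] {p : ℕ} [Fact p.Prime]

theorem isSylowIn_of_forall {X N : Subgroup G} (hX : IsPGroup p X) (hXN : X ≤ N)
    (h : ∀ Y, Y ≤ N → IsPGroup p Y → Nat.card Y ≤ Nat.card X) : IsSylowIn p X N := by
  have hp : IsPGroup p (X.subgroupOf N) := hX.comap_of_injective _ N.subtype_injective
  obtain ⟨R, hR⟩ := hp.exists_le_sylow
  refine ⟨R, (Subgroup.eq_of_le_of_card_ge hR ?_).symm⟩
  calc Nat.card (R : Subgroup N) = Nat.card ((R : Subgroup N).map N.subtype) :=
        Nat.card_congr ((R : Subgroup N).equivMapOfInjective _ N.subtype_injective).toEquiv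
    _ ≤ Nat.card X := h _ (Subgroup.map_subtype_le _) (R.isPGroup'.map _)
    _ = Nat.card (X.subgroupOf N) := (Nat.card_congr (Subgroup.subgroupOfEquivOfLe hXN).toEquiv).symm

theorem IsSylowIn.exists_conj_le {X N Y : Subgroup G} (hX : IsSylowIn p X N) (hY : Y ≤ N)
    (hYp : IsPGroup p Y) : ∃ k ∈ N, conjSub k Y ≤ X := by
  obtain ⟨R, hR⟩ := hX
  have hp : IsPGroup p (Y.subgroupOf N) := hYp.comap_of_injective _ N.subtype_injective
  obtain ⟨T, hT⟩ := hp.exists_le_sylow
  obtain ⟨k, hk⟩ := MulAction.exists_smul_eq N T R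
  refine ⟨k, k.2, ?_⟩
  rintro _ ⟨y, hy, rfl⟩
  have : k * (⟨y, hY hy⟩ : N) * k⁻¹ ∈ (R : Subgroup N) := by
    rw [← hk, Sylow.coe_subgroup_smul]
    exact ⟨_, hT (Subgroup.mem_subgroupOf.mpr hy), rfl⟩
  rw [hR] at this
  exact this

theorem IsSylowIn.card_le {X N Y : Subgroup G} (hX : IsSylowIn p X N) (hY : Y ≤ N)
    (hYp : IsPGroup p Y) : Nat.card Y ≤ Nat.card X := by
  obtain ⟨k, -, hk⟩ := hX.exists_conj_le hY hYp
  exact card_conjSub k Y ▸ Subgroup.card_le_of_le hk

theorem exists_isSylowIn {Y N : Subgroup G} (hY : Y ≤ N) (hYp : IsPGroup p Y) :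
    ∃ X, Y ≤ X ∧ X ≤ N ∧ IsPGroup p X ∧ IsSylowIn p X N := by
  have hp : IsPGroup p (Y.subgroupOf N) := hYp.comap_of_injective _ N.subtype_injective
  obtain ⟨T, hT⟩ := hp.exists_le_sylow
  refine ⟨(T : Subgroup N).map N.subtype, fun y hy => ⟨⟨y, hY hy⟩, hT hy, rfl⟩,
    Subgroup.map_subtype_le _, T.isPGroup'.map _, T, ?_⟩
  rw [Subgroup.subgroupOf, Subgroup.comap_map_eq_self_of_injective N.subtype_injective]

variable (S : Sylow p G)

theorem isPGroup_normalizerIn (P : Subgroup G) :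
    IsPGroup p (normalizerIn (S : Subgroup G) P) :=
  S.isPGroup'.to_le inf_le_left

theorem isPGroup_centralizerIn (P : Subgroup G) :
    IsPGroup p (centralizerIn (S : Subgroup G) P) :=
  S.isPGroup'.to_le inf_le_left

theorem exists_conj_le_sylow {Y : Subgroup G} (hY : IsPGroup p Y) :
    ∃ g : G, conjSub g Y ≤ S := by
  obtain ⟨T, hT⟩ := hY.exists_le_sylow
  obtain ⟨g, hg⟩ := MulAction.exists_smul_eq G T S
  refine ⟨g, ?_⟩
  rintro _ ⟨y, hy, rfl⟩
  rw [← hg, Sylow.coe_subgroup_smul]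
  exact ⟨y, hT hy, rfl⟩

/-- Every `P ≤ S` has a conjugate `Q ≤ S` with `N_S(Q)` Sylow in `N_G(Q)`. -/
theorem exists_conj_isSylowIn_normalizer {P : Subgroup G} (hP : P ≤ S) :
    ∃ g : G, conjSub g P ≤ S ∧
      IsSylowIn p (normalizerIn S (conjSub g P)) (Subgroup.normalizer (conjSub g P : Set G)) := by
  obtain ⟨T, hPT, hTN, hTp, hT⟩ := exists_isSylowIn (P.le_normalizer) (S.isPGroup'.to_le hP)
  obtain ⟨g, hg⟩ := exists_conj_le_sylow S hTp
  refine ⟨g, (conjSub_mono hPT).trans hg, isSylowIn_of_forall (isPGroup_normalizerIn S _) inf_le_right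
    fun Y hY hYp => ?_⟩
  have h1 : conjSub g T ≤ normalizerIn S (conjSub g P) :=
    le_inf hg (conjSub_normalizer g P ▸ conjSub_mono hTN)
  refine le_trans ?_ (Subgroup.card_le_of_le h1)
  rw [card_conjSub, ← card_conjSub g⁻¹ Y]
  refine hT.card_le ?_ (isPGroup_conjSub hYp)
  have := conjSub_mono (g := g⁻¹) hY
  rwa [conjSub_normalizer, conjSub_conjSub, inv_mul_cancel, conjSub_one] at this

/-- If `N_S(Q)` is Sylow in `N_G(Q)` then `C_S(Q)` is Sylow in `C_G(Q)`. -/
theorem isSylowIn_centralizer {Q : Subgroup G}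
    (h : IsSylowIn p (normalizerIn S Q) (Subgroup.normalizer (Q : Set G))) :
    IsSylowIn p (centralizerIn S Q) (Subgroup.centralizer (Q : Set G)) := by
  refine isSylowIn_of_forall (isPGroup_centralizerIn S Q) inf_le_right fun Y hY hYp => ?_
  obtain ⟨k, hk, hkY⟩ := h.exists_conj_le (hY.trans (Subgroup.centralizer_le_normalizer _)) hYp
  rw [← card_conjSub k Y]
  refine Subgroup.card_le_of_le (le_inf (hkY.trans inf_le_left) ?_)
  refine (conjSub_mono hY).trans ?_
  rw [conjSub_centralizer]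
  have hQ : conjSub k Q = Q := by
    ext y
    rw [mem_conjSub]
    have := Subgroup.mem_normalizer_iff.mp (inv_mem hk) y
    rw [inv_inv] at this
    exact this.symm
  rw [hQ]

/-- Extension lemma: `Y ≤ N_S(Q) C_G(Q)` a `p`-subgroup is conjugated into `S` by an element of `C_G(Q)`. -/
theorem exists_centralizer_conj_le {Q Y : Subgroup G}
    (h : IsSylowIn p (normalizerIn S Q) (Subgroup.normalizer (Q : Set G)))
    (hY : Y ≤ normalizerIn S Q ⊔ Subgroup.centralizer (Q : Set G)) (hYp : IsPGroup p Y) :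
    ∃ c ∈ Subgroup.centralizer (Q : Set G), conjSub c Y ≤ S := by
  let K := normalizerIn S Q ⊔ Subgroup.centralizer (Q : Set G)
  have hKN : K ≤ Subgroup.normalizer (Q : Set G) :=
    sup_le inf_le_right (Subgroup.centralizer_le_normalizer _)
  have hK : IsSylowIn p (normalizerIn S Q) K :=
    isSylowIn_of_forall (isPGroup_normalizerIn S Q) le_sup_left fun Z hZ hZp => h.card_le (hZ.trans hKN) hZp
  obtain ⟨k, hk, hkY⟩ := hK.exists_conj_le hY hYp
  have hmem : k ∈ ((normalizerIn S Q : Set G) * (Subgroup.centralizer (Q : Set G) : Set G)) := by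
    rw [← Subgroup.coe_mul_of_left_le_normalizer_right]
    · exact hk
    · intro x hx
      refine Subgroup.mem_normalizer_iff.mpr fun y => ?_
      have hxQ : conjSub x Q = Q := by
        ext z
        rw [mem_conjSub]
        have := Subgroup.mem_normalizer_iff.mp (inv_mem hx.2) z
        rw [inv_inv] at this
        exact this.symm
      have := congrArg (fun X => x * y * x⁻¹ ∈ X) (conjSub_centralizer x Q)
      simp only [hxQ, mem_conjSub] at this
      rw [← this]
      group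
  obtain ⟨n, hn, c, hc, rfl⟩ := hmem
  refine ⟨c, hc, ?_⟩
  intro y hy
  have : n * y * n⁻¹ ∈ (S : Subgroup G) := by
    refine (hkY ?_).1
    rw [mem_conjSub] at hy ⊢
    simpa [mul_assoc] using hy
  have h2 := (S : Subgroup G).mul_mem ((S : Subgroup G).mul_mem ((S : Subgroup G).inv_mem hn.1) this) hn.1
  simpa [mul_assoc] using h2

theorem isIso_conj {g : G} {P : Subgroup G} (hP : P ≤ S) (hg : conjSub g P ≤ S) :
    IsIso (groupFusionSystem (S : Subgroup G)) P (conjSub g P) (fun x => g * x * g⁻¹) :=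
  ⟨isMap_group_iff.mpr ⟨hP, fun _ hx => hg (conj_mem_conjSub hx), g, fun _ _ => rfl⟩, rfl⟩

theorem isConj_group_iff {P Q : Subgroup G} :
    (groupFusionSystem (S : Subgroup G)).IsConj P Q ↔
      P ≤ S ∧ Q ≤ S ∧ ∃ g : G, conjSub g P = Q := by
  constructor
  · intro h
    obtain ⟨f, hf⟩ := isConj_iff.mp h
    obtain ⟨-, -, g, hg⟩ := isMap_group_iff.mp hf.1
    refine ⟨hf.dom_le, hf.cod_le, g, SetLike.coe_injective ?_⟩
    rw [← hf.2]
    exact (Set.image_congr hg).symm
  · rintro ⟨hP, hQ, g, rfl⟩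
    exact (isIso_conj S hP hQ).isConj

theorem autGroup_group {P : Subgroup G} (hP : P ≤ S) :
    (groupFusionSystem (S : Subgroup G)).autGroup P = autInducedBy ⊤ P := by
  ext α
  rw [mem_autGroup hP, mem_autInducedBy]
  constructor
  · intro h
    obtain ⟨-, -, g, hg⟩ := isMap_group_iff.mp h.1
    exact ⟨g, Subgroup.mem_top g, fun x => (autFun_coe α x).symm.trans (hg x x.2)⟩
  · rintro ⟨g, -, hg⟩
    exact ⟨isMap_group_iff.mpr ⟨hP, fun x hx => by rw [autFun_of_mem α hx]; exact hP (Subtype.mem _),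
      g, fun x hx => (autFun_of_mem α hx).trans (hg ⟨x, hx⟩)⟩, autFun_image α⟩

theorem isSylowIn_autInducedBy {Q : Subgroup G}
    (h : IsSylowIn p (normalizerIn S Q) (Subgroup.normalizer (Q : Set G))) :
    IsSylowIn p (autInducedBy S Q) (autInducedBy ⊤ Q) := by
  obtain ⟨R, hR⟩ := h
  let e : ↥(Subgroup.normalizer (Q : Set G)) →* ↥(autInducedBy ⊤ Q) :=
    ((conjAutHom ⊤ Q).comp (Subgroup.inclusion (le_inf le_top le_rfl))).codRestrict _
      fun x => by rw [← range_conjAutHom]; exact ⟨_, rfl⟩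
  have he : Function.Surjective e := by
    rintro ⟨α, hα⟩
    obtain ⟨g, -, hg⟩ := mem_autInducedBy.mp hα
    exact ⟨⟨g, mem_normalizer_of_induces hg⟩, Subtype.ext (MulEquiv.ext fun x => Subtype.ext (hg x).symm)⟩
  refine ⟨R.mapSurjective he, ?_⟩
  rw [Sylow.coe_mapSurjective, hR]
  ext α
  rw [Subgroup.mem_map, Subgroup.mem_subgroupOf, mem_autInducedBy]
  constructor
  · rintro ⟨x, hx, rfl⟩
    exact ⟨x, (Subgroup.mem_subgroupOf.mp hx).1, fun _ => rfl⟩
  · rintro ⟨g, hg, hgα⟩
    have hgN := mem_normalizer_of_induces hgα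
    exact ⟨⟨g, hgN⟩, Subgroup.mem_subgroupOf.mpr ⟨hg, hgN⟩,
      Subtype.ext (MulEquiv.ext fun x => Subtype.ext (hgα x).symm)⟩

theorem fullyAutomized_group {Q : Subgroup G} (hQ : Q ≤ S)
    (h : IsSylowIn p (normalizerIn S Q) (Subgroup.normalizer (Q : Set G))) :
    (groupFusionSystem (S : Subgroup G)).IsFullyAutomized p Q := by
  refine ⟨hQ, ?_⟩
  rw [autGroup_group S hQ]
  exact isSylowIn_autInducedBy S h

theorem receptive_group {Q : Subgroup G} (hQ : Q ≤ S)
    (h : IsSylowIn p (normalizerIn S Q) (Subgroup.normalizer (Q : Set G))) :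
    (groupFusionSystem (S : Subgroup G)).IsReceptive Q := by
  refine isReceptive_of hQ fun P f hf M hPM hM => ?_
  obtain ⟨hPS, -, g, hg⟩ := isMap_group_iff.mp hf.1
  have hPQ : conjSub g P = Q := SetLike.coe_injective (hf.2 ▸ (Set.image_congr hg).symm)
  have hY : conjSub g M ≤ normalizerIn S Q ⊔ Subgroup.centralizer (Q : Set G) := by
    rintro _ ⟨m, hm, rfl⟩
    obtain ⟨hmP, k, hk, H⟩ := hM.2 m hm
    have hact : ∀ y ∈ Q, (g * m * g⁻¹) * y * (g * m * g⁻¹)⁻¹ = k * y * k⁻¹ := by
      intro y hy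
      obtain ⟨x, hx, rfl⟩ := hf.exists_preimage hy
      rw [← H x hx, hg x hx, hg _ (conj_mem_of_mem_normalizer hmP hx)]
      group
    have hgm : g * m * g⁻¹ ∈ Subgroup.normalizer (Q : Set G) := hPQ ▸ mem_normalizer_conjSub hmP
    have hc : k⁻¹ * (g * m * g⁻¹) ∈ Subgroup.centralizer (Q : Set G) := by
      refine Subgroup.mem_centralizer_iff.mpr fun y hy => ?_
      calc y * (k⁻¹ * (g * m * g⁻¹)) = k⁻¹ * (k * y * k⁻¹) * (g * m * g⁻¹) := by group
        _ = _ := by rw [← hact y hy]; group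
    have hkN : k ∈ normalizerIn (S : Subgroup G) Q := by
      refine ⟨hk, ?_⟩
      have : k = (g * m * g⁻¹) * (k⁻¹ * (g * m * g⁻¹))⁻¹ := by group
      rw [this]
      exact Subgroup.mul_mem _ hgm (Subgroup.inv_mem _ (Subgroup.centralizer_le_normalizer _ hc))
    have hfin : (MulAut.conj g).toMonoidHom m = k * (k⁻¹ * (g * m * g⁻¹)) := by
      simp
    rw [hfin]
    exact Subgroup.mul_mem_sup hkN hc
  obtain ⟨c, hc, hcY⟩ := exists_centralizer_conj_le S h hY (isPGroup_conjSub (S.isPGroup'.to_le hM.1))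
  refine ⟨fun x => (c * g) * x * (c * g)⁻¹, isMap_group_iff.mpr ⟨hM.1, fun x hx => hcY ?_, _, fun _ _ => rfl⟩,
    fun x hx => ?_⟩
  · rw [conjSub_conjSub]
    exact conj_mem_conjSub hx
  · have hx' : g * x * g⁻¹ ∈ Q := hPQ ▸ conj_mem_conjSub hx
    rw [hg x hx]
    calc (c * g) * x * (c * g)⁻¹ = c * (g * x * g⁻¹) * c⁻¹ := by group
      _ = _ := by rw [← Subgroup.mem_centralizer_iff.mp hc _ hx']; group

/-- The fusion system of a finite group on a Sylow subgroup is saturated. -/
theorem groupFusionSystem_isSaturated :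
    (groupFusionSystem (S : Subgroup G)).IsSaturated p := by
  intro P hP
  obtain ⟨g, hg, h⟩ := exists_conj_isSylowIn_normalizer S hP
  exact ⟨_, (isIso_conj S hP hg).isConj, fullyAutomized_group S hg h, receptive_group S hg h⟩

theorem fullyNormalized_group_iff {P : Subgroup G} (hP : P ≤ S) :
    (groupFusionSystem (S : Subgroup G)).IsFullyNormalized P ↔
      IsSylowIn p (normalizerIn S P) (Subgroup.normalizer (P : Set G)) := by
  constructor
  · intro h
    obtain ⟨g, hg, hQ⟩ := exists_conj_isSylowIn_normalizer S hP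
    refine isSylowIn_of_forall (isPGroup_normalizerIn S P) inf_le_right fun Y hY hYp => ?_
    refine le_trans ?_ (h.2 _ (isIso_conj S hP hg).isConj)
    rw [← card_conjSub g Y]
    exact hQ.card_le (conjSub_normalizer g P ▸ conjSub_mono hY) (isPGroup_conjSub hYp)
  · intro h
    refine ⟨hP, fun Q hQ => ?_⟩
    obtain ⟨-, -, g, rfl⟩ := (isConj_group_iff S).mp hQ
    rw [← card_conjSub g⁻¹ (normalizerIn S (conjSub g P))]
    refine h.card_le ?_ (isPGroup_conjSub (isPGroup_normalizerIn S _))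
    refine (conjSub_mono inf_le_right).trans ?_
    rw [conjSub_normalizer, conjSub_conjSub, inv_mul_cancel, conjSub_one]

theorem fullyCentralized_group_iff {P : Subgroup G} (hP : P ≤ S) :
    (groupFusionSystem (S : Subgroup G)).IsFullyCentralized P ↔
      IsSylowIn p (centralizerIn S P) (Subgroup.centralizer (P : Set G)) := by
  constructor
  · intro h
    obtain ⟨g, hg, hQ⟩ := exists_conj_isSylowIn_normalizer S hP
    refine isSylowIn_of_forall (isPGroup_centralizerIn S P) inf_le_right fun Y hY hYp => ?_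
    refine le_trans ?_ (h.2 _ (isIso_conj S hP hg).isConj)
    rw [← card_conjSub g Y]
    exact (isSylowIn_centralizer S hQ).card_le (conjSub_centralizer g P ▸ conjSub_mono hY) (isPGroup_conjSub hYp)
  · intro h
    refine ⟨hP, fun Q hQ => ?_⟩
    obtain ⟨-, -, g, rfl⟩ := (isConj_group_iff S).mp hQ
    rw [← card_conjSub g⁻¹ (centralizerIn S (conjSub g P))]
    refine h.card_le ?_ (isPGroup_conjSub (isPGroup_centralizerIn S _))
    refine (conjSub_mono inf_le_right).trans ?_
    rw [conjSub_centralizer, conjSub_conjSub, inv_mul_cancel, conjSub_one]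

end

end Cfsg.Agent.Fusion
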