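import Cfsg.Agent.Lib.Fusion.KNorm
import Cfsg.Agent.Lib.Fusion.Subsystem

/-!
# Normalizer and centralizer systems of fully normalized / centralized subgroups are saturated
-/

set_option autoImplicit false
set_option maxHeartbeats 400000

namespace Cfsg.Agent.Fusion

open Cfsg
open Cfsg.FusionSystem (normalizerIn centralizerIn)
open scoped Pointwise

variable {Ω : Type*} [Group Ω] {S : Subgroup Ω} {F : FusionSystem S} {p : ℕ} [Fact p.Prime]

/-- A group `K` of automorphisms of `Q`, as a predicate on functions. -/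
structure IsQCond (Q : Subgroup Ω) (C : (Ω → Ω) → Prop) : Prop where
  congr : ∀ {f g}, C f → Set.EqOn f g (Q : Set Ω) → C g
  image : ∀ {f}, C f → f '' (Q : Set Ω) = (Q : Set Ω)
  id_mem : C id
  comp : ∀ {f g}, C f → C g → C (g ∘ f)
  inv : ∀ {f g}, C f → (∀ x ∈ Q, g (f x) = x) → C g

variable {Q : Subgroup Ω} {C : (Ω → Ω) → Prop}

theorem IsQCond.mem (hC : IsQCond Q C) {f : Ω → Ω} (h : C f) {x : Ω} (hx : x ∈ Q) : f x ∈ Q := by
  rw [← SetLike.mem_coe, ← hC.image h]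
  exact ⟨x, hx, rfl⟩

/-- Automorphisms of `R` stabilising `P` and satisfying `C` on `Q`. -/
def qK (hC : IsQCond Q C) (R P : Subgroup Ω) (hP : P ≤ R) (hQ : Q ≤ R) : Subgroup (MulAut R) where
  carrier := {α | autFun α '' (P : Set Ω) = (P : Set Ω) ∧ C (autFun α)}
  one_mem' := ⟨(Set.image_congr fun x hx => autFun_one (hP hx)).trans (Set.image_id _),
    hC.congr hC.id_mem fun _ hx => (autFun_one (hQ hx)).symm⟩
  mul_mem' {α β} ha hb := ⟨by
      rw [Set.image_congr fun x hx => autFun_mul α β (hP hx), Set.image_comp, hb.1, ha.1],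
    hC.congr (hC.comp hb.2 ha.2) fun x hx => (autFun_mul α β (hQ hx)).symm⟩
  inv_mem' {α} ha := by
    have hl : ∀ x ∈ R, autFun α⁻¹ (autFun α x) = x := fun x hx => by
      rw [autFun_of_mem α hx, autFun_coe]
      exact congrArg Subtype.val (α.symm_apply_apply ⟨x, hx⟩)
    refine ⟨?_, hC.inv ha.2 fun x hx => hl x (hQ hx)⟩
    conv_lhs => rw [← ha.1]
    rw [← Set.image_comp]
    exact (Set.image_congr fun x hx => hl x (hP hx)).trans (Set.image_id' _)

theorem mem_qK {hC : IsQCond Q C} {R P : Subgroup Ω} {hP : P ≤ R} {hQ : Q ≤ R} {α : MulAut R} :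
    α ∈ qK hC R P hP hQ ↔ autFun α '' (P : Set Ω) = (P : Set Ω) ∧ C (autFun α) := Iff.rfl

theorem congr_mem_qK (hC : IsQCond Q C) {R R' P P' : Subgroup Ω} {hP : P ≤ R} {hP' : P' ≤ R'}
    {hQ : Q ≤ R} {hQ' : Q ≤ R'} {f : Ω → Ω} (hf : IsIso F R R' f) (hfP : f '' (P : Set Ω) = (P' : Set Ω))
    (hfC : C f) {α : MulAut R} (h : α ∈ qK hC R P hP hQ) :
    MulAut.congr hf.equiv α ∈ qK hC R' P' hP' hQ' := by
  obtain ⟨g, hg, hgl, -⟩ := hf.exists_inv
  obtain ⟨h1, h2⟩ := h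
  have heq : Set.EqOn (f ∘ autFun α ∘ g) (autFun (MulAut.congr hf.equiv α)) R' := by
    intro y hy
    obtain ⟨x, hx, rfl⟩ := hf.exists_preimage hy
    simp only [Function.comp_apply]
    rw [hgl x hx, autFun_of_mem α hx, autFun_of_mem _ hy]
    exact (congr_apply_equiv hf α ⟨x, hx⟩).symm
  refine ⟨?_, hC.congr (hC.comp (hC.comp (hC.inv hfC fun x hx => hgl x (hQ hx)) h2) hfC) fun x hx => heq (hQ' hx)⟩
  rw [← Set.image_congr fun x hx => heq (hP' hx), Set.image_comp, Set.image_comp]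
  have : g '' (P' : Set Ω) = (P : Set Ω) := by
    rw [← hfP, ← Set.image_comp]
    exact (Set.image_congr fun x hx => hgl x (hP hx)).trans (Set.image_id' _)
  rw [this, h1, hfP]

theorem map_qK (hC : IsQCond Q C) {R R' P P' : Subgroup Ω} {hP : P ≤ R} {hP' : P' ≤ R'}
    {hQ : Q ≤ R} {hQ' : Q ≤ R'} {f : Ω → Ω} (hf : IsIso F R R' f) (hfP : f '' (P : Set Ω) = (P' : Set Ω))
    (hfC : C f) : (qK hC R P hP hQ).map (MulAut.congr hf.equiv).toMonoidHom = qK hC R' P' hP' hQ' := by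
  refine le_antisymm ?_ fun β hβ => ⟨(MulAut.congr hf.equiv).symm β, ?_, MulEquiv.apply_symm_apply _ _⟩
  · rintro _ ⟨α, hα, rfl⟩
    exact congr_mem_qK hC hf hfP hfC hα
  · obtain ⟨g, hg, hgl, -⟩ := hf.exists_inv
    have hgP : g '' (P' : Set Ω) = (P : Set Ω) := by
      rw [← hfP, ← Set.image_comp]
      exact (Set.image_congr fun x hx => hgl x (hP hx)).trans (Set.image_id' _)
    have := congr_mem_qK hC (hP' := hP) (hQ' := hQ) hg hgP (hC.inv hfC fun x hx => hgl x (hQ hx)) hβ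
    rw [equiv_symm hf hg hgl] at this
    exact this

theorem exists_sylow_eq {A : Type*} [Group A] [Finite A] (X : Subgroup A) (hX : IsPGroup p X)
    (h : ∀ Y : Subgroup A, IsPGroup p Y → Nat.card Y ≤ Nat.card X) :
    ∃ R : Sylow p A, (R : Subgroup A) = X := by
  obtain ⟨R, hR⟩ := hX.exists_le_sylow
  exact ⟨R, (Subgroup.eq_of_le_of_card_ge hR (h _ R.isPGroup')).symm⟩

theorem conjAutHom_mem_qK (hC : IsQCond Q C) {N : Subgroup Ω}
    (hN : ∀ g, g ∈ N ↔ g ∈ S ∧ C fun x => g * x * g⁻¹) {R P : Subgroup Ω} {hP : P ≤ R} {hQ : Q ≤ R}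
    {g : Ω} (hg : g ∈ normalizerIn S R) :
    conjAutHom S R ⟨g, hg⟩ ∈ qK hC R P hP hQ ↔ g ∈ Subgroup.normalizer (P : Set Ω) ∧ g ∈ N := by
  have heq : Set.EqOn (autFun (conjAutHom S R ⟨g, hg⟩)) (fun x => g * x * g⁻¹) R := fun x hx => by
    rw [autFun_of_mem _ hx]
    rfl
  rw [mem_qK, hN]
  constructor
  · rintro ⟨h1, h2⟩
    rw [Set.image_congr fun x hx => heq (hP hx)] at h1
    refine ⟨Subgroup.mem_normalizer_iff.mpr fun x => ⟨fun hx => ?_, fun hx => ?_⟩, hg.1,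
      hC.congr h2 fun x hx => heq (hQ hx)⟩
    · rw [← SetLike.mem_coe, ← h1]
      exact ⟨x, hx, rfl⟩
    · rw [← SetLike.mem_coe, ← h1] at hx
      obtain ⟨y, hy, hyx⟩ := hx
      rwa [← mul_left_cancel (mul_right_cancel hyx)]
  · rintro ⟨h1, -, h2⟩
    exact ⟨(Set.image_congr fun x hx => heq (hP hx)).trans (image_conj_eq_self h1),
      hC.congr h2 fun x hx => (heq (hQ hx)).symm⟩

theorem mem_normalizer_of_qCond (hC : IsQCond Q C) {g : Ω} (h : C fun x => g * x * g⁻¹) :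
    g ∈ Subgroup.normalizer (Q : Set Ω) := by
  refine Subgroup.mem_normalizer_iff.mpr fun x => ⟨fun hx => hC.mem h hx, fun hx => ?_⟩
  rw [← SetLike.mem_coe, ← hC.image h] at hx
  obtain ⟨y, hy, hyx⟩ := hx
  rwa [← mul_left_cancel (mul_right_cancel hyx)]

theorem mem_normalizer_sup {P Q : Subgroup Ω} {g : Ω} (h1 : g ∈ Subgroup.normalizer (P : Set Ω))
    (h2 : g ∈ Subgroup.normalizer (Q : Set Ω)) : g ∈ Subgroup.normalizer ((P ⊔ Q : Subgroup Ω) : Set Ω) := by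
  have key : ∀ a : Ω, a ∈ Subgroup.normalizer (P : Set Ω) → a ∈ Subgroup.normalizer (Q : Set Ω) →
      ∀ x ∈ P ⊔ Q, a * x * a⁻¹ ∈ P ⊔ Q := by
    intro a ha hb x hx
    have : P ⊔ Q ≤ (P ⊔ Q).comap (MulAut.conj a).toMonoidHom := sup_le
      (fun y hy => Subgroup.mem_sup_left (conj_mem_of_mem_normalizer ha hy))
      (fun y hy => Subgroup.mem_sup_right (conj_mem_of_mem_normalizer hb hy))
    exact this hx
  refine Subgroup.mem_normalizer_iff.mpr fun x => ⟨key g h1 h2 x, fun hx => ?_⟩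
  have := key g⁻¹ (Subgroup.inv_mem _ h1) (Subgroup.inv_mem _ h2) _ hx
  simpa [mul_assoc] using this

theorem mem_normalizerIn_sup (hC : IsQCond Q C) {N : Subgroup Ω}
    (hN : ∀ g, g ∈ N ↔ g ∈ S ∧ C fun x => g * x * g⁻¹) {P : Subgroup Ω} {g : Ω} (hg : g ∈ N)
    (hgP : g ∈ Subgroup.normalizer (P : Set Ω)) : g ∈ normalizerIn S (P ⊔ Q) :=
  ⟨((hN g).mp hg).1, mem_normalizer_sup hgP (mem_normalizer_of_qCond hC ((hN g).mp hg).2)⟩

/-- Saturation of the `K`-normalizer system of a fully `K`-normalized subgroup. -/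
theorem qSystem_isSaturated [Finite S] (hS : IsPGroup p S) (hF : F.IsSaturated p) (hQS : Q ≤ S)
    (hC : IsQCond Q C) {N : Subgroup Ω} (hN : ∀ g, g ∈ N ↔ g ∈ S ∧ C fun x => g * x * g⁻¹)
    (hred : ∀ Q₁ φ, IsIso F Q Q₁ φ → ∀ M ≤ S, (∀ g ∈ M, g ∈ Subgroup.normalizer (Q₁ : Set Ω) ∧
      ∃ c, C c ∧ ∀ x ∈ Q, φ (c x) = g * φ x * g⁻¹) → ∃ χ, IsMap F (Q₁ ⊔ M) χ ∧ C (χ ∘ φ))
    (E : FusionSystem N)
    (hE : ∀ P f, IsMap E P f ↔ IsMap F P f ∧ P ≤ N ∧ (∀ x ∈ P, f x ∈ N) ∧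
      ∃ f', IsMap F (P ⊔ Q) f' ∧ Set.EqOn f' f P ∧ C f') : E.IsSaturated p := by
  intro P hPN
  have hNS : N ≤ S := fun g hg => ((hN g).mp hg).1
  have hR₀ : P ⊔ Q ≤ S := sup_le (hPN.trans hNS) hQS
  let K₀ := qK hC (P ⊔ Q) P le_sup_left le_sup_right
  -- a map maximising the size of the normalizer
  let good : ℕ → Prop := fun n => ∃ R' φ, ∃ h : IsIso F (P ⊔ Q) R' φ,
    Nat.card S - Nat.card (kNorm S R' (K₀.map (MulAut.congr h.equiv).toMonoidHom)) = n
  have hex : ∃ n, good n := ⟨_, _, _, isIso_id hR₀, rfl⟩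
  classical
  obtain ⟨R₁, φ, hφ, hn⟩ := Nat.find_spec hex
  set M := kNorm S R₁ (K₀.map (MulAut.congr hφ.equiv).toMonoidHom) with hMdef
  have hMmax : ∀ R' φ' (h : IsIso F (P ⊔ Q) R' φ'),
      Nat.card (kNorm S R' (K₀.map (MulAut.congr h.equiv).toMonoidHom)) ≤ Nat.card M := by
    intro R' φ' h
    have h1 := Nat.find_min' hex ⟨R', φ', h, rfl⟩
    have h2 : Nat.card (kNorm S R' (K₀.map (MulAut.congr h.equiv).toMonoidHom)) ≤ Nat.card S :=
      Subgroup.card_le_of_le ((kNorm_le _ _).trans inf_le_left)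
    have h3 : Nat.card M ≤ Nat.card S := Subgroup.card_le_of_le ((kNorm_le _ _).trans inf_le_left)
    omega
  -- what the elements of `M` look like
  have hM : ∀ g ∈ M, ∃ c : MulAut ↥(P ⊔ Q), c ∈ K₀ ∧ g ∈ normalizerIn S R₁ ∧
      ∀ x ∈ P ⊔ Q, φ (autFun c x) = g * φ x * g⁻¹ := by
    intro g hg
    obtain ⟨hgR, c, hc, hcg⟩ := mem_kNorm.mp hg
    refine ⟨c, hc, hgR, fun x hx => ?_⟩
    rw [autFun_of_mem c hx, ← congr_apply_equiv hφ]
    show (((MulAut.congr hφ.equiv).toMonoidHom c) (hφ.equiv ⟨x, hx⟩) : Ω) = _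
    rw [hcg]
    rfl
  obtain ⟨Q₁, hQ₁R, hφQ⟩ := hφ.restrict (le_sup_right (a := P) (b := Q))
  obtain ⟨χ, hχ, hχC⟩ := hred Q₁ φ hφQ M ((kNorm_le _ _).trans inf_le_left) (by
    intro g hg
    obtain ⟨c, hc, hgR, hcg⟩ := hM g hg
    refine ⟨Subgroup.mem_normalizer_iff.mpr fun y => ?_, _, hc.2, fun x hx => hcg x (le_sup_right (a := P) hx)⟩
    constructor
    · intro hy
      obtain ⟨x, hx, rfl⟩ := hφQ.exists_preimage hy
      rw [← hcg x (le_sup_right (a := P) hx)]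
      exact hφQ.mem (hC.mem hc.2 hx)
    · intro hy
      obtain ⟨x, hx, hxy⟩ := hφQ.exists_preimage hy
      rw [← SetLike.mem_coe, ← hC.image hc.2] at hx
      obtain ⟨z, hz, rfl⟩ := hx
      rw [hcg z (le_sup_right (a := P) hz)] at hxy
      rw [← mul_left_cancel (mul_right_cancel hxy)]
      exact hφQ.mem hz)
  have hPM : ∀ x ∈ P, φ x ∈ M := by
    intro x hx
    have hxS : x ∈ normalizerIn S (P ⊔ Q) := mem_normalizerIn_sup hC hN (hPN hx) (P.le_normalizer hx)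
    have hxR : φ x ∈ normalizerIn S R₁ :=
      le_normalizerIn hφ.cod_le (hφ.mem (le_sup_left (b := Q) hx))
    refine mem_kNorm.mpr ⟨hxR, conjAutHom S _ ⟨x, hxS⟩,
      (conjAutHom_mem_qK hC hN hxS).mpr ⟨P.le_normalizer hx, hPN hx⟩, ?_⟩
    refine MulEquiv.ext fun y => Subtype.ext ?_
    obtain ⟨z, rfl⟩ := hφ.equiv.surjective y
    show ((MulAut.congr hφ.equiv (conjAutHom S _ ⟨x, hxS⟩)) (hφ.equiv z) : Ω) = _
    rw [congr_apply_equiv, conjAutHom_apply, conjAutHom_apply, hφ.equiv_apply,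
      hφ.1.map_conj (le_sup_left (b := Q) hx) z.2]
  have hR₁ : R₁ ≤ Q₁ ⊔ M := by
    intro y hy
    obtain ⟨x, hx, rfl⟩ := hφ.exists_preimage hy
    exact isMap_mem_sup hφ.1 le_sup_left le_sup_right (fun z hz => Subgroup.mem_sup_right (hPM z hz))
      (fun z hz => Subgroup.mem_sup_left (hφQ.mem hz)) x hx
  obtain ⟨R₂, hR₂'⟩ := (hχ.mono hR₁).exists_image
  have hφ₂ : IsIso F (P ⊔ Q) R₂ (χ ∘ φ) := hφ.comp hR₂'
  obtain ⟨P₂, hP₂le, hφP⟩ := hφ₂.restrict (le_sup_left (b := Q))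
  have hQR₂ : Q ≤ R₂ := fun y hy => by
    rw [← SetLike.mem_coe, ← hC.image hχC] at hy
    obtain ⟨x, hx, rfl⟩ := hy
    exact hφ₂.mem (le_sup_right (a := P) hx)
  have hR₂ : R₂ = P₂ ⊔ Q :=
    hφ₂.cod_unique (IsIso.sup hφ₂.1 hφP.2 (hC.image hχC))
  subst hR₂
  -- `P₂` lies in `N`
  have hP₂N : P₂ ≤ N := by
    intro y hy
    obtain ⟨x, hx, rfl⟩ := hφP.exists_preimage hy
    obtain ⟨i, hi, hil, hir⟩ := hφ₂.exists_inv
    refine (hN _).mpr ⟨hφP.cod_le hy, hC.congr (hC.comp (hC.comp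
      (hC.inv hχC fun z hz => hil z (le_sup_right (a := P) hz)) ((hN x).mp (hPN hx)).2) hχC) fun z hz => ?_⟩
    simp only [Function.comp_apply]
    have h2 := hφ₂.1.map_conj (le_sup_left (b := Q) hx) (hi.mem (le_sup_right (a := P₂) hz))
    simp only [Function.comp_apply] at h2
    rw [h2, show χ (φ (i z)) = z from hir z (le_sup_right (a := P₂) hz)]
  have hEP : E.IsConj P P₂ := by
    refine IsIso.isConj (f := χ ∘ φ) ⟨(hE P _).mpr ⟨hφP.1, hPN, fun x hx => hP₂N (hφP.mem hx),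
      χ ∘ φ, hφ₂.1, fun _ _ => rfl, hχC⟩, hφP.2⟩
  -- the weight of the new map is maximal
  set K₂ := qK hC (P₂ ⊔ Q) P₂ le_sup_left le_sup_right with hK₂
  have hK : K₀.map (MulAut.congr hφ₂.equiv).toMonoidHom = K₂ := map_qK hC hφ₂ hφP.2 hχC
  have hw : Nat.card M ≤ Nat.card (kNorm S (P₂ ⊔ Q) K₂) := by
    refine card_le_of_injOn ((kNorm_le _ _).trans inf_le_left)
      (hχ.injOn.mono fun g hg => le_sup_right (a := Q₁) hg) fun g hg => ?_
    obtain ⟨c, hc, hgR, hcg⟩ := hM g hg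
    have hgN : χ g ∈ normalizerIn S (P₂ ⊔ Q) :=
      map_mem_normalizer hχ hR₁ hR₂'.2 (le_sup_right (a := Q₁) hg) hgR.2
    refine mem_kNorm.mpr ⟨hgN, ?_⟩
    rw [← hK]
    refine ⟨c, hc, MulEquiv.ext fun y => Subtype.ext ?_⟩
    obtain ⟨z, rfl⟩ := hφ₂.equiv.surjective y
    show ((MulAut.congr hφ₂.equiv c) (hφ₂.equiv z) : Ω) = _
    rw [congr_apply_equiv, conjAutHom_apply, hφ₂.equiv_apply]
    simp only [Function.comp_apply]
    rw [← autFun_coe, hcg z z.2, hχ.map_conj (le_sup_right (a := Q₁) hg) (hR₁ (hφ.mem z.2))]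
  have hR₂S : P₂ ⊔ Q ≤ S := hφ₂.cod_le
  obtain ⟨hfc, hsyl⟩ := kNorm_max hS hF hR₂S K₂ fun R' ξ hξ => by
    rw [← hK, ← map_congr_comp hφ₂ hξ]
    exact ((hMmax _ _ (hφ₂.comp hξ))).trans (hK ▸ hw)
  have hrec := receptive_of_fullyCentralized hS hF hfc
  haveI := finite_of_le hR₂S
  haveI := finite_mulAut ↥(P₂ ⊔ Q)
  -- restriction to `P₂`
  let A : Subgroup (MulAut ↥(P₂ ⊔ Q)) := F.autGroup (P₂ ⊔ Q) ⊓ K₂
  have hAP : ∀ α : A, IsIso F P₂ P₂ (autFun (α : MulAut ↥(P₂ ⊔ Q))) := fun α =>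
    ⟨((mem_autGroup hR₂S).mp α.2.1).1.mono le_sup_left, α.2.2.1⟩
  let ρ : A →* MulAut P₂ :=
    { toFun := fun α => (hAP α).equiv
      map_one' := MulEquiv.ext fun x => Subtype.ext (autFun_one (le_sup_left (b := Q) x.2))
      map_mul' := fun α β => MulEquiv.ext fun x => Subtype.ext
        (autFun_mul (α : MulAut ↥(P₂ ⊔ Q)) β (le_sup_left (b := Q) x.2)) }
  have hρ : ∀ (α : A) (x : P₂), (ρ α x : Ω) = autFun (α : MulAut ↥(P₂ ⊔ Q)) x := fun α x => rfl
  have hEaut : ∀ α : A, ρ α ∈ E.autGroup P₂ := fun α => autGroup_mem_of_isMap ((hE _ _).mpr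
    ⟨(hAP α).1.congr fun x hx => ((autFun_of_mem (ρ α) hx).trans (hρ α ⟨x, hx⟩)).symm, hP₂N,
      fun x hx => by rw [autFun_of_mem _ hx]; exact hP₂N (Subtype.mem _),
      autFun (α : MulAut ↥(P₂ ⊔ Q)), ((mem_autGroup hR₂S).mp α.2.1).1,
      fun x hx => ((autFun_of_mem (ρ α) hx).trans (hρ α ⟨x, hx⟩)).symm, α.2.2.2⟩)
  let ρ' : A →* E.autGroup P₂ := ρ.codRestrict _ hEaut
  have hρ's : Function.Surjective ρ' := by
    rintro ⟨β, hβ⟩
    obtain ⟨hβ', himg⟩ := (mem_autGroup hP₂N).mp hβ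
    obtain ⟨-, -, -, f', hf', he, hCf⟩ := (hE _ _).mp hβ'
    have hiso : IsIso F (P₂ ⊔ Q) (P₂ ⊔ Q) f' :=
      IsIso.sup hf' ((Set.image_congr he).trans himg) (hC.image hCf)
    obtain ⟨α, hα, hαe⟩ := hiso.exists_aut
    refine ⟨⟨α, hα, (Set.image_congr fun x hx => (hαe (le_sup_left (b := Q) hx)).trans (he hx)).trans himg,
      hC.congr hCf fun x hx => (hαe (le_sup_right (a := P₂) hx)).symm⟩,
      Subtype.ext (MulEquiv.ext fun x => Subtype.ext ?_)⟩
    show autFun α x = _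
    rw [hαe (le_sup_left (b := Q) x.2), he x.2, autFun_coe]
  let AS : Subgroup A := (autInducedBy S (P₂ ⊔ Q) ⊓ K₂).subgroupOf A
  have hAScard : Nat.card AS = Nat.card ↥(autInducedBy S (P₂ ⊔ Q) ⊓ K₂) :=
    Nat.card_congr (Subgroup.subgroupOfEquivOfLe
      (inf_le_inf_right K₂ (autInducedBy_le_autGroup hR₂S))).toEquiv
  have hASp : IsPGroup p AS := by
    have h1 : IsPGroup p (autInducedBy S (P₂ ⊔ Q)) :=
      range_conjAutHom S (P₂ ⊔ Q) ▸ (hS.to_le (normalizerIn_le S _)).of_surjective _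
        (conjAutHom S _).rangeRestrict_surjective
    exact (h1.to_le inf_le_left).comap_of_injective _ A.subtype_injective
  have hASmax : ∀ Y : Subgroup A, IsPGroup p Y → Nat.card Y ≤ Nat.card AS := fun Y hY => by
    rw [hAScard, Nat.card_congr (Y.equivMapOfInjective _ A.subtype_injective).toEquiv]
    exact hsyl _ (Subgroup.map_subtype_le _) (hY.map _)
  obtain ⟨T, hT⟩ := exists_sylow_eq AS hASp hASmax
  refine ⟨P₂, hEP, ⟨hP₂N, T.mapSurjective hρ's, ?_⟩, ?_⟩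
  · rw [Sylow.coe_mapSurjective, hT]
    ext β
    rw [Subgroup.mem_map, Subgroup.mem_subgroupOf, mem_autInducedBy]
    constructor
    · rintro ⟨α, hα, rfl⟩
      obtain ⟨hα1, hα2⟩ := Subgroup.mem_subgroupOf.mp hα
      obtain ⟨g, hg, hgα⟩ := mem_autInducedBy.mp hα1
      have hgR : g ∈ normalizerIn S (P₂ ⊔ Q) := ⟨hg, mem_normalizer_of_induces hgα⟩
      have e : (α : MulAut ↥(P₂ ⊔ Q)) = conjAutHom S _ ⟨g, hgR⟩ :=
        MulEquiv.ext fun x => Subtype.ext (hgα x)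
      rw [e] at hα2
      refine ⟨g, ((conjAutHom_mem_qK hC hN hgR).mp hα2).2, fun x => ?_⟩
      show autFun (α : MulAut ↥(P₂ ⊔ Q)) x = _
      rw [autFun_of_mem _ (le_sup_left (b := Q) x.2)]
      exact hgα _
    · rintro ⟨g, hg, hgβ⟩
      have hgP := mem_normalizer_of_induces hgβ
      have hgR := mem_normalizerIn_sup hC hN hg hgP
      have hK2 := (conjAutHom_mem_qK hC hN (hP := le_sup_left) (hQ := le_sup_right) hgR).mpr ⟨hgP, hg⟩
      have hind : conjAutHom S (P₂ ⊔ Q) ⟨g, hgR⟩ ∈ autInducedBy S (P₂ ⊔ Q) := by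
        rw [← range_conjAutHom]; exact ⟨_, rfl⟩
      refine ⟨⟨_, autInducedBy_le_autGroup hR₂S hind, hK2⟩, Subgroup.mem_subgroupOf.mpr ⟨hind, hK2⟩,
        Subtype.ext (MulEquiv.ext fun x => Subtype.ext ?_)⟩
      show autFun (conjAutHom S (P₂ ⊔ Q) ⟨g, hgR⟩) x = _
      rw [autFun_of_mem _ (le_sup_left (b := Q) x.2)]
      exact (hgβ x).symm
  · refine isReceptive_of hP₂N fun P' θ hθ M' hPM' hM' => ?_
    obtain ⟨hθF, hP'N, hθN, θ', hθ', hθe, hθC⟩ := (hE _ _).mp hθ.1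
    have hθP : θ' '' (P' : Set Ω) = (P₂ : Set Ω) := (Set.image_congr hθe).trans hθ.2
    have hθR : IsIso F (P' ⊔ Q) (P₂ ⊔ Q) θ' := IsIso.sup hθ' hθP (hC.image hθC)
    have hM'R : M' ≤ normalizerIn S (P' ⊔ Q) := fun g hg =>
      mem_normalizerIn_sup hC hN (hM'.1 hg) (hM'.2 g hg).1
    have hmemA : ∀ g (hg : g ∈ M'), MulAut.congr hθR.equiv (conjAutHom S _ ⟨g, hM'R hg⟩) ∈ A := by
      intro g hg
      refine ⟨?_, congr_mem_qK hC hθR hθP hθC
        ((conjAutHom_mem_qK hC hN (hP := le_sup_left) (hQ := le_sup_right) (hM'R hg)).mpr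
          ⟨(hM'.2 g hg).1, hM'.1 hg⟩)⟩
      show MulAut.congr hθR.equiv _ ∈ F.autGroup (P₂ ⊔ Q)
      rw [← autGroup_map_congr hθR]
      exact ⟨_, autInducedBy_le_autGroup hθR.dom_le (range_conjAutHom S _ ▸ ⟨_, rfl⟩), rfl⟩
    let η : M' →* A := ((MulAut.congr hθR.equiv).toMonoidHom.comp
      ((conjAutHom S (P' ⊔ Q)).comp (Subgroup.inclusion hM'R))).codRestrict A fun g => hmemA g g.2
    let B : Subgroup A := AS ⊔ ρ.ker
    have hηB : η.range ≤ B := by
      rintro _ ⟨g, rfl⟩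
      obtain ⟨hgP, h, hh, H⟩ := hM'.2 g g.2
      have hhP : h ∈ Subgroup.normalizer (P₂ : Set Ω) := by
        refine Subgroup.mem_normalizer_iff.mpr fun y => ⟨fun hy => ?_, fun hy => ?_⟩
        · obtain ⟨x, hx, rfl⟩ := hθ.exists_preimage hy
          rw [← H x hx]
          exact hθ.mem (conj_mem_of_mem_normalizer hgP hx)
        · obtain ⟨x, hx, hxy⟩ := hθ.exists_preimage hy
          have hx' : (g : Ω)⁻¹ * x * g ∈ P' := by
            simpa using conj_mem_of_mem_normalizer (Subgroup.inv_mem _ hgP) hx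
          have := H _ hx'
          rw [show (g : Ω) * ((g : Ω)⁻¹ * x * g) * (g : Ω)⁻¹ = x by group, hxy] at this
          rw [mul_left_cancel (mul_right_cancel this)]
          exact hθ.mem hx'
      have hhR := mem_normalizerIn_sup hC hN hh hhP
      have hK2 := (conjAutHom_mem_qK hC hN (hP := le_sup_left) (hQ := le_sup_right) hhR).mpr ⟨hhP, hh⟩
      have hind : conjAutHom S (P₂ ⊔ Q) ⟨h, hhR⟩ ∈ autInducedBy S (P₂ ⊔ Q) := by
        rw [← range_conjAutHom]; exact ⟨_, rfl⟩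
      let a : A := ⟨_, autInducedBy_le_autGroup hR₂S hind, hK2⟩
      have ha : a ∈ AS := Subgroup.mem_subgroupOf.mpr ⟨hind, hK2⟩
      have hρa : ρ (η g) = ρ a := by
        refine MulEquiv.ext fun x => Subtype.ext ?_
        rw [hρ, hρ]
        obtain ⟨y, hy, hyx⟩ := hθ.exists_preimage x.2
        rw [← hyx, autFun_of_mem _ (le_sup_left (b := Q) (hθ.mem hy)),
          autFun_of_mem _ (le_sup_left (b := Q) (hθ.mem hy))]
        have e : (⟨θ y, le_sup_left (b := Q) (hθ.mem hy)⟩ : ↥(P₂ ⊔ Q)) =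
            hθR.equiv ⟨y, le_sup_left (b := Q) hy⟩ := Subtype.ext (hθe hy).symm
        show ((MulAut.congr hθR.equiv (conjAutHom S _ ⟨g, hM'R g.2⟩)) ⟨θ y, _⟩ : Ω) = h * θ y * h⁻¹
        rw [e, congr_apply_equiv, conjAutHom_apply]
        rw [hθe (conj_mem_of_mem_normalizer hgP hy), H y hy]
      have : η g = a * (a⁻¹ * η g) := by group
      rw [this]
      exact Subgroup.mul_mem_sup ha (by rw [MonoidHom.mem_ker, map_mul, map_inv, hρa, inv_mul_cancel])
    obtain ⟨b, hb, hbY⟩ := (isSylowIn_of_forall (N := B) hASp le_sup_left fun Z _ hZ => hASmax Z hZ).exists_conj_le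
      hηB ((hS.to_le (hM'.1.trans hNS)).of_surjective _ η.rangeRestrict_surjective)
    have hb' : b ∈ ((AS : Set A) * (ρ.ker : Set A)) := by
      rw [← Subgroup.mul_normal]
      exact hb
    obtain ⟨m, hm, k, hk, rfl⟩ := hb'
    have hkR := (mem_autGroup hR₂S).mp k.2.1
    have hθ'' : IsIso F (P' ⊔ Q) (P₂ ⊔ Q) (autFun (k : MulAut ↥(P₂ ⊔ Q)) ∘ θ') := hθR.comp hkR
    have hMext : IsExtendable S (P' ⊔ Q) (autFun (k : MulAut ↥(P₂ ⊔ Q)) ∘ θ') M' := by
      refine ⟨hM'.1.trans hNS, fun g hg => ⟨(hM'R hg).2, ?_⟩⟩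
      rw [← congr_autInducedBy_mem hθ'' (hM'R hg), equiv_comp hθR hkR]
      have hk' : k * η ⟨g, hg⟩ * k⁻¹ ∈ AS := by
        have h1 : m * k * η ⟨g, hg⟩ * (m * k)⁻¹ ∈ AS := hbY ⟨_, ⟨⟨g, hg⟩, rfl⟩, rfl⟩
        have h2 := AS.mul_mem (AS.mul_mem (AS.inv_mem hm) h1) hm
        simpa [mul_assoc] using h2
      have h3 := (Subgroup.mem_subgroupOf.mp hk').1
      have e : hkR.equiv = (k : MulAut ↥(P₂ ⊔ Q)) := MulEquiv.ext fun x => Subtype.ext (by
        rw [hkR.equiv_apply, autFun_coe])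
      rw [e]
      exact h3
    obtain ⟨f', hf', hfe⟩ := receptive_extend hrec hθ'' hMext
    have hfC : C f' := hC.congr (hC.comp hθC k.2.2.2) fun x hx => (hfe (le_sup_right (a := P') hx)).symm
    refine ⟨f', (hE _ _).mpr ⟨hf'.mono le_sup_right, hM'.1, fun g hg => ?_, f',
      hf'.mono (sup_le le_sup_right (le_sup_right.trans le_sup_left)), fun _ _ => rfl, hfC⟩, fun x hx => ?_⟩
    · obtain ⟨i, hi, hil, hir⟩ := ((isIso_eqOn_image hθ'' hfe hf' le_sup_left).restrict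
        (le_sup_right (a := P') (b := Q))).choose_spec.2.exists_inv
      refine (hN _).mpr ⟨hf'.apply_mem (le_sup_right (a := P' ⊔ Q) hg),
        hC.congr (hC.comp (hC.comp (hC.inv hfC fun z hz => hil z hz) ((hN g).mp (hM'.1 hg)).2) hfC)
          fun z hz => ?_⟩
      simp only [Function.comp_apply]
      obtain ⟨z', hz', rfl⟩ : ∃ z' ∈ Q, f' z' = z := by
        rw [← hC.image hfC] at hz
        exact hz
      rw [hil z' hz', hf'.map_conj (le_sup_right (a := P' ⊔ Q) hg)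
        (le_sup_left (b := M') (le_sup_right (a := P') hz'))]
    · rw [hfe (le_sup_left (b := Q) hx), Function.comp_apply, hθe hx]
      have : ρ k ⟨θ x, hθ.mem hx⟩ = ⟨θ x, hθ.mem hx⟩ := by
        rw [MonoidHom.mem_ker.mp hk]
        rfl
      exact congrArg Subtype.val this

theorem isQCond_stab (Q : Subgroup Ω) : IsQCond Q fun f => f '' (Q : Set Ω) = (Q : Set Ω) where
  congr h hfg := (Set.image_congr hfg).symm.trans h
  image h := h
  id_mem := Set.image_id _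
  comp hf hg := by rw [Set.image_comp, hf, hg]
  inv hf h := by
    conv_lhs => rw [← hf]
    rw [← Set.image_comp]
    exact (Set.image_congr h).trans (Set.image_id' _)

theorem isQCond_fix (Q : Subgroup Ω) : IsQCond Q fun f => ∀ x ∈ Q, f x = x where
  congr h hfg x hx := (hfg hx).symm.trans (h x hx)
  image h := (Set.image_congr h).trans (Set.image_id' _)
  id_mem _ _ := rfl
  comp hf hg x hx := by rw [Function.comp_apply, hf x hx, hg x hx]
  inv hf h x hx := by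
    have := h x hx
    rwa [hf x hx] at this

theorem isNormalizerSystem_isSaturated [Finite S] (hS : IsPGroup p S) (hF : F.IsSaturated p)
    (hQ : F.IsFullyNormalized Q) (E : FusionSystem (normalizerIn S Q)) (hE : F.IsNormalizerSystem Q E) :
    E.IsSaturated p := by
  refine qSystem_isSaturated hS hF hQ.1 (isQCond_stab Q) (fun g => ?_) ?_ E
    fun P f => IsNormalizerSystem.isMap_iff hE
  · exact ⟨fun h => ⟨h.1, image_conj_eq_self h.2⟩,
      fun h => ⟨h.1, mem_normalizer_of_qCond (isQCond_stab Q) h.2⟩⟩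
  · intro Q₁ φ hφ M hM hMQ
    obtain ⟨χ, hχ, hχQ, -⟩ := exists_normalizer_map hS (fullyAutomized_of_fullyNormalized hS hF hQ)
      (receptive_of_fullyNormalized hS hF hQ) (isConj_symm hφ.isConj)
    refine ⟨χ, hχ.mono (sup_le (le_normalizerIn hφ.cod_le) fun g hg => ⟨hM hg, (hMQ g hg).1⟩), ?_⟩
    rw [Set.image_comp, hφ.2, hχQ.2]

theorem normalizerSystem_isSaturated [Finite S] (hS : IsPGroup p S) (hF : F.IsSaturated p)
    (hQ : F.IsFullyNormalized Q) : (normalizerSystem F Q hQ.1).IsSaturated p :=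
  isNormalizerSystem_isSaturated hS hF hQ _ (isNormalizerSystem_normalizerSystem Q hQ.1)

theorem isCentralizerSystem_isSaturated [Finite S] (hS : IsPGroup p S) (hF : F.IsSaturated p)
    (hQ : F.IsFullyCentralized Q) (E : FusionSystem (centralizerIn S Q)) (hE : F.IsCentralizerSystem Q E) :
    E.IsSaturated p := by
  refine qSystem_isSaturated hS hF hQ.1 (isQCond_fix Q) (fun g => ?_) ?_ E
    fun P f => IsCentralizerSystem.isMap_iff hE
  · refine ⟨fun h => ⟨h.1, fun x hx => ?_⟩, fun h => ⟨h.1, Subgroup.mem_centralizer_iff.mpr fun x hx => ?_⟩⟩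
    · show g * x * g⁻¹ = x
      rw [← Subgroup.mem_centralizer_iff.mp h.2 x hx]; group
    · exact (mul_inv_eq_iff_eq_mul.mp (h.2 x hx)).symm
  · intro Q₁ φ hφ M hM hMQ
    obtain ⟨i, hi, hil, -⟩ := hφ.exists_inv
    obtain ⟨χ, hχ, hχe⟩ := receptive_extend (receptive_of_fullyCentralized hS hF hQ) hi
      (isExtendable_centralizerIn i)
    refine ⟨χ, hχ.mono (sup_le le_sup_left fun g hg => Subgroup.mem_sup_right
      ⟨hM hg, Subgroup.mem_centralizer_iff.mpr fun y hy => ?_⟩), fun x hx => ?_⟩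
    · obtain ⟨x, hx, rfl⟩ := hφ.exists_preimage hy
      obtain ⟨-, c, hc, hcg⟩ := hMQ g hg
      have := hcg x hx
      rw [hc x hx] at this
      calc φ x * g = g * φ x * g⁻¹ * g := by rw [← this]
        _ = g * φ x := by group
    · rw [Function.comp_apply, hχe (hφ.mem hx), hil x hx]

theorem centralizerSystem_isSaturated [Finite S] (hS : IsPGroup p S) (hF : F.IsSaturated p)
    (hQ : F.IsFullyCentralized Q) : (centralizerSystem F Q hQ.1).IsSaturated p :=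
  isCentralizerSystem_isSaturated hS hF hQ _ (isCentralizerSystem_centralizerSystem Q hQ.1)

end Cfsg.Agent.Fusion
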