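import Cfsg.Agent.Lib.Fusion.Alperin
import Cfsg.Agent.Lib.Fusion.Group
import Cfsg.Agent.Lib.Transfer.Residual
import Cfsg.Agent.Lib.Transfer.Focal

/-!
# Focal and hyperfocal subgroups
-/

set_option autoImplicit false
set_option maxHeartbeats 400000

namespace Cfsg.Agent.Fusion

open Cfsg
open Cfsg.FusionSystem (normalizerIn centralizerIn)
open scoped commutatorElement

variable {Ω : Type*} [Group Ω] {S : Subgroup Ω} {F : FusionSystem S} {p : ℕ}

theorem hyperfocal_gen_mem {P : Subgroup Ω} (hP : P ≤ S) (α : F.autGroup P)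
    (hα : α ∈ pResidual p (F.autGroup P)) {x : Ω} (hx : x ∈ P) :
    x⁻¹ * autFun (α : MulAut P) x ∈ F.hyperfocalSubgroup p :=
  Subgroup.subset_closure ⟨P, α, ⟨x, hx⟩, hP, hα, by rw [autFun_of_mem _ hx]⟩

theorem focal_gen_mem {P : Subgroup Ω} {f : Ω → Ω} (hf : IsMap F P f) {x : Ω} (hx : x ∈ P) :
    x⁻¹ * f x ∈ F.focalSubgroup := by
  obtain ⟨φ, hφ, hφf⟩ := hf
  exact Subgroup.subset_closure ⟨P, φ, ⟨x, hx⟩, hφ, by rw [hφf]⟩

theorem hyperfocal_le : F.hyperfocalSubgroup p ≤ S :=
  (Subgroup.closure_le _).mpr fun _ ⟨_, _, x, hP, _, h⟩ =>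
    h ▸ S.mul_mem (S.inv_mem (hP x.2)) (hP (Subtype.mem _))

theorem hyperfocal_le_focal : F.hyperfocalSubgroup p ≤ F.focalSubgroup := by
  refine (Subgroup.closure_le _).mpr ?_
  rintro _ ⟨P, α, x, hP, -, rfl⟩
  have := focal_gen_mem ((mem_autGroup hP).mp α.2).1 x.2
  rwa [autFun_coe] at this

theorem focal_le : F.focalSubgroup ≤ S :=
  (Subgroup.closure_le _).mpr fun _ ⟨_, φ, x, hφ, h⟩ =>
    h ▸ S.mul_mem (S.inv_mem ((F.le_of_mem hφ).1 x.2)) ((F.le_of_mem hφ).2 x)

theorem commutator_le_focal : ⁅S, S⁆ ≤ F.focalSubgroup := by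
  refine Subgroup.commutator_le.mpr fun g hg x hx => ?_
  have := focal_gen_mem (F := F) (isMap_conj le_rfl hg) (S.inv_mem hx)
  rw [inv_inv] at this
  have h2 := focal_gen_mem (F := F) (isMap_conj le_rfl (S.mul_mem hg (S.inv_mem hg))) (S.one_mem)
  -- `x * (g * x⁻¹ * g⁻¹)` is the inverse of the commutator
  have h3 := F.focalSubgroup.inv_mem this
  rw [commutatorElement_def]
  simpa [mul_assoc] using h3

theorem hyperfocal_normalizer : S ≤ Subgroup.normalizer (F.hyperfocalSubgroup p : Set Ω) := by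
  intro s hs
  have key : ∀ s ∈ S, ∀ y ∈ F.hyperfocalSubgroup p, s * y * s⁻¹ ∈ F.hyperfocalSubgroup p := by
    intro s hs y hy
    induction hy using Subgroup.closure_induction with
    | mem y hy =>
      obtain ⟨P, α, x, hP, hα, rfl⟩ := hy
      obtain ⟨P', hP'⟩ := (isMap_conj (F := F) hP hs).exists_image
      have hα' : hP'.autEquiv α ∈ pResidual p (F.autGroup P') := by
        rw [← Transfer.map_pResidual_equiv hP'.autEquiv]
        exact ⟨α, hα, rfl⟩
      have := hyperfocal_gen_mem hP'.cod_le _ hα' (hP'.mem x.2)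
      rw [autFun_of_mem _ (hP'.mem x.2)] at this
      have e : (⟨s * (x : Ω) * s⁻¹, hP'.mem x.2⟩ : P') = hP'.equiv x := rfl
      rw [e, IsIso.autEquiv_coe, congr_apply_equiv] at this
      simpa [mul_assoc] using this
    | one => simp
    | mul a b _ _ ha hb => simpa [mul_assoc] using Subgroup.mul_mem _ ha hb
    | inv a _ ha => simpa [mul_assoc] using Subgroup.inv_mem _ ha
  refine Subgroup.mem_normalizer_iff.mpr fun y => ⟨key s hs y, fun hy => ?_⟩
  simpa [mul_assoc] using key s⁻¹ (S.inv_mem hs) _ hy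

/-- At a fully normalized `E` every automorphism is an element of `O^p(Aut_F(E))` times an inner one. -/
theorem exists_residual_mul_conj [Finite S] [Fact p.Prime] (hS : IsPGroup p S) (hF : F.IsSaturated p)
    {E : Subgroup Ω} (hE : F.IsFullyNormalized E) (α : F.autGroup E) :
    ∃ β ∈ pResidual p (F.autGroup E), ∃ g ∈ normalizerIn S E, ∀ x ∈ E,
      autFun (α : MulAut E) x = autFun ((β : F.autGroup E) : MulAut E) (g * x * g⁻¹) := by
  haveI := finite_of_le hE.1
  haveI := finite_mulAut E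
  obtain ⟨R, hR⟩ := (fullyAutomized_of_fullyNormalized hS hF hE).2
  have htop : pResidual p (F.autGroup E) ⊔ (R : Subgroup (F.autGroup E)) = ⊤ := by
    rw [sup_comm]; exact Transfer.sylow_sup_pResidual_eq_top R
  obtain ⟨β, hβ, γ, hγ, rfl⟩ :=
    Subgroup.mem_sup_of_normal_left.mp (htop.ge (Subgroup.mem_top α))
  rw [hR, Subgroup.mem_subgroupOf, mem_autInducedBy] at hγ
  obtain ⟨g, hg, hgx⟩ := hγ
  refine ⟨β, hβ, g, ⟨hg, mem_normalizer_of_induces hgx⟩, fun x hx => ?_⟩
  rw [Subgroup.coe_mul, autFun_mul _ _ hx, Function.comp_apply]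
  congr 1
  exact (autFun_of_mem _ hx).trans (hgx ⟨x, hx⟩)

theorem focal_eq [Finite S] [Fact p.Prime] (hS : IsPGroup p S) (hF : F.IsSaturated p) :
    F.focalSubgroup = F.hyperfocalSubgroup p ⊔ ⁅S, S⁆ := by
  refine le_antisymm ?_ (sup_le hyperfocal_le_focal commutator_le_focal)
  have key : ∀ P f, IsMap F P f → ∀ x ∈ P, x⁻¹ * f x ∈ F.hyperfocalSubgroup p ⊔ ⁅S, S⁆ := by
    refine alperin_induction_cr hS hF _ (fun P f g h hfg x hx => hfg hx ▸ h x hx) ?_ ?_ ?_
    · intro P Q f g hf _ h1 h2 x hx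
      have := Subgroup.mul_mem _ (h1 x hx) (h2 _ (hf.mem hx))
      simpa [mul_assoc] using this
    · exact fun P Q f _ hle h x hx => h x (hle hx)
    · intro E _ _ hEn f hf x hx
      obtain ⟨α, hα, he⟩ := hf.exists_aut
      obtain ⟨β, hβ, g, hg, hgx⟩ := exists_residual_mul_conj hS hF hEn ⟨α, hα⟩
      rw [← he hx, hgx x hx]
      have hy : g * x * g⁻¹ ∈ E := conj_mem_of_mem_normalizer hg.2 hx
      have h1 : ⁅x⁻¹, g⁆ ∈ F.hyperfocalSubgroup p ⊔ ⁅S, S⁆ := Subgroup.mem_sup_right
        (Subgroup.commutator_mem_commutator (S.inv_mem (hEn.1 hx)) hg.1)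
      have h2 := Subgroup.mul_mem _ h1
        (Subgroup.mem_sup_left (T := ⁅S, S⁆) (hyperfocal_gen_mem hEn.1 β hβ hy))
      rw [commutatorElement_def] at h2
      simpa [mul_assoc] using h2
  refine (Subgroup.closure_le _).mpr ?_
  rintro _ ⟨P, φ, x, hφ, rfl⟩
  have := key P _ (isMap_extFun hφ) x x.2
  rwa [extFun_coe] at this

theorem hyperfocal_stronglyClosed [Finite S] [Fact p.Prime] (hS : IsPGroup p S) (hF : F.IsSaturated p) :
    F.StronglyClosed (F.hyperfocalSubgroup p) := by
  set H := F.hyperfocalSubgroup p with hH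
  have key : ∀ P f, IsMap F P f → ∀ x ∈ P, x ∈ H → f x ∈ H := by
    refine alperin_induction_cr hS hF _ (fun P f g h hfg x hx hH => hfg hx ▸ h x hx hH) ?_ ?_ ?_
    · exact fun P Q f g hf _ h1 h2 x hx hxH => h2 _ (hf.mem hx) (h1 x hx hxH)
    · exact fun P Q f _ hle h x hx => h x (hle hx)
    · intro E _ _ hEn f hf x hx hxH
      obtain ⟨α, hα, he⟩ := hf.exists_aut
      obtain ⟨β, hβ, g, hg, hgx⟩ := exists_residual_mul_conj hS hF hEn ⟨α, hα⟩
      rw [← he hx, hgx x hx]
      have hy : g * x * g⁻¹ ∈ E := conj_mem_of_mem_normalizer hg.2 hx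
      have hyH : g * x * g⁻¹ ∈ H := conj_mem_of_mem_normalizer (hyperfocal_normalizer hg.1) hxH
      have := H.mul_mem hyH (hyperfocal_gen_mem hEn.1 β hβ hy)
      rwa [mul_inv_cancel_left] at this
  refine ⟨hyperfocal_le, fun R hR φ hφ x => ?_⟩
  have := key R _ (isMap_extFun hφ) x x.2 (hR x.2)
  rwa [extFun_coe] at this

/-! ### The hyperfocal subgroup theorem -/

section Group

variable {G : Type*} [Group G] [Finite G] [Fact p.Prime]

/-- Every element of `O^p(Aut_G(P))` is conjugation by an element of `O^p(G)`. -/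
theorem residual_aut_group (S : Sylow p G) {P : Subgroup G} (hP : P ≤ S)
    (α : (groupFusionSystem (S : Subgroup G)).autGroup P)
    (hα : α ∈ pResidual p ((groupFusionSystem (S : Subgroup G)).autGroup P)) :
    ∃ g ∈ pResidual p G, ∀ x : P, ((α : MulAut P) x : G) = g * x * g⁻¹ := by
  let e : ↥(normalizerIn (⊤ : Subgroup G) P) →* (groupFusionSystem (S : Subgroup G)).autGroup P :=
    (conjAutHom ⊤ P).codRestrict _ fun g => by
      rw [autGroup_group S hP, ← range_conjAutHom]; exact ⟨g, rfl⟩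
  have he : Function.Surjective e := by
    rintro ⟨β, hβ⟩
    rw [autGroup_group S hP] at hβ
    obtain ⟨g, -, hg⟩ := mem_autInducedBy.mp hβ
    exact ⟨⟨g, Subgroup.mem_top g, mem_normalizer_of_induces hg⟩,
      Subtype.ext (MulEquiv.ext fun x => Subtype.ext (hg x).symm)⟩
  rw [← Transfer.map_pResidual_of_surjective e he] at hα
  obtain ⟨g, hg, rfl⟩ := hα
  exact ⟨g, Transfer.map_pResidual_le (Subgroup.subtype _) ⟨g, hg, rfl⟩, fun x => rfl⟩

theorem hyperfocal_le_pResidual (S : Sylow p G) :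
    (groupFusionSystem (S : Subgroup G)).hyperfocalSubgroup p ≤ (S : Subgroup G) ⊓ pResidual p G := by
  refine le_inf hyperfocal_le ((Subgroup.closure_le _).mpr ?_)
  rintro _ ⟨P, α, x, hP, hα, rfl⟩
  obtain ⟨g, hg, hgx⟩ := residual_aut_group S hP α hα
  rw [hgx, SetLike.mem_coe]
  have h1 := Subgroup.mul_mem _ ((inferInstance : (pResidual p G).Normal).conj_mem g hg (x : G)⁻¹) (Subgroup.inv_mem _ hg)
  simpa [mul_assoc] using h1

theorem sylow_le_hyperfocal_of_perfect {K : Type*} [Group K] [Finite K] (T : Sylow p K)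
    (hK : pResidual p K = ⊤) :
    (T : Subgroup K) ≤ (groupFusionSystem (T : Subgroup K)).hyperfocalSubgroup p := by
  set F' := groupFusionSystem (T : Subgroup K) with hF'
  have hsat := groupFusionSystem_isSaturated T
  have h1 : (T : Subgroup K) ≤ F'.focalSubgroup := by
    refine (Transfer.sylow_le_focalSubgroup_of_pResidual_eq_top T hK).trans ?_
    rw [Subgroup.focalSubgroup_def, Subgroup.closure_le]
    rintro g ⟨hg, x, hx, u, rfl⟩
    have hy : u * x⁻¹ * u⁻¹ ∈ (T : Subgroup K) := by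
      have := (T : Subgroup K).mul_mem ((T : Subgroup K).inv_mem hx) hg
      simpa [commutatorElement_def, mul_assoc] using this
    have hzp : Subgroup.zpowers x⁻¹ ≤ (T : Subgroup K) := Subgroup.zpowers_le.mpr (Subgroup.inv_mem _ hx)
    have hm : IsMap F' (Subgroup.zpowers x⁻¹) (fun z => u * z * u⁻¹) :=
      isMap_group_iff.mpr ⟨hzp, fun z hz => by
        obtain ⟨i, rfl⟩ := Subgroup.mem_zpowers_iff.mp hz
        have := Subgroup.zpow_mem _ hy i
        rwa [conj_zpow] at this, u, fun _ _ => rfl⟩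
    have := focal_gen_mem hm (Subgroup.mem_zpowers x⁻¹)
    rw [SetLike.mem_coe, commutatorElement_def]
    simpa [mul_assoc] using this
  rw [focal_eq T.isPGroup' hsat] at h1
  -- pass to `T / hfoc`, which is nilpotent and perfect
  haveI := T.isPGroup'.isNilpotent
  set H := (F'.hyperfocalSubgroup p).subgroupOf (T : Subgroup K) with hH
  haveI : H.Normal := (Subgroup.normal_subgroupOf_iff_le_normalizer hyperfocal_le).mpr hyperfocal_normalizer
  have hsup : H ⊔ commutator ↥(T : Subgroup K) = ⊤ := by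
    refine eq_top_iff.mpr fun x _ => ?_
    have hx := h1 x.2
    have hle : F'.hyperfocalSubgroup p ⊔ ⁅(T : Subgroup K), (T : Subgroup K)⁆ ≤
        (H ⊔ commutator ↥(T : Subgroup K)).map (T : Subgroup K).subtype := by
      refine sup_le ?_ ?_
      · exact fun y hy => ⟨⟨y, hyperfocal_le hy⟩, Subgroup.mem_sup_left hy, rfl⟩
      · rw [Subgroup.map_sup, commutator_def, Subgroup.map_commutator, ← MonoidHom.range_eq_map,
          Subgroup.range_subtype]
        exact le_sup_right
    obtain ⟨y, hy, hyx⟩ := hle hx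
    rwa [← Subtype.ext hyx]
  have hbot : (⊤ : Subgroup (↥(T : Subgroup K) ⧸ H)) = ⊥ := by
    refine Transfer.eq_bot_of_le_commutator_top ?_
    rw [← Subgroup.map_top_of_surjective _ (QuotientGroup.mk'_surjective H), ← Subgroup.map_commutator]
    rintro _ ⟨x, -, rfl⟩
    obtain ⟨a, ha, b, hb, rfl⟩ := Subgroup.mem_sup_of_normal_left.mp (hsup.ge (Subgroup.mem_top x))
    rw [map_mul, show QuotientGroup.mk' H a = 1 from (QuotientGroup.eq_one_iff a).mpr ha, one_mul]
    exact ⟨b, by rwa [← commutator_def], rfl⟩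
  intro x hx
  have : QuotientGroup.mk' H ⟨x, hx⟩ = 1 := Subgroup.mem_bot.mp (hbot ▸ Subgroup.mem_top _)
  exact (QuotientGroup.eq_one_iff (⟨x, hx⟩ : (T : Subgroup K))).mp this

/-- Automorphisms coming from a homomorphism into `G`, along which `T` maps into `S`. -/
theorem hyperfocal_map_le {K : Type*} [Group K] [Finite K] (j : K →* G) (hj : Function.Injective j)
    (S : Sylow p G) (T : Sylow p K) (hT : (T : Subgroup K).map j ≤ S) :
    ((groupFusionSystem (T : Subgroup K)).hyperfocalSubgroup p).map j ≤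
      (groupFusionSystem (S : Subgroup G)).hyperfocalSubgroup p := by
  rw [FusionSystem.hyperfocalSubgroup, MonoidHom.map_closure, Subgroup.closure_le]
  rintro _ ⟨_, ⟨P, α, x, hP, hα, rfl⟩, rfl⟩
  let e := P.equivMapOfInjective j hj
  have hP' : P.map j ≤ (S : Subgroup G) := (Subgroup.map_mono hP).trans hT
  let c : (groupFusionSystem (T : Subgroup K)).autGroup P →*
      (groupFusionSystem (S : Subgroup G)).autGroup (P.map j) :=
    ((MulAut.congr e).toMonoidHom.comp (Subgroup.subtype _)).codRestrict _ fun β => by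
      rw [autGroup_group S hP']
      have hβ := (autGroup_group T hP).le β.2
      obtain ⟨g, -, hg⟩ := mem_autInducedBy.mp hβ
      refine mem_autInducedBy.mpr ⟨j g, Subgroup.mem_top _, fun y => ?_⟩
      obtain ⟨z, rfl⟩ := e.surjective y
      show ((e ((β : MulAut P) (e.symm (e z)))) : G) = _
      rw [e.symm_apply_apply, Subgroup.coe_equivMapOfInjective_apply, hg, map_mul, map_mul, map_inv,
        Subgroup.coe_equivMapOfInjective_apply]
  have hc : c α ∈ pResidual p _ := Transfer.map_pResidual_le c ⟨α, hα, rfl⟩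
  have := hyperfocal_gen_mem hP' (c α) hc (Subgroup.mem_map_of_mem j x.2)
  rw [autFun_of_mem _ (Subgroup.mem_map_of_mem j x.2)] at this
  have ee : (⟨j x, Subgroup.mem_map_of_mem j x.2⟩ : P.map j) = e x := rfl
  rw [ee] at this
  have hval : (((c α : (groupFusionSystem (S : Subgroup G)).autGroup (P.map j)) : MulAut (P.map j)) (e x) : G) =
      j ((α : MulAut P) x) := by
    show ((e ((α : MulAut P) (e.symm (e x)))) : G) = _
    rw [e.symm_apply_apply]
    rfl
  rw [hval] at this
  rw [SetLike.mem_coe, map_mul, map_inv]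
  exact this

theorem hyperfocal_eq (S : Sylow p G) :
    (groupFusionSystem (S : Subgroup G)).hyperfocalSubgroup p = (S : Subgroup G) ⊓ pResidual p G := by
  refine le_antisymm (hyperfocal_le_pResidual S) ?_
  set K := pResidual p G with hK
  have hp : IsPGroup p ((S : Subgroup G).subgroupOf K) := S.isPGroup'.comap_of_injective _ K.subtype_injective
  obtain ⟨T₀, hT₀⟩ := Transfer.exists_sylow_subgroupOf_normal S K
  intro x hx
  have hle : (T₀ : Subgroup K).map K.subtype ≤ (S : Subgroup G) := by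
    rw [hT₀, Subgroup.subgroupOf_map_subtype]
    exact inf_le_left
  refine hyperfocal_map_le K.subtype K.subtype_injective S T₀ hle ⟨⟨x, hx.2⟩, ?_, rfl⟩
  refine sylow_le_hyperfocal_of_perfect T₀ Transfer.pResidual_pResidual ?_
  rw [hT₀]
  exact hx.1

end Group

end Cfsg.Agent.Fusion
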