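import Cfsg.Agent.Lib.Fusion.NormalLift
import Cfsg.Agent.FusTransfer.Twisted
import Cfsg.Agent.Fusion91.PPower
import Cfsg.Agent.Fus93.Iso

/-!
# Subsystems of `p`-power index over a normal subgroup are normal
-/

set_option autoImplicit false
set_option linter.style.haveILetI false

namespace Cfsg.Agent.Fusion.PPow

open Cfsg Cfsg.Agent.Fusion Cfsg.Agent.Fusion.NormalLift
open Cfsg.FusionSystem (normalizerIn centralizerIn)

variable {Ω : Type*} [Group Ω] {S T : Subgroup Ω} {F : FusionSystem S} {E : FusionSystem T} {p : ℕ}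
  [Fact p.Prime]

/-- A normal subgroup above the hyperfocal subgroup is strongly closed. -/
theorem stronglyClosed_of_hyperfocal_le [Finite S] (hS : IsPGroup p S) (hF : F.IsSaturated p)
    (hTS : T ≤ S) (hTn : (T.subgroupOf S).Normal) (hT : F.hyperfocalSubgroup p ≤ T) :
    F.StronglyClosed T := by
  refine ⟨hTS, fun R hR φ hφ x => ?_⟩
  obtain ⟨g, hg, hgx⟩ := FusTransfer.exists_conj_mod_hyperfocal hS hF R _ (isMap_extFun hφ)
  have h := T.mul_mem ((Subgroup.normal_subgroupOf_iff hTS).mp hTn (x : Ω) g (hR x.2) hg) (hT (hgx x x.2))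
  rwa [mul_inv_cancel_left, extFun_coe] at h

theorem conj_iso_self (hTS : T ≤ S) (hTn : (T.subgroupOf S).Normal) {s : Ω} (hs : s ∈ S) :
    IsIso F T T fun x => s * x * s⁻¹ := by
  refine ⟨isMap_conj hTS hs, Set.Subset.antisymm ?_ fun y hy => ?_⟩
  · rintro _ ⟨x, hx, rfl⟩
    exact (Subgroup.normal_subgroupOf_iff hTS).mp hTn x s hx hs
  · refine ⟨s⁻¹ * y * s, ?_, by group⟩
    simpa using (Subgroup.normal_subgroupOf_iff hTS).mp hTn y s⁻¹ hy (S.inv_mem hs)

/-- Invariance under the automorphisms of `T`. -/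
theorem exists_transport [Finite S] (hS : IsPGroup p S) (hTS : T ≤ S) (hEs : E.IsSaturated p)
    (hEi : E.HasPPowerIndexIn F p) {k : Ω → Ω} (hk : IsIso F T T k) {P : Subgroup Ω} {f : Ω → Ω}
    (hf : IsMap E P f) {P' : Subgroup Ω} (hP' : (P' : Set Ω) = k '' P) :
    ∃ g, IsMap E P' g ∧ ∀ x ∈ P, g (k x) = k (f x) := by
  haveI := finite_of_le hTS
  let E₂ : FusionSystem T := mkSub F T
    (fun P f => IsMap F P f ∧ P ≤ T ∧ (∀ x ∈ P, f x ∈ T) ∧
      ∃ P', IsIso F P P' k ∧ ∃ χ, IsMap E P' χ ∧ ∀ x ∈ P, χ (k x) = k (f x))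
    (fun {P f f'} ⟨h1, h2, h3, P', h4, χ, h5, h6⟩ he => ⟨h1.congr he, h2, fun x hx => he hx ▸ h3 x hx,
      P', h4, χ, h5, fun x hx => by rw [h6 x hx, he hx]⟩)
    (fun {P f} h => ⟨h.1, h.2.1, h.2.2.1⟩)
    (fun {P g} hP hg => by
      obtain ⟨P', hP'⟩ := (hk.1.mono hP).exists_image
      refine ⟨isMap_conj (hP.trans hTS) (hTS hg), hP,
        fun x hx => T.mul_mem (T.mul_mem hg (hP hx)) (T.inv_mem hg), P', hP', _,
        isMap_conj (fun y hy => ?_) (hk.mem hg), fun x hx => (hk.1.map_conj hg (hP hx)).symm⟩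
      obtain ⟨x, hx, rfl⟩ := hP'.exists_preimage hy
      exact hk.mem (hP hx))
    (fun {P Q f f'} ⟨h1, h2, _, P', h4, χ, h5, h6⟩ ⟨k1, _, k3, Q', k4, χ', k5, k6⟩ hmaps => by
      refine ⟨h1.comp k1 hmaps, h2, fun x hx => k3 _ (hmaps x hx), P', h4, χ' ∘ χ, h5.comp k5 ?_, ?_⟩
      · intro y hy
        obtain ⟨x, hx, rfl⟩ := h4.exists_preimage hy
        rw [h6 x hx]
        exact k4.mem (hmaps x hx)
      · intro x hx
        rw [Function.comp_apply, h6 x hx, k6 _ (hmaps x hx), Function.comp_apply])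
    (fun {P Q f g} ⟨_, h2, h3, P', h4, χ, h5, h6⟩ hi hg hgl => by
      have hQT : Q ≤ T := fun y hy => by
        obtain ⟨x, hx, rfl⟩ := hi.exists_preimage hy
        exact h3 x hx
      obtain ⟨Q', hQ'⟩ := (hk.1.mono hQT).exists_image
      have hχ : IsIso E P' Q' χ := by
        refine ⟨h5, Set.Subset.antisymm ?_ fun z hz => ?_⟩
        · rintro _ ⟨y, hy, rfl⟩
          obtain ⟨x, hx, rfl⟩ := h4.exists_preimage hy
          rw [h6 x hx]
          exact hQ'.mem (hi.mem hx)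
        · obtain ⟨y, hy, rfl⟩ := hQ'.exists_preimage hz
          obtain ⟨x, hx, rfl⟩ := hi.exists_preimage hy
          exact ⟨k x, h4.mem hx, h6 x hx⟩
      obtain ⟨χi, hχi, hχil, -⟩ := hχ.exists_inv
      refine ⟨hg.1, hQT, fun y hy => h2 (hg.mem hy), Q', hQ', χi, hχi.1, fun y hy => ?_⟩
      obtain ⟨x, hx, rfl⟩ := hi.exists_preimage hy
      rw [← h6 x hx, hχil _ (h4.mem hx), hgl x hx])
  have hle : E ≤ E₂ := by
    refine Fusion91.le_of_pResidual_le (F := F) (hS.to_le hTS) hEs hEi.1 fun P hP => ?_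
    haveI := finite_of_le (hP.trans hTS)
    haveI := finite_mulAut P
    rw [Subgroup.map_le_iff_le_comap, Transfer.pResidual_le_iff]
    intro α hα
    obtain ⟨P', hP'T, hP'⟩ := hk.restrict hP
    have hβ : ((hP'.autEquiv α : F.autGroup P') : MulAut P') ∈ E.autGroup P' :=
      hEi.2.2 P' hP'T ⟨hP'.autEquiv α, Transfer.mem_pResidual_of_coprime
        (by rwa [MulEquiv.orderOf_eq]), rfl⟩
    have hαi := (mem_autGroup (hP.trans hTS)).1 α.2
    refine autGroup_mem_of_isMap (isMap_mkSub.2 ⟨hαi.1, hP, fun x hx => hP (hαi.mem hx), P', hP', _,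
      ((mem_autGroup hP'T).1 hβ).1, fun x hx => ?_⟩)
    rw [IsIso.autEquiv_coe]
    exact autFun_congr hP' _ hx
  obtain ⟨-, -, -, P'', hP'', χ, hχ, hχe⟩ := isMap_mkSub.1 (hf.of_le hle)
  obtain rfl : P'' = P' := SetLike.coe_injective (hP''.2.symm.trans hP'.symm)
  exact ⟨χ, hχ, hχe⟩

/-- The Frattini decomposition. -/
theorem exists_frattini [Finite S] (hS : IsPGroup p S) (hF : F.IsSaturated p) (hTS : T ≤ S)
    (hTn : (T.subgroupOf S).Normal) (hEs : E.IsSaturated p) (hEi : E.HasPPowerIndexIn F p)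
    {P : Subgroup Ω} {f : Ω → Ω} (hf : IsMap F P f) (hPT : P ≤ T) :
    ∃ k g, IsIso F T T k ∧ IsMap E P g ∧ ∀ x ∈ P, f x = k (g x) := by
  have hcl := stronglyClosed_of_hyperfocal_le hS hF hTS hTn hEi.2.1
  have hclosed : ∀ {R : Subgroup Ω} {h : Ω → Ω}, IsMap F R h → ∀ x ∈ R, x ∈ T → h x ∈ T := by
    intro R h hh x hx hxT
    obtain ⟨φ, hφ, hφh⟩ := hh.mono (inf_le_left : R ⊓ T ≤ R)
    exact hφh ⟨x, hx, hxT⟩ ▸ hcl.2 _ inf_le_right φ hφ ⟨x, hx, hxT⟩
  have hconjT : ∀ {s : Ω}, s ∈ S → ∀ {x : Ω}, x ∈ T → s * x * s⁻¹ ∈ T := fun hs _ hx =>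
    (Subgroup.normal_subgroupOf_iff hTS).mp hTn _ _ hx hs
  have key : ∀ P f, IsMap F P f → ∃ s ∈ S, ∃ e : Ω → Ω, ∀ P'',
      IsIso F (P ⊓ T) P'' (fun x => s * x * s⁻¹) →
        IsMap E P'' e ∧ ∀ x ∈ P ⊓ T, f x = e (s * x * s⁻¹) := by
    refine alperin_induction_cr hS hF _ ?_ ?_ ?_ ?_
    · rintro P f f' ⟨s, hs, e, h⟩ he
      exact ⟨s, hs, e, fun P'' hP'' => ⟨(h P'' hP'').1, fun x hx => by
        rw [← he hx.1]; exact (h P'' hP'').2 x hx⟩⟩
    · rintro P Q f g hf hg ⟨s, hs, e, h⟩ ⟨s', hs', e', h'⟩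
      have hPS : P ⊓ T ≤ S := inf_le_right.trans hTS
      obtain ⟨P1, hP1⟩ := (isMap_conj (F := F) hPS hs).exists_image
      obtain ⟨he, hfe⟩ := h P1 hP1
      obtain ⟨P2, hP2⟩ := (isMap_conj (F := F) hP1.cod_le hs').exists_image
      obtain ⟨χ, hχ, hχe⟩ := exists_transport hS hTS hEs hEi (conj_iso_self hTS hTn hs') he hP2.2.symm
      obtain ⟨Q'', hQ''⟩ := (isMap_conj (F := F) ((inf_le_right : Q ⊓ T ≤ T).trans hTS) hs').exists_image
      obtain ⟨he', hge'⟩ := h' Q'' hQ''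
      have hfQ : ∀ x ∈ P ⊓ T, f x ∈ Q ⊓ T := fun x hx => ⟨hf.mem hx.1, hclosed hf.1 x hx.1 hx.2⟩
      have hmaps : ∀ z ∈ P2, χ z ∈ Q'' := by
        intro z hz
        obtain ⟨y, hy, rfl⟩ := hP2.exists_preimage hz
        obtain ⟨x, hx, rfl⟩ := hP1.exists_preimage hy
        rw [hχe _ hy, ← hfe x hx]
        exact hQ''.mem (hfQ x hx)
      refine ⟨s' * s, S.mul_mem hs' hs, e' ∘ χ, fun P'' hP'' => ?_⟩
      obtain rfl : P'' = P2 := hP''.cod_unique ((hP1.comp hP2).congr fun x _ => by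
        simp only [Function.comp_apply]; group)
      refine ⟨hχ.comp he' hmaps, fun x hx => ?_⟩
      rw [Function.comp_apply, Function.comp_apply, hge' _ (hfQ x hx),
        show s' * s * x * (s' * s)⁻¹ = s' * (s * x * s⁻¹) * s'⁻¹ by group, hχe _ (hP1.mem hx), ← hfe x hx]
    · rintro P Q f _ hle ⟨s, hs, e, h⟩
      refine ⟨s, hs, e, fun P'' hP'' => ?_⟩
      obtain ⟨Q'', hQ''⟩ := (isMap_conj (F := F) ((inf_le_right : Q ⊓ T ≤ T).trans hTS) hs).exists_image
      obtain ⟨he, hfe⟩ := h Q'' hQ''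
      refine ⟨he.mono fun y hy => ?_, fun x hx => hfe x ⟨hle hx.1, hx.2⟩⟩
      obtain ⟨x, hx, rfl⟩ := hP''.exists_preimage hy
      exact hQ''.mem (show x ∈ Q ⊓ T from ⟨hle hx.1, hx.2⟩)
    · intro U _ _ hU f hf
      obtain ⟨α, hα, he⟩ := hf.exists_aut
      obtain ⟨β, hβ, g, hg, hgx⟩ := exists_residual_mul_conj hS hF hU ⟨α, hα⟩
      refine ⟨g, hg.1, autFun (β : MulAut U), fun P'' hP'' => ⟨?_, fun x hx => (he hx.1).symm.trans (hgx x hx.1)⟩⟩
      have hP''le : P'' ≤ U ⊓ T := fun y hy => by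
        obtain ⟨x, hx, rfl⟩ := hP''.exists_preimage hy
        exact ⟨conj_mem_of_mem_normalizer hg.2 hx.1, hconjT hg.1 hx.2⟩
      have hVS : U ⊓ T ≤ S := inf_le_right.trans hTS
      have hiso : ∀ a : F.autGroup U, IsIso F (U ⊓ T) (U ⊓ T) (autFun (a : MulAut U)) := fun a =>
        have hai := (mem_autGroup hU.1).1 a.2
        isIso_of_mapsTo (hai.1.mono inf_le_left) hVS
          (fun x hx => ⟨hai.mem hx.1, hclosed hai.1 x hx.1 hx.2⟩) le_rfl
      let res : F.autGroup U →* F.autGroup (U ⊓ T) :=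
        MonoidHom.mk' (fun a => ⟨(hiso a).equiv, (hiso a).equiv_mem_autGroup⟩) fun a b => by
          refine Subtype.ext (MulEquiv.ext fun x => Subtype.ext ?_)
          show autFun ((a * b : F.autGroup U) : MulAut U) x = autFun (a : MulAut U) (autFun (b : MulAut U) x)
          rw [Subgroup.coe_mul]
          exact autFun_mul _ _ x.2.1
      have h1 : ((res β : F.autGroup (U ⊓ T)) : MulAut (U ⊓ T : Subgroup Ω)) ∈ E.autGroup (U ⊓ T) :=
        hEi.2.2 _ inf_le_right ⟨res β, Transfer.map_pResidual_le res ⟨β, hβ, rfl⟩, rfl⟩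
      exact ((((mem_autGroup inf_le_right).1 h1).1).congr fun x hx =>
        ((autFun_of_mem _ hx).trans rfl : _ = autFun (β : MulAut U) x)).mono hP''le
  obtain ⟨s, hs, e, h⟩ := key P f hf
  obtain ⟨P'', hP''⟩ := (isMap_conj (F := F) ((inf_le_right : P ⊓ T ≤ T).trans hTS) hs).exists_image
  obtain ⟨he, hfe⟩ := h P'' hP''
  have hset : (P : Set Ω) = (fun x => s⁻¹ * x * s⁻¹⁻¹) '' (P'' : Set Ω) := by
    ext x
    constructor
    · intro hx
      exact ⟨s * x * s⁻¹, hP''.mem ⟨hx, hPT hx⟩, by group⟩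
    · rintro ⟨y, hy, rfl⟩
      obtain ⟨x, hx, rfl⟩ := hP''.exists_preimage hy
      show s⁻¹ * (s * x * s⁻¹) * s⁻¹⁻¹ ∈ P
      rw [show s⁻¹ * (s * x * s⁻¹) * s⁻¹⁻¹ = x by group]
      exact hx.1
  obtain ⟨g, hg, hge⟩ := exists_transport hS hTS hEs hEi (conj_iso_self hTS hTn (S.inv_mem hs)) he hset
  refine ⟨_, g, conj_iso_self hTS hTn hs, hg, fun x hx => ?_⟩
  have h1 := hge _ (hP''.mem ⟨hx, hPT hx⟩)
  rw [show s⁻¹ * (s * x * s⁻¹) * s⁻¹⁻¹ = x by group, ← hfe x ⟨hx, hPT hx⟩] at h1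
  show f x = s * g x * s⁻¹
  rw [h1]
  group

/-- The extension condition. -/
theorem exists_extension [Finite S] (hS : IsPGroup p S) (hF : F.IsSaturated p) (hTS : T ≤ S)
    (hTn : (T.subgroupOf S).Normal) (hEs : E.IsSaturated p) (hEi : E.HasPPowerIndexIn F p)
    {k : Ω → Ω} (hk : IsIso E T T k) :
    ∃ g, IsIso F (T ⊔ centralizerIn S T) (T ⊔ centralizerIn S T) g ∧ (∀ x ∈ T, g x = k x) ∧
      ∀ c ∈ centralizerIn S T, c⁻¹ * g c ∈ T ⊓ Subgroup.centralizer (T : Set Ω) := by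
  haveI := finite_of_le hTS
  haveI := finite_mulAut T
  have hcl := stronglyClosed_of_hyperfocal_le hS hF hTS hTn hEi.2.1
  set D := T ⊔ centralizerIn S T with hD
  have hDS : D ≤ S := sup_le hTS (centralizerIn_le _ _)
  haveI := finite_of_le hDS
  haveI := finite_mulAut D
  have hTrec : F.IsReceptive T := by
    refine receptive_of_fullyCentralized hS hF ⟨hTS, fun Q hQ => ?_⟩
    obtain ⟨φ, hφ, hφQ⟩ := hQ
    haveI := finite_of_le hTS
    obtain rfl : Q = T := by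
      refine Subgroup.eq_of_le_of_card_ge ?_ (isConj_card (F := F) ⟨φ, hφ, hφQ⟩).le
      rw [← hφQ]
      rintro _ ⟨x, rfl⟩
      exact hcl.2 T le_rfl φ hφ x
    exact le_rfl
  obtain ⟨U, hU⟩ := (fullyAutomized_of_fullyNormalized (hS.to_le hTS) hEs (fullyNormalized_self (F := E))).2
  let K : Subgroup (E.autGroup T) :=
    { carrier := {a | Lift F (a : MulAut T)}
      one_mem' := lift_one
      mul_mem' := fun ha hb => lift_mul hTS ha hb
      inv_mem' := fun {a} ha => by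
        have h : a⁻¹ = a ^ (orderOf a - 1) := by
          rw [inv_eq_iff_mul_eq_one, ← pow_succ', Nat.sub_add_cancel (orderOf_pos a), pow_orderOf_eq_one]
        show Lift F ((a⁻¹ : E.autGroup T) : MulAut T)
        rw [h, Subgroup.coe_pow]
        exact lift_pow hTS ha _ }
  have hK : K = ⊤ := by
    refine eq_top_of_sylow_coprime U K (fun a ha => ?_) fun a ha => ?_
    · rw [hU, Subgroup.mem_subgroupOf, mem_autInducedBy] at ha
      obtain ⟨t, ht, hta⟩ := ha
      have htN : t ∈ normalizerIn S D :=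
        ⟨hTS ht, Subgroup.le_normalizer (Subgroup.mem_sup_left ht : t ∈ D)⟩
      refine ⟨conjAutHom S D ⟨t, htN⟩, autInducedBy_le_autGroup hDS
        (by rw [← range_conjAutHom]; exact ⟨_, rfl⟩), fun x hx => ?_, fun c hc => ?_⟩
      · rw [autFun_of_mem _ hx, hta ⟨x, hx⟩, autFun_of_mem _ (Subgroup.mem_sup_left hx : x ∈ D)]
        rfl
      · rw [autFun_of_mem _ (Subgroup.mem_sup_right hc : c ∈ D)]
        show c⁻¹ * (t * c * t⁻¹) ∈ T
        rw [Subgroup.mem_centralizer_iff.1 hc.2 t ht, mul_assoc c, mul_inv_cancel, mul_one, inv_mul_cancel]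
        exact T.one_mem
    · have haF : (a : MulAut T) ∈ F.autGroup T := autGroup_mono (hEi.1 T) a.2
      have hai := (mem_autGroup hTS).1 haF
      obtain ⟨f, hf, hfe⟩ := receptive_extend hTrec hai (isExtendable_centralizerIn _)
      have hmaps : ∀ x ∈ D, f x ∈ D := isMap_mem_sup hf le_sup_left le_sup_right
        (fun x hx => Subgroup.mem_sup_left (hfe hx ▸ hai.mem hx))
        (fun x hx => Subgroup.mem_sup_right
          (map_mem_centralizer hf le_sup_left ((Set.image_congr hfe).trans hai.2)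
            (Subgroup.mem_sup_right hx) hx.2))
      obtain ⟨γ₀, hγ₀, hγ₀e⟩ := (isIso_of_mapsTo hf hDS hmaps le_rfl).exists_aut
      obtain ⟨n, hn, han⟩ := exists_pow_coprime (p := p) (⟨γ₀, hγ₀⟩ : F.autGroup D) (a : MulAut T)
        (by rwa [Subgroup.orderOf_coe])
      have hit : ∀ j : ℕ, Set.EqOn (autFun (γ₀ ^ j)) (autFun ((a : MulAut T) ^ j)) T := by
        intro j
        induction j with
        | zero =>
          intro x hx
          rw [pow_zero, pow_zero, autFun_one (Subgroup.mem_sup_left hx : x ∈ D), autFun_one hx]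
        | succ j ih =>
          intro x hx
          rw [pow_succ', pow_succ', autFun_mul _ _ (Subgroup.mem_sup_left hx : x ∈ D), autFun_mul _ _ hx,
            Function.comp_apply, Function.comp_apply, ih hx]
          have hy : autFun ((a : MulAut T) ^ j) x ∈ T := autFun_of_mem _ hx ▸ (((a : MulAut T) ^ j) _).2
          exact (hγ₀e (Subgroup.mem_sup_left hy : _ ∈ D)).trans (hfe hy)
      refine ⟨γ₀ ^ n, (F.autGroup D).pow_mem hγ₀ n, fun x hx => by rw [hit n hx, han], fun c hc => ?_⟩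
      exact hEi.2.1 (hyperfocal_gen_mem hDS (⟨γ₀, hγ₀⟩ ^ n) (Transfer.mem_pResidual_of_coprime hn)
        (Subgroup.mem_sup_right hc : c ∈ D))
  obtain ⟨α, hα, hαe⟩ := hk.exists_aut
  obtain ⟨γ, hγ, hγe, hγc⟩ : Lift F α :=
    (show (⟨α, hα⟩ : E.autGroup T) ∈ K from hK.ge (Subgroup.mem_top _))
  have hγi := (mem_autGroup hDS).1 hγ
  refine ⟨autFun γ, hγi, fun x hx => (hγe hx).trans (hαe hx), fun c hc => ⟨hγc c hc, ?_⟩⟩
  exact Subgroup.mul_mem _ (Subgroup.inv_mem _ hc.2)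
    (map_mem_centralizer hγi.1 le_sup_left ((Set.image_congr hγe).trans (autFun_image α))
      (Subgroup.mem_sup_right hc) hc.2).2

theorem isNormalIn_of_pPowerIndex [Finite S] (hS : IsPGroup p S) (hF : F.IsSaturated p)
    (hTS : T ≤ S) (hTn : (T.subgroupOf S).Normal) (hEs : E.IsSaturated p)
    (hEi : E.HasPPowerIndexIn F p) : E.IsNormalIn F p :=
  Fus93.isNormalIn_of
    ⟨hEs, hF, Fus93.isInvariantIn_of hEi.1 (stronglyClosed_of_hyperfocal_le hS hF hTS hTn hEi.2.1)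
      (fun _ _ hf _ hk _ hP' => exists_transport hS hTS hEs hEi hk hf hP')
      fun _ _ hf hPT => exists_frattini hS hF hTS hTn hEs hEi hf hPT⟩
    fun _ hk => exists_extension hS hF hTS hTn hEs hEi hk

end Cfsg.Agent.Fusion.PPow
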