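import Cfsg.Agent.Lib.Fusion.Group

/-!
# `K`-normalizers and fully `K`-normalized subgroups
-/

set_option autoImplicit false
set_option maxHeartbeats 300000

namespace Cfsg.Agent.Fusion

open Cfsg
open Cfsg.FusionSystem (normalizerIn centralizerIn)

variable {Ω : Type*} [Group Ω] {S : Subgroup Ω} {F : FusionSystem S} {p : ℕ} [Fact p.Prime]

/-- `N_S^K(R)`: the elements of `N_S(R)` inducing on `R` an automorphism in `K`. -/
def kNorm (S R : Subgroup Ω) (K : Subgroup (MulAut R)) : Subgroup Ω :=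
  (K.comap (conjAutHom S R)).map (normalizerIn S R).subtype

theorem mem_kNorm {R : Subgroup Ω} {K : Subgroup (MulAut R)} {g : Ω} :
    g ∈ kNorm S R K ↔ ∃ h : g ∈ normalizerIn S R, conjAutHom S R ⟨g, h⟩ ∈ K := by
  constructor
  · rintro ⟨⟨x, hx⟩, h, rfl⟩
    exact ⟨hx, h⟩
  · rintro ⟨h, hK⟩
    exact ⟨⟨g, h⟩, hK, rfl⟩

theorem kNorm_le (R : Subgroup Ω) (K : Subgroup (MulAut R)) : kNorm S R K ≤ normalizerIn S R :=
  Subgroup.map_subtype_le _

theorem card_kNorm (R : Subgroup Ω) (K : Subgroup (MulAut R)) :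
    Nat.card (kNorm S R K) = Nat.card (centralizerIn S R) * Nat.card ↥(autInducedBy S R ⊓ K) := by
  have h1 : Nat.card (kNorm S R K) = Nat.card (K.comap (conjAutHom S R)) :=
    (Nat.card_congr (Subgroup.equivMapOfInjective _ _ (normalizerIn S R).subtype_injective).toEquiv).symm
  let g : ↥(K.comap (conjAutHom S R)) →* MulAut R := (conjAutHom S R).comp (Subgroup.subtype _)
  have hr : g.range = autInducedBy S R ⊓ K := by
    rw [MonoidHom.range_comp, Subgroup.range_subtype, Subgroup.map_comap_eq, range_conjAutHom]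
  have hk : g.ker = ((centralizerIn S R).subgroupOf (normalizerIn S R)).subgroupOf (K.comap (conjAutHom S R)) := by
    rw [← ker_conjAutHom]
    rfl
  have hle : (centralizerIn S R).subgroupOf (normalizerIn S R) ≤ K.comap (conjAutHom S R) := by
    rw [← ker_conjAutHom]
    exact fun x hx => by rw [Subgroup.mem_comap, MonoidHom.mem_ker.mp hx]; exact one_mem K
  rw [h1, ← g.ker.index_mul_card, Subgroup.index_ker, hr, hk,
    Nat.card_congr (Subgroup.subgroupOfEquivOfLe hle).toEquiv,
    Nat.card_congr (Subgroup.subgroupOfEquivOfLe (centralizerIn_le_normalizerIn S R)).toEquiv, mul_comm]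

theorem equiv_comp {P Q R : Subgroup Ω} {f g : Ω → Ω} (hf : IsIso F P Q f) (hg : IsIso F Q R g) :
    (hf.comp hg).equiv = hf.equiv.trans hg.equiv :=
  MulEquiv.ext fun _ => Subtype.ext rfl

theorem equiv_congr {P Q : Subgroup Ω} {f g : Ω → Ω} (hf : IsIso F P Q f) (hg : IsIso F P Q g)
    (h : Set.EqOn f g P) : hf.equiv = hg.equiv :=
  MulEquiv.ext fun x => Subtype.ext (h x.2)

theorem equiv_symm {P Q : Subgroup Ω} {f g : Ω → Ω} (hf : IsIso F P Q f) (hg : IsIso F Q P g)
    (h : ∀ x ∈ P, g (f x) = x) : hg.equiv = hf.equiv.symm := by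
  refine MulEquiv.ext fun y => ?_
  obtain ⟨x, rfl⟩ := hf.equiv.surjective y
  rw [hf.equiv.symm_apply_apply]
  exact Subtype.ext (h x x.2)

theorem map_congr_comp {P Q R : Subgroup Ω} {f g : Ω → Ω} (hf : IsIso F P Q f) (hg : IsIso F Q R g)
    (K : Subgroup (MulAut P)) :
    K.map (MulAut.congr (hf.comp hg).equiv).toMonoidHom =
      (K.map (MulAut.congr hf.equiv).toMonoidHom).map (MulAut.congr hg.equiv).toMonoidHom := by
  rw [Subgroup.map_map, equiv_comp hf hg]
  rfl

/-- A subgroup maximising `N_S^K` is fully centralized and `Aut_S^K(R)` is a Sylow subgroup of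
`Aut_F^K(R)`. -/
theorem kNorm_max [Finite S] (hS : IsPGroup p S) (hF : F.IsSaturated p) {R : Subgroup Ω} (hR : R ≤ S)
    (K : Subgroup (MulAut R))
    (hmax : ∀ R' φ (h : IsIso F R R' φ),
      Nat.card (kNorm S R' (K.map (MulAut.congr h.equiv).toMonoidHom)) ≤ Nat.card (kNorm S R K)) :
    F.IsFullyCentralized R ∧ ∀ Y : Subgroup (MulAut R), Y ≤ F.autGroup R ⊓ K → IsPGroup p Y →
      Nat.card Y ≤ Nat.card ↥(autInducedBy S R ⊓ K) := by
  haveI := finite_of_le hR
  haveI := finite_mulAut R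
  obtain ⟨R₁, hRR₁, hA, hr⟩ := hF R hR
  have hfc := fullyCentralized_of_receptive hr
  obtain ⟨ψ, hψ⟩ := isConj_iff.mp hRR₁
  haveI := finite_of_le hA.1
  haveI := finite_mulAut R₁
  have key : ∀ Y : Subgroup (MulAut R), Y ≤ F.autGroup R ⊓ K → IsPGroup p Y →
      Nat.card (centralizerIn S R₁) * Nat.card Y ≤
        Nat.card (centralizerIn S R) * Nat.card ↥(autInducedBy S R ⊓ K) := by
    intro Y hY hYp
    obtain ⟨T, hT⟩ := hA.2
    have hle : Y.map (MulAut.congr hψ.equiv).toMonoidHom ≤ F.autGroup R₁ := by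
      rw [← autGroup_map_congr hψ]
      exact Subgroup.map_mono (hY.trans inf_le_left)
    obtain ⟨β, hβ, hβY⟩ := IsSylowIn.exists_conj_le (X := autInducedBy S R₁) ⟨T, hT⟩ hle (hYp.map _)
    have hβi := (mem_autGroup hA.1).mp hβ
    have hφ := hψ.comp hβi
    have h1 : Y.map (MulAut.congr hφ.equiv).toMonoidHom ≤ autInducedBy S R₁ := by
      rw [map_congr_comp hψ hβi]
      refine le_trans (le_of_eq ?_) hβY
      have e : hβi.equiv = β := MulEquiv.ext fun x => Subtype.ext (by
        rw [hβi.equiv_apply, autFun_coe])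
      rw [e]
      rfl
    calc Nat.card (centralizerIn S R₁) * Nat.card Y
        = Nat.card (centralizerIn S R₁) * Nat.card (Y.map (MulAut.congr hφ.equiv).toMonoidHom) := by
          rw [Nat.card_congr (Y.equivMapOfInjective (MulAut.congr hφ.equiv).toMonoidHom (MulAut.congr hφ.equiv).injective).toEquiv]
      _ ≤ Nat.card (kNorm S R₁ (K.map (MulAut.congr hφ.equiv).toMonoidHom)) := by
          rw [card_kNorm]
          exact Nat.mul_le_mul_left _
            (Subgroup.card_le_of_le (le_inf h1 (Subgroup.map_mono (hY.trans inf_le_right))))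
      _ ≤ Nat.card (kNorm S R K) := hmax _ _ hφ
      _ = _ := card_kNorm R K
  haveI : Finite (centralizerIn S R₁) := finite_of_le (centralizerIn_le S R₁)
  have hC : Nat.card (centralizerIn S R) ≤ Nat.card (centralizerIn S R₁) := hfc.2 R (isConj_symm hRR₁)
  have hX : IsPGroup p ↥(autInducedBy S R ⊓ K) := by
    have h1 : IsPGroup p (autInducedBy S R) :=
      range_conjAutHom S R ▸ (hS.to_le (normalizerIn_le S R)).of_surjective _
        (conjAutHom S R).rangeRestrict_surjective
    exact h1.to_le inf_le_left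
  refine ⟨⟨hR, fun R' hR' => ?_⟩, fun Y hY hYp => ?_⟩
  · exact (hfc.2 R' (isConj_trans (isConj_symm hRR₁) hR')).trans (Nat.le_of_mul_le_mul_right
      (key _ (inf_le_inf_right K (autInducedBy_le_autGroup hR)) hX) Nat.card_pos)
  · exact Nat.le_of_mul_le_mul_left ((key Y hY hYp).trans (Nat.mul_le_mul_right _ hC)) Nat.card_pos

end Cfsg.Agent.Fusion
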