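import Cfsg.Agent.Lib.Fusion.Alperin
import Cfsg.Agent.Lib.Fusion.KNorm

/-!
# The saturation criterion by receptivity of fully normalized subgroups
-/

set_option autoImplicit false
set_option maxHeartbeats 400000

namespace Cfsg.Agent.Fusion

open Cfsg
open Cfsg.FusionSystem (normalizerIn centralizerIn)

variable {Ω : Type*} [Group Ω] {S : Subgroup Ω} {F : FusionSystem S} {p : ℕ} [Fact p.Prime]

theorem autFun_pow {P : Subgroup Ω} (α : MulAut P) (n : ℕ) :
    Set.EqOn (autFun (α ^ n)) ((autFun α)^[n]) P := by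
  induction n with
  | zero => exact autFun_one
  | succ n ih =>
    intro x hx
    rw [pow_succ', autFun_mul _ _ hx, Function.comp_apply, ih hx, Function.iterate_succ_apply']

theorem fullyAutomized_of_receptive [Finite S] (hS : IsPGroup p S) (hA : F.IsFullyAutomized p S)
    (hR : ∀ P, F.IsFullyNormalized P → F.IsReceptive P) :
    ∀ P, F.IsFullyNormalized P → F.IsFullyAutomized p P := by
  intro P
  induction hn : Nat.card S - Nat.card P using Nat.strong_induction_on generalizing P with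
  | _ n ih =>
  intro hPn
  rcases hPn.1.eq_or_lt with rfl | hlt
  · exact hA
  haveI := finite_of_le hlt.le
  haveI := finite_mulAut P
  set A := F.autGroup P with hAdef
  set AS := (autInducedBy S P).subgroupOf A with hASdef
  have hASp : IsPGroup p AS :=
    (range_conjAutHom S P ▸ (hS.to_le (normalizerIn_le S P)).of_surjective _
      (conjAutHom S P).rangeRestrict_surjective : IsPGroup p (autInducedBy S P)).comap_of_injective _
      A.subtype_injective
  obtain ⟨T, hT⟩ := hASp.exists_le_sylow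
  by_contra hnot
  have hneq : AS ≠ (T : Subgroup A) := fun h => hnot ⟨hlt.le, T, h.symm⟩
  haveI := T.isPGroup'.isNilpotent
  have hlt' : AS.subgroupOf (T : Subgroup A) < ⊤ := lt_of_le_of_ne le_top fun h =>
    hneq (le_antisymm hT (Subgroup.subgroupOf_eq_top.mp h))
  obtain ⟨⟨φ, hφT⟩, hφN, hφAS⟩ := SetLike.exists_of_lt (normalizerCondition_of_isNilpotent _ hlt')
  rw [← Subgroup.subgroupOf_normalizer_eq hT] at hφN
  have hφN' : φ ∈ Subgroup.normalizer (AS : Set A) := hφN
  have hφAS' : φ ∉ AS := hφAS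
  have hiso := (mem_autGroup hlt.le).mp φ.2
  set N := normalizerIn S P with hNdef
  have hNS : N ≤ S := normalizerIn_le S P
  have hPN : P ≤ N := le_normalizerIn hlt.le
  -- extend `φ` to `N`
  have hM : IsExtendable S P (autFun (φ : MulAut P)) N := by
    refine ⟨hNS, fun g hg => ⟨hg.2, ?_⟩⟩
    rw [← congr_autInducedBy_mem hiso hg]
    have hind : conjAutHom S P ⟨g, hg⟩ ∈ autInducedBy S P := by
      rw [← range_conjAutHom]; exact ⟨_, rfl⟩
    have h1 := (Subgroup.mem_normalizer_iff.mp hφN' ⟨_, autInducedBy_le_autGroup hlt.le hind⟩).mp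
      (Subgroup.mem_subgroupOf.mpr hind)
    have e : hiso.equiv = (φ : MulAut P) := MulEquiv.ext fun x => Subtype.ext (by
      rw [hiso.equiv_apply, autFun_coe])
    rw [e]
    exact h1
  obtain ⟨f', hf', he⟩ := receptive_extend (hR P hPn) hiso hM
  have hfN : IsMap F N f' := hf'.mono le_sup_right
  have hfim : f' '' (N : Set Ω) = (N : Set Ω) := by
    have hmem : ∀ g ∈ N, f' g ∈ N := fun g hg =>
      map_mem_normalizer hf' le_sup_left ((Set.image_congr he).trans hiso.2) (le_sup_right (a := P) hg) hg.2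
    refine Set.Subset.antisymm ?_ fun y hy => surjOn_of_card_le hNS hfN.injOn hmem le_rfl y hy
    rintro _ ⟨x, hx, rfl⟩
    exact hmem x hx
  obtain ⟨β, hβ, hβe⟩ := (show IsIso F N N f' from ⟨hfN, hfim⟩).exists_aut
  haveI := finite_of_le hNS
  haveI := finite_mulAut N
  -- a `p`-element with the same restriction
  obtain ⟨a, ha⟩ : ∃ a, orderOf φ = p ^ a := by
    obtain ⟨a, ha⟩ := T.isPGroup'.exists_orderOf_eq_pow ⟨φ, hφT⟩
    exact ⟨a, (Subgroup.orderOf_coe (⟨φ, hφT⟩ : (T : Subgroup A))).trans ha⟩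
  obtain ⟨b, m, hm, hbm⟩ :=
    Nat.exists_eq_pow_mul_and_not_dvd (orderOf_pos β).ne' p (Fact.out : p.Prime).ne_one
  have hco : Nat.Coprime m (p ^ (a + 1)) :=
    (((Fact.out : p.Prime).coprime_iff_not_dvd.mpr hm).symm).pow_right _
  obtain ⟨j, -, hj⟩ := Nat.exists_mul_mod_eq_one_of_coprime hco
    (Nat.one_lt_pow (Nat.succ_ne_zero a) (Fact.out : p.Prime).one_lt)
  set β' := β ^ (m * j) with hβ'
  have hφpow : φ ^ (m * j) = φ := by
    have h1 : φ ^ (p ^ (a + 1)) = 1 := by rw [pow_succ, pow_mul, ← ha, pow_orderOf_eq_one, one_pow]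
    conv_lhs => rw [← Nat.div_add_mod (m * j) (p ^ (a + 1)), hj, pow_add, pow_mul, h1, one_pow, one_mul, pow_one]
  have hiter : ∀ (k : ℕ) x (hx : x ∈ P), (autFun β)^[k] x = autFun ((φ ^ k : A) : MulAut P) x := by
    intro k
    induction k with
    | zero => intro x hx; simpa using (autFun_one hx).symm
    | succ k ihk =>
      intro x hx
      rw [Function.iterate_succ_apply', ihk x hx, pow_succ', Subgroup.coe_mul, autFun_mul _ _ hx,
        Function.comp_apply]
      have hmem : autFun ((φ ^ k : A) : MulAut P) x ∈ P := by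
        rw [autFun_of_mem _ hx]; exact Subtype.mem _
      rw [hβe (hPN hmem), he hmem]
  have hres : Set.EqOn (autFun β') (autFun (φ : MulAut P)) P := fun x hx => by
    rw [hβ', autFun_pow β _ (hPN hx), hiter _ x hx, hφpow]
  have hβ'mem : β' ∈ F.autGroup N := Subgroup.pow_mem _ hβ _
  have hβ'p : IsPGroup p (Subgroup.zpowers β') := by
    have h1 : β' ^ (p ^ b) = 1 := by
      rw [hβ', ← pow_mul, mul_comm (m * j), ← mul_assoc, pow_mul, ← hbm, pow_orderOf_eq_one, one_pow]
    obtain ⟨c, -, hc⟩ := (Nat.dvd_prime_pow (Fact.out : p.Prime)).mp (orderOf_dvd_of_pow_eq_one h1)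
    exact IsPGroup.of_card (n := c) (by rw [Nat.card_zpowers, hc])
  -- move `β'` into `Aut_S(N')`
  obtain ⟨N', hNN', hN'⟩ := exists_fullyNormalized (F := F) hNS
  obtain ⟨χ, hχ⟩ := isConj_iff.mp hNN'
  have hcard : Nat.card P < Nat.card N' := by
    rw [← hχ.card_eq]
    by_contra hle
    exact (lt_normalizerIn hS hlt).ne
      (Subgroup.eq_of_le_of_card_ge (lt_normalizerIn hS hlt).le (not_lt.mp hle))
  have hN'card : Nat.card N' ≤ Nat.card S := Subgroup.card_le_of_le hN'.1
  obtain ⟨R, hRA⟩ := (ih _ (by omega) N' rfl hN').2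
  haveI := finite_of_le hN'.1
  haveI := finite_mulAut N'
  have hle : (Subgroup.zpowers β').map (MulAut.congr hχ.equiv).toMonoidHom ≤ F.autGroup N' := by
    rw [← autGroup_map_congr hχ]
    exact Subgroup.map_mono (Subgroup.zpowers_le.mpr hβ'mem)
  obtain ⟨γ, hγ, hγY⟩ :=
    IsSylowIn.exists_conj_le (X := autInducedBy S N') ⟨R, hRA⟩ hle (hβ'p.map _)
  have hγi := (mem_autGroup hN'.1).mp hγ
  have hξ := hχ.comp hγi
  obtain ⟨g, hg, hgx⟩ := mem_autInducedBy.mp
    (hγY (conj_mem_conjSub (g := γ) ⟨β', Subgroup.mem_zpowers β', rfl⟩))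
  have hξg : ∀ x : N, (autFun γ ∘ χ) ((β' x : N) : Ω) = g * (autFun γ ∘ χ) x * g⁻¹ := by
    intro x
    have h1 := hgx (hξ.equiv x)
    rw [hξ.equiv_apply] at h1
    have e : γ * (MulAut.congr hχ.equiv).toMonoidHom β' * γ⁻¹ = MulAut.congr hξ.equiv β' := by
      refine MulEquiv.ext fun z => ?_
      obtain ⟨w, rfl⟩ := hξ.equiv.surjective z
      apply Subtype.ext
      rw [congr_apply_equiv]
      have e1 : hξ.equiv w = γ (hχ.equiv w) := Subtype.ext (by
        rw [hξ.equiv_apply, Function.comp_apply, ← hχ.equiv_apply, autFun_coe])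
      rw [e1, MulAut.mul_apply, MulAut.mul_apply,
        show γ⁻¹ (γ (hχ.equiv w)) = hχ.equiv w from γ.symm_apply_apply _]
      rw [Function.comp_apply, ← congr_apply_equiv hχ, autFun_coe]
      rfl
    rw [e, congr_apply_equiv] at h1
    exact h1
  -- the element `g` lies in `N'`
  obtain ⟨P', hP'le, hP'iso⟩ := hξ.restrict hPN
  have hgP' : g ∈ normalizerIn S P' := by
    haveI := finite_of_le hP'iso.cod_le
    refine ⟨hg, ?_⟩
    have hmem : ∀ y ∈ P', g * y * g⁻¹ ∈ P' := by
      intro y hy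
      obtain ⟨x, hx, rfl⟩ := hP'iso.exists_preimage hy
      rw [← hξg ⟨x, hPN hx⟩]
      refine hP'iso.mem ?_
      rw [← autFun_coe, hres hx, autFun_of_mem _ hx]
      exact Subtype.mem _
    refine Subgroup.mem_normalizer_iff.mpr fun y => ⟨hmem y, fun hy => ?_⟩
    obtain ⟨z, hz, hzy⟩ := surjOn_of_card_le (M := P') (f := fun t => g * t * g⁻¹) hP'iso.cod_le
      (fun _ _ _ _ h => mul_left_cancel (mul_right_cancel h)) hmem le_rfl _ hy
    rwa [← mul_left_cancel (mul_right_cancel hzy)]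
  have hN'P' : N' ≤ normalizerIn S P' := by
    intro y hy
    obtain ⟨x, hx, rfl⟩ := hξ.exists_preimage hy
    exact map_mem_normalizer hξ.1 hPN hP'iso.2 hx hx.2
  have hgN' : g ∈ N' := by
    haveI := finite_of_le (normalizerIn_le S P')
    rw [Subgroup.eq_of_le_of_card_ge hN'P' ((hPn.2 P' hP'iso.isConj).trans hχ.card_eq.le)]
    exact hgP'
  obtain ⟨h, hh, hhg⟩ := hξ.exists_preimage hgN'
  refine hφAS' (Subgroup.mem_subgroupOf.mpr (mem_autInducedBy.mpr ⟨h, hh.1, fun x => ?_⟩))
  have hxN := hPN x.2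
  have h1 := hξg ⟨x, hxN⟩
  rw [← hhg, ← hξ.1.map_conj hh hxN] at h1
  have := hξ.1.injOn (Subtype.mem _) (Subgroup.mul_mem _ (Subgroup.mul_mem _ hh hxN) (Subgroup.inv_mem _ hh)) h1
  rw [← autFun_coe] at this ⊢
  exact (hres x.2).symm.trans this

theorem isSaturated_iff_receptive [Finite S] (hS : IsPGroup p S) :
    F.IsSaturated p ↔ (F.IsFullyAutomized p S ∧ ∀ P, F.IsFullyNormalized P → F.IsReceptive P) := by
  constructor
  · intro hF
    exact ⟨fullyAutomized_of_fullyNormalized hS hF fullyNormalized_self,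
      fun P hP => receptive_of_fullyNormalized hS hF hP⟩
  · intro h P hP
    obtain ⟨Q, hPQ, hQ⟩ := exists_fullyNormalized hP
    exact ⟨Q, hPQ, fullyAutomized_of_receptive hS h.1 h.2 Q hQ, h.2 Q hQ⟩

end Cfsg.Agent.Fusion
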