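import Cfsg.Agent.Lib.Fusion.PPowerChar
import Cfsg.Agent.Lib.Fusion.Hyperfocal
import Cfsg.Agent.Lib.Fusion.Subsystem
import Cfsg.Agent.Fusion91.PPower
import Mathlib.Algebra.Group.Subgroup.Order
import Mathlib.GroupTheory.Nilpotent

/-!
# Subsystems of `p`-power index: existence
-/

set_option autoImplicit false
set_option linter.style.haveILetI false

namespace Cfsg.Agent.Fusion.PPow

open Cfsg Cfsg.Agent.Fusion Cfsg.Agent.FusTransfer
open Cfsg.FusionSystem (normalizerIn centralizerIn)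
open scoped commutatorElement

universe u v

variable {Ω : Type u} [Group Ω] {S : Subgroup Ω} {F : FusionSystem S}
variable {X : Type u} [MulAction (S × S) X]

/-- `g` intertwines the left action of `P` with its twist by `f`. -/
def Tw (g : rightComm S X) (P : Subgroup Ω) (f : Ω → Ω) : Prop :=
  ∀ x ∈ P, ∀ (h1 : x ∈ S) (h2 : f x ∈ S), g * leftRep S X ⟨x, h1⟩ = leftRep S X ⟨f x, h2⟩ * g

theorem Tw.congr {g : rightComm S X} {P : Subgroup Ω} {f f' : Ω → Ω} (h : Tw g P f)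
    (he : Set.EqOn f f' P) : Tw g P f' := fun x hx h1 h2 => by
  rw [h x hx h1 (he hx ▸ h2)]
  congr 2
  exact Subtype.ext (he hx)

theorem Tw.mono {g : rightComm S X} {P Q : Subgroup Ω} {f : Ω → Ω} (h : Tw g Q f) (hle : P ≤ Q) :
    Tw g P f := fun x hx => h x (hle hx)

theorem Tw.comp {g g' : rightComm S X} {P Q : Subgroup Ω} {f f' : Ω → Ω} (hQS : Q ≤ S)
    (h : Tw g P f) (h' : Tw g' Q f') (hmaps : ∀ x ∈ P, f x ∈ Q) : Tw (g' * g) P (f' ∘ f) := by
  intro x hx h1 h2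
  rw [mul_assoc, h x hx h1 (hQS (hmaps x hx)), ← mul_assoc,
    h' (f x) (hmaps x hx) (hQS (hmaps x hx)) h2, mul_assoc]
  rfl

theorem Tw.inv {g : rightComm S X} {P Q : Subgroup Ω} {f k : Ω → Ω} (hPS : P ≤ S) (h : Tw g P f)
    (hsurj : ∀ y ∈ Q, ∃ x ∈ P, f x = y) (hk : ∀ x ∈ P, k (f x) = x) : Tw g⁻¹ Q k := by
  intro y hy h1 h2
  obtain ⟨x, hx, rfl⟩ := hsurj y hy
  have e : (⟨k (f x), h2⟩ : S) = ⟨x, hPS hx⟩ := Subtype.ext (hk x hx)
  rw [e, inv_mul_eq_iff_eq_mul, ← mul_assoc, h x hx (hPS hx) h1, mul_inv_cancel_right]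

theorem tw_leftRep (s : S) (P : Subgroup Ω) :
    Tw (leftRep S X s) P (fun x => (s : Ω) * x * (s : Ω)⁻¹) := by
  intro x hx h1 h2
  rw [show (⟨(s : Ω) * x * (s : Ω)⁻¹, h2⟩ : S) = s * ⟨x, h1⟩ * s⁻¹ from Subtype.ext rfl, map_mul,
    map_mul, map_inv, inv_mul_cancel_right]

theorem tw_one (P : Subgroup Ω) : Tw (1 : rightComm S X) P id := fun x _ h1 h2 => by
  rw [one_mul, mul_one]
  rfl

theorem exists_tw [Finite S] [Finite X] (hst : ∀ z : X, MulAction.stabilizer (S × S) z ∈ graphs F)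
    (hsta : ∀ R, StableAt F X R) {P : Subgroup Ω} {f : Ω → Ω} (hf : IsMap F P f) :
    ∃ g : rightComm S X, Tw g P f :=
  let ⟨g, hg⟩ := exists_conj_leftRep hst hsta hf
  ⟨g, fun x hx _ _ => hg x hx⟩

/-- One step: the subsystem of index `p`. -/
theorem exists_subsystem_kernel [Finite S] {p : ℕ} [Fact p.Prime] (hS : IsPGroup p S)
    (hF : F.IsSaturated p) {A : Type v} [CommGroup A] (hA : Nat.card A = p) (ψ : S →* A)
    (hsurj : Function.Surjective ψ)
    (hψ : ∀ P f (hf : IsMap F P f) x (hx : x ∈ P),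
      ψ ⟨f x, hf.apply_mem hx⟩ = ψ ⟨x, hf.dom_le hx⟩)
    {T : Subgroup Ω} (hTS : T ≤ S) (hT : ∀ s : S, (s : Ω) ∈ T ↔ ψ s = 1) :
    ∃ E : FusionSystem T, E.IsSaturated p ∧ E.HasPPowerIndexIn F p := by
  classical
  obtain ⟨X, _, _, hst, hsta, m, hXm, hm⟩ := exists_biset (F := F) p hS hF
  haveI : Fintype (Quotient (rightSetoid S X)) := Fintype.ofFinite _
  have hm' : Nat.card (Quotient (rightSetoid S X)) = m := by
    have h1 := card_quotient_mul (F := F) hst
    rw [hXm, mul_comm (Nat.card S)] at h1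
    exact Nat.eq_of_mul_eq_mul_right Nat.card_pos h1
  obtain ⟨pot, hp⟩ := exists_isPot (X := X) hst hψ
  haveI : Finite A := Nat.finite_of_card_ne_zero (hA ▸ (Fact.out : p.Prime).ne_zero)
  have hAp : ∀ a : A, a ^ p = 1 := fun a => hA ▸ pow_card_eq_one'
  have hpow : ∀ a : A, ∃ j : ℕ, (a ^ m) ^ j = a := fun a =>
    exists_pow_eq_self_of_coprime (Nat.Coprime.coprime_dvd_right (orderOf_dvd_of_pow_eq_one (hAp a))
      ((Fact.out : p.Prime).coprime_iff_not_dvd.mpr hm).symm)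
  have hsol : ∀ a : A, ∃ s : S, ψ s ^ m = a := fun a => by
    obtain ⟨j, hj⟩ := hpow a
    obtain ⟨s, hs⟩ := hsurj (a ^ j)
    exact ⟨s, by rw [hs, ← pow_mul, mul_comm, pow_mul, hj]⟩
  have hchi : ∀ s : S, chi hp (leftRep S X s) = ψ s ^ m := fun s => by rw [chi_leftRep, hm']
  have hmemT : ∀ {P : Subgroup Ω} {f : Ω → Ω}, IsMap F P f → ∀ x ∈ P, x ∈ T → f x ∈ T :=
    fun {P f} hf x hx hxT => (hT ⟨f x, hf.apply_mem hx⟩).2 (by
      rw [hψ P f hf x hx]; exact (hT ⟨x, hf.dom_le hx⟩).1 hxT)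
  let E : FusionSystem T := mkSub F T
    (fun P f => IsMap F P f ∧ P ≤ T ∧ ∃ g : rightComm S X, chi hp g = 1 ∧ Tw g P f)
    (fun {P f f'} ⟨h1, h2, g, h3, h4⟩ he => ⟨h1.congr he, h2, g, h3, h4.congr he⟩)
    (fun {P f} ⟨h1, h2, _⟩ => ⟨h1, h2, fun x hx => hmemT h1 x hx (h2 hx)⟩)
    (fun {P g} hP hg => ⟨isMap_conj (hP.trans hTS) (hTS hg), hP, leftRep S X ⟨g, hTS hg⟩,
      by rw [hchi, (hT ⟨g, hTS hg⟩).1 hg, one_pow], tw_leftRep _ P⟩)
    (fun {P Q f f'} ⟨h1, h2, g, h3, h4⟩ ⟨k1, _, g', k3, k4⟩ hmaps =>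
      ⟨h1.comp k1 hmaps, h2, g' * g, by rw [map_mul, h3, k3, one_mul], h4.comp k1.dom_le k4 hmaps⟩)
    (fun {P Q f k} ⟨h1, h2, g, h3, h4⟩ hf hk hkl =>
      ⟨hk.1, fun y hy => by
        obtain ⟨x, hx, rfl⟩ := hf.exists_preimage hy
        exact hmemT h1 x hx (h2 hx),
        g⁻¹, by rw [map_inv, h3, inv_one],
        h4.inv h1.dom_le (fun y hy => hf.exists_preimage hy) hkl⟩)
  have hE : ∀ {P : Subgroup Ω} {f : Ω → Ω}, IsMap E P f ↔
      IsMap F P f ∧ P ≤ T ∧ ∃ g : rightComm S X, chi hp g = 1 ∧ Tw g P f :=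
    fun {P f} => isMap_mkSub
  have hsub : E.IsSubsystemOf F := fun P => hom_subset_of_isMap fun f hf => (hE.1 hf).1
  have hautE : ∀ {R : Subgroup Ω}, R ≤ T → ∀ α : MulAut R, α ∈ E.autGroup R ↔
      (IsIso F R R (autFun α) ∧ ∃ g : rightComm S X, chi hp g = 1 ∧ Tw g R (autFun α)) := by
    intro R hR α
    rw [mem_autGroup hR]
    exact ⟨fun h => ⟨⟨(hE.1 h.1).1, h.2⟩, (hE.1 h.1).2.2⟩, fun h => ⟨hE.2 ⟨h.1.1, hR, h.2⟩, h.1.2⟩⟩
  refine ⟨E, fun P hP => ?_, hsub, ?_, ?_⟩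
  · -- saturation
    obtain ⟨R₀, hPR₀, hR₀⟩ := exists_fullyNormalized (F := F) (hP.trans hTS)
    obtain ⟨θ, hθ⟩ := isConj_iff.1 hPR₀
    obtain ⟨g₀, hg₀⟩ := exists_tw hst hsta hθ.1
    obtain ⟨s, hs⟩ := hsol (chi hp g₀)⁻¹
    obtain ⟨R, hR⟩ := (isMap_conj (F := F) hR₀.1 s.2).exists_image
    set θ' := (fun x => (s : Ω) * x * (s : Ω)⁻¹) ∘ θ with hθ'def
    have hθ' : IsIso F P R θ' := hθ.comp hR
    have hRT : R ≤ T := fun y hy => by
      obtain ⟨x, hx, rfl⟩ := hθ'.exists_preimage hy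
      exact hmemT hθ'.1 x hx (hP hx)
    have hPR : IsIso E P R θ' :=
      ⟨hE.2 ⟨hθ'.1, hP, leftRep S X s * g₀, by rw [map_mul, hchi, hs, inv_mul_cancel],
        hg₀.comp hR₀.1 (tw_leftRep s R₀) fun x hx => hθ.mem hx⟩, hθ'.2⟩
    have hRn : F.IsFullyNormalized R := by
      refine ⟨hR.cod_le, fun Q hQ => (hR₀.2 Q (isConj_trans hR.isConj hQ)).trans ?_⟩
      refine card_le_of_injOn (f := fun x => (s : Ω) * x * (s : Ω)⁻¹) (normalizerIn_le S R)
        (isMap_conj (F := F) (normalizerIn_le S R₀) s.2).injOn fun x hx => ?_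
      exact map_mem_normalizer (isMap_conj (F := F) le_rfl s.2) hR₀.1 hR.2 hx.1 hx.2
    have hRrec : F.IsReceptive R := receptive_of_fullyNormalized hS hF hRn
    refine ⟨R, hPR.isConj, ⟨hRT, ?_⟩, ?_⟩
    · -- fully automized
      haveI := finite_of_le hRn.1
      haveI := finite_mulAut R
      obtain ⟨P₀, hP₀⟩ := (fullyAutomized_of_fullyNormalized hS hF hRn).2
      have key : ∀ α ∈ E.autGroup R, α ∈ autInducedBy S R → α ∈ autInducedBy T R := by
        intro α hα hαS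
        obtain ⟨-, g, hg1, hg⟩ := (hautE hRT α).1 hα
        obtain ⟨t, ht, htα⟩ := mem_autInducedBy.1 hαS
        have heq : Set.EqOn (autFun α) (fun x => t * x * t⁻¹) R := fun x hx =>
          (autFun_of_mem α hx).trans (htα ⟨x, hx⟩)
        obtain ⟨c, hc, hcψ⟩ := exists_centralizer_eq_chi hS hst hψ hA hp hRrec
          (g⁻¹ * leftRep S X ⟨t, ht⟩) (fun r hr h => by
            have h2 : t * r * t⁻¹ ∈ S := S.mul_mem (S.mul_mem ht h) (S.inv_mem ht)
            rw [mul_assoc, tw_leftRep (X := X) ⟨t, ht⟩ R r hr h h2, ← mul_assoc, ← mul_assoc]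
            congr 1
            rw [inv_mul_eq_iff_eq_mul, ← mul_assoc, (hg.congr heq) r hr h h2, mul_inv_cancel_right])
        rw [map_mul, map_inv, hg1, inv_one, one_mul, hchi] at hcψ
        obtain ⟨j, hj⟩ := hpow (ψ ⟨t, ht⟩)
        refine mem_autInducedBy.2 ⟨t * ((c ^ j : S) : Ω)⁻¹, (hT (⟨t, ht⟩ * (c ^ j)⁻¹)).2 (by
          rw [map_mul, map_inv, map_pow, hcψ, hj, mul_inv_cancel]), fun x => ?_⟩
        have hcj : ((c ^ j : S) : Ω) ∈ centralizerIn S R := by
          rw [Subgroup.coe_pow]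
          exact pow_mem hc j
        rw [htα x]
        have h5 := Subgroup.mem_centralizer_iff.1 ((centralizerIn S R).inv_mem hcj).2 x x.2
        calc t * (x : Ω) * t⁻¹ = t * ((x : Ω) * ((c ^ j : S) : Ω)⁻¹) * ((c ^ j : S) : Ω) * t⁻¹ := by group
          _ = t * (((c ^ j : S) : Ω)⁻¹ * x) * ((c ^ j : S) : Ω) * t⁻¹ := by rw [h5]
          _ = _ := by group
      have hle : E.autGroup R ≤ F.autGroup R := autGroup_mono (hsub R)
      have hnorm : ∀ β ∈ F.autGroup R, ∀ α ∈ E.autGroup R, β * α * β⁻¹ ∈ E.autGroup R := by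
        intro β hβ α hα
        obtain ⟨h1, g, hg1, hg⟩ := (hautE hRT α).1 hα
        have hβ' := (mem_autGroup hRn.1).1 hβ
        obtain ⟨gb, hgb⟩ := exists_tw hst hsta hβ'.1
        have hgbi : Tw gb⁻¹ R (autFun β⁻¹) := hgb.inv hRn.1 (fun y hy => hβ'.exists_preimage hy)
          fun x hx => by
            rw [← Function.comp_apply (f := autFun β⁻¹), ← autFun_mul β⁻¹ β hx, inv_mul_cancel,
              autFun_one hx, id]
        refine (hautE hRT _).2 ⟨(mem_autGroup hRn.1).1 ((F.autGroup R).mul_mem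
          ((F.autGroup R).mul_mem hβ (hle hα)) ((F.autGroup R).inv_mem hβ)),
          gb * g * gb⁻¹, by rw [map_mul, map_mul, hg1, mul_one, map_inv, mul_inv_cancel], ?_⟩
        have hβi := (mem_autGroup hRn.1).1 ((F.autGroup R).inv_mem hβ)
        have h3 : Tw (gb * g) R (autFun β ∘ autFun α) := hg.comp hRn.1 hgb fun x hx => h1.mem hx
        refine (hgbi.comp hRn.1 h3 fun x hx => hβi.mem hx).congr fun x hx => ?_
        rw [autFun_mul (β * α) β⁻¹ hx]
        simp only [Function.comp_apply]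
        rw [autFun_mul β α (hβi.mem hx), Function.comp_apply]
      have hXp : IsPGroup p ((autInducedBy T R).subgroupOf (E.autGroup R)) := by
        refine IsPGroup.comap_subtype ?_
        rw [← range_conjAutHom]
        exact (hS.to_le ((normalizerIn_le T R).trans hTS)).of_surjective
          (conjAutHom T R).rangeRestrict (MonoidHom.rangeRestrict_surjective _)
      obtain ⟨U, hU⟩ := hXp.exists_le_sylow
      suffices hcard : ∀ Y : Subgroup (E.autGroup R), IsPGroup p Y →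
          Nat.card Y ≤ Nat.card ((autInducedBy T R).subgroupOf (E.autGroup R)) from
        ⟨U, (Subgroup.eq_of_le_of_card_ge hU (hcard _ U.isPGroup')).symm⟩
      intro Y hY
      obtain ⟨Q, hQ⟩ := (hY.map (Subgroup.inclusion hle)).exists_le_sylow
      obtain ⟨β, hβ⟩ := MulAction.exists_smul_eq (F.autGroup R) Q P₀
      have hmem : ∀ y : Y, (β : MulAut R) * ((y : E.autGroup R) : MulAut R) * (β : MulAut R)⁻¹ ∈
          autInducedBy S R := by
        intro y
        have h1 : β * Subgroup.inclusion hle (y : E.autGroup R) * β⁻¹ ∈ (β • Q : Sylow p (F.autGroup R)) :=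
          ⟨_, hQ ⟨y, y.2, rfl⟩, rfl⟩
        rw [hβ] at h1
        replace h1 : _ ∈ (P₀ : Subgroup (F.autGroup R)) := h1
        rw [hP₀, Subgroup.mem_subgroupOf] at h1
        exact h1
      refine Nat.card_le_card_of_injective (fun y : Y =>
        (⟨⟨(β : MulAut R) * ((y : E.autGroup R) : MulAut R) * (β : MulAut R)⁻¹,
          hnorm _ β.2 _ (y : E.autGroup R).2⟩, Subgroup.mem_subgroupOf.2
            (key _ (hnorm _ β.2 _ (y : E.autGroup R).2) (hmem y))⟩ :
          (autInducedBy T R).subgroupOf (E.autGroup R))) ?_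
      intro a b hab
      have h := congrArg (fun z : (autInducedBy T R).subgroupOf (E.autGroup R) =>
        ((z : E.autGroup R) : MulAut R)) hab
      exact Subtype.ext (Subtype.ext (mul_left_cancel (mul_right_cancel h)))
    · -- receptive
      refine isReceptive_of hRT fun P₁ f hf M hPM hM => ?_
      obtain ⟨hfF, hP₁, g, hg1, hg⟩ := hE.1 hf.1
      have hf₁ : IsIso F P₁ R f := ⟨hfF, hf.2⟩
      have hMF : IsExtendable S P₁ f M := ⟨hM.1.trans hTS, fun x hx => by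
        obtain ⟨h1, h, hh, h2⟩ := hM.2 x hx
        exact ⟨h1, h, hTS hh, h2⟩⟩
      obtain ⟨f₀, hf₀', hf₀e⟩ := receptive_extend hRrec hf₁ hMF
      have hf₀ : IsMap F M f₀ := hf₀'.mono le_sup_right
      obtain ⟨g', hg'⟩ := exists_tw hst hsta hf₀
      have hgi : ∀ (y : Ω) (hy : y ∈ R) (h : y ∈ S),
          (g' * g⁻¹) * leftRep S X ⟨y, h⟩ = leftRep S X ⟨y, h⟩ * (g' * g⁻¹) := by
        intro y hy h
        obtain ⟨x, hx, rfl⟩ := hf₁.exists_preimage hy
        have h1 := hg x hx (hf₁.dom_le hx) h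
        have h2 := hg' x (hPM hx) (hf₁.dom_le hx) (hf₀e hx ▸ h)
        rw [show (⟨f₀ x, hf₀e hx ▸ h⟩ : S) = ⟨f x, h⟩ from Subtype.ext (hf₀e hx)] at h2
        have h3 : g⁻¹ * leftRep S X ⟨f x, h⟩ = leftRep S X ⟨x, hf₁.dom_le hx⟩ * g⁻¹ := by
          rw [inv_mul_eq_iff_eq_mul, ← mul_assoc, h1, mul_inv_cancel_right]
        rw [mul_assoc, h3, ← mul_assoc, h2, mul_assoc]
      obtain ⟨c, hc, hcψ⟩ := exists_centralizer_eq_chi hS hst hψ hA hp hRrec _ hgi
      rw [map_mul, map_inv, hg1, inv_one, mul_one] at hcψ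
      obtain ⟨j, hj⟩ := hpow (ψ c)
      have hcj : ((c⁻¹ ^ j : S) : Ω) ∈ centralizerIn S R := by
        rw [Subgroup.coe_pow, Subgroup.coe_inv]
        exact pow_mem ((centralizerIn S R).inv_mem hc) j
      refine ⟨_, hE.2 ⟨hf₀.comp (isMap_conj (F := F) le_rfl (c⁻¹ ^ j).2) fun x hx => hf₀.apply_mem hx,
        hM.1, leftRep S X (c⁻¹ ^ j) * g', ?_, hg'.comp le_rfl (tw_leftRep _ S) fun x hx => hf₀.apply_mem hx⟩,
        fun x hx => ?_⟩
      · rw [map_mul, hchi, map_pow, map_inv, ← hcψ, ← pow_mul, mul_comm j m, pow_mul, inv_pow, inv_pow,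
          hj, inv_mul_cancel]
      · show _ * f₀ x * _ = f x
        rw [hf₀e hx, ← Subgroup.mem_centralizer_iff.1 hcj.2 (f x) (hf₁.mem hx), mul_inv_cancel_right]
  · -- contains the hyperfocal subgroup
    refine (Subgroup.closure_le _).2 ?_
    rintro _ ⟨P, α, x, hP, -, rfl⟩
    have hf := ((mem_autGroup hP).1 α.2).1
    have h1 := hψ P _ hf x x.2
    have h2 := (hT ((⟨x, hP x.2⟩ : S)⁻¹ * ⟨autFun (α : MulAut P) x, hf.apply_mem x.2⟩)).2
      (by rw [map_mul, map_inv, h1, inv_mul_cancel])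
    rw [Subgroup.coe_mul, Subgroup.coe_inv] at h2
    simpa [autFun_coe] using h2
  · -- contains the residuals
    intro P hP
    haveI := finite_of_le (hP.trans hTS)
    haveI := finite_mulAut P
    rw [Subgroup.map_le_iff_le_comap, Transfer.pResidual_le_iff]
    intro α hα
    obtain ⟨j, hj⟩ : ∃ j : ℕ, (α ^ p) ^ j = α := exists_pow_eq_self_of_coprime hα.symm
    have hαi := (mem_autGroup (hP.trans hTS)).1 α.2
    obtain ⟨g, hg⟩ := exists_tw hst hsta hαi.1
    have hit : ∀ n : ℕ, Tw (g ^ n) P (autFun ((α : MulAut P) ^ n)) := by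
      intro n
      induction n with
      | zero => rw [pow_zero, pow_zero]; exact (tw_one P).congr autFun_one.symm
      | succ n ih =>
        rw [pow_succ', pow_succ']
        have hn := (mem_autGroup (hP.trans hTS)).1 ((F.autGroup P).pow_mem α.2 n)
        exact (ih.comp (hP.trans hTS) hg fun x hx => hn.mem hx).congr (autFun_mul _ _).symm
    show (α : MulAut P) ∈ E.autGroup P
    refine (hautE hP _).2 ⟨hαi, g ^ (p * j), ?_, ?_⟩
    · rw [map_pow, pow_mul, hAp, one_pow]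
    · have h := hit (p * j)
      rwa [← Subgroup.coe_pow, show α ^ (p * j) = α by rw [pow_mul]; exact hj] at h

/-- A maximal subgroup containing `T`, with the quotient map. -/
theorem exists_maximal [Finite S] {p : ℕ} [Fact p.Prime] (hS : IsPGroup p S) {T : Subgroup Ω}
    (hTS : T < S) :
    ∃ K : Subgroup S, ∃ _ : K.Normal, Nat.card (S ⧸ K) = p ∧ T.subgroupOf S ≤ K := by
  obtain ⟨K, hK, hTK⟩ : ∃ K : Subgroup S, IsCoatom K ∧ T.subgroupOf S ≤ K := by
    rcases eq_top_or_exists_le_coatom (T.subgroupOf S) with h | h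
    · exact absurd (Subgroup.subgroupOf_eq_top.1 h) hTS.not_ge
    · exact h
  haveI : Group.IsNilpotent S := hS.isNilpotent
  haveI hn : K.Normal := Subgroup.NormalizerCondition.normal_of_coatom K Group.normalizerCondition_of_isNilpotent hK
  refine ⟨K, hn, ?_, hTK⟩
  have hq : IsPGroup p (S ⧸ K) := hS.to_quotient K
  haveI : Nontrivial (S ⧸ K) := QuotientGroup.nontrivial_iff.mpr hK.1
  obtain ⟨n, hn0, hn⟩ := hq.nontrivial_iff_card.mp inferInstance
  obtain ⟨x, hx⟩ := exists_prime_orderOf_dvd_card' (G := S ⧸ K) p (hn ▸ dvd_pow_self p hn0.ne')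
  have hx1 : x ≠ 1 := fun h => (Fact.out : p.Prime).ne_one (by rw [← hx, h, orderOf_one])
  have htop : (Subgroup.zpowers x).comap (QuotientGroup.mk' K) = ⊤ := by
    refine (hK.le_iff.1 (fun k hk => ?_)).resolve_right fun h => hx1 ?_
    · rw [Subgroup.mem_comap, show QuotientGroup.mk' K k = 1 from (QuotientGroup.eq_one_iff k).2 hk]
      exact one_mem _
    · obtain ⟨s, rfl⟩ := QuotientGroup.mk'_surjective K x
      exact (QuotientGroup.eq_one_iff s).2 (h ▸ Subgroup.mem_comap.2 (Subgroup.mem_zpowers _))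
  rw [← Subgroup.card_top, ← Subgroup.map_top_of_surjective _ (QuotientGroup.mk'_surjective K), ← htop,
    Subgroup.map_comap_eq_self_of_surjective (QuotientGroup.mk'_surjective K), Nat.card_zpowers, hx]

/-- The hyperfocal subgroup is monotone. -/
theorem hyperfocal_mono {T : Subgroup Ω} {E : FusionSystem T} {p : ℕ} [Fact p.Prime] (hTS : T ≤ S)
    (hE : E.IsSubsystemOf F) : E.hyperfocalSubgroup p ≤ F.hyperfocalSubgroup p := by
  refine (Subgroup.closure_le _).2 ?_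
  rintro _ ⟨P, α, x, hP, hα, rfl⟩
  have h := Transfer.map_pResidual_le (p := p) (Subgroup.inclusion (autGroup_mono (hE P))) ⟨α, hα, rfl⟩
  exact Subgroup.subset_closure ⟨P, _, x, hP.trans hTS, h, rfl⟩

/-- Existence of the subsystem of `p`-power index over any subgroup above the hyperfocal one. -/
theorem exists_pPowerIndex {p : ℕ} [Fact p.Prime] :
    ∀ (n : ℕ) (S : Subgroup Ω) (F : FusionSystem S), Finite S → Nat.card S = n → IsPGroup p S →
      F.IsSaturated p → ∀ T : Subgroup Ω, T ≤ S → F.hyperfocalSubgroup p ≤ T →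
        ∃ E : FusionSystem T, E.IsSaturated p ∧ E.HasPPowerIndexIn F p := by
  intro n
  induction n using Nat.strong_induction_on with
  | _ n ih =>
    intro S F _ hn hS hF T hTS hT
    rcases hTS.eq_or_lt with rfl | hlt
    · exact ⟨F, hF, fun _ => Set.Subset.rfl, hT, fun P _ => Subgroup.map_subtype_le _⟩
    obtain ⟨K, hKn, hKc, hTK⟩ := exists_maximal (p := p) hS hlt
    haveI : IsCyclic (S ⧸ K) := isCyclic_of_prime_card hKc
    letI : CommGroup (S ⧸ K) := IsCyclic.commGroup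
    have hψ : ∀ P f (hf : IsMap F P f) x (hx : x ∈ P),
        QuotientGroup.mk' K ⟨f x, hf.apply_mem hx⟩ = QuotientGroup.mk' K ⟨x, hf.dom_le hx⟩ := by
      intro P f hf x hx
      have hle : F.focalSubgroup ≤ K.map S.subtype := by
        rw [focal_eq hS hF (p := p), sup_le_iff]
        refine ⟨fun y hy => ⟨⟨y, hTS (hT hy)⟩, hTK (hT hy), rfl⟩, ?_⟩
        refine Subgroup.commutator_le.2 fun a ha b hb => ⟨⁅(⟨a, ha⟩ : S), ⟨b, hb⟩⁆, ?_, rfl⟩
        rw [SetLike.mem_coe, ← QuotientGroup.eq_one_iff, ← QuotientGroup.mk'_apply,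
          map_commutatorElement, commutatorElement_eq_one_iff_mul_comm, mul_comm]
      obtain ⟨y, hy, hye⟩ := hle (focal_gen_mem hf hx)
      symm
      refine QuotientGroup.eq.2 ?_
      rwa [← show y = (⟨x, hf.dom_le hx⟩ : S)⁻¹ * ⟨f x, hf.apply_mem hx⟩ from Subtype.ext hye]
    have hMS : K.map S.subtype ≤ S := Subgroup.map_subtype_le _
    obtain ⟨E₁, hE₁, hE₁F⟩ := exists_subsystem_kernel hS hF hKc (QuotientGroup.mk' K)
      (QuotientGroup.mk'_surjective K) hψ hMS fun s => by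
        rw [QuotientGroup.mk'_apply, QuotientGroup.eq_one_iff]
        exact ⟨fun ⟨y, hy, he⟩ => Subtype.ext he ▸ hy, fun h => ⟨s, h, rfl⟩⟩
    haveI hMfin := finite_of_le hMS
    have hlt' : Nat.card (K.map S.subtype) < n := by
      rw [← hn, Subgroup.card_eq_card_quotient_mul_card_subgroup K, hKc,
        Subgroup.card_map_of_injective S.subtype_injective]
      exact lt_mul_of_one_lt_left Nat.card_pos (Fact.out : p.Prime).one_lt
    obtain ⟨E, hE, hEE⟩ := ih _ hlt' _ E₁ hMfin rfl (hS.to_le hMS) hE₁ T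
      (fun x hx => ⟨⟨x, hTS hx⟩, hTK hx, rfl⟩) ((hyperfocal_mono hMS hE₁F.1).trans hT)
    refine ⟨E, hE, fun P => (hEE.1 P).trans (hE₁F.1 P), hT, fun P hP => ?_⟩
    haveI := finite_of_le (hP.trans hTS)
    haveI := finite_mulAut P
    rw [Subgroup.map_le_iff_le_comap, Transfer.pResidual_le_iff]
    intro α hα
    have h1 : (α : MulAut P) ∈ E₁.autGroup P :=
      hE₁F.2.2 P (hP.trans fun x hx => ⟨⟨x, hTS hx⟩, hTK hx, rfl⟩)
        ⟨α, Transfer.mem_pResidual_of_coprime hα, rfl⟩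
    refine hEE.2.2 P hP ⟨⟨α, h1⟩, Transfer.mem_pResidual_of_coprime ?_, rfl⟩
    rw [← Subgroup.orderOf_coe] at hα ⊢
    exact hα

end Cfsg.Agent.Fusion.PPow
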