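import Cfsg.Agent.Lib.Fusion.Normal
import Mathlib.GroupTheory.PGroup

/-!
# Saturated fusion systems over `p`-groups whose centre has index `p²`

Middle subgroups, their automorphisms and the invariant complement of the derived subgroup.
-/

set_option autoImplicit false
set_option maxHeartbeats 400000

namespace Cfsg.Agent.Fusion.CenterIndex

open Cfsg
open Cfsg.Agent.Fusion
open Cfsg.FusionSystem (normalizerIn centralizerIn)
open scoped commutatorElement Pointwise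

variable {Ω : Type*} [Group Ω] {S : Subgroup Ω}

/-- The centre of `S` as a subgroup of the ambient group. -/
abbrev Zc (S : Subgroup Ω) : Subgroup Ω := centralizerIn S S

theorem zcS_le : Zc S ≤ S := centralizerIn_le S S

theorem zc_comm {z y : Ω} (hz : z ∈ Zc S) (hy : y ∈ S) : Commute z y :=
  (Subgroup.mem_centralizer_iff.mp hz.2 y hy).symm

theorem mem_zc {z : Ω} (hz : z ∈ S) (h : ∀ y ∈ S, Commute z y) : z ∈ Zc S :=
  ⟨hz, Subgroup.mem_centralizer_iff.mpr fun y hy => (h y hy).symm⟩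

/-- The standing data: `c` generates the derived subgroup. -/
structure Ctx (p : ℕ) (S : Subgroup Ω) (c : Ω) : Prop where
  pgroup : IsPGroup p S
  card_eq : Nat.card S = p ^ 2 * Nat.card (Zc S)
  c_mem : c ∈ Zc S
  c_ne : c ≠ 1
  c_pow : c ^ p = 1
  comm_mem : ∀ x ∈ S, ∀ y ∈ S, ⁅x, y⁆ ∈ Subgroup.zpowers c

/-- A subgroup of index `p` containing the centre. -/
structure IsMid (p : ℕ) (S E : Subgroup Ω) : Prop where
  le : E ≤ S
  zc_le : Zc S ≤ E
  card_eq : Nat.card E = p * Nat.card (Zc S)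

theorem eq_of_prime_card {p : ℕ} (hp : p.Prime) {A B C : Subgroup Ω} [Finite C] (hAB : A < B) (hBC : B ≤ C)
    (hcard : Nat.card C = p * Nat.card A) : B = C := by
  haveI := finite_of_le hBC
  haveI := finite_of_le (hAB.le.trans hBC)
  obtain ⟨d, hd⟩ := Subgroup.card_dvd_of_le hAB.le
  obtain ⟨e, he⟩ := Subgroup.card_dvd_of_le hBC
  have hA : 0 < Nat.card A := Nat.card_pos
  have hde : d * e = p := by
    apply Nat.eq_of_mul_eq_mul_left hA
    rw [← mul_assoc, ← hd, ← he, hcard, mul_comm]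
  rcases (Nat.dvd_prime hp).mp ⟨e, hde.symm⟩ with h | h
  · exact absurd (Subgroup.eq_of_le_of_card_ge hAB.le (by rw [hd, h, mul_one])) hAB.ne
  · refine Subgroup.eq_of_le_of_card_ge hBC (le_of_eq ?_)
    rw [hcard, hd, h, mul_comm]

variable {p : ℕ} [hp : Fact p.Prime] {c : Ω} [Finite S]

theorem exists_pow_of_zpowers {a x : Ω} (ha : a ∈ S) (hx : x ∈ Subgroup.zpowers a) : ∃ n : ℕ, a ^ n = x := by
  have h : IsOfFinOrder a := by
    simpa using MonoidHom.isOfFinOrder S.subtype (isOfFinOrder_of_finite (⟨a, ha⟩ : S))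
  exact (h.mem_powers_iff_mem_zpowers).mpr hx

namespace Ctx

variable (hc : Ctx p S c)
include hc

omit [Finite S] hp in
theorem c_inS : c ∈ S := zcS_le hc.c_mem

omit [Finite S] hp in
theorem zpowers_le : Subgroup.zpowers c ≤ Zc S := Subgroup.zpowers_le.mpr hc.c_mem

omit [Finite S] hp in
theorem comm_zc {x y : Ω} (hx : x ∈ S) (hy : y ∈ S) : ⁅x, y⁆ ∈ Zc S :=
  hc.zpowers_le (hc.comm_mem x hx y hy)

omit [Finite S] hp in
theorem comm_mul_left {x y z : Ω} (hx : x ∈ S) (hy : y ∈ S) (hz : z ∈ S) :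
    ⁅x * y, z⁆ = ⁅x, z⁆ * ⁅y, z⁆ := by
  have h2 := zc_comm (hc.comm_zc hy hz) hx
  have h3 := zc_comm (hc.comm_zc hy hz) (zcS_le (hc.comm_zc hx hz))
  have h1 : ⁅x * y, z⁆ = x * ⁅y, z⁆ * x⁻¹ * ⁅x, z⁆ := by
    simp only [commutatorElement_def]; group
  rw [h1, ← h2.eq]
  simp [mul_assoc, h3.eq]

omit [Finite S] hp in
theorem comm_pow_left {x z : Ω} (hx : x ∈ S) (hz : z ∈ S) (n : ℕ) : ⁅x ^ n, z⁆ = ⁅x, z⁆ ^ n := by
  induction n with
  | zero => simp [commutatorElement_def]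
  | succ n ih => rw [pow_succ, hc.comm_mul_left (S.pow_mem hx n) hx hz, ih, pow_succ]

omit [Finite S] hp in
theorem conj_eq {x y : Ω} (hx : x ∈ S) (hy : y ∈ S) : y⁻¹ * (x * y * x⁻¹) = ⁅x, y⁆ := by
  have := (zc_comm (hc.comm_zc hx hy) hy).eq
  rw [show x * y * x⁻¹ = ⁅x, y⁆ * y by simp [commutatorElement_def], this, inv_mul_cancel_left]

theorem orderOf_eq {y : Ω} (hy : y ∈ Subgroup.zpowers c) (hy1 : y ≠ 1) : orderOf y = p := by
  obtain ⟨n, rfl⟩ := exists_pow_of_zpowers hc.c_inS hy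
  exact orderOf_eq_prime (by rw [← pow_mul, mul_comm, pow_mul, hc.c_pow, one_pow]) hy1

/-- A non-trivial power of `c` generates the powers of `c`. -/
theorem gen_c {y y' : Ω} (hy : y ∈ Subgroup.zpowers c) (hy1 : y ≠ 1) (hy' : y' ∈ Subgroup.zpowers c) :
    ∃ m : ℕ, y ^ m = y' := by
  have h1 : orderOf c = p := orderOf_eq_prime hc.c_pow hc.c_ne
  have hfin : Finite (Subgroup.zpowers c) := finite_of_le (Subgroup.zpowers_le.mpr hc.c_inS)
  have heq : Subgroup.zpowers y = Subgroup.zpowers c :=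
    Subgroup.eq_of_le_of_card_ge (Subgroup.zpowers_le.mpr hy)
      (by rw [Nat.card_zpowers, Nat.card_zpowers, h1, hc.orderOf_eq hy hy1])
  exact exists_pow_of_zpowers (zcS_le (hc.zpowers_le hy)) (heq.symm ▸ hy')

theorem exists_noncomm : ∃ x ∈ S, ∃ y ∈ S, ⁅x, y⁆ ≠ 1 := by
  haveI := finite_of_le (zcS_le (S := S))
  obtain ⟨x, hx, hxZ⟩ : ∃ x ∈ S, x ∉ Zc S := by
    by_contra! h
    have h1 := Subgroup.card_le_of_le (K := Zc S) (fun x hx => h x hx : S ≤ Zc S)
    rw [hc.card_eq] at h1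
    have h2 : 0 < Nat.card (Zc S) := by
      haveI := finite_of_le (zcS_le (S := S))
      exact Nat.card_pos
    have h3 : 4 ≤ p ^ 2 := Nat.pow_le_pow_left hp.out.two_le 2
    nlinarith
  by_contra! h
  exact hxZ (mem_zc hx fun y hy => commutatorElement_eq_one_iff_commute.mp (h x hx y hy))

end Ctx

namespace IsMid

variable {E : Subgroup Ω} (hc : Ctx p S c) (hE : IsMid p S E)
include hc hE

theorem exists_not_mem : ∃ a ∈ E, a ∉ Zc S := by
  haveI := finite_of_le hE.le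
  haveI := finite_of_le (zcS_le (S := S))
  by_contra! h
  have h1 := Subgroup.card_le_of_le (H := E) (K := Zc S) h
  have h2 : 0 < Nat.card (Zc S) := by
    haveI := finite_of_le (zcS_le (S := S))
    exact Nat.card_pos
  have h3 := hp.out.two_le
  rw [hE.card_eq] at h1
  nlinarith

theorem exists_outside : ∃ b ∈ S, b ∉ E := by
  haveI := finite_of_le hE.le
  haveI := finite_of_le (zcS_le (S := S))
  by_contra! h
  have h1 := Subgroup.card_le_of_le (H := S) (K := E) h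
  have h2 : 0 < Nat.card (Zc S) := by
    haveI := finite_of_le (zcS_le (S := S))
    exact Nat.card_pos
  have h3 := hp.out.two_le
  rw [hE.card_eq, hc.card_eq] at h1
  nlinarith [Nat.mul_le_mul_left (p * Nat.card (Zc S)) hp.out.two_le]

omit hc in
theorem decomp {a : Ω} (ha : a ∈ E) (haZ : a ∉ Zc S) {x : Ω} (hx : x ∈ E) :
    ∃ z ∈ Zc S, ∃ n : ℕ, x = z * a ^ n := by
  haveI := finite_of_le hE.le
  have htop : Zc S ⊔ Subgroup.zpowers a = E := by
    refine eq_of_prime_card hp.out (lt_of_le_of_ne le_sup_left fun h => haZ ?_)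
      (sup_le hE.zc_le (Subgroup.zpowers_le.mpr ha)) hE.card_eq
    rw [h]
    exact Subgroup.mem_sup_right (Subgroup.mem_zpowers a)
  have hn : Subgroup.zpowers a ≤ Subgroup.normalizer (Zc S : Set Ω) := by
    refine (Subgroup.zpowers_le.mpr ?_)
    refine Subgroup.centralizer_le_normalizer _ (Subgroup.mem_centralizer_iff.mpr fun z hz => ?_)
    exact (zc_comm hz (hE.le ha)).eq
  rw [← htop] at hx
  obtain ⟨z, hz, y, hy, rfl⟩ : x ∈ (Zc S : Set Ω) * (Subgroup.zpowers a : Set Ω) := by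
    rw [← Subgroup.coe_mul_of_right_le_normalizer_left _ _ hn]
    exact hx
  obtain ⟨n, rfl⟩ := exists_pow_of_zpowers (hE.le ha) hy
  exact ⟨z, hz, n, rfl⟩

theorem commute {x y : Ω} (hx : x ∈ E) (hy : y ∈ E) : Commute x y := by
  obtain ⟨a, ha, haZ⟩ := hE.exists_not_mem hc
  obtain ⟨z, hz, n, rfl⟩ := hE.decomp ha haZ hx
  obtain ⟨z', hz', n', rfl⟩ := hE.decomp ha haZ hy
  exact ((zc_comm hz (zcS_le hz')).mul_right (zc_comm hz (S.pow_mem (hE.le ha) _))).mul_left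
    ((zc_comm hz' (S.pow_mem (hE.le ha) _)).symm.mul_right ((Commute.refl a).pow_pow _ _))

theorem conj_mem {g x : Ω} (hg : g ∈ S) (hx : x ∈ E) : g * x * g⁻¹ ∈ E := by
  rw [show g * x * g⁻¹ = ⁅g, x⁆ * x by simp [commutatorElement_def]]
  exact E.mul_mem (hE.zc_le (hc.comm_zc hg (hE.le hx))) hx

theorem mem_normalizer {g : Ω} (hg : g ∈ S) : g ∈ Subgroup.normalizer (E : Set Ω) := by
  refine Subgroup.mem_normalizer_iff.mpr fun x => ⟨hE.conj_mem hc hg, fun h => ?_⟩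
  simpa [mul_assoc] using hE.conj_mem hc (S.inv_mem hg) h

theorem split {b : Ω} (hb : b ∈ S) (hbE : b ∉ E) {x : Ω} (hx : x ∈ S) :
    ∃ n : ℕ, ∃ e ∈ E, x = b ^ n * e := by
  haveI := finite_of_le hE.le
  have htop : E ⊔ Subgroup.zpowers b = S := by
    refine eq_of_prime_card hp.out (lt_of_le_of_ne le_sup_left fun h => hbE ?_)
      (sup_le hE.le (Subgroup.zpowers_le.mpr hb)) ?_
    · rw [h]
      exact Subgroup.mem_sup_right (Subgroup.mem_zpowers b)
    · rw [hc.card_eq, hE.card_eq]; ring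
  rw [← htop, sup_comm] at hx
  obtain ⟨y, hy, e, he, rfl⟩ : x ∈ (Subgroup.zpowers b : Set Ω) * (E : Set Ω) := by
    rw [← Subgroup.coe_mul_of_left_le_normalizer_right _ _
      (Subgroup.zpowers_le.mpr (hE.mem_normalizer hc hb))]
    exact hx
  obtain ⟨n, rfl⟩ := exists_pow_of_zpowers hb hy
  exact ⟨n, e, he, rfl⟩

theorem mem_zc_of_commute {b x : Ω} (hb : b ∈ S) (hbE : b ∉ E) (hx : x ∈ E) (hxb : Commute x b) :
    x ∈ Zc S := by
  refine mem_zc (hE.le hx) fun y hy => ?_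
  obtain ⟨n, e, he, rfl⟩ := hE.split hc hb hbE hy
  exact (hxb.pow_right n).mul_right (hE.commute hc hx he)

theorem centralizer_eq : centralizerIn S E = E := by
  refine le_antisymm (fun s hs => ?_) fun x hx => ⟨hE.le hx, Subgroup.mem_centralizer_iff.mpr fun y hy =>
    (hE.commute hc hy hx).eq⟩
  by_contra hsE
  obtain ⟨a, ha, haZ⟩ := hE.exists_not_mem hc
  exact haZ (hE.mem_zc_of_commute hc hs.1 hsE ha (Subgroup.mem_centralizer_iff.mp hs.2 a ha))

theorem normalizer_eq : normalizerIn S E = S :=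
  le_antisymm inf_le_left fun _ hg => ⟨hg, hE.mem_normalizer hc hg⟩

theorem fullyNormalized (F : FusionSystem S) : F.IsFullyNormalized E :=
  ⟨hE.le, fun Q _ => by rw [hE.normalizer_eq hc]; exact Subgroup.card_le_of_le (normalizerIn_le S Q)⟩

theorem card_aut : Nat.card (autInducedBy S E) = p := by
  have h := card_autInducedBy_mul S E
  rw [hE.centralizer_eq hc, hE.normalizer_eq hc, hc.card_eq, hE.card_eq] at h
  haveI := finite_of_le (zcS_le (S := S))
  have h2 : 0 < p * Nat.card (Zc S) := Nat.mul_pos hp.out.pos Nat.card_pos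
  exact Nat.eq_of_mul_eq_mul_right h2 (h.trans (by ring))

end IsMid

/-! ### Automorphisms of a middle subgroup -/

section Auts

variable {E : Subgroup Ω}

omit [Finite S] hp in
theorem ap_mem (α : MulAut E) {x : Ω} (hx : x ∈ E) : autFun α x ∈ E := by
  rw [autFun_of_mem α hx]; exact (α _).2

omit [Finite S] hp in
theorem ap_mul (α β : MulAut E) {x : Ω} (hx : x ∈ E) : autFun (α * β) x = autFun α (autFun β x) :=
  autFun_mul α β hx

omit [Finite S] hp in
theorem ap_one {x : Ω} (hx : x ∈ E) : autFun (1 : MulAut E) x = x := autFun_one hx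

omit [Finite S] hp in
theorem ap_map_mul (α : MulAut E) {x y : Ω} (hx : x ∈ E) (hy : y ∈ E) :
    autFun α (x * y) = autFun α x * autFun α y := by
  rw [autFun_of_mem α hx, autFun_of_mem α hy, autFun_of_mem α (E.mul_mem hx hy)]
  exact congrArg Subtype.val (map_mul α ⟨x, hx⟩ ⟨y, hy⟩)

omit [Finite S] hp in
theorem ap_map_one (α : MulAut E) : autFun α (1 : Ω) = 1 := by
  rw [autFun_of_mem α E.one_mem]
  exact congrArg Subtype.val (map_one α)

omit [Finite S] hp in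
theorem ap_map_inv (α : MulAut E) {x : Ω} (hx : x ∈ E) : autFun α x⁻¹ = (autFun α x)⁻¹ := by
  rw [autFun_of_mem α hx, autFun_of_mem α (E.inv_mem hx)]
  exact congrArg Subtype.val (map_inv α ⟨x, hx⟩)

omit [Finite S] hp in
theorem ap_map_pow (α : MulAut E) {x : Ω} (hx : x ∈ E) (n : ℕ) : autFun α (x ^ n) = autFun α x ^ n := by
  induction n with
  | zero => simp [ap_map_one]
  | succ n ih => rw [pow_succ, ap_map_mul α (E.pow_mem hx n) hx, ih, pow_succ]

omit [Finite S] hp in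
theorem ap_inv_left (α : MulAut E) {x : Ω} (hx : x ∈ E) : autFun α⁻¹ (autFun α x) = x := by
  rw [← ap_mul _ _ hx, inv_mul_cancel, ap_one hx]

omit [Finite S] hp in
theorem ap_inv_right (α : MulAut E) {x : Ω} (hx : x ∈ E) : autFun α (autFun α⁻¹ x) = x := by
  rw [← ap_mul _ _ hx, mul_inv_cancel, ap_one hx]

omit [Finite S] hp in
theorem ap_injOn (α : MulAut E) : Set.InjOn (autFun α) E := fun x hx y hy h => by
  rw [← ap_inv_left α hx, h, ap_inv_left α hy]

omit hp in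
/-- An automorphism mapping a subgroup into itself maps it onto itself. -/
theorem ap_inv_mem (α : MulAut E) {X : Subgroup Ω} (hXE : X ≤ E) (hES : E ≤ S)
    (h : ∀ x ∈ X, autFun α x ∈ X) {x : Ω} (hx : x ∈ X) : autFun α⁻¹ x ∈ X := by
  obtain ⟨y, hy, rfl⟩ := surjOn_of_card_le (hXE.trans hES) ((ap_injOn α).mono hXE) h le_rfl x hx
  rwa [ap_inv_left α (hXE hy)]

/-- The image of the centre under an automorphism. -/
def img (S : Subgroup Ω) (α : MulAut E) : Subgroup Ω :=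
  (((Zc S).subgroupOf E).map α.toMonoidHom).map E.subtype

omit [Finite S] hp in
theorem mem_img {α : MulAut E} {x : Ω} : x ∈ img S α ↔ x ∈ E ∧ autFun α⁻¹ x ∈ Zc S := by
  constructor
  · rintro ⟨y, ⟨z, hz, rfl⟩, rfl⟩
    refine ⟨(α z).2, ?_⟩
    show autFun α⁻¹ ((α z : E) : Ω) ∈ Zc S
    rw [← autFun_coe α z, ap_inv_left α z.2]
    exact hz
  · rintro ⟨hx, hz⟩
    refine ⟨α ⟨_, ap_mem α⁻¹ hx⟩, ⟨⟨_, ap_mem α⁻¹ hx⟩, hz, rfl⟩, ?_⟩
    show ((α ⟨_, ap_mem α⁻¹ hx⟩ : E) : Ω) = x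
    rw [← autFun_coe α]
    exact ap_inv_right α hx

/-- Automorphisms of the system stabilizing the chain `1 ≤ W ≤ V ≤ E`. -/
def StabCond (W V : Subgroup Ω) (γ : MulAut E) : Prop :=
  (∀ w ∈ W, autFun γ w = w) ∧ (∀ v ∈ V, v⁻¹ * autFun γ v ∈ W) ∧ ∀ x ∈ E, x⁻¹ * autFun γ x ∈ V

omit [Finite S] hp in
theorem stab_one {W V : Subgroup Ω} (hW : W ≤ E) (hV : V ≤ E) : StabCond W V (1 : MulAut E) :=
  ⟨fun w hw => ap_one (hW hw), fun v hv => by rw [ap_one (hV hv), inv_mul_cancel]; exact W.one_mem,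
    fun x hx => by rw [ap_one hx, inv_mul_cancel]; exact V.one_mem⟩

omit [Finite S] hp in
theorem stab_mul {W V : Subgroup Ω} (hW : W ≤ V) (hV : V ≤ E) {γ δ : MulAut E}
    (hγ : StabCond W V γ) (hδ : StabCond W V δ) : StabCond W V (γ * δ) := by
  refine ⟨fun w hw => ?_, fun v hv => ?_, fun x hx => ?_⟩
  · rw [ap_mul _ _ (hV (hW hw)), hδ.1 w hw, hγ.1 w hw]
  · have h1 : autFun δ v ∈ V := by
      have := V.mul_mem hv (hW (hδ.2.1 v hv))
      rwa [mul_inv_cancel_left] at this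
    have := W.mul_mem (hδ.2.1 v hv) (hγ.2.1 _ h1)
    rw [ap_mul _ _ (hV hv)]
    simpa [mul_assoc] using this
  · have := V.mul_mem (hδ.2.2 x hx) (hγ.2.2 _ (ap_mem δ hx))
    rw [ap_mul _ _ hx]
    simpa [mul_assoc] using this

omit [Finite S] hp in
theorem ap_pow_of_diff {γ : MulAut E} {x d : Ω} (hx : x ∈ E) (hd : d ∈ E) (hfix : autFun γ d = d)
    (h : autFun γ x = x * d) (n : ℕ) : autFun (γ ^ n) x = x * d ^ n := by
  induction n with
  | zero => simp [ap_one hx]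
  | succ n ih =>
    rw [pow_succ', ap_mul _ _ hx, ih, ap_map_mul γ hx (E.pow_mem hd n), ap_map_pow γ hd, hfix, h,
      pow_succ', mul_assoc]

variable (F : FusionSystem S)

/-- The stabilizer of a chain as a subgroup of `Aut_F(E)`. -/
def stab (hE : E ≤ S) {W V : Subgroup Ω} (hW : W ≤ V) (hV : V ≤ E) : Subgroup (F.autGroup E) where
  carrier := {γ | StabCond W V (γ : MulAut E)}
  one_mem' := stab_one (hW.trans hV) hV
  mul_mem' {a b} ha hb := by
    show StabCond W V ((a * b : F.autGroup E) : MulAut E)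
    rw [Subgroup.coe_mul]
    exact stab_mul hW hV ha hb
  inv_mem' {a} ha := by
    haveI := finite_of_le hE
    haveI := finite_mulAut E
    obtain ⟨n, hn⟩ := Submonoid.mem_powers_iff _ _ |>.mp
      ((isOfFinOrder_of_finite a).mem_powers_iff_mem_zpowers.mpr
        (Subgroup.inv_mem _ (Subgroup.mem_zpowers a)))
    show StabCond W V ((a⁻¹ : F.autGroup E) : MulAut E)
    rw [← hn]
    clear hn
    induction n with
    | zero => rw [pow_zero, Subgroup.coe_one]; exact stab_one (hW.trans hV) hV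
    | succ n ih => rw [pow_succ, Subgroup.coe_mul]; exact stab_mul hW hV ih ha

theorem stab_isPGroup (hS : IsPGroup p S) (hE : E ≤ S) {W V : Subgroup Ω} (hW : W ≤ V) (hV : V ≤ E) :
    IsPGroup p (stab F hE hW hV) := by
  haveI := finite_of_le hE
  obtain ⟨m, hm⟩ := IsPGroup.iff_card.mp (hS.to_le hE)
  have hpow : ∀ x ∈ E, x ^ (p ^ m) = 1 := fun x hx => by
    rw [← hm]
    exact congrArg Subtype.val (pow_card_eq_one' (x := (⟨x, hx⟩ : E)))
  intro γ
  refine ⟨m + m, Subtype.ext (Subtype.ext ?_)⟩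
  set g : MulAut E := ((γ : F.autGroup E) : MulAut E) with hg
  have hγ : StabCond W V g := γ.2
  have hV1 : ∀ v ∈ V, autFun (g ^ p ^ m) v = v := fun v hv => by
    have h := ap_pow_of_diff (hV hv) (hV (hW (hγ.2.1 v hv))) (hγ.1 _ (hγ.2.1 v hv))
      (mul_inv_cancel_left v (autFun g v)).symm (p ^ m)
    rw [h, hpow _ (hV (hW (hγ.2.1 v hv))), mul_one]
  have hst : StabCond W V (g ^ p ^ m) := (((stab F hE hW hV).pow_mem γ.2 (p ^ m)) :)
  show ((γ ^ p ^ (m + m) : stab F hE hW hV) : F.autGroup E).1 = 1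
  rw [Subgroup.coe_pow, Subgroup.coe_pow, pow_add, pow_mul, ← hg]
  refine MulEquiv.ext fun x => Subtype.ext ?_
  have h := ap_pow_of_diff x.2 (hV (hst.2.2 x x.2)) (hV1 _ (hst.2.2 x x.2))
    (mul_inv_cancel_left (x : Ω) (autFun (g ^ p ^ m) x)).symm (p ^ m)
  rw [hpow _ (hV (hst.2.2 x x.2)), mul_one, autFun_coe] at h
  exact h

end Auts

section Fusion

variable {F : FusionSystem S} {E : Subgroup Ω}

/-- Conjugation by `g ∈ S` on a middle subgroup. -/
noncomputable def cj (hc : Ctx p S c) (hE : IsMid p S E) {g : Ω} (hg : g ∈ S) : MulAut E :=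
  conjAutHom S E ⟨g, hg, hE.mem_normalizer hc hg⟩

variable (hc : Ctx p S c) (hE : IsMid p S E)
include hc hE

theorem cj_apply {g x : Ω} (hg : g ∈ S) (hx : x ∈ E) : autFun (cj hc hE hg) x = g * x * g⁻¹ :=
  autFun_of_mem _ hx

theorem cj_mem {g : Ω} (hg : g ∈ S) : cj hc hE hg ∈ F.autGroup E :=
  autInducedBy_le_autGroup hE.le (mem_autInducedBy.mpr ⟨g, hg, fun _ => rfl⟩)

theorem cj_pow {g : Ω} (hg : g ∈ S) (n : ℕ) : cj hc hE hg ^ n = cj hc hE (S.pow_mem hg n) := by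
  rw [cj, ← map_pow]
  rfl

theorem cj_eq_one {g : Ω} (hg : g ∈ S) (hgE : g ∈ E) : cj hc hE hg = 1 := by
  refine MulEquiv.ext fun x => Subtype.ext ?_
  show g * x * g⁻¹ = x
  rw [(hE.commute hc hgE x.2).eq, mul_inv_cancel_right]

theorem cj_ne_one {b : Ω} (hb : b ∈ S) (hbE : b ∉ E) : cj hc hE hb ≠ 1 := by
  intro h
  obtain ⟨a, ha, haZ⟩ := hE.exists_not_mem hc
  have h1 := cj_apply hc hE hb ha
  rw [h, ap_one ha] at h1
  exact haZ (hE.mem_zc_of_commute hc hb hbE ha (eq_mul_inv_iff_mul_eq.mp h1))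

theorem cj_stab {b : Ω} (hb : b ∈ S) {W V : Subgroup Ω} (hWZ : W ≤ Zc S) (hV : V ≤ E)
    (hcW : ∀ v ∈ V, ⁅b, v⁆ ∈ W) (hcV : c ∈ V) : StabCond W V (cj hc hE hb) := by
  refine ⟨fun w hw => ?_, fun v hv => ?_, fun x hx => ?_⟩
  · rw [cj_apply hc hE hb (hE.zc_le (hWZ hw)), (zc_comm (hWZ hw) hb).symm.eq, mul_inv_cancel_right]
  · rw [cj_apply hc hE hb (hV hv), hc.conj_eq hb (hE.le (hV hv))]
    exact hcW v hv
  · rw [cj_apply hc hE hb hx, hc.conj_eq hb (hE.le hx)]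
    exact Subgroup.zpowers_le.mpr hcV (hc.comm_mem b hb x (hE.le hx))

/-- A chain stabilizer containing a non-trivial conjugation is generated by it. -/
theorem mem_powers_cj (hF : F.IsSaturated p) {b : Ω} (hb : b ∈ S) (hbE : b ∉ E) {W V : Subgroup Ω}
    (hW : W ≤ V) (hV : V ≤ E) (hb' : StabCond W V (cj hc hE hb)) {γ : MulAut E} (hγ : γ ∈ F.autGroup E)
    (hγ' : StabCond W V γ) : ∃ n : ℕ, cj hc hE hb ^ n = γ := by
  haveI := finite_of_le hE.le
  haveI := finite_mulAut E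
  set M := stab F hE.le hW hV
  have hMp : IsPGroup p M := stab_isPGroup F hc.pgroup hE.le hW hV
  obtain ⟨R, hR⟩ := (fullyAutomized_of_fullyNormalized hc.pgroup hF (hE.fullyNormalized hc F)).2
  obtain ⟨Q, hQ⟩ := hMp.exists_le_sylow
  have hRc : Nat.card (R : Subgroup (F.autGroup E)) = p := by
    rw [hR, Nat.card_congr (Subgroup.subgroupOfEquivOfLe (autInducedBy_le_autGroup hE.le)).toEquiv,
      hE.card_aut hc]
  have hMle : Nat.card M ≤ p := by
    refine (Subgroup.card_le_of_le hQ).trans (le_of_eq ?_)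
    exact (Q.card_eq_multiplicity.trans R.card_eq_multiplicity.symm).trans hRc
  set t : F.autGroup E := ⟨cj hc hE hb, cj_mem hc hE hb⟩
  have ht : Subgroup.zpowers t ≤ M := Subgroup.zpowers_le.mpr hb'
  have heq : Subgroup.zpowers t = M := by
    refine Subgroup.eq_of_le_of_card_ge ht (hMle.trans ?_)
    obtain ⟨k, hk⟩ := IsPGroup.iff_card.mp (hMp.to_le ht)
    rw [hk]
    rcases k with _ | k
    · rw [pow_zero, Subgroup.card_eq_one, Subgroup.zpowers_eq_bot] at hk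
      exact absurd (congrArg Subtype.val hk) (cj_ne_one hc hE hb hbE)
    · exact Nat.le_self_pow (Nat.succ_ne_zero k) p
  have hmem : (⟨γ, hγ⟩ : F.autGroup E) ∈ Subgroup.zpowers t := heq.symm ▸ hγ'
  obtain ⟨n, hn⟩ := (isOfFinOrder_of_finite t).mem_powers_iff_mem_zpowers.mpr hmem
  exact ⟨n, congrArg Subtype.val hn⟩

/-- If `c` lies in the image of the centre under `α`, then `α` fixes the centre. -/
theorem maps_zc_of_img (hF : F.IsSaturated p) {α : MulAut E} (hα : α ∈ F.autGroup E)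
    (hcα : autFun α⁻¹ c ∈ Zc S) {z : Ω} (hz : z ∈ Zc S) : autFun α z ∈ Zc S := by
  obtain ⟨b, hb, hbE⟩ := hE.exists_outside hc
  set V := img S α
  set W := Zc S ⊓ V
  have hV : V ≤ E := fun x hx => (mem_img.mp hx).1
  have hcV : c ∈ V := mem_img.mpr ⟨hE.zc_le hc.c_mem, hcα⟩
  have h1 : StabCond W V (cj hc hE hb) := cj_stab hc hE hb inf_le_left hV
    (fun v hv => ⟨hc.comm_zc hb (hE.le (hV hv)),
      Subgroup.zpowers_le.mpr hcV (hc.comm_mem b hb v (hE.le (hV hv)))⟩) hcV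
  set t' := α * cj hc hE hb * α⁻¹
  have hfix : ∀ v ∈ V, autFun t' v = v := fun v hv => by
    obtain ⟨hvE, hvZ⟩ := mem_img.mp hv
    rw [ap_mul _ _ hvE, ap_mul _ _ (ap_mem _ hvE), cj_apply hc hE hb (ap_mem _ hvE),
      (zc_comm hvZ hb).symm.eq, mul_inv_cancel_right, ap_inv_right α hvE]
  have h2 : StabCond W V t' := by
    refine ⟨fun w hw => hfix w hw.2, fun v hv => by rw [hfix v hv, inv_mul_cancel]; exact W.one_mem,
      fun x hx => ?_⟩
    have hy := ap_mem α⁻¹ hx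
    have hm := cj_apply hc hE hb hy
    have e : x⁻¹ * autFun t' x = autFun α ⁅b, autFun α⁻¹ x⁆ := by
      rw [← hc.conj_eq hb (hE.le hy), ← hm, ap_map_mul α (E.inv_mem hy) (ap_mem _ hy), ap_map_inv α hy,
        ap_inv_right α hx, ap_mul _ _ hx, ap_mul _ _ hy]
    rw [e]
    have hz' := hc.comm_zc hb (hE.le hy)
    exact mem_img.mpr ⟨ap_mem α (hE.zc_le hz'), by rwa [ap_inv_left α (hE.zc_le hz')]⟩
  obtain ⟨n, hn⟩ := mem_powers_cj hc hE hF hb hbE inf_le_right hV h1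
    (mul_mem (mul_mem hα (cj_mem hc hE hb)) (inv_mem hα)) h2
  have hbn : b ^ n ∉ E := by
    intro hm
    rw [cj_pow hc hE hb, cj_eq_one hc hE _ hm] at hn
    refine cj_ne_one hc hE hb hbE ?_
    have : α * cj hc hE hb * α⁻¹ = 1 := hn.symm
    simpa using this
  have hzE := ap_mem α (hE.zc_le hz)
  have h3 := hfix _ (mem_img.mpr ⟨hzE, by rwa [ap_inv_left α (hE.zc_le hz)]⟩)
  rw [show t' = cj hc hE hb ^ n from hn.symm, cj_pow hc hE hb, cj_apply hc hE _ hzE, mul_inv_eq_iff_eq_mul] at h3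
  exact hE.mem_zc_of_commute hc (S.pow_mem hb n) hbn hzE h3.symm

/-- If `α` maps `c` into the centre, then `α` fixes the centre. -/
theorem maps_zc (hF : F.IsSaturated p) {α : MulAut E} (hα : α ∈ F.autGroup E)
    (hcα : autFun α c ∈ Zc S) {z : Ω} (hz : z ∈ Zc S) : autFun α z ∈ Zc S := by
  have h : ∀ w ∈ Zc S, autFun α⁻¹ w ∈ Zc S := fun w hw =>
    maps_zc_of_img hc hE hF (inv_mem hα) (by rwa [inv_inv]) hw
  have := ap_inv_mem α⁻¹ hE.zc_le hE.le h hz
  rwa [inv_inv] at this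

/-- An automorphism fixing the centre extends to `S`. -/
theorem exists_extend (hF : F.IsSaturated p) {δ : MulAut E} (hδ : δ ∈ F.autGroup E)
    (hZ : ∀ z ∈ Zc S, autFun δ z ∈ Zc S) :
    ∃ h, IsIso F S S h ∧ Set.EqOn h (autFun δ) E := by
  obtain ⟨b, hb, hbE⟩ := hE.exists_outside hc
  have h1 : StabCond (Zc S) (Zc S) (cj hc hE hb) := cj_stab hc hE hb le_rfl hE.zc_le
    (fun v hv => hc.comm_zc hb (zcS_le hv)) hc.c_mem
  have hfix : ∀ v ∈ Zc S, autFun (δ * cj hc hE hb * δ⁻¹) v = v := fun v hv => by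
    have hv' := ap_inv_mem δ hE.zc_le hE.le hZ hv
    rw [ap_mul _ _ (hE.zc_le hv), ap_mul _ _ (hE.zc_le hv'), cj_apply hc hE hb (hE.zc_le hv'),
      (zc_comm hv' hb).symm.eq, mul_inv_cancel_right, ap_inv_right δ (hE.zc_le hv)]
  have h2 : StabCond (Zc S) (Zc S) (δ * cj hc hE hb * δ⁻¹) := by
    refine ⟨hfix, fun v hv => by rw [hfix v hv, inv_mul_cancel]; exact one_mem _, fun x hx => ?_⟩
    have hy := ap_mem δ⁻¹ hx
    have hm := cj_apply hc hE hb hy
    have e : x⁻¹ * autFun (δ * cj hc hE hb * δ⁻¹) x = autFun δ ⁅b, autFun δ⁻¹ x⁆ := by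
      rw [← hc.conj_eq hb (hE.le hy), ← hm, ap_map_mul δ (E.inv_mem hy) (ap_mem _ hy), ap_map_inv δ hy,
        ap_inv_right δ hx, ap_mul _ _ hx, ap_mul _ _ hy]
    rw [e]
    exact hZ _ (hc.comm_zc hb (hE.le hy))
  obtain ⟨i, hi⟩ := mem_powers_cj hc hE hF hb hbE le_rfl hE.zc_le h1
    (mul_mem (mul_mem hδ (cj_mem hc hE hb)) (inv_mem hδ)) h2
  have hiso := (mem_autGroup hE.le).mp hδ
  have hext : IsExtendable S E (autFun δ) S := by
    refine ⟨le_rfl, fun g hg => ⟨hE.mem_normalizer hc hg, ?_⟩⟩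
    obtain ⟨n, e, he, rfl⟩ := hE.split hc hb hbE hg
    refine ⟨b ^ (i * n), S.pow_mem hb _, fun x hx => ?_⟩
    have h3 : (δ * cj hc hE hb * δ⁻¹) ^ n = cj hc hE (S.pow_mem hb (i * n)) := by
      rw [← hi, ← pow_mul, cj_pow hc hE hb]
    rw [← cj_apply hc hE (S.pow_mem hb (i * n)) (ap_mem δ hx), ← h3, conj_pow, cj_pow hc hE hb,
      ap_mul _ _ (ap_mem δ hx), ap_mul _ _ (ap_mem δ⁻¹ (ap_mem δ hx)), ap_inv_left δ hx,
      cj_apply hc hE _ hx]
    congr 1
    have := (hE.commute hc he hx).eq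
    calc b ^ n * e * x * (b ^ n * e)⁻¹ = b ^ n * (e * x * e⁻¹) * (b ^ n)⁻¹ := by group
      _ = b ^ n * x * (b ^ n)⁻¹ := by rw [this, mul_inv_cancel_right]
  obtain ⟨f, hf, hfe⟩ := receptive_extend
    (receptive_of_fullyNormalized hc.pgroup hF (hE.fullyNormalized hc F)) hiso hext
  rw [sup_eq_right.mpr hE.le] at hf
  obtain ⟨Q, hQ⟩ := hf.exists_image
  have hQS : Q = S := Subgroup.eq_of_le_of_card_ge hQ.cod_le hQ.card_eq.le
  exact ⟨f, hQS ▸ hQ, hfe⟩

end Fusion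

end Cfsg.Agent.Fusion.CenterIndex
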