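import Cfsg.Agent.Lib.Fusion.NormalCentralizer
import Mathlib.Algebra.Group.Subgroup.Pointwise

/-!
# Existence and strong closure of `C_S(E)`
-/

set_option autoImplicit false

namespace Cfsg.Agent.Fusion.NormalLift

open Cfsg
open Cfsg.FusionSystem (normalizerIn centralizerIn)
open scoped Pointwise

variable {Ω : Type*} [Group Ω] {S T : Subgroup Ω} {F : FusionSystem S} {E : FusionSystem T} {p : ℕ}

theorem extendsFix_mono {Q Q' P P' : Subgroup Ω} {f : Ω → Ω} (h : ExtendsFix F Q P f)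
    (hP : P' ≤ P) (hQ : Q' ≤ Q) : ExtendsFix F Q' P' f := by
  obtain ⟨f', h1, h2, h3⟩ := h
  exact ⟨f', h1.mono (sup_le_sup hP hQ), h2.mono hP, fun x hx => h3 x (hQ hx)⟩

/-- `y` centralizes `T` and every map of `E` extends in `F` to a map fixing `y`. -/
def Good (F : FusionSystem S) (E : FusionSystem T) (y : Ω) : Prop :=
  y ∈ centralizerIn S T ∧ ∀ P f, IsMap E P f → ExtendsFix F (Subgroup.zpowers y) P f

/-- The subgroup `C_S(E)`. -/
def cE (F : FusionSystem S) (E : FusionSystem T) : Subgroup Ω :=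
  Subgroup.closure {y | Good F E y}

theorem cE_le : cE F E ≤ centralizerIn S T :=
  (Subgroup.closure_le _).mpr fun _ hy => hy.1

variable [Finite S] [Fact p.Prime]

theorem NData.t_fullyNormalized (h : NData F E p) : F.IsFullyNormalized T := by
  haveI := finite_of_le (normalizerIn_le S T)
  refine ⟨h.tS, fun Q _ => Subgroup.card_le_of_le ?_⟩
  exact le_inf (normalizerIn_le _ _) ((normalizerIn_le _ _).trans h.s_le)

theorem NData.iso_t (h : NData F E p) {f : Ω → Ω} (hf : IsMap F T f) : IsIso F T T f :=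
  isIso_of_mapsTo hf h.tS (fun _ hx => Fusion92.closed_apply h.closed hf hx hx) le_rfl

theorem NData.good_map (h : NData F E p) {y : Ω} (hy : Good F E y) {ω : Ω → Ω}
    (hω : IsMap F (T ⊔ Subgroup.zpowers y) ω) : Good F E (ω y) := by
  have hk : IsIso F T T ω := h.iso_t (hω.mono le_sup_left)
  have hyM : y ∈ T ⊔ Subgroup.zpowers y := Subgroup.mem_sup_right (Subgroup.mem_zpowers y)
  refine ⟨map_mem_centralizer hω le_sup_left hk.2 hyM hy.1.2, fun P f hf => ?_⟩
  obtain ⟨M', hM'⟩ := hω.exists_image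
  obtain ⟨ωi, hωi, hωl, hωr⟩ := hM'.exists_inv
  have hTM' : T ≤ M' := fun x hx => by
    obtain ⟨w, hw, rfl⟩ := hk.exists_preimage hx
    exact hM'.mem (Subgroup.mem_sup_left hw)
  have hki : IsIso F T T ωi := h.iso_t (hωi.1.mono hTM')
  have hPT := hf.dom_le
  obtain ⟨P₀, hP₀⟩ := (hki.1.mono hPT).exists_image
  obtain ⟨g, hg, hge⟩ := invariant_inv h.invariant hf hki hP₀.2.symm
  obtain ⟨g', hg', hg'e, hg'y⟩ := hy.2 P₀ g hg
  have hm1 : ∀ x ∈ P ⊔ Subgroup.zpowers (ω y), ωi x ∈ P₀ ⊔ Subgroup.zpowers y := by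
    refine isMap_mem_sup (hωi.1.mono (sup_le (hPT.trans hTM') ((Subgroup.zpowers_le).mpr (hM'.mem hyM))))
      le_sup_left le_sup_right (fun x hx => Subgroup.mem_sup_left (hP₀.mem hx)) fun x hx => ?_
    obtain ⟨n, rfl⟩ := Subgroup.mem_zpowers_iff.mp hx
    obtain ⟨φ, -, hφ⟩ := id hωi.1
    have hm : ω y ∈ M' := hM'.mem hyM
    rw [← hφ ⟨ω y ^ n, Subgroup.zpow_mem _ hm n⟩,
      show (⟨ω y ^ n, Subgroup.zpow_mem _ hm n⟩ : M') = ⟨ω y, hm⟩ ^ n from rfl, map_zpow, hφ, hωl y hyM]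
    exact Subgroup.mem_sup_right (Subgroup.zpow_mem _ (Subgroup.mem_zpowers y) n)
  have hm2 : ∀ x ∈ P₀ ⊔ Subgroup.zpowers y, g' x ∈ T ⊔ Subgroup.zpowers y :=
    isMap_mem_sup hg' le_sup_left le_sup_right
      (fun x hx => Subgroup.mem_sup_left (hg'e hx ▸ hg.apply_mem hx))
      fun x hx => Subgroup.mem_sup_right ((hg'y x hx).symm ▸ hx)
  refine ⟨ω ∘ g' ∘ ωi, ((hωi.1.mono (sup_le (hPT.trans hTM')
    ((Subgroup.zpowers_le).mpr (hM'.mem hyM)))).comp hg' hm1).comp hω (fun x hx => hm2 _ (hm1 x hx)),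
    fun x hx => ?_, fun x hx => ?_⟩
  · simp only [Function.comp_apply]
    rw [hg'e (hP₀.mem hx), hge x hx]
    exact hωr _ (hTM' (hf.apply_mem hx))
  · have hxM' : x ∈ M' := ((Subgroup.zpowers_le).mpr (hM'.mem hyM)) hx
    simp only [Function.comp_apply]
    have h1 : ωi x ∈ Subgroup.zpowers y := by
      obtain ⟨n, rfl⟩ := Subgroup.mem_zpowers_iff.mp hx
      obtain ⟨φ, -, hφ⟩ := id hωi.1
      have hm : ω y ∈ M' := hM'.mem hyM
      rw [← hφ ⟨ω y ^ n, hxM'⟩,
        show (⟨ω y ^ n, hxM'⟩ : M') = ⟨ω y, hm⟩ ^ n from rfl, map_zpow, hφ, hωl y hyM]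
      exact Subgroup.zpow_mem _ (Subgroup.mem_zpowers y) n
    rw [hg'y _ h1]
    exact hωr x hxM'

theorem NData.ext_of_normalized (h : NData F E p) {R : Subgroup Ω} (hR : F.IsFullyNormalized R)
    (hRT : R ≤ T) (hc : centralizerIn T R ≤ R) {α : MulAut R} (hα : α ∈ E.autGroup R) :
    ExtendsFix F (cE F E) R (autFun α) := by
  haveI := h.finiteT
  haveI := finite_of_le hR.1
  haveI := finite_mulAut R
  set A := E.autGroup R with hA
  have hCR : cE F E ≤ centralizerIn S R :=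
    cE_le.trans (inf_le_inf_left _ (Subgroup.centralizer_le hRT))
  let K : Subgroup A :=
    { carrier := {a | ExtendsFix F (cE F E) R (autFun (a : MulAut R))}
      one_mem' := ⟨id, isMap_id (sup_le hR.1 (hCR.trans (centralizerIn_le _ _))),
        fun x hx => (autFun_one hx).symm, fun _ _ => rfl⟩
      mul_mem' := fun {a b} ha hb => (hb.comp ha fun x hx => autFun_of_mem (b : MulAut R) hx ▸
        ((b : MulAut R) _).2).congr (autFun_mul _ _).symm
      inv_mem' := fun {a} ha => ha.inv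
        ⟨((mem_autGroup hRT).mp a.2).1.of_isSubsystemOf h.sub, autFun_image _⟩
        fun x hx => by
          rw [autFun_of_mem (a : MulAut R) hx, autFun_coe]
          exact congrArg Subtype.val ((a : MulAut R).symm_apply_apply _) }
  obtain ⟨U, hU⟩ := (fullyAutomized_of_fullyNormalized h.tp h.eSat (h.fullyNormalized_e hR hRT)).2
  have hK : K = ⊤ := by
    refine eq_top_of_sylow_coprime U K (fun a ha => ?_) fun a ha => ?_
    · rw [hU, Subgroup.mem_subgroupOf, mem_autInducedBy] at ha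
      obtain ⟨t, ht, hte⟩ := ha
      refine ⟨fun x => t * x * t⁻¹, isMap_conj (sup_le hR.1 (hCR.trans (centralizerIn_le _ _))) (h.tS ht),
        fun x hx => ?_, fun x hx => ?_⟩
      · rw [autFun_of_mem _ hx, hte]
      · show t * x * t⁻¹ = x
        rw [Subgroup.mem_centralizer_iff.mp (cE_le hx).2 t ht]
        group
    · obtain ⟨g, hg, hge, hgy⟩ := h.exists_fixing_lift hR hRT hc a.2 (by rwa [Subgroup.orderOf_coe])
      refine ⟨g, hg.mono (sup_le_sup_left hCR R), hge, fun x hx => ?_⟩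
      have hD : ∀ {w : Ω}, w ∈ cE F E → w ∈ R ⊔ centralizerIn S R :=
        fun hw => Subgroup.mem_sup_right (hCR hw)
      induction hx using Subgroup.closure_induction with
      | mem y hy =>
        obtain ⟨f, hf, hfe, hfy⟩ := hy.2 R _ ((mem_autGroup hRT).mp a.2).1
        exact hgy y (hCR (Subgroup.subset_closure hy)) f hf hfe (hfy y (Subgroup.mem_zpowers y))
      | one => exact hg.map_one
      | mul u v hu hv ihu ihv => rw [hg.map_mul (hD hu) (hD hv), ihu, ihv]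
      | inv u hu ihu => rw [hg.map_inv (hD hu), ihu]
  exact (hK.ge (Subgroup.mem_top (⟨α, hα⟩ : A)) : _)

set_option maxHeartbeats 1600000 in
theorem NData.extends_all (h : NData F E p) :
    ∀ P f, IsMap E P f → ExtendsFix F (cE F E) P f := by
  haveI := h.finiteT
  intro P f hf
  induction hn : Nat.card T - Nat.card P using Nat.strong_induction_on generalizing P f with
  | _ n ih =>
  have hPT := hf.dom_le
  have hTc : centralizerIn T T ≤ T := centralizerIn_le _ _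
  by_cases hPeq : P = T
  · subst hPeq
    obtain ⟨α, hα, hαe⟩ :=
      (isIso_of_mapsTo hf le_rfl (fun x hx => hf.apply_mem hx) le_rfl).exists_aut
    exact (h.ext_of_normalized h.t_fullyNormalized le_rfl hTc hα).congr hαe
  obtain ⟨Q, hQ⟩ := hf.exists_image
  obtain ⟨R₀, hPR, hR₀n⟩ := exists_fullyNormalized (F := E) hPT
  have hRa := fullyAutomized_of_fullyNormalized h.tp h.eSat hR₀n
  have hRr := receptive_of_fullyNormalized h.tp h.eSat hR₀n
  have hQR : E.IsConj Q R₀ := isConj_trans (isConj_symm hQ.isConj) hPR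
  have hR₀card : Nat.card R₀ = Nat.card P := (isConj_card hPR).symm
  have hproper : ∀ {X : Subgroup Ω}, Nat.card X = Nat.card P → X ≤ T → X < T := fun hX hXT =>
    lt_of_le_of_ne hXT fun he => hPeq (Subgroup.eq_of_le_of_card_ge hPT (by rw [← hX, he]))
  have hbig : ∀ {X Y : Subgroup Ω} {θ : Ω → Ω}, Nat.card X = Nat.card P → X < Y →
      IsMap E Y θ → ExtendsFix F (cE F E) X θ := by
    intro X Y θ hX hXY hθ
    haveI := finite_of_le hθ.dom_le
    have h1 : Nat.card X < Nat.card Y :=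
      lt_of_le_of_ne (Subgroup.card_le_of_le hXY.le) fun he =>
        hXY.ne (Subgroup.eq_of_le_of_card_ge hXY.le he.ge)
    have h2 := Subgroup.card_le_of_le hθ.dom_le
    exact extendsFix_mono (ih _ (by omega) _ _ hθ rfl) hXY.le le_rfl
  obtain ⟨θ, hθ, hθP, -⟩ := exists_normalizer_map h.tp hRa hRr hPR
  obtain ⟨θ', hθ', hθQ, -⟩ := exists_normalizer_map h.tp hRa hRr hQR
  have cθ := hbig rfl (lt_normalizerIn h.tp (hproper rfl hPT)) hθ
  have cθ' := hbig hQ.card_eq.symm (lt_normalizerIn h.tp (hproper hQ.card_eq.symm hQ.cod_le)) hθ'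
  obtain ⟨θi, hθi, hθl, -⟩ := hθP.exists_inv
  obtain ⟨θ'i, hθ'i, hθ'l, -⟩ := hθQ.exists_inv
  have cθ'i : ExtendsFix F (cE F E) R₀ θ'i :=
    cθ'.inv ⟨hθQ.1.of_isSubsystemOf h.sub, hθQ.2⟩ hθ'l
  obtain ⟨β, hβm, hβe⟩ := ((hθi.comp hQ).comp hθQ).exists_aut
  suffices cβ : ExtendsFix F (cE F E) R₀ (autFun β) by
    refine ((cθ.comp cβ fun x hx => hθP.mem hx).comp cθ'i fun x hx => ?_).congr fun x hx => ?_
    · rw [Function.comp_apply, autFun_of_mem β (hθP.mem hx)]
      exact (β _).2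
    · simp only [Function.comp_apply]
      rw [hβe (hθP.mem hx)]
      simp only [Function.comp_apply, hθl x hx]
      exact hθ'l _ (hQ.mem hx)
  by_cases hRc : E.IsCentric R₀
  swap
  · obtain ⟨Y, k, hRY, hk, hke⟩ := isExtendableAut_of_not_centric h.tp h.eSat hR₀n hRc hβm
    exact (hbig hR₀card hRY hk).congr hke
  obtain ⟨R, hR₀R, hRn⟩ := exists_fullyNormalized (F := F) (hR₀n.1.trans h.tS)
  obtain ⟨θ₃, hθ₃, hθ₃R, -, -⟩ := h.exists_normT_map hRn hR₀R
  have hN1 : normalizerIn T R₀ ≤ normalizerIn S R₀ := fun x hx => ⟨h.tS hx.1, hx.2⟩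
  obtain ⟨k, g, hk, hg, hge⟩ :=
    invariant_frattini h.invariant (hθ₃.mono hN1) (normalizerIn_le _ _)
  have hRN : R₀ ≤ normalizerIn T R₀ := le_normalizerIn hR₀n.1
  have cg : ExtendsFix F (cE F E) R₀ g := hbig hR₀card (lt_normalizerIn h.tp (hproper hR₀card hR₀n.1)) hg
  obtain ⟨R₁, hR₁⟩ := (hg.mono hRN).exists_image
  obtain ⟨gi, hgi, hgl, -⟩ := hR₁.exists_inv
  have hR₁T := hR₁.cod_le
  have cgi : ExtendsFix F (cE F E) R₁ gi := cg.inv ⟨hR₁.1.of_isSubsystemOf h.sub, hR₁.2⟩ hgl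
  obtain ⟨β', hβ'm, hβ'e⟩ := ((hgi.comp ((mem_autGroup hR₀n.1).mp hβm)).comp hR₁).exists_aut
  suffices cβ' : ExtendsFix F (cE F E) R₁ (autFun β') by
    refine ((cg.comp cβ' fun x hx => hR₁.mem hx).comp cgi fun x hx => ?_).congr fun x hx => ?_
    · rw [Function.comp_apply, autFun_of_mem β' (hR₁.mem hx)]
      exact (β' _).2
    · simp only [Function.comp_apply]
      rw [hβ'e (hR₁.mem hx)]
      simp only [Function.comp_apply, hgl x hx]
      exact hgl _ (autFun_of_mem β hx ▸ (β _).2)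
  -- `k` carries `R₁` to the fully normalized `R`
  have hkR : IsIso F R₁ R k := by
    refine ⟨hk.1.mono hR₁T, ?_⟩
    rw [← hR₁.2, ← hθ₃R.2, Set.image_image]
    exact Set.image_congr fun x hx => (hge x (hRN hx)).symm
  have hRT : R ≤ T := fun y hy => by
    obtain ⟨x, hx, rfl⟩ := hkR.exists_preimage hy
    exact hk.mem (hR₁T hx)
  have hRc' : centralizerIn T R ≤ R := by
    intro c hcc
    obtain ⟨c', hc', rfl⟩ := hk.exists_preimage hcc.1
    refine hkR.mem (hRc.2 R₁ hR₁.isConj ⟨hc', Subgroup.mem_centralizer_iff.mpr fun y hy => ?_⟩)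
    refine hk.1.injOn (T.mul_mem (hR₁T hy) hc') (T.mul_mem hc' (hR₁T hy)) ?_
    rw [hk.1.map_mul (hR₁T hy) hc', hk.1.map_mul hc' (hR₁T hy)]
    exact Subgroup.mem_centralizer_iff.mp hcc.2 _ (hkR.mem hy)
  set α := MulAut.congr hkR.equiv β' with hα
  have hαE : α ∈ E.autGroup R := by
    have hiso := (mem_autGroup hR₁T).mp hβ'm
    obtain ⟨χ, hχ, hχe⟩ := h.strongInv R₁ R R₁ (autFun β') k le_rfl hR₁T hiso.1
      (fun x hx => hiso.mem hx) hkR.1 hkR
    refine autGroup_mem_of_isMap (hχ.congr fun y hy => ?_)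
    obtain ⟨x, hx, rfl⟩ := hkR.exists_preimage hy
    rw [hχe x hx, autFun_congr hkR β' hx]
  obtain ⟨e, he, hee, hefix⟩ := h.ext_of_normalized hRn hRT hRc' hαE
  -- the extension of `k` to `T C_S(T)`
  have hTFC := h.centralized h.t_fullyNormalized
  obtain ⟨K, -, hKe, hKD, -⟩ := exists_extend_centralizer h.pgroup h.sat hk hTFC hTFC
  have hCD : ∀ {x : Ω}, x ∈ cE F E → x ∈ T ⊔ centralizerIn S T :=
    fun hx => Subgroup.mem_sup_right (cE_le hx)
  have hKC : ∀ x ∈ cE F E, K x ∈ cE F E := by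
    intro x hx
    induction hx using Subgroup.closure_induction with
    | mem y hy =>
      refine Subgroup.subset_closure (h.good_map hy (hKD.1.mono (sup_le le_sup_left ?_)))
      exact (Subgroup.zpowers_le).mpr (hCD (Subgroup.subset_closure hy))
    | one => rw [hKD.1.map_one]; exact Subgroup.one_mem _
    | mul u v hu hv ihu ihv => rw [hKD.1.map_mul (hCD hu) (hCD hv)]; exact Subgroup.mul_mem _ ihu ihv
    | inv u hu ihu => rw [hKD.1.map_inv (hCD hu)]; exact Subgroup.inv_mem _ ihu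
  have hcES : cE F E ≤ S := cE_le.trans (centralizerIn_le _ _)
  have hKsurj := surjOn_of_card_le hcES (hKD.1.injOn.mono fun x hx => hCD hx) hKC le_rfl
  obtain ⟨Ki, hKi, hKl, hKr⟩ := hKD.exists_inv
  have hle : R₁ ⊔ cE F E ≤ T ⊔ centralizerIn S T := sup_le_sup hR₁T cE_le
  have hle' : R ⊔ cE F E ≤ T ⊔ centralizerIn S T := sup_le_sup hRT cE_le
  have hm1 : ∀ x ∈ R₁ ⊔ cE F E, K x ∈ R ⊔ cE F E :=
    isMap_mem_sup (hKD.1.mono hle) le_sup_left le_sup_right
      (fun x hx => Subgroup.mem_sup_left (hKe (hR₁T hx) ▸ hkR.mem hx))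
      fun x hx => Subgroup.mem_sup_right (hKC x hx)
  have hm2 : ∀ x ∈ R ⊔ cE F E, e x ∈ R ⊔ cE F E :=
    isMap_mem_sup he le_sup_left le_sup_right
      (fun x hx => Subgroup.mem_sup_left (by rw [hee hx, autFun_of_mem α hx]; exact (α _).2))
      fun x hx => Subgroup.mem_sup_right ((hefix x hx).symm ▸ hx)
  refine ⟨Ki ∘ e ∘ K, ((hKD.1.mono hle).comp he hm1).comp hKi.1 (fun x hx => hle' (hm2 _ (hm1 x hx))),
    fun x hx => ?_, fun x hx => ?_⟩
  · have hbx : autFun β' x ∈ R₁ := autFun_of_mem β' hx ▸ (β' _).2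
    simp only [Function.comp_apply]
    rw [hKe (hR₁T hx), hee (hkR.mem hx), hα, autFun_congr hkR β' hx, ← hKe (hR₁T hbx)]
    exact hKl _ (Subgroup.mem_sup_left (hR₁T hbx))
  · simp only [Function.comp_apply]
    rw [hefix _ (hKC x hx)]
    exact hKl _ (hCD hx)

theorem NData.good_of_mem (h : NData F E p) {x : Ω} (hx : x ∈ cE F E) : Good F E x :=
  ⟨cE_le hx, fun P f hf => extendsFix_mono (h.extends_all P f hf) le_rfl ((Subgroup.zpowers_le).mpr hx)⟩

set_option maxHeartbeats 1600000 in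
/-- Given invariance along maps meeting `T` in a larger subgroup, maps fixing `M` preserve `C_S(E)`. -/
theorem NData.closed_fixing (h : NData F E p) {M : Subgroup Ω} (hM : F.IsFullyNormalized M)
    (hMT : M < T)
    (ih : ∀ W f, IsMap F W f → Nat.card M < Nat.card ↥(T ⊓ W) → ∀ x ∈ W, x ∈ cE F E → f x ∈ cE F E)
    {x : Ω} (hx : x ∈ cE F E) {ω : Ω → Ω} (hω : IsMap F (M ⊔ Subgroup.zpowers x) ω)
    (hfix : ∀ y ∈ M, ω y = y) : ω x ∈ cE F E := by
  haveI := h.finiteT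
  haveI := finite_of_le hM.1
  set C := centralizerIn S M with hC
  have hxC : x ∈ C := ⟨(cE_le hx).1, Subgroup.centralizer_le hMT.le (cE_le hx).2⟩
  have hCp : IsPGroup p C := h.pgroup.to_le (centralizerIn_le _ _)
  haveI := finite_of_le (centralizerIn_le S M)
  set E₃ := centralizerSystem F M hM.1 with hE₃
  have hE₃s : E₃.IsSaturated p := centralizerSystem_isSaturated h.pgroup h.sat (h.centralized hM)
  have hE₃iff : ∀ {P : Subgroup Ω} {g : Ω → Ω}, IsMap E₃ P g ↔ IsMap F P g ∧ P ≤ C ∧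
      (∀ x ∈ P, g x ∈ C) ∧ ExtendsFix F M P g :=
    fun {P g} => IsCentralizerSystem.isMap_iff (isCentralizerSystem_centralizerSystem M hM.1)
  have himM : ω '' (M : Set Ω) = (M : Set Ω) := (Set.image_congr hfix).trans (Set.image_id' _)
  have hω₃ : IsMap E₃ (Subgroup.zpowers x) ω := by
    refine hE₃iff.mpr ⟨hω.mono le_sup_right, (Subgroup.zpowers_le).mpr hxC, fun y hy => ?_, ω,
      hω.mono (sup_comm _ _).le, fun _ _ => rfl, hfix⟩
    exact map_mem_centralizer hω le_sup_left himM (Subgroup.mem_sup_right hy)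
      (((Subgroup.zpowers_le).mpr hxC) hy).2
  refine alperin_induction_cr hCp hE₃s (fun P f => ∀ y ∈ P, y ∈ cE F E → f y ∈ cE F E)
    (fun P f g hf he y hy hyC => he hy ▸ hf y hy hyC)
    (fun P Q f g hf _ hCf hCg y hy hyC => hCg _ (hf.mem hy) (hCf y hy hyC))
    (fun P Q f _ hle hQf y hy hyC => hQf y (hle hy) hyC) ?_ _ _ hω₃ x (Subgroup.mem_zpowers x) hx
  intro U hUc hUr hUn e he y hyU hyE
  haveI := finite_of_le hUn.1
  obtain ⟨heF, -, -, ψ, hψ, hψe, hψfix⟩ := hE₃iff.mp he.1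
  have hUC := hUn.1
  set V := U ⊔ M with hV
  have hVS : V ≤ S := hψ.dom_le
  rw [← hψe hyU]
  by_cases hTV : Nat.card M < Nat.card ↥(T ⊓ V)
  · exact ih V ψ hψ hTV y (Subgroup.mem_sup_left hyU) hyE
  haveI := finite_of_le hVS
  haveI : Finite ↥(T ⊓ V) := finite_of_le (inf_le_right.trans hVS)
  have hTVeq : T ⊓ V = M :=
    (Subgroup.eq_of_le_of_card_ge (le_inf hMT.le le_sup_right) (not_lt.mp hTV)).symm
  set Z := U ⊓ M with hZ
  have hMN : V ≤ Subgroup.normalizer (M : Set Ω) :=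
    sup_le (hUC.trans (inf_le_right.trans (Subgroup.centralizer_le_normalizer _))) M.le_normalizer
  -- `U` is the centralizer of `M` in `V`
  have hCVU : ∀ v ∈ V, v ∈ Subgroup.centralizer (M : Set Ω) → v ∈ U := by
    intro v hv hvc
    obtain ⟨u, hu, m, hm, rfl⟩ : v ∈ (U : Set Ω) * (M : Set Ω) := by
      rw [← Subgroup.coe_mul_of_left_le_normalizer_right U M
        ((le_sup_left : U ≤ V).trans hMN)]
      exact hv
    refine U.mul_mem hu (hUc.2 U (isConj_refl hUC) ⟨⟨hM.1 hm, ?_⟩, Subgroup.mem_centralizer_iff.mpr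
      fun w hw => (Subgroup.mem_centralizer_iff.mp (hUC hw).2 m hm).symm⟩)
    have := Subgroup.mul_mem _ (Subgroup.inv_mem _ (hUC hu).2) hvc
    rwa [inv_mul_cancel_left] at this
  have hψU : ψ '' (U : Set Ω) = (U : Set Ω) := (Set.image_congr hψe).trans he.2
  have hψV : IsIso F V V ψ :=
    IsIso.sup hψ hψU ((Set.image_congr hψfix).trans (Set.image_id' _))
  obtain ⟨ψi, hψi, hψl, hψr⟩ := hψV.exists_inv
  have hψiM : ∀ m ∈ M, ψi m = m := fun m hm => by
    conv_lhs => rw [← hψfix m hm]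
    exact hψl m (Subgroup.mem_sup_right hm)
  -- `N_T(V)` exceeds `M`
  set NT := normalizerIn T V with hNT
  have hVTp : V ≤ Subgroup.normalizer (T : Set Ω) := hVS.trans h.s_le
  obtain ⟨t₀, ht₀, ht₀M⟩ : ∃ t₀ ∈ NT, t₀ ∉ M := by
    have hlt : V < T ⊔ V := lt_of_le_of_ne le_sup_right fun heq => hMT.not_ge (by
      rw [← hTVeq]; exact le_inf le_rfl (le_sup_left.trans heq.ge))
    haveI := finite_of_le (sup_le h.tS hVS : T ⊔ V ≤ S)
    obtain ⟨g, hg, hgV⟩ := SetLike.exists_of_lt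
      (lt_normalizerIn (h.pgroup.to_le (sup_le h.tS hVS)) hlt)
    obtain ⟨v, hv, t, ht, rfl⟩ : g ∈ (V : Set Ω) * (T : Set Ω) := by
      rw [← Subgroup.coe_mul_of_left_le_normalizer_right V T hVTp, sup_comm]
      exact hg.1
    refine ⟨t, ⟨ht, ?_⟩, fun htM => hgV (V.mul_mem hv (Subgroup.mem_sup_right htM))⟩
    have := Subgroup.mul_mem _ (Subgroup.inv_mem _ (V.le_normalizer hv)) hg.2
    rwa [inv_mul_cancel_left] at this
  -- `ψ` extends to `V N_T(V)`
  have hext : IsExtendable S V ψ NT := by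
    refine ⟨(normalizerIn_le _ _).trans h.tS, fun t ht => ⟨ht.2, ?_⟩⟩
    have htS := h.tS ht.1
    have htM : t ∈ Subgroup.normalizer (M : Set Ω) := by
      refine Subgroup.mem_normalizer_fintype fun m hm => ?_
      rw [SetLike.mem_coe, ← hTVeq]
      exact ⟨T.mul_mem (T.mul_mem ht.1 (hMT.le hm)) (T.inv_mem ht.1),
        conj_mem_of_mem_normalizer ht.2 (Subgroup.mem_sup_right hm)⟩
    have hctV : ∀ v ∈ V, t * v * t⁻¹ ∈ V := fun v hv => conj_mem_of_mem_normalizer ht.2 hv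
    have htiV : ∀ v ∈ V, t⁻¹ * v * t ∈ V := fun v hv => by
      simpa using conj_mem_of_mem_normalizer (Subgroup.inv_mem _ ht.2) hv
    have htmod : ∀ v ∈ V, v⁻¹ * (t⁻¹ * v * t) ∈ M := fun v hv => by
      rw [← hTVeq]
      refine ⟨?_, V.mul_mem (V.inv_mem hv) (htiV v hv)⟩
      have := (h.comm_mem (hVS hv) (T.inv_mem ht.1)).2
      simpa using this
    set δ : Ω → Ω := fun v => ψ (t * ψi (t⁻¹ * v * t) * t⁻¹) with hδ
    have hδV : IsMap F V δ := by
      have h1 := (isMap_conj hVS (S.inv_mem htS)).comp hψi.1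
        (fun v hv => by simpa using htiV v hv)
      have hm1 : ∀ v ∈ V, ψi (t⁻¹ * v * t⁻¹⁻¹) ∈ V := fun v hv => hψi.mem (by simpa using htiV v hv)
      refine ((h1.comp (isMap_conj hVS htS) hm1).comp hψ
        (fun v hv => hctV _ (hm1 v hv))).congr fun v _ => ?_
      simp [hδ]
    have hδM : ∀ m ∈ M, δ m = m := fun m hm => by
      have h1 : t⁻¹ * m * t ∈ M := by
        simpa using conj_mem_of_mem_normalizer (Subgroup.inv_mem _ htM) hm
      show ψ (t * ψi (t⁻¹ * m * t) * t⁻¹) = m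
      rw [hψiM _ h1, show t * (t⁻¹ * m * t) * t⁻¹ = m by group]
      exact hψfix m hm
    have hδmod : ∀ v ∈ V, v⁻¹ * δ v ∈ M := fun v hv => by
      set w := ψi v with hw
      have hwV : w ∈ V := hψi.mem hv
      have hm := htmod v hv
      set m := v⁻¹ * (t⁻¹ * v * t) with hmdef
      have hvm : t⁻¹ * v * t = v * m := by rw [hmdef]; group
      have hm2 : w⁻¹ * (t * w * t⁻¹) ∈ M := by
        rw [← hTVeq]
        exact ⟨(h.comm_mem (hVS hwV) ht.1).2, V.mul_mem (V.inv_mem hwV) (hctV w hwV)⟩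
      set m' := w⁻¹ * (t * w * t⁻¹) with hm'def
      have hmt : t * m * t⁻¹ ∈ M := conj_mem_of_mem_normalizer htM hm
      have hδv : δ v = v * (m' * (t * m * t⁻¹)) := by
        show ψ (t * ψi (t⁻¹ * v * t) * t⁻¹) = _
        rw [hvm, hψi.1.map_mul hv (Subgroup.mem_sup_right hm), hψiM m hm, ← hw,
          show t * (w * m) * t⁻¹ = w * (m' * (t * m * t⁻¹)) by rw [hm'def]; group,
          hψ.map_mul hwV (Subgroup.mem_sup_right (M.mul_mem hm2 hmt)),
          hψfix _ (M.mul_mem hm2 hmt), hw, hψr v hv]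
      rw [hδv, inv_mul_cancel_left]
      exact M.mul_mem hm2 hmt
    have hδim : δ '' (M : Set Ω) = (M : Set Ω) := (Set.image_congr hδM).trans (Set.image_id' _)
    have hδC : ∀ v ∈ U, δ v ∈ U := fun v hv => by
      refine hCVU _ ?_ (map_mem_centralizer hδV le_sup_right hδim (Subgroup.mem_sup_left hv) (hUC hv).2).2
      have := V.mul_mem (Subgroup.mem_sup_left hv) (Subgroup.mem_sup_right (hδmod v (Subgroup.mem_sup_left hv)))
      rwa [mul_inv_cancel_left] at this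
    have hδ₃ : IsIso E₃ U U δ := by
      refine isIso_of_mapsTo (hE₃iff.mpr ⟨hδV.mono le_sup_left, hUC, fun v hv => hUC (hδC v hv), δ,
        hδV, fun _ _ => rfl, hδM⟩) hUC hδC le_rfl
    obtain ⟨d, hd, hde⟩ := hδ₃.exists_aut
    haveI := finite_mulAut U
    have hAZ : ∀ b ∈ E₃.autGroup U, ∀ w : U, (w : Ω) ∈ Z → b w = w := fun b hb w hw => Subtype.ext (by
      obtain ⟨-, -, -, b', -, hb'e, hb'M⟩ := hE₃iff.mp ((mem_autGroup hUC).mp hb).1
      rw [← autFun_coe b, ← hb'e w.2]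
      exact hb'M w hw.2)
    have hdfix : d ∈ fixMod U Z := by
      refine ⟨hAZ d hd, fun w => Subgroup.mem_inf.mpr ⟨(w⁻¹ * d w : U).2, ?_⟩⟩
      rw [Subgroup.coe_mul, Subgroup.coe_inv, ← autFun_coe d, hde w.2]
      exact hδmod w (Subgroup.mem_sup_left w.2)
    have hdI : d ∈ Cfsg.Inn U := by
      rw [← hUr.2]
      refine ⟨⟨d, hd⟩, Subgroup.mem_sSup_of_mem (s := (fixMod U Z).subgroupOf (E₃.autGroup U)) ?_
        (Subgroup.mem_subgroupOf.mpr hdfix), rfl⟩
      exact ⟨fixMod_normal _ fun b hb w hw => by rw [hAZ b hb w hw]; exact hw,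
        (fixMod_isPGroup (hCp.to_le hUC)).comap_of_injective _ (Subgroup.subtype_injective _)⟩
    obtain ⟨u, hu, hue⟩ := mem_inn.mp hdI
    have huS : u ∈ S := (hUC hu).1
    have hδu : Set.EqOn δ (fun v => u * v * u⁻¹) (V : Set Ω) :=
      eqOn_sup hδV (isMap_conj hVS huS) le_sup_left le_sup_right
        (fun v hv => by rw [← hde hv, autFun_of_mem d hv]; exact hue ⟨v, hv⟩)
        (fun m hm => by
          show δ m = u * m * u⁻¹
          rw [hδM m hm, ← Subgroup.mem_centralizer_iff.mp (hUC hu).2 m hm]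
          group)
    refine ⟨u * t, S.mul_mem huS htS, fun v hv => ?_⟩
    have hψv : ψ v ∈ V := hψV.mem hv
    have h1 := hδu (hctV _ hψv)
    simp only [hδ] at h1
    rw [show t⁻¹ * (t * ψ v * t⁻¹) * t = ψ v by group, hψl v hv] at h1
    rw [h1]
    group
  -- `V` is receptive
  have hVc : F.IsCentric V := by
    refine ⟨hVS, fun V' hV' => ?_⟩
    obtain ⟨χ, hχ⟩ := isConj_iff.mp hV'
    obtain ⟨M', hM'V, hM'⟩ := hχ.restrict (le_sup_right : M ≤ V)
    obtain ⟨χi, hχi, hχl, -⟩ := hM'.exists_inv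
    obtain ⟨ρ, hρ, hρe⟩ := receptive_extend (h.recv hM) hχi (isExtendable_centralizerIn χi)
    have hρM : ρ '' (M' : Set Ω) = (M : Set Ω) := (Set.image_congr hρe).trans hχi.2
    have hm : ∀ v ∈ V, χ v ∈ M' ⊔ centralizerIn S M' :=
      isMap_mem_sup hχ.1 le_sup_left le_sup_right
        (fun v hv => Subgroup.mem_sup_right
          (map_mem_centralizer hχ.1 le_sup_right hM'.2 (Subgroup.mem_sup_left hv) (hUC hv).2))
        fun v hv => Subgroup.mem_sup_left (hM'.mem hv)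
    set χ' := ρ ∘ χ with hχ'
    have hχ'map : IsMap F V χ' := hχ.1.comp hρ hm
    have hχ'M : ∀ m ∈ M, χ' m = m := fun m hm' => by
      show ρ (χ m) = m
      rw [hρe (hM'.mem hm'), hχl m hm']
    have hχ'₃ : IsMap E₃ U χ' := hE₃iff.mpr ⟨hχ'map.mono le_sup_left, hUC, fun v hv =>
      map_mem_centralizer hχ'map le_sup_right ((Set.image_congr hχ'M).trans (Set.image_id' _))
        (Subgroup.mem_sup_left hv) (hUC hv).2, χ', hχ'map, fun _ _ => rfl, hχ'M⟩
    obtain ⟨U'', hU''⟩ := hχ'₃.exists_image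
    intro c hc
    have hcC : c ∈ centralizerIn S M' := ⟨hc.1, Subgroup.centralizer_le hM'V hc.2⟩
    have hρc : ρ c ∈ C := map_mem_centralizer hρ le_sup_left hρM (Subgroup.mem_sup_right hcC) hcC.2
    have hρcU : ρ c ∈ U'' := by
      refine hUc.2 U'' hU''.isConj ⟨hρc, Subgroup.mem_centralizer_iff.mpr fun w hw => ?_⟩
      obtain ⟨v, hv, rfl⟩ := hU''.exists_preimage hw
      have hχv : χ v ∈ V' := hχ.mem (Subgroup.mem_sup_left hv)
      show ρ (χ v) * ρ c = ρ c * ρ (χ v)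
      rw [← hρ.map_mul (hm v (Subgroup.mem_sup_left hv)) (Subgroup.mem_sup_right hcC),
        ← hρ.map_mul (Subgroup.mem_sup_right hcC) (hm v (Subgroup.mem_sup_left hv)),
        Subgroup.mem_centralizer_iff.mp hc.2 _ hχv]
    obtain ⟨v, hv, hve⟩ := hU''.exists_preimage hρcU
    have := hρ.injOn (hm v (Subgroup.mem_sup_left hv)) (Subgroup.mem_sup_right hcC) hve
    rw [← this]
    exact hχ.mem (Subgroup.mem_sup_left hv)
  have hVr : F.IsReceptive V := receptive_of_fullyCentralized h.pgroup h.sat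
    ⟨hVS, fun Q hQ => by
      obtain ⟨f, hf⟩ := isConj_iff.mp hQ
      obtain ⟨fi, hfi, -, -⟩ := hf.exists_inv
      have hQc := hVc.2 Q hQ
      refine card_le_of_injOn (centralizerIn_le _ _) (hfi.1.injOn.mono hQc) fun c hc => ?_
      have hcQ := hQc hc
      refine ⟨hfi.1.apply_mem hcQ, Subgroup.mem_centralizer_iff.mpr fun v hv => ?_⟩
      obtain ⟨q, hq, rfl⟩ := hfi.exists_preimage hv
      rw [← hfi.1.map_mul hq hcQ, ← hfi.1.map_mul hcQ hq, Subgroup.mem_centralizer_iff.mp hc.2 q hq]⟩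
  obtain ⟨ψ', hψ', hψ'e⟩ := receptive_extend hVr hψV hext
  rw [← hψ'e (Subgroup.mem_sup_left hyU)]
  refine ih _ ψ' hψ' ?_ y (Subgroup.mem_sup_left (Subgroup.mem_sup_left hyU)) hyE
  haveI : Finite ↥(T ⊓ (V ⊔ NT)) := finite_of_le (inf_le_left.trans h.tS)
  have hle : M ≤ T ⊓ (V ⊔ NT) :=
    le_inf hMT.le ((le_sup_right : M ≤ V).trans le_sup_left)
  refine lt_of_le_of_ne (Subgroup.card_le_of_le hle) fun heq => ht₀M ?_
  exact (Subgroup.eq_of_le_of_card_ge hle heq.ge).ge ⟨ht₀.1, Subgroup.mem_sup_right ht₀⟩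

set_option maxHeartbeats 1600000 in
theorem NData.cE_closed (h : NData F E p) : F.StronglyClosed (cE F E) := by
  haveI := h.finiteT
  have hcES : cE F E ≤ S := cE_le.trans (centralizerIn_le _ _)
  refine stronglyClosed_iff.mpr ⟨hcES, ?_⟩
  intro W f hf x hxW hxE
  induction hn : Nat.card T - Nat.card ↥(T ⊓ W) using Nat.strong_induction_on
    generalizing W f x with
  | _ n ih =>
  haveI : Finite ↥(T ⊓ W) := finite_of_le (inf_le_left.trans h.tS)
  set M := T ⊓ W with hM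
  by_cases hMT : M = T
  · refine Subgroup.subset_closure (h.good_map (h.good_of_mem hxE) (hf.mono (sup_le ?_ ?_)))
    · exact hMT.ge.trans inf_le_right
    · exact (Subgroup.zpowers_le).mpr hxW
  have hMTlt : M < T := lt_of_le_of_ne inf_le_left hMT
  have hWS := hf.dom_le
  have hMS : M ≤ S := inf_le_left.trans h.tS
  have hbig : ∀ W' g, IsMap F W' g → Nat.card M < Nat.card ↥(T ⊓ W') → ∀ y ∈ W', y ∈ cE F E →
      g y ∈ cE F E := by
    intro W' g hg hlt y hy hyE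
    have h2 : Nat.card ↥(T ⊓ W') ≤ Nat.card T := Subgroup.card_le_of_le inf_le_left
    exact ih (Nat.card T - Nat.card ↥(T ⊓ W')) (by omega) W' g hg y hy hyE rfl
  have hcardlt : ∀ {X W' : Subgroup Ω}, Nat.card X = Nat.card M → X ≤ T → normalizerIn T X ≤ W' →
      Nat.card M < Nat.card ↥(T ⊓ W') := by
    intro X W' hX hXT hW'
    haveI := finite_of_le hXT
    have hXlt : X < T := lt_of_le_of_ne hXT fun he =>
      hMT (Subgroup.eq_of_le_of_card_ge inf_le_left (by rw [← hX, he]))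
    haveI : Finite ↥(T ⊓ W') := finite_of_le (inf_le_left.trans h.tS)
    have h1 : X < normalizerIn T X := lt_normalizerIn h.tp hXlt
    haveI := finite_of_le (normalizerIn_le T X)
    have h2 : Nat.card X < Nat.card (normalizerIn T X) :=
      lt_of_le_of_ne (Subgroup.card_le_of_le h1.le) fun he =>
        h1.ne (Subgroup.eq_of_le_of_card_ge h1.le he.ge)
    have h3 : Nat.card (normalizerIn T X) ≤ Nat.card ↥(T ⊓ W') :=
      Subgroup.card_le_of_le (le_inf (normalizerIn_le _ _) hW')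
    omega
  have hWN : W ≤ normalizerIn S M := fun w hw => by
    refine ⟨hWS hw, Subgroup.mem_normalizer_fintype fun m hm => ?_⟩
    exact ⟨h.conj_t (hWS hw) hm.1, W.mul_mem (W.mul_mem hw hm.2) (W.inv_mem hw)⟩
  obtain ⟨M₃, hM₃, hM₃n⟩ := exists_fullyNormalized (F := F) hMS
  obtain ⟨θ₁, hθ₁, hθ₁M, -, hθ₁T⟩ := h.exists_normT_map hM₃n hM₃
  have hM₃T : M₃ ≤ T := fun y hy => by
    obtain ⟨m, hm, rfl⟩ := hθ₁M.exists_preimage hy
    exact Fusion92.closed_apply h.closed hθ₁ (le_normalizerIn hMS hm) hm.1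
  have hM₃card : Nat.card M₃ = Nat.card M := (isConj_card hM₃).symm
  have hM₃lt : M₃ < T := lt_of_le_of_ne hM₃T fun he =>
    hMT (Subgroup.eq_of_le_of_card_ge inf_le_left (by rw [← hM₃card, he]))
  have hx1 : θ₁ x ∈ cE F E :=
    hbig _ θ₁ hθ₁ (hcardlt rfl inf_le_left fun t ht => ⟨h.tS ht.1, ht.2⟩) x (hWN hxW) hxE
  obtain ⟨M₂, hM₂⟩ := (hf.mono (inf_le_right : M ≤ W)).exists_image
  have hM₂T : M₂ ≤ T := fun y hy => by
    obtain ⟨m, hm, rfl⟩ := hM₂.exists_preimage hy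
    exact Fusion92.closed_apply h.closed hf hm.2 hm.1
  obtain ⟨θ₂, hθ₂, hθ₂M, -, hθ₂T⟩ :=
    h.exists_normT_map hM₃n (isConj_trans (isConj_symm hM₂.isConj) hM₃)
  have hfxN : f x ∈ normalizerIn S M₂ :=
    map_mem_normalizer hf inf_le_right hM₂.2 hxW (hWN hxW).2
  suffices hx2 : θ₂ (f x) ∈ cE F E by
    obtain ⟨W', hW'⟩ := hθ₂.exists_image
    obtain ⟨θi, hθi, hθil, -⟩ := hW'.exists_inv
    have hlt : Nat.card M < Nat.card ↥(T ⊓ W') := by
      have h1 := hcardlt (W' := normalizerIn S M₂) hM₂.card_eq.symm hM₂T fun t ht => ⟨h.tS ht.1, ht.2⟩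
      refine lt_of_lt_of_le h1 ?_
      exact card_le_of_injOn (inf_le_left.trans h.tS) (hθ₂.injOn.mono fun t ht => ht.2) fun t ht =>
        ⟨Fusion92.closed_apply h.closed hθ₂ ht.2 ht.1, hW'.mem ht.2⟩
    have := hbig W' θi hθi.1 hlt _ (hW'.mem hfxN) hx2
    rwa [hθil _ hfxN] at this
  -- the residual map on `M₃⟨θ₁ x⟩`
  have hMW : M ⊔ Subgroup.zpowers x ≤ W := sup_le inf_le_right ((Subgroup.zpowers_le).mpr hxW)
  obtain ⟨V₁, hV₁⟩ := (hθ₁.mono (hMW.trans hWN)).exists_image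
  obtain ⟨ti, hti, htil, -⟩ := hV₁.exists_inv
  set f₁ := θ₂ ∘ f ∘ ti with hf₁
  have hfN : ∀ w ∈ W, f w ∈ normalizerIn S M₂ := fun w hw =>
    map_mem_normalizer hf inf_le_right hM₂.2 hw (hWN hw).2
  have hf₁map : IsMap F V₁ f₁ :=
    (hti.1.comp hf fun v hv => hMW (hti.mem hv)).comp hθ₂ fun v hv => hfN _ (hMW (hti.mem hv))
  have hf₁x : f₁ (θ₁ x) = θ₂ (f x) := by
    show θ₂ (f (ti (θ₁ x))) = _
    rw [htil x (Subgroup.mem_sup_right (Subgroup.mem_zpowers x))]
  have hM₃V₁ : M₃ ≤ V₁ := fun y hy => by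
    obtain ⟨m, hm, rfl⟩ := hθ₁M.exists_preimage hy
    exact hV₁.mem (Subgroup.mem_sup_left hm)
  have hx1V : θ₁ x ∈ V₁ := hV₁.mem (Subgroup.mem_sup_right (Subgroup.mem_zpowers x))
  have hf₁M : IsIso F M₃ M₃ f₁ := by
    refine isIso_of_mapsTo (hf₁map.mono hM₃V₁) hM₃n.1 (fun y hy => ?_) le_rfl
    obtain ⟨m, hm, rfl⟩ := hθ₁M.exists_preimage hy
    show θ₂ (f (ti (θ₁ m))) ∈ M₃
    rw [htil m (Subgroup.mem_sup_left hm)]
    exact hθ₂M.mem (hM₂.mem hm)
  obtain ⟨k, g, hk, hg, hge⟩ := invariant_frattini h.invariant hf₁M.1 hM₃T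
  obtain ⟨g', hg', hg'e, hg'fix⟩ := h.extends_all M₃ g hg
  have hTFC := h.centralized h.t_fullyNormalized
  obtain ⟨K, -, hKe, hKD, -⟩ := exists_extend_centralizer h.pgroup h.sat hk hTFC hTFC
  have hx1E : K (θ₁ x) ∈ cE F E :=
    Subgroup.subset_closure (h.good_map (h.good_of_mem hx1)
      (hKD.1.mono (sup_le le_sup_left ((Subgroup.zpowers_le).mpr (Subgroup.mem_sup_right (cE_le hx1))))))
  set L := M₃ ⊔ Subgroup.zpowers (θ₁ x) with hL
  have hLV : L ≤ V₁ := sup_le hM₃V₁ ((Subgroup.zpowers_le).mpr hx1V)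
  have hgL : IsMap F L g' := hg'.mono (sup_le_sup_left ((Subgroup.zpowers_le).mpr hx1) M₃)
  have hgmem : ∀ v ∈ L, g' v ∈ T ⊔ centralizerIn S T :=
    isMap_mem_sup hgL le_sup_left le_sup_right
      (fun v hv => Subgroup.mem_sup_left (hg'e hv ▸ hg.apply_mem hv))
      fun v hv => by
        have hvE : v ∈ cE F E := ((Subgroup.zpowers_le).mpr hx1) hv
        rw [hg'fix v hvE]
        exact Subgroup.mem_sup_right (cE_le hvE)
  have hρ : IsMap F L (K ∘ g') := hgL.comp hKD.1 hgmem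
  obtain ⟨L', hL'⟩ := hρ.exists_image
  obtain ⟨ρi, hρi, hρil, -⟩ := hL'.exists_inv
  have hρx : (K ∘ g') (θ₁ x) = K (θ₁ x) := by
    show K (g' (θ₁ x)) = _
    rw [hg'fix _ hx1]
  have hρM : ∀ y ∈ M₃, (K ∘ g') y = f₁ y := fun y hy => by
    show K (g' y) = f₁ y
    rw [hg'e hy, hKe (hg.apply_mem hy), hge y hy]
  have hM₃L' : ∀ y ∈ M₃, y ∈ L' ∧ f₁ (ρi y) = y := fun y hy => by
    obtain ⟨w, hw, rfl⟩ := hf₁M.exists_preimage hy
    rw [← hρM w hw]
    exact ⟨hL'.mem (Subgroup.mem_sup_left hw),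
      by rw [hρil w (Subgroup.mem_sup_left hw)]; exact (hρM w hw).symm⟩
  have hxL' : K (θ₁ x) ∈ L' := hρx ▸ hL'.mem (Subgroup.mem_sup_right (Subgroup.mem_zpowers _))
  have hω : IsMap F (M₃ ⊔ Subgroup.zpowers (K (θ₁ x))) (f₁ ∘ ρi) :=
    (hρi.1.comp hf₁map fun v hv => hLV (hρi.mem hv)).mono
      (sup_le (fun y hy => (hM₃L' y hy).1) ((Subgroup.zpowers_le).mpr hxL'))
  have hres := h.closed_fixing hM₃n hM₃lt
    (fun W' g' hg' hlt => hbig W' g' hg' (hM₃card ▸ hlt)) hx1E hω fun y hy => (hM₃L' y hy).2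
  have hρix : ρi (K (θ₁ x)) = θ₁ x := by
    rw [← hρx]
    exact hρil _ (Subgroup.mem_sup_right (Subgroup.mem_zpowers _))
  rw [Function.comp_apply, hρix, hf₁x] at hres
  exact hres

end Cfsg.Agent.Fusion.NormalLift
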