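import Cfsg.Agent.Lib.Fusion.SubSat
import Cfsg.Agent.Lib.Fusion.Criterion
import Cfsg.Agent.Lib.Fusion.Invariant
import Cfsg.Agent.Lib.Fusion.Normal
import Cfsg.Agent.Fusion92.Centric

/-!
# Lifting automorphisms in a normal subsystem

For a normal subsystem `E` over `T`, a fully normalized `R ≤ T` with `C_T(R) ≤ R` and an automorphism
of `R` in `E`, some extension to `R C_S(R)` is trivial on `C_S(R)` modulo `R`.
-/

set_option autoImplicit false

namespace Cfsg.Agent.Fusion.NormalLift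

open Cfsg
open Cfsg.FusionSystem (normalizerIn centralizerIn)

variable {Ω : Type*} [Group Ω] {S T : Subgroup Ω} {F : FusionSystem S} {E : FusionSystem T} {p : ℕ}

theorem autFun_congr {P Q : Subgroup Ω} {f : Ω → Ω} (h : IsIso F P Q f) (α : MulAut P) {x : Ω}
    (hx : x ∈ P) : autFun (MulAut.congr h.equiv α) (f x) = f (autFun α x) := by
  rw [autFun_of_mem α hx, ← congr_apply_equiv h, autFun_of_mem _ (h.mem hx)]
  congr 2

theorem eqOn_sup {P Q M : Subgroup Ω} {f g : Ω → Ω} (hf : IsMap F M f) (hg : IsMap F M g)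
    (hP : P ≤ M) (hQ : Q ≤ M) (h1 : Set.EqOn f g P) (h2 : Set.EqOn f g Q) :
    Set.EqOn f g ((P ⊔ Q : Subgroup Ω) : Set Ω) := by
  obtain ⟨φ, -, hφ⟩ := hf
  obtain ⟨ψ, -, hψ⟩ := hg
  have hle : P ⊔ Q ≤ (φ.eqLocus ψ).map M.subtype := sup_le
    (fun y hy => ⟨⟨y, hP hy⟩, show φ _ = ψ _ by rw [hφ, hψ]; exact h1 hy, rfl⟩)
    (fun y hy => ⟨⟨y, hQ hy⟩, show φ _ = ψ _ by rw [hφ, hψ]; exact h2 hy, rfl⟩)
  intro x hx
  obtain ⟨y, hy, rfl⟩ := hle hx
  have : φ y = ψ y := hy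
  rwa [hφ, hψ] at this

theorem isIso_of_mapsTo [Finite S] {P Q : Subgroup Ω} {f : Ω → Ω} (hf : IsMap F P f) (hQ : Q ≤ S)
    (h : ∀ x ∈ P, f x ∈ Q) (hc : Nat.card Q ≤ Nat.card P) : IsIso F P Q f :=
  ⟨hf, Set.Subset.antisymm (fun y ⟨x, hx, hy⟩ => hy ▸ h x hx)
    (fun y hy => surjOn_of_card_le hQ hf.injOn h hc y hy)⟩

theorem exists_pow_coprime [Fact p.Prime] {Γ A : Type*} [Group Γ] [Finite Γ] [Group A] (γ : Γ)
    (a : A) (ha : Nat.Coprime (orderOf a) p) :
    ∃ m, Nat.Coprime (orderOf (γ ^ m)) p ∧ a ^ m = a := by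
  obtain ⟨k, n, hn, hkn⟩ :=
    Nat.exists_eq_pow_mul_and_not_dvd (orderOf_pos γ).ne' p (Fact.out : p.Prime).ne_one
  obtain ⟨j, hj⟩ : ∃ j : ℕ, (a ^ p ^ k) ^ j = a :=
    exists_pow_eq_self_of_coprime ((ha.pow_right k).symm)
  refine ⟨p ^ k * j, ?_, by rw [pow_mul]; exact hj⟩
  rw [pow_mul]
  refine Nat.Coprime.coprime_dvd_left (orderOf_pow_dvd _) ?_
  rw [orderOf_pow, hkn, Nat.gcd_eq_right (dvd_mul_right _ _),
    Nat.mul_div_cancel_left _ (pow_pos (Fact.out : p.Prime).pos k)]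
  exact ((Nat.Prime.coprime_iff_not_dvd (Fact.out : p.Prime)).mpr hn).symm

theorem eq_top_of_sylow_coprime [Fact p.Prime] {A : Type*} [Group A] [Finite A] (U : Sylow p A)
    (K : Subgroup A) (hU : (U : Subgroup A) ≤ K)
    (h : ∀ a : A, Nat.Coprime (orderOf a) p → a ∈ K) : K = ⊤ :=
  top_le_iff.mp ((Transfer.sylow_sup_pResidual_eq_top U).ge.trans
    (sup_le hU (Transfer.pResidual_le_iff.mpr h)))

/-- The automorphisms of `P` fixing `Z` pointwise and trivial modulo `Z`. -/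
def fixMod (P Z : Subgroup Ω) : Subgroup (MulAut P) where
  carrier := {a | (∀ x : P, (x : Ω) ∈ Z → a x = x) ∧ ∀ x : P, ((x⁻¹ * a x : P) : Ω) ∈ Z}
  one_mem' := ⟨fun _ _ => rfl, fun x => by simp⟩
  mul_mem' {a b} ha hb := ⟨fun x hx => by rw [MulAut.mul_apply, hb.1 x hx, ha.1 x hx], fun x => by
    have h1 := hb.2 x
    have h2 : a (x⁻¹ * b x) = x⁻¹ * b x := ha.1 _ h1
    rw [MulAut.mul_apply, show x⁻¹ * a (b x) = (x⁻¹ * a x) * a (x⁻¹ * b x) by
      rw [mul_assoc, ← map_mul, mul_inv_cancel_left], h2, Subgroup.coe_mul]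
    exact Z.mul_mem (ha.2 x) h1⟩
  inv_mem' {a} ha := ⟨fun x hx => a.injective (by
      rw [ha.1 x hx]; exact a.apply_symm_apply x), fun x => by
    have h1 := ha.2 (a⁻¹ x)
    rw [show a (a⁻¹ x) = x from a.apply_symm_apply x] at h1
    rw [show (x⁻¹ * a⁻¹ x : P) = ((a⁻¹ x)⁻¹ * x)⁻¹ by group, Subgroup.coe_inv]
    exact Z.inv_mem h1⟩

theorem fixMod_isPGroup {P Z : Subgroup Ω} [Finite P] [Fact p.Prime] (hP : IsPGroup p P) :
    IsPGroup p (fixMod P Z) := by
  obtain ⟨k, hk⟩ := IsPGroup.iff_card.mp hP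
  rintro ⟨a, ha⟩
  have hit : ∀ (n : ℕ) (x : P), (a ^ n) x = x * (x⁻¹ * a x) ^ n := by
    intro n
    induction n with
    | zero => simp
    | succ n ih =>
      intro x
      rw [pow_succ', MulAut.mul_apply, ih, map_mul, map_pow, ha.1 _ (ha.2 x),
        pow_succ' (x⁻¹ * a x), ← mul_assoc x, mul_inv_cancel_left]
  refine ⟨k, Subtype.ext (MulEquiv.ext fun x => ?_)⟩
  show (a ^ p ^ k) x = x
  rw [hit, ← hk, pow_card_eq_one', mul_one]

theorem fixMod_conj {P Z : Subgroup Ω} {a b : MulAut P} (ha : a ∈ fixMod P Z)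
    (hb : ∀ x : P, ((b x : P) : Ω) ∈ Z ↔ (x : Ω) ∈ Z) : b * a * b⁻¹ ∈ fixMod P Z := by
  have hbb : ∀ x : P, b (b⁻¹ x) = x := fun x => b.apply_symm_apply x
  refine ⟨fun x hx => ?_, fun x => ?_⟩
  · rw [MulAut.mul_apply, MulAut.mul_apply, ha.1 _ ((hb _).mp (by rw [hbb]; exact hx)), hbb]
  · have h1 := (hb _).mpr (ha.2 (b⁻¹ x))
    rw [map_mul, map_inv, hbb] at h1
    exact h1

theorem fixMod_normal {P Z : Subgroup Ω} (A : Subgroup (MulAut P))
    (h : ∀ b ∈ A, ∀ x : P, (x : Ω) ∈ Z → ((b x : P) : Ω) ∈ Z) :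
    ((fixMod P Z).subgroupOf A).Normal := by
  refine ⟨fun a ha b => Subgroup.mem_subgroupOf.mpr (fixMod_conj (Subgroup.mem_subgroupOf.mp ha)
    fun x => ⟨fun hx => ?_, h b b.2 x⟩)⟩
  have := h _ (A.inv_mem b.2) _ hx
  rwa [show (b : MulAut P)⁻¹ ((b : MulAut P) x) = x from (b : MulAut P).symm_apply_apply x] at this

/-- `α` has an extension to `R C_S(R)` trivial on `C_S(R)` modulo `R`. -/
def Lift (F : FusionSystem S) {R : Subgroup Ω} (α : MulAut R) : Prop :=
  ∃ γ ∈ F.autGroup (R ⊔ centralizerIn S R), Set.EqOn (autFun γ) (autFun α) R ∧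
    ∀ c ∈ centralizerIn S R, c⁻¹ * autFun γ c ∈ R

theorem lift_one {R : Subgroup Ω} : Lift F (1 : MulAut R) := by
  refine ⟨1, Subgroup.one_mem _, fun x hx => ?_, fun c hc => ?_⟩
  · rw [autFun_one (Subgroup.mem_sup_left hx : x ∈ R ⊔ centralizerIn S R), autFun_one hx]
  · rw [autFun_one (Subgroup.mem_sup_right hc : c ∈ R ⊔ centralizerIn S R)]
    simp

theorem lift_mul {R : Subgroup Ω} (hR : R ≤ S) {α β : MulAut R} (ha : Lift F α) (hb : Lift F β) :
    Lift F (α * β) := by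
  obtain ⟨γ, hγ, hγe, hγc⟩ := ha
  obtain ⟨δ, hδ, hδe, hδc⟩ := hb
  have hD : R ⊔ centralizerIn S R ≤ S := sup_le hR (centralizerIn_le _ _)
  refine ⟨γ * δ, Subgroup.mul_mem _ hγ hδ, fun x hx => ?_, fun c hc => ?_⟩
  · rw [autFun_mul _ _ (Subgroup.mem_sup_left hx : x ∈ R ⊔ centralizerIn S R), autFun_mul _ _ hx,
      Function.comp_apply, Function.comp_apply, hδe hx]
    exact hγe (autFun_of_mem β hx ▸ (β _).2)
  · have hiso := ((mem_autGroup hD).mp hγ).1
    have h1 : autFun γ (c⁻¹ * autFun δ c) ∈ R := by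
      rw [hγe (hδc c hc), autFun_of_mem α (hδc c hc)]
      exact (α _).2
    rw [hiso.map_mul (Subgroup.inv_mem _ (Subgroup.mem_sup_right hc))
      (autFun_of_mem δ (Subgroup.mem_sup_right hc : c ∈ R ⊔ centralizerIn S R) ▸ (δ _).2),
      hiso.map_inv (Subgroup.mem_sup_right hc)] at h1
    have h2 := R.mul_mem (hγc c hc) h1
    rw [mul_assoc, mul_inv_cancel_left] at h2
    rwa [autFun_mul _ _ (Subgroup.mem_sup_right hc : c ∈ R ⊔ centralizerIn S R)]

theorem lift_pow {R : Subgroup Ω} (hR : R ≤ S) {α : MulAut R} (ha : Lift F α) (n : ℕ) :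
    Lift F (α ^ n) := by
  induction n with
  | zero => rw [pow_zero]; exact lift_one
  | succ n ih => rw [pow_succ]; exact lift_mul hR ih ha

/-- Transport of lifts. -/
theorem lift_transport {R R' : Subgroup Ω} {θ : Ω → Ω} (hθR : IsIso F R R' θ)
    (hθD : IsIso F (R ⊔ centralizerIn S R) (R' ⊔ centralizerIn S R') θ)
    (hsurj : ∀ c' ∈ centralizerIn S R', ∃ c ∈ centralizerIn S R, θ c = c')
    {α : MulAut R} (ha : Lift F α) : Lift F (MulAut.congr hθR.equiv α) := by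
  obtain ⟨γ, hγ, hγe, hγc⟩ := ha
  refine ⟨MulAut.congr hθD.equiv γ, by rw [← autGroup_map_congr hθD]; exact ⟨γ, hγ, rfl⟩,
    fun y hy => ?_, fun c' hc' => ?_⟩
  · obtain ⟨x, hx, rfl⟩ := hθR.exists_preimage hy
    rw [autFun_congr hθD γ (Subgroup.mem_sup_left hx), autFun_congr hθR α hx, hγe hx]
  · obtain ⟨c, hc, rfl⟩ := hsurj c' hc'
    have hcD : c ∈ R ⊔ centralizerIn S R := Subgroup.mem_sup_right hc
    rw [autFun_congr hθD γ hcD, ← hθD.1.map_inv hcD,
      ← hθD.1.map_mul (Subgroup.inv_mem _ hcD) (autFun_of_mem γ hcD ▸ (γ _).2)]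
    exact hθR.mem (hγc c hc)

/-- The data of a normal subsystem. -/
structure NData (F : FusionSystem S) (E : FusionSystem T) (p : ℕ) : Prop where
  pgroup : IsPGroup p S
  sat : F.IsSaturated p
  normal : E.IsNormalIn F p

theorem NData.sub (h : NData F E p) : E.IsSubsystemOf F := h.normal.1.2.2.1

theorem NData.closed (h : NData F E p) : F.StronglyClosed T := h.normal.1.2.2.2.1

theorem NData.tS (h : NData F E p) : T ≤ S := h.closed.1

theorem NData.tp (h : NData F E p) : IsPGroup p T := h.pgroup.to_le h.tS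

theorem NData.eSat (h : NData F E p) : E.IsSaturated p := h.normal.1.1

theorem NData.strongInv (h : NData F E p) : StrongInv E F := strongInv_of_invariant h.normal.1.2.2

theorem NData.invariant (h : NData F E p) : E.IsInvariantIn F := h.normal.1.2.2

variable [Finite S]

theorem NData.finiteT (h : NData F E p) : Finite T := finite_of_le h.tS

theorem NData.s_le (h : NData F E p) : S ≤ Subgroup.normalizer (T : Set Ω) :=
  stronglyClosed_le_normalizer h.closed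

theorem NData.conj_t (h : NData F E p) {s t : Ω} (hs : s ∈ S) (ht : t ∈ T) : s * t * s⁻¹ ∈ T :=
  conj_mem_of_mem_normalizer (h.s_le hs) ht

theorem NData.comm_mem (h : NData F E p) {s t : Ω} (hs : s ∈ S) (ht : t ∈ T) :
    t⁻¹ * (s * t * s⁻¹) ∈ T ∧ s⁻¹ * (t * s * t⁻¹) ∈ T := by
  refine ⟨T.mul_mem (T.inv_mem ht) (h.conj_t hs ht), ?_⟩
  have := T.mul_mem (h.conj_t (S.inv_mem hs) ht) (T.inv_mem ht)
  simpa [mul_assoc] using this

theorem autGroup_conj_mem (h : NData F E p) {P : Subgroup Ω} (hP : P ≤ T) {α β : MulAut P}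
    (hα : α ∈ E.autGroup P) (hβ : β ∈ F.autGroup P) : β * α * β⁻¹ ∈ E.autGroup P := by
  have ha := (mem_autGroup hP).mp hα
  have hb := (mem_autGroup (hP.trans h.tS)).mp hβ
  obtain ⟨χ, hχ, hχe⟩ := h.strongInv P P P (autFun α) (autFun β) le_rfl hP ha.1
    (fun x hx => ha.mem hx) hb.1 hb
  refine autGroup_mem_of_isMap (hχ.congr fun y hy => ?_)
  have h1 := hχe ((β⁻¹ : MulAut P) ⟨y, hy⟩ : Ω) (Subtype.mem _)
  rw [autFun_coe β, autFun_coe α, autFun_coe β] at h1
  rw [autFun_of_mem _ hy]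
  rw [show β ((β⁻¹ : MulAut P) ⟨y, hy⟩) = ⟨y, hy⟩ from β.apply_symm_apply _] at h1
  exact h1

variable [Fact p.Prime]

theorem NData.recv (h : NData F E p) {R : Subgroup Ω} (hR : F.IsFullyNormalized R) :
    F.IsReceptive R :=
  receptive_of_fullyNormalized h.pgroup h.sat hR

theorem NData.centralized (h : NData F E p) {R : Subgroup Ω} (hR : F.IsFullyNormalized R) :
    F.IsFullyCentralized R :=
  fullyCentralized_of_fullyNormalized h.pgroup h.sat hR

/-- A fully normalized subgroup of `T` maximises `N_T` in its class. -/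
theorem NData.exists_normT_map (h : NData F E p) {R Q : Subgroup Ω} (hR : F.IsFullyNormalized R)
    (hQ : F.IsConj Q R) :
    ∃ θ, IsMap F (normalizerIn S Q) θ ∧ IsIso F Q R θ ∧
      (∀ g ∈ normalizerIn S Q, θ g ∈ normalizerIn S R) ∧
      (∀ g ∈ normalizerIn T Q, θ g ∈ normalizerIn T R) := by
  obtain ⟨θ, hθ, hθQ, hθN⟩ := exists_normalizer_map h.pgroup
    (fullyAutomized_of_fullyNormalized h.pgroup h.sat hR) (h.recv hR) hQ
  refine ⟨θ, hθ, hθQ, hθN, fun g hg => ⟨Fusion92.closed_apply h.closed hθ ⟨h.tS hg.1, hg.2⟩ hg.1,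
    (hθN g ⟨h.tS hg.1, hg.2⟩).2⟩⟩

theorem NData.card_normT_le (h : NData F E p) {R Q : Subgroup Ω} (hR : F.IsFullyNormalized R)
    (hQ : F.IsConj Q R) : Nat.card (normalizerIn T Q) ≤ Nat.card (normalizerIn T R) := by
  obtain ⟨θ, hθ, -, -, hθT⟩ := h.exists_normT_map hR hQ
  haveI := h.finiteT
  exact card_le_of_injOn ((normalizerIn_le _ _).trans h.tS)
    (hθ.injOn.mono fun x hx => (⟨h.tS hx.1, hx.2⟩ : x ∈ normalizerIn S Q)) hθT

theorem NData.fullyNormalized_e (h : NData F E p) {R : Subgroup Ω} (hR : F.IsFullyNormalized R)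
    (hRT : R ≤ T) : E.IsFullyNormalized R := by
  refine ⟨hRT, fun Q hQ => h.card_normT_le hR ?_⟩
  obtain ⟨f, hf⟩ := isConj_iff.mp hQ
  exact isConj_symm (IsIso.isConj ⟨hf.1.of_isSubsystemOf h.sub, hf.2⟩)

theorem NData.centT_conj (h : NData F E p) {R Q : Subgroup Ω} (hR : F.IsFullyNormalized R)
    (hc : centralizerIn T R ≤ R) (hQ : F.IsConj Q R) : centralizerIn T Q ≤ Q := by
  obtain ⟨θ, hθ, hθQ, -, hθT⟩ := h.exists_normT_map hR hQ
  intro x hx
  have hxN : x ∈ normalizerIn S Q :=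
    ⟨h.tS hx.1, Subgroup.centralizer_le_normalizer _ hx.2⟩
  have hθx : θ x ∈ R := hc ⟨(hθT x ⟨hx.1, hxN.2⟩).1,
    (map_mem_centralizer hθ (le_normalizerIn hθQ.dom_le) hθQ.2 hxN hx.2).2⟩
  obtain ⟨y, hy, hyx⟩ := hθQ.exists_preimage hθx
  exact hθ.injOn (le_normalizerIn hθQ.dom_le hy) hxN hyx ▸ hy

theorem NData.centric_e (h : NData F E p) {R : Subgroup Ω} (hR : F.IsFullyNormalized R)
    (hRT : R ≤ T) (hc : centralizerIn T R ≤ R) : E.IsCentric R := by
  refine ⟨hRT, fun Q hQ => h.centT_conj hR hc ?_⟩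
  obtain ⟨f, hf⟩ := isConj_iff.mp hQ
  exact isConj_symm (IsIso.isConj ⟨hf.1.of_isSubsystemOf h.sub, hf.2⟩)

/-- Extension of an isomorphism between fully centralized subgroups to `R C_S(R)`. -/
theorem exists_extend_centralizer (hS : IsPGroup p S) (hF : F.IsSaturated p) {R R' : Subgroup Ω}
    {f : Ω → Ω} (hf : IsIso F R R' f) (hR' : F.IsFullyCentralized R')
    (hR : F.IsFullyCentralized R) :
    ∃ θ, IsIso F R R' θ ∧ Set.EqOn θ f R ∧
      IsIso F (R ⊔ centralizerIn S R) (R' ⊔ centralizerIn S R') θ ∧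
      ∀ c' ∈ centralizerIn S R', ∃ c ∈ centralizerIn S R, θ c = c' := by
  obtain ⟨θ, hθ, hθe⟩ := receptive_extend (receptive_of_fullyCentralized hS hF hR') hf
    (isExtendable_centralizerIn f)
  have hθR : IsIso F R R' θ := isIso_eqOn_image hf hθe hθ le_sup_left
  have hmem : ∀ c ∈ centralizerIn S R, θ c ∈ centralizerIn S R' := fun c hc =>
    map_mem_centralizer hθ le_sup_left hθR.2 (Subgroup.mem_sup_right hc) hc.2
  have hsurj := surjOn_of_card_le (centralizerIn_le S R')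
    (hθ.injOn.mono fun x hx => (Subgroup.mem_sup_right hx : x ∈ R ⊔ centralizerIn S R)) hmem
    (hR.2 R' hf.isConj)
  have himC : θ '' (centralizerIn S R : Set Ω) = (centralizerIn S R' : Set Ω) :=
    Set.Subset.antisymm (fun y ⟨x, hx, hy⟩ => hy ▸ hmem x hx) hsurj
  exact ⟨θ, hθR, hθe, IsIso.sup hθ hθR.2 himC, hsurj⟩

theorem NData.lift_conj (h : NData F E p) {R : Subgroup Ω} (hR : F.IsFullyCentralized R)
    {α β : MulAut R} (ha : Lift F α) (hb : β ∈ F.autGroup R) : Lift F (β * α * β⁻¹) := by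
  obtain ⟨θ, hθR, hθe, hθD, hs⟩ :=
    exists_extend_centralizer h.pgroup h.sat ((mem_autGroup hR.1).mp hb) hR hR
  convert lift_transport hθR hθD hs ha using 1
  refine MulEquiv.ext fun y => ?_
  obtain ⟨x, rfl⟩ := hθR.equiv.surjective y
  apply Subtype.ext
  have hx : hθR.equiv x = β x := Subtype.ext (by
    rw [hθR.equiv_apply, hθe x.2, autFun_coe])
  rw [congr_apply_equiv, hx, MulAut.mul_apply, MulAut.mul_apply,
    show β⁻¹ (β x) = x from β.symm_apply_apply x, hθe (α x).2, autFun_coe]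

set_option maxHeartbeats 1000000 in
/-- A normal `p`-subgroup of the stabilizer of `R₁` in `Aut_F(D)` is induced by `N_S(R₁)`. -/
theorem induced_of_pGroup (hS : IsPGroup p S) (hF : F.IsSaturated p) {R₁ D : Subgroup Ω}
    (hR₁ : F.IsFullyNormalized R₁) (hD : F.IsFullyNormalized D) (hRD : R₁ ≤ D)
    (hND : normalizerIn S R₁ ≤ Subgroup.normalizer (D : Set Ω))
    (N : Subgroup (MulAut D)) (hN : N ≤ F.autGroup D) (hNp : IsPGroup p N)
    (hNs : ∀ a ∈ N, autFun a '' (R₁ : Set Ω) = (R₁ : Set Ω))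
    (hNn : autInducedBy (normalizerIn S R₁) D ≤ Subgroup.normalizer (N : Set (MulAut D))) :
    N ≤ autInducedBy (normalizerIn S R₁) D := by
  haveI := finite_of_le hD.1
  haveI := finite_mulAut D
  set V := autInducedBy (normalizerIn S R₁) D with hV
  have hVF : V ≤ F.autGroup D :=
    (autInducedBy_mono (normalizerIn_le _ _)).trans (autInducedBy_le_autGroup hD.1)
  have hVp : IsPGroup p V := by
    rw [hV, ← range_conjAutHom]
    exact (hS.to_le ((normalizerIn_le _ _).trans (normalizerIn_le _ _))).of_surjective _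
      (conjAutHom _ D).rangeRestrict_surjective
  set P := V ⊔ N with hP
  have hPp : IsPGroup p P := hVp.to_sup_of_normal_right' hNp hNn
  have hPF : P ≤ F.autGroup D := sup_le hVF hN
  have hVs : ∀ a ∈ V, autFun a '' (R₁ : Set Ω) = (R₁ : Set Ω) := by
    intro a ha
    obtain ⟨g, hg, hge⟩ := mem_autInducedBy.mp ha
    refine (Set.image_congr fun x hx => ?_).trans (image_conj_eq_self hg.2)
    rw [autFun_of_mem a (hRD hx)]
    exact hge ⟨x, hRD hx⟩
  have hPs : ∀ a ∈ P, autFun a '' (R₁ : Set Ω) = (R₁ : Set Ω) := by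
    intro a ha
    rw [hP, Subgroup.sup_eq_closure] at ha
    induction ha using Subgroup.closure_induction with
    | mem b hb => exact hb.elim (hVs b) (hNs b)
    | one => exact (Set.image_congr fun x hx => autFun_one (hRD hx)).trans (Set.image_id _)
    | mul b c _ _ ihb ihc =>
      rw [Set.image_congr fun x hx => autFun_mul b c (hRD hx), Set.image_comp, ihc, ihb]
    | inv b _ ihb =>
      conv_lhs => rw [← ihb, ← Set.image_comp]
      refine (Set.image_congr fun x hx => ?_).trans (Set.image_id' _)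
      rw [← autFun_mul b⁻¹ b (hRD hx), inv_mul_cancel, autFun_one (hRD hx)]
      rfl
  obtain ⟨U, hU⟩ := (fullyAutomized_of_fullyNormalized hS hF hD).2
  obtain ⟨W, hW⟩ := (hPp.comap_of_injective (F.autGroup D).subtype (Subgroup.subtype_injective _) :
    IsPGroup p (P.subgroupOf (F.autGroup D))).exists_le_sylow
  obtain ⟨l, hl⟩ := MulAction.exists_smul_eq (F.autGroup D) W U
  have hlU : ∀ a (ha : a ∈ P), (l : MulAut D) * a * (l : MulAut D)⁻¹ ∈ autInducedBy S D := by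
    intro a ha
    have h1 : l * ⟨a, hPF ha⟩ * l⁻¹ ∈ (U : Subgroup (F.autGroup D)) := by
      rw [← hl, Sylow.coe_subgroup_smul]
      exact ⟨⟨a, hPF ha⟩, hW (Subgroup.mem_subgroupOf.mpr ha), rfl⟩
    rw [hU, Subgroup.mem_subgroupOf] at h1
    exact h1
  have hliso := (mem_autGroup hD.1).mp l.2
  obtain ⟨R', hR'D, hR'⟩ := hliso.restrict hRD
  set K := normalizerIn S R₁
  set K' := normalizerIn S R' ⊓ Subgroup.normalizer (D : Set Ω) with hK'
  have hmap : ∀ a ∈ P, MulAut.conj (l : MulAut D) a ∈ autInducedBy K' D := by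
    intro a ha
    obtain ⟨s, hs, hse⟩ := mem_autInducedBy.mp (hlU a ha)
    refine mem_autInducedBy.mpr ⟨s, ⟨⟨hs, ?_⟩, mem_normalizer_of_induces hse⟩, hse⟩
    haveI := finite_of_le hR'.cod_le
    refine Subgroup.mem_normalizer_fintype fun y hy => ?_
    obtain ⟨x, hx, rfl⟩ := hR'.exists_preimage hy
    have h1 := hse ((l : MulAut D) ⟨x, hRD hx⟩)
    rw [MulAut.mul_apply, MulAut.mul_apply,
      show (l : MulAut D)⁻¹ ((l : MulAut D) ⟨x, hRD hx⟩) = ⟨x, hRD hx⟩ from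
        (l : MulAut D).symm_apply_apply _, ← autFun_coe (l : MulAut D) (a ⟨x, hRD hx⟩),
      ← autFun_of_mem a (hRD hx), ← autFun_of_mem (l : MulAut D) (hRD hx)] at h1
    rw [← h1]
    refine hR'.mem ?_
    rw [← SetLike.mem_coe, ← hPs a ha]
    exact ⟨x, hx, rfl⟩
  have hcK : centralizerIn K D = centralizerIn S D := by
    refine le_antisymm (inf_le_inf_right _ (normalizerIn_le _ _)) fun x hx => ⟨⟨hx.1, ?_⟩, hx.2⟩
    exact Subgroup.centralizer_le_normalizer _ (Subgroup.centralizer_le hRD hx.2)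
  have hcK' : centralizerIn K' D = centralizerIn S D := by
    refine le_antisymm (inf_le_inf_right _ (inf_le_left.trans (normalizerIn_le _ _)))
      fun x hx => ⟨⟨⟨hx.1, ?_⟩, Subgroup.centralizer_le_normalizer _ hx.2⟩, hx.2⟩
    exact Subgroup.centralizer_le_normalizer _ (Subgroup.centralizer_le hR'D hx.2)
  have hcard : Nat.card (autInducedBy K' D) ≤ Nat.card V := by
    haveI := finite_of_le (centralizerIn_le S D)
    have e1 := card_autInducedBy_mul K' D
    have e2 := card_autInducedBy_mul K D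
    rw [hcK', show normalizerIn K' D = K' from inf_eq_left.mpr inf_le_right] at e1
    rw [hcK, show normalizerIn K D = K from inf_eq_left.mpr hND] at e2
    haveI := finite_of_le (normalizerIn_le S R')
    have h2 : Nat.card K' ≤ Nat.card K := (Subgroup.card_le_of_le inf_le_left).trans
      (hR₁.2 R' hR'.isConj)
    exact Nat.le_of_mul_le_mul_right (e1.le.trans (h2.trans e2.ge)) Nat.card_pos
  have hPV : Nat.card P ≤ Nat.card V := by
    refine le_trans ?_ hcard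
    exact Nat.card_le_card_of_injective
      (fun a : P => (⟨MulAut.conj (l : MulAut D) a, hmap a a.2⟩ : autInducedBy K' D))
      fun a b hab => Subtype.ext ((MulAut.conj (l : MulAut D)).injective (congrArg Subtype.val hab))
  have hPeq : V = P := Subgroup.eq_of_le_of_card_ge le_sup_left hPV
  exact (le_sup_right : N ≤ P).trans hPeq.ge

set_option maxHeartbeats 1600000 in
/-- The inductive step, in a favourable position. -/
theorem NData.lift_core (h : NData F E p) {R : Subgroup Ω} (hR : F.IsFullyNormalized R)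
    (hRT : R ≤ T) (hc : centralizerIn T R ≤ R)
    (hR₁ : F.IsFullyNormalized (normalizerIn T R))
    (hD₁ : F.IsFullyNormalized (normalizerIn T R ⊔ centralizerIn S (normalizerIn T R)))
    (ih : ∀ α ∈ E.autGroup (normalizerIn T R), Lift F α)
    {ν : MulAut R} (hνE : ν ∈ E.autGroup R) (hν : Nat.Coprime (orderOf ν) p)
    (hνn : ∀ t ∈ normalizerIn T R, ∃ t' ∈ T, ∀ x ∈ R,
      autFun ν (t * x * t⁻¹) = t' * autFun ν x * t'⁻¹) : Lift F ν := by
  haveI := h.finiteT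
  have hRS := hRT.trans h.tS
  haveI := finite_of_le hRS
  set R₁ := normalizerIn T R with hR₁d
  set C := centralizerIn S R with hC
  set C₁ := centralizerIn S R₁ with hC₁
  set D₁ := R₁ ⊔ C₁ with hD₁d
  have hR₁T : R₁ ≤ T := normalizerIn_le _ _
  have hRR₁ : R ≤ R₁ := le_normalizerIn hRT
  have hCc : ∀ {c x : Ω}, c ∈ C → x ∈ R → c * x = x * c := fun hc' hx =>
    (Subgroup.mem_centralizer_iff.mp hc'.2 _ hx).symm
  -- extension of `ν` to `R₁` inside `E`
  have hRe := h.fullyNormalized_e hR hRT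
  have hiso := (mem_autGroup hRT).mp hνE
  have hext : IsExtendable T R (autFun ν) R₁ := ⟨hR₁T, fun t ht => ⟨ht.2, hνn t ht⟩⟩
  obtain ⟨f, hf, hfe⟩ := receptive_extend (receptive_of_fullyNormalized h.tp h.eSat hRe) hiso hext
  rw [sup_eq_right.mpr hRR₁] at hf
  have hfR : f '' (R : Set Ω) = (R : Set Ω) := (Set.image_congr hfe).trans hiso.2
  have hfR₁ : IsIso E R₁ R₁ f := isIso_of_mapsTo hf hR₁T
    (fun x hx => map_mem_normalizer hf hRR₁ hfR hx hx.2) le_rfl
  obtain ⟨a₁, ha₁, ha₁e⟩ := hfR₁.exists_aut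
  obtain ⟨γ, hγ, hγe, hγc⟩ := ih a₁ ha₁
  have hγiso := (mem_autGroup hD₁.1).mp hγ
  have hRD₁ : R ≤ D₁ := hRR₁.trans le_sup_left
  have hγR : Set.EqOn (autFun γ) (autFun ν) R := fun x hx => by
    rw [hγe (hRR₁ hx), ha₁e (hRR₁ hx), hfe hx]
  -- `C` normalizes `R₁` and `D₁`
  have hcomm : ∀ c ∈ C, ∀ x ∈ R₁, x⁻¹ * (c * x * c⁻¹) ∈ R := fun c hcC x hx => by
    refine hc ⟨(h.comm_mem hcC.1 (hR₁T hx)).1, Subgroup.mem_centralizer_iff.mpr fun r hr => ?_⟩
    have h1 : x * r * x⁻¹ ∈ R := conj_mem_of_mem_normalizer hx.2 hr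
    have h2 := hCc hcC h1
    have h3 := hCc hcC hr
    have e1 : c * x * c⁻¹ * r * (c * x * c⁻¹)⁻¹ = x * r * x⁻¹ := by
      have : c⁻¹ * r * c = r := by rw [mul_assoc, ← h3]; group
      calc c * x * c⁻¹ * r * (c * x * c⁻¹)⁻¹ = c * (x * (c⁻¹ * r * c) * x⁻¹) * c⁻¹ := by group
        _ = x * r * x⁻¹ := by rw [this, h2]; group
    calc r * (x⁻¹ * (c * x * c⁻¹)) = x⁻¹ * (x * r * x⁻¹) * (c * x * c⁻¹) := by group
      _ = x⁻¹ * (c * x * c⁻¹) * r := by rw [← e1]; group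
  have hCR₁ : ∀ c ∈ C, c ∈ Subgroup.normalizer (R₁ : Set Ω) := fun c hcC => by
    haveI := finite_of_le hR₁T
    refine Subgroup.mem_normalizer_fintype fun x hx => ?_
    have := R₁.mul_mem hx (hRR₁ (hcomm c hcC x hx))
    rwa [mul_inv_cancel_left] at this
  have hNC₁ : ∀ s ∈ normalizerIn S R₁, ∀ e ∈ C₁, s * e * s⁻¹ ∈ C₁ := fun s hs e he =>
    ⟨S.mul_mem (S.mul_mem hs.1 he.1) (S.inv_mem hs.1), Subgroup.mem_centralizer_iff.mpr fun y hy => by
      have h1 : s⁻¹ * y * s ∈ R₁ := by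
        simpa using conj_mem_of_mem_normalizer (Subgroup.inv_mem _ hs.2) hy
      calc y * (s * e * s⁻¹) = s * (s⁻¹ * y * s * e) * s⁻¹ := by group
        _ = s * (e * (s⁻¹ * y * s)) * s⁻¹ := by rw [Subgroup.mem_centralizer_iff.mp he.2 _ h1]
        _ = s * e * s⁻¹ * y := by group⟩
  have hND₁ : normalizerIn S R₁ ≤ Subgroup.normalizer (D₁ : Set Ω) := fun s hs => by
    refine mem_normalizer_sup hs.2 ?_
    refine Subgroup.mem_normalizer_iff.mpr fun e => ⟨hNC₁ s hs e, fun he => ?_⟩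
    simpa [mul_assoc] using hNC₁ s⁻¹ (Subgroup.inv_mem _ hs) _ he
  -- the stabilizer of `1 ≤ R₁ ≤ D₁` is induced by `C₁`
  set N' := fixMod D₁ R₁ ⊓ F.autGroup D₁ with hN'
  haveI := finite_of_le hD₁.1
  have hN's : N' ≤ autInducedBy (normalizerIn S R₁) D₁ := by
    refine induced_of_pGroup h.pgroup h.sat hR₁ hD₁ le_sup_left hND₁ N' inf_le_right
      ((fixMod_isPGroup (h.pgroup.to_le hD₁.1)).to_le inf_le_left) (fun a ha => ?_) fun b hb => ?_
    · refine (Set.image_congr fun x hx => ?_).trans (Set.image_id' _)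
      rw [autFun_of_mem a (Subgroup.mem_sup_left hx), ha.1.1 ⟨x, Subgroup.mem_sup_left hx⟩ hx]
    · haveI := finite_mulAut D₁
      refine Subgroup.mem_normalizer_fintype fun a ha => ⟨?_, ?_⟩
      · refine fixMod_conj ha.1 fun x => ?_
        obtain ⟨g, hg, hge⟩ := mem_autInducedBy.mp hb
        rw [hge]
        exact (Subgroup.mem_normalizer_iff.mp hg.2 _).symm
      · have hbF := autInducedBy_le_autGroup (F := F) hD₁.1 (autInducedBy_mono (normalizerIn_le _ _) hb)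
        exact Subgroup.mul_mem _ (Subgroup.mul_mem _ hbF ha.2) (Subgroup.inv_mem _ hbF)
  -- the action of `C` is transported into conjugations
  have hECe := h.centric_e hR hRT hc
  have hkey : ∀ c ∈ C, ∃ z ∈ R, ∃ s ∈ C₁, ∀ e ∈ D₁,
      autFun γ (c * e * c⁻¹) = (z * s * c) * autFun γ e * (z * s * c)⁻¹ := by
    intro c hcC
    have hcN : c ∈ normalizerIn S D₁ := ⟨hcC.1, hND₁ ⟨hcC.1, hCR₁ c hcC⟩⟩
    set cD : MulAut D₁ := conjAutHom S D₁ ⟨c, hcN⟩ with hcD
    have hcDF : cD ∈ F.autGroup D₁ := autInducedBy_le_autGroup hD₁.1 (by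
      rw [← range_conjAutHom]; exact ⟨_, rfl⟩)
    set c₁ : MulAut R₁ := conjAutHom S R₁ ⟨c, hcC.1, hCR₁ c hcC⟩ with hc₁
    have hc₁F : c₁ ∈ F.autGroup R₁ := autInducedBy_le_autGroup hR₁.1 (by
      rw [← range_conjAutHom]; exact ⟨_, rfl⟩)
    set δ₁ : MulAut R₁ := a₁ * (c₁ * a₁⁻¹ * c₁⁻¹) with hδ₁
    have hδ₁E : δ₁ ∈ E.autGroup R₁ :=
      Subgroup.mul_mem _ ha₁ (autGroup_conj_mem h hR₁T (Subgroup.inv_mem _ ha₁) hc₁F)
    set δ : MulAut D₁ := γ * cD * γ⁻¹ * cD⁻¹ with hδ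
    have hδF : δ ∈ F.autGroup D₁ :=
      Subgroup.mul_mem _ (Subgroup.mul_mem _ (Subgroup.mul_mem _ hγ hcDF) (Subgroup.inv_mem _ hγ))
        (Subgroup.inv_mem _ hcDF)
    let incl : R₁ → D₁ := fun x => ⟨(x : Ω), Subgroup.mem_sup_left x.2⟩
    have hγ1 : ∀ x : R₁, γ (incl x) = incl (a₁ x) := fun x => Subtype.ext (by
      show ((γ (incl x) : D₁) : Ω) = (a₁ x : Ω)
      rw [← autFun_coe γ, hγe x.2, autFun_coe])
    have hγ1' : ∀ x : R₁, γ⁻¹ (incl x) = incl (a₁⁻¹ x) := fun x => γ.injective (by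
      rw [hγ1, show a₁ (a₁⁻¹ x) = x from a₁.apply_symm_apply x]
      exact γ.apply_symm_apply _)
    have hc1 : ∀ x : R₁, cD (incl x) = incl (c₁ x) := fun x => Subtype.ext rfl
    have hc1' : ∀ x : R₁, cD⁻¹ (incl x) = incl (c₁⁻¹ x) := fun x => cD.injective (by
      rw [hc1, show c₁ (c₁⁻¹ x) = x from c₁.apply_symm_apply x]
      exact cD.apply_symm_apply _)
    have hδ1 : ∀ x : R₁, δ (incl x) = incl (δ₁ x) := fun x => by
      simp only [hδ, hδ₁, MulAut.mul_apply, hγ1, hγ1', hc1, hc1']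
    have hδfix : ∀ x : R₁, (x : Ω) ∈ R → δ₁ x = x := by
      intro x hx
      have hc' : ∀ y : R₁, (y : Ω) ∈ R → c₁ y = y := fun y hy => Subtype.ext (by
        show c * (y : Ω) * c⁻¹ = y
        rw [hCc hcC hy]; group)
      have hc'' : c₁⁻¹ x = x := c₁.injective (by
        rw [hc' x hx]; exact c₁.apply_symm_apply x)
      have hax : ((a₁⁻¹ x : R₁) : Ω) ∈ R := by
        obtain ⟨w, hw, hwe⟩ := hiso.exists_preimage hx
        have hwR₁ := hRR₁ hw
        have : a₁ ⟨w, hwR₁⟩ = x := Subtype.ext (by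
          rw [← autFun_of_mem a₁ hwR₁, ha₁e hwR₁, hfe hw, hwe])
        rw [← this, show a₁⁻¹ (a₁ ⟨w, hwR₁⟩) = ⟨w, hwR₁⟩ from a₁.symm_apply_apply _]
        exact hw
      rw [hδ₁, MulAut.mul_apply, MulAut.mul_apply, MulAut.mul_apply, hc'', hc' _ hax]
      exact a₁.apply_symm_apply x
    -- on `R₁` it is conjugation by an element of `Z(R)`
    obtain ⟨z, hzR, hzc, hze⟩ := Fusion92.agree_on_centric h.tp E h.eSat hECe hRR₁
      (subtype_mem hR₁T) ((mem_autGroup_iff_hom hR₁T).mp hδ₁E)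
      (fun x hx => congrArg Subtype.val (hδfix x hx))
    have hze' : ∀ x : R₁, (δ₁ x : Ω) = (z : Ω) * x * (z : Ω)⁻¹ := fun x => hze x
    have hzN : (z : Ω) ∈ normalizerIn S D₁ :=
      ⟨h.tS (hR₁T z.2), D₁.le_normalizer (Subgroup.mem_sup_left z.2)⟩
    set zD : MulAut D₁ := conjAutHom S D₁ ⟨(z : Ω), hzN⟩ with hzD
    have hzDF : zD ∈ F.autGroup D₁ := autInducedBy_le_autGroup hD₁.1 (by
      rw [← range_conjAutHom]; exact ⟨_, rfl⟩)
    -- trivial modulo `R₁`
    have hR₁n : ∀ {w m : Ω}, w ∈ D₁ → m ∈ R₁ → w * m * w⁻¹ ∈ R₁ := fun hw hm => by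
      refine conj_mem_of_mem_normalizer ((sup_le R₁.le_normalizer ?_ :
        D₁ ≤ Subgroup.normalizer (R₁ : Set Ω)) hw) hm
      exact inf_le_right.trans (Subgroup.centralizer_le_normalizer _)
    have hγmod : ∀ y : D₁, ((y⁻¹ * γ y : D₁) : Ω) ∈ R₁ := by
      intro y
      have hle : D₁ ≤ ((Subgroup.map D₁.subtype
          { carrier := {w : D₁ | ((w⁻¹ * γ w : D₁) : Ω) ∈ R₁}
            one_mem' := by simp
            mul_mem' := fun {u v} hu hv => by
              show (((u * v)⁻¹ * γ (u * v) : D₁) : Ω) ∈ R₁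
              rw [show (u * v)⁻¹ * γ (u * v) = v⁻¹ * (u⁻¹ * γ u) * v * (v⁻¹ * γ v) by
                rw [map_mul]; group, Subgroup.coe_mul]
              refine R₁.mul_mem ?_ hv
              simpa using hR₁n (Subgroup.inv_mem _ v.2) hu
            inv_mem' := fun {u} hu => by
              show (((u⁻¹)⁻¹ * γ u⁻¹ : D₁) : Ω) ∈ R₁
              rw [show u⁻¹⁻¹ * γ u⁻¹ = u * (u⁻¹ * γ u)⁻¹ * u⁻¹ by rw [map_inv]; group]
              exact hR₁n u.2 (R₁.inv_mem hu) })) := by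
        refine sup_le (fun x hx => ⟨⟨x, Subgroup.mem_sup_left hx⟩, ?_, rfl⟩)
          fun x hx => ⟨⟨x, Subgroup.mem_sup_right hx⟩, ?_, rfl⟩
        · show x⁻¹ * ((γ (incl ⟨x, hx⟩) : D₁) : Ω) ∈ R₁
          rw [hγ1]
          exact R₁.mul_mem (R₁.inv_mem hx) (a₁ _).2
        · show x⁻¹ * ((γ ⟨x, Subgroup.mem_sup_right hx⟩ : D₁) : Ω) ∈ R₁
          rw [← autFun_of_mem γ (Subgroup.mem_sup_right hx : x ∈ D₁)]
          exact hγc x hx
      obtain ⟨w, hw, hwy⟩ := hle y.2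
      rw [← show w = y from Subtype.ext hwy]
      exact hw
    have hδmod : ∀ y : D₁, ((y⁻¹ * δ y : D₁) : Ω) ∈ R₁ := by
      intro y
      set u := γ⁻¹ (cD⁻¹ y) with hu
      have hy : y = cD (γ u) := by
        rw [hu, show γ (γ⁻¹ (cD⁻¹ y)) = cD⁻¹ y from γ.apply_symm_apply _]
        exact (cD.apply_symm_apply y).symm
      have h1 := hγmod u
      have h2 := hγmod (cD u)
      have h3 : δ y = γ (cD u) := rfl
      have h4 : ((cD (u⁻¹ * γ u) : D₁) : Ω) ∈ R₁ := conj_mem_of_mem_normalizer (hCR₁ c hcC) h1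
      rw [h3, hy, show (cD (γ u))⁻¹ * γ (cD u) =
        (cD (u⁻¹ * γ u))⁻¹ * ((cD u)⁻¹ * γ (cD u)) by rw [map_mul, map_inv]; group, Subgroup.coe_mul,
        Subgroup.coe_inv]
      exact R₁.mul_mem (R₁.inv_mem h4) h2
    have hN : zD⁻¹ * δ ∈ N' := by
      refine ⟨⟨fun x hx => zD.injective ?_, fun x => ?_⟩, Subgroup.mul_mem _ (Subgroup.inv_mem _ hzDF) hδF⟩
      · rw [MulAut.mul_apply, show zD (zD⁻¹ (δ x)) = δ x from zD.apply_symm_apply _]
        have := hδ1 ⟨x, hx⟩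
        rw [show incl ⟨x, hx⟩ = x from Subtype.ext rfl] at this
        rw [this]
        exact Subtype.ext (hze' ⟨x, hx⟩)
      · show (((x⁻¹ * zD⁻¹ (δ x) : D₁)) : Ω) ∈ R₁
        have h1 := hδmod x
        have h2 : zD (zD⁻¹ (δ x)) = δ x := zD.apply_symm_apply _
        have h3 : ((zD (zD⁻¹ (δ x)) : D₁) : Ω) = (z : Ω) * (zD⁻¹ (δ x) : D₁) * (z : Ω)⁻¹ := rfl
        rw [h2] at h3
        have h4 : ((zD⁻¹ (δ x) : D₁) : Ω) = (z : Ω)⁻¹ * (δ x : D₁) * (z : Ω) := by rw [h3]; group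
        rw [Subgroup.coe_mul, Subgroup.coe_inv, h4]
        rw [Subgroup.coe_mul, Subgroup.coe_inv] at h1
        have h5 := hR₁n (Subgroup.inv_mem _ x.2) (R₁.inv_mem z.2)
        have := R₁.mul_mem (R₁.mul_mem h5 h1) z.2
        convert this using 1
        group
    obtain ⟨s, hs, hse⟩ := mem_autInducedBy.mp (hN's hN)
    have hsC₁ : s ∈ C₁ := by
      refine ⟨hs.1, Subgroup.mem_centralizer_iff.mpr fun x hx => ?_⟩
      have h1 := hse ⟨x, Subgroup.mem_sup_left hx⟩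
      rw [hN |>.1.1 ⟨x, Subgroup.mem_sup_left hx⟩ hx] at h1
      calc x * s = s * x * s⁻¹ * s := by rw [← h1]
        _ = s * x := by group
    refine ⟨z, hzR, s, hsC₁, fun e he => ?_⟩
    have h1 : γ (cD ⟨e, he⟩) = zD ((zD⁻¹ * δ) (cD (γ ⟨e, he⟩))) := by
      simp [hδ, MulAut.mul_apply]
    rw [autFun_of_mem γ (conj_mem_of_mem_normalizer hcN.2 he), autFun_of_mem γ he]
    have h2 : ((γ (cD ⟨e, he⟩) : D₁) : Ω) =
        (z : Ω) * (s * (c * ((γ ⟨e, he⟩ : D₁) : Ω) * c⁻¹) * s⁻¹) * (z : Ω)⁻¹ := by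
      rw [h1]
      show (z : Ω) * (((zD⁻¹ * δ) (cD (γ ⟨e, he⟩)) : D₁) : Ω) * (z : Ω)⁻¹ = _
      rw [hse]
      rfl
    refine Eq.trans ?_ (h2.trans (by group))
    rfl
  -- extend to `D₁ C`
  have hγext : IsExtendable S D₁ (autFun γ) C := by
    refine ⟨centralizerIn_le _ _, fun c hcC => ⟨hND₁ ⟨hcC.1, hCR₁ c hcC⟩, ?_⟩⟩
    obtain ⟨z, hz, s, hs, he⟩ := hkey c hcC
    exact ⟨z * s * c, S.mul_mem (S.mul_mem (hRS hz) hs.1) hcC.1, he⟩
  obtain ⟨g, hg, hge⟩ := receptive_extend (h.recv hD₁) hγiso hγext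
  set D := R ⊔ C with hDd
  have hDS : D ≤ S := sup_le hRS (centralizerIn_le _ _)
  have hgR : Set.EqOn g (autFun ν) R := fun x hx => (hge (hRD₁ hx)).trans (hγR hx)
  have hgC : ∀ c ∈ C, g c ∈ C := fun c hcC =>
    map_mem_centralizer hg (hRD₁.trans le_sup_left) ((Set.image_congr hgR).trans hiso.2)
      (Subgroup.mem_sup_right hcC) hcC.2
  have hgD : IsIso F D D g := by
    have hm := hg.mono (sup_le (hRD₁.trans le_sup_left) le_sup_right : D ≤ D₁ ⊔ C)
    refine isIso_of_mapsTo hm hDS (isMap_mem_sup hm le_sup_left le_sup_right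
      (fun x hx => Subgroup.mem_sup_left (hgR hx ▸ hiso.mem hx))
      fun x hx => Subgroup.mem_sup_right (hgC x hx)) le_rfl
  haveI := finite_of_le hDS
  haveI := finite_mulAut D
  obtain ⟨γ', hγ', hγ'e⟩ := hgD.exists_aut
  obtain ⟨m, hm, hνm⟩ := exists_pow_coprime γ' ν hν
  have hCR₁' : C₁ ≤ C := inf_le_inf_left _ (Subgroup.centralizer_le hRR₁)
  have hX : R ⊔ C₁ ≤ D := sup_le_sup_left hCR₁' R
  have hRn : D ≤ Subgroup.normalizer (R : Set Ω) :=
    sup_le R.le_normalizer (inf_le_right.trans (Subgroup.centralizer_le_normalizer _))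
  have hgC₁ : ∀ e ∈ C₁, e⁻¹ * g e ∈ R := by
    intro e he
    have h1 : e⁻¹ * g e ∈ R₁ := by
      rw [hge (Subgroup.mem_sup_right he : e ∈ D₁)]; exact hγc e he
    refine hc ⟨hR₁T h1, (Subgroup.mul_mem _ (Subgroup.inv_mem _ (hCR₁' he).2)
      (hgC e (hCR₁' he)).2)⟩
  have hC₁n : ∀ c ∈ C, ∀ e ∈ C₁, c * e * c⁻¹ ∈ C₁ := fun c hcC e he =>
    hNC₁ c ⟨hcC.1, hCR₁ c hcC⟩ e he
  have hgX : ∀ c ∈ C, g c * c⁻¹ ∈ R ⊔ C₁ := by
    intro c hcC
    obtain ⟨z, hz, s, hs, he⟩ := hkey c hcC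
    set w := (g c)⁻¹ * (z * s * c) with hw
    have hwC : w ∈ C₁ := by
      refine ⟨S.mul_mem (S.inv_mem (hg.apply_mem (Subgroup.mem_sup_right hcC)))
        (S.mul_mem (S.mul_mem (hRS hz) hs.1) hcC.1), Subgroup.mem_centralizer_iff.mpr fun y hy => ?_⟩
      obtain ⟨x, hx, hxy⟩ : ∃ x ∈ D₁, autFun γ x = y :=
        hγiso.exists_preimage (Subgroup.mem_sup_left hy)
      have h1 := he x hx
      have hcx : c * x * c⁻¹ ∈ D₁ := conj_mem_of_mem_normalizer (hND₁ ⟨hcC.1, hCR₁ c hcC⟩) hx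
      rw [← hge hcx, hg.map_conj (Subgroup.mem_sup_right hcC) (Subgroup.mem_sup_left hx), hge hx,
        hxy] at h1
      calc y * w = (g c)⁻¹ * (g c * y * (g c)⁻¹) * (z * s * c) := by rw [hw]; group
        _ = w * y := by rw [h1, hw]; group
    have h2 : g c * c⁻¹ = z * (s * (c * w⁻¹ * c⁻¹)) := by rw [hw]; group
    rw [h2]
    exact Subgroup.mul_mem_sup hz (C₁.mul_mem hs (hC₁n c hcC _ (C₁.inv_mem hwC)))
  -- the coprime power is trivial modulo `R`
  set l := γ' ^ m with hl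
  have hlF : l ∈ F.autGroup D := Subgroup.pow_mem _ hγ' m
  have hliso := (mem_autGroup hDS).mp hlF
  have hpw : ∀ n : ℕ, Set.EqOn (autFun (γ' ^ n)) (autFun (ν ^ n)) R ∧
      (∀ e ∈ C₁, e⁻¹ * autFun (γ' ^ n) e ∈ R) ∧
      ∀ c ∈ C, autFun (γ' ^ n) c * c⁻¹ ∈ R ⊔ C₁ := by
    intro n
    induction n with
    | zero =>
      refine ⟨fun x hx => ?_, fun e he => ?_, fun c hcC => ?_⟩
      · rw [pow_zero, pow_zero, autFun_one hx, autFun_one (Subgroup.mem_sup_left hx : x ∈ D)]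
      · rw [pow_zero, autFun_one (Subgroup.mem_sup_right (hCR₁' he) : e ∈ D)]; simp
      · rw [pow_zero, autFun_one (Subgroup.mem_sup_right hcC : c ∈ D)]; simp
    | succ n ihn =>
      obtain ⟨i1, i2, i3⟩ := ihn
      have hstep : ∀ y ∈ D, autFun (γ' ^ (n + 1)) y = g (autFun (γ' ^ n) y) := fun y hy => by
        rw [pow_succ', autFun_mul _ _ hy, Function.comp_apply]
        exact hγ'e (autFun_of_mem (γ' ^ n) hy ▸ ((γ' ^ n) _).2)
      have hgX' : ∀ y ∈ R ⊔ C₁, g y ∈ R ⊔ C₁ :=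
        isMap_mem_sup (hgD.1.mono hX) le_sup_left le_sup_right
          (fun x hx => Subgroup.mem_sup_left (hgR hx ▸ hiso.mem hx))
          fun e he => by
            have := Subgroup.mul_mem_sup (hgC₁ e he) he
            rwa [show e⁻¹ * g e * e = g e from by
              rw [← hCc (hCR₁' he) (hgC₁ e he), mul_inv_cancel_left]] at this
      refine ⟨fun x hx => ?_, fun e he => ?_, fun c hcC => ?_⟩
      · rw [hstep x (Subgroup.mem_sup_left hx), i1 hx, pow_succ', autFun_mul _ _ hx]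
        exact hgR (autFun_of_mem (ν ^ n) hx ▸ ((ν ^ n) _).2)
      · have hr := i2 e he
        have hrD : e⁻¹ * autFun (γ' ^ n) e ∈ D := Subgroup.mem_sup_left hr
        have heD : e ∈ D := Subgroup.mem_sup_right (hCR₁' he)
        have h1 := R.mul_mem (hgC₁ e he) (hgR hr ▸ hiso.mem hr : g (e⁻¹ * autFun (γ' ^ n) e) ∈ R)
        rw [mul_assoc, ← hgD.1.map_mul heD hrD, mul_inv_cancel_left] at h1
        rwa [hstep e heD]
      · have hy := i3 c hcC
        have hcD' : c ∈ D := Subgroup.mem_sup_right hcC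
        have h1 := (R ⊔ C₁).mul_mem (hgX' _ hy) (hgX c hcC)
        rw [← mul_assoc, ← hgD.1.map_mul (hX hy) hcD', inv_mul_cancel_right] at h1
        rwa [hstep c hcD']
  obtain ⟨hlR, hlC₁, hlX⟩ := hpw m
  rw [hνm] at hlR
  refine ⟨l, hlF, hlR, fun c hcC => ?_⟩
  set x := autFun l c * c⁻¹ with hx
  have hcD' : c ∈ D := Subgroup.mem_sup_right hcC
  have hxX : x ∈ R ⊔ C₁ := hlX c hcC
  have hlC : autFun l c ∈ C := map_mem_centralizer hliso.1 le_sup_left
    ((Set.image_congr hlR).trans hiso.2) hcD' hcC.2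
  have hxC : x ∈ C := C.mul_mem hlC (C.inv_mem hcC)
  let K : Subgroup Ω :=
    { carrier := {y | y ∈ D ∧ autFun l y * y⁻¹ ∈ R}
      one_mem' := ⟨D.one_mem, by rw [hliso.1.map_one]; simp⟩
      mul_mem' := fun {u v} hu hv => ⟨D.mul_mem hu.1 hv.1, by
        rw [hliso.1.map_mul hu.1 hv.1]
        have := R.mul_mem hu.2 (conj_mem_of_mem_normalizer (hRn hu.1) hv.2)
        convert this using 1
        group⟩
      inv_mem' := fun {u} hu => ⟨D.inv_mem hu.1, by
        rw [hliso.1.map_inv hu.1]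
        have := conj_mem_of_mem_normalizer (hRn (D.inv_mem hu.1)) (R.inv_mem hu.2)
        convert this using 1
        group⟩ }
  have hxK : x ∈ K := (sup_le (fun y hy => ⟨Subgroup.mem_sup_left hy,
      R.mul_mem (hlR hy ▸ hiso.mem hy) (R.inv_mem hy)⟩)
    (fun e he => ⟨Subgroup.mem_sup_right (hCR₁' he), by
      have h1 := hlC₁ e he
      rwa [show autFun l e * e⁻¹ = e⁻¹ * autFun l e from by
        have h2 := hCc (hCR₁' he) h1
        rw [mul_inv_cancel_left] at h2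
        exact mul_inv_eq_iff_eq_mul.mpr h2]⟩) : R ⊔ C₁ ≤ K) hxX
  have hit : ∀ n : ℕ, ∃ r ∈ R, autFun (l ^ n) c = r * x ^ n * c := by
    intro n
    induction n with
    | zero => exact ⟨1, R.one_mem, by rw [pow_zero, autFun_one hcD']; simp⟩
    | succ n ihn =>
      obtain ⟨r, hr, hre⟩ := ihn
      set r' := autFun l x * x⁻¹ with hr'
      have hr'R : r' ∈ R := hxK.2
      refine ⟨autFun l r * r' ^ n, R.mul_mem (hlR hr ▸ hiso.mem hr) (R.pow_mem hr'R n), ?_⟩
      have hxD : x ∈ D := Subgroup.mem_sup_right hxC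
      rw [pow_succ', autFun_mul _ _ hcD', Function.comp_apply, hre,
        hliso.1.map_mul (D.mul_mem (Subgroup.mem_sup_left hr) (D.pow_mem hxD n)) hcD',
        hliso.1.map_mul (Subgroup.mem_sup_left hr) (D.pow_mem hxD n), hliso.1.map_pow hxD,
        show autFun l x = r' * x by rw [hr']; group,
        show autFun l c = x * c by rw [hx]; group,
        (show Commute r' x from (hCc hxC hr'R).symm).mul_pow, pow_succ]
      group
  obtain ⟨r, hr, hre⟩ := hit (orderOf l)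
  rw [pow_orderOf_eq_one, autFun_one hcD', id_eq] at hre
  have hxn : x ^ orderOf l ∈ R := by
    have : x ^ orderOf l = r⁻¹ := by
      have := hre
      calc x ^ orderOf l = r⁻¹ * (r * x ^ orderOf l * c) * c⁻¹ := by group
        _ = r⁻¹ := by rw [← this]; group
    rw [this]; exact R.inv_mem hr
  obtain ⟨k, hk⟩ := h.pgroup ⟨x, hxC.1⟩
  have hxk : x ^ p ^ k = 1 := congrArg Subtype.val hk
  obtain ⟨j, hj⟩ := exists_pow_eq_self_of_coprime
    ((hm.pow_right k).coprime_dvd_right (orderOf_dvd_of_pow_eq_one hxk))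
  have hxR : x ∈ R := hj ▸ R.pow_mem hxn j
  have h3 : c⁻¹ * autFun l c = x := by
    have h4 := hCc hcC hxR
    calc c⁻¹ * autFun l c = c⁻¹ * (x * c) := by rw [hx]; group
      _ = x := by rw [← h4]; group
  rw [h3]
  exact hxR

end Cfsg.Agent.Fusion.NormalLift
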