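import Cfsg.Agent.Lib.Fusion.Invariant
import Cfsg.Agent.Lib.Fusion.Constrained
import Cfsg.Agent.Lib.Fusion.SubSat
import Cfsg.Agent.Lib.Fusion.Normal
import Cfsg.Agent.Lib.Fusion.NormalLift
import Cfsg.Agent.Fus93.Iso

/-!
# Centralizer systems of normal subgroups and normal subgroups of normal subsystems
-/

set_option autoImplicit false
set_option linter.style.haveILetI false

namespace Cfsg.Agent.Fusion

open Cfsg
open Cfsg.FusionSystem (normalizerIn centralizerIn)

variable {Ω : Type*} [Group Ω] {S T : Subgroup Ω} {F : FusionSystem S} {E : FusionSystem T} {p : ℕ}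

/-- The images of a normal subgroup of an invariant subsystem are normal in it. -/
theorem normal_image_of_invariant (hE : E.IsInvariantIn F) {R R' : Subgroup Ω} (hR : E.IsNormal R)
    {k : Ω → Ω} (hk : IsIso F T T k) (hR' : k '' (R : Set Ω) = (R' : Set Ω)) : E.IsNormal R' := by
  obtain ⟨ki, hki, hkil, hkir⟩ := hk.exists_inv
  have hR'T : R' ≤ T := fun y hy => by
    rw [← SetLike.mem_coe, ← hR'] at hy
    obtain ⟨x, hx, rfl⟩ := hy
    exact hk.mem (hR.1 hx)
  refine isNormal_iff.2 ⟨hR'T, fun P f hf => ?_⟩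
  have hPT := hf.dom_le
  obtain ⟨P₀, hP₀⟩ := (hki.1.mono hPT).exists_image
  obtain ⟨f₀, hf₀, hf₀e⟩ := invariant_inv hE hf hki (P' := P₀) hP₀.2.symm
  obtain ⟨f₀', hf₀', he, him⟩ := normal_extendsStab hR hf₀
  obtain ⟨M, hM⟩ := (hk.1.mono hf₀'.dom_le).exists_image
  obtain ⟨g, hg, hge⟩ := invariant_inv hE hf₀' hk (P' := M) hM.2.symm
  have hle : P ⊔ R' ≤ M := by
    refine sup_le (fun x hx => ?_) fun y hy => ?_
    · rw [← hkir x (hPT hx)]
      exact hM.mem (Subgroup.mem_sup_left (hP₀.mem hx))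
    · rw [← SetLike.mem_coe, ← hR'] at hy
      obtain ⟨x, hx, rfl⟩ := hy
      exact hM.mem (Subgroup.mem_sup_right hx)
  refine ⟨g, hg.mono hle, fun x hx => ?_, ?_⟩
  · have hm := hP₀.mem hx
    have h1 := hge (ki x) (Subgroup.mem_sup_left hm)
    rw [hkir x (hPT hx), he hm, hf₀e x hx, hkir _ (hf.apply_mem hx)] at h1
    exact h1
  · conv_rhs => rw [← hR', ← him, Set.image_image]
    rw [← hR', Set.image_image]
    exact Set.image_congr fun x hx => hge x (Subgroup.mem_sup_right hx)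

/-- The largest normal subgroup of an invariant subsystem is preserved by `Aut_F(T)`. -/
theorem core_image_of_invariant [Finite S] (hTS : T ≤ S) (hE : E.IsInvariantIn F)
    (hcore : E.IsNormal E.core) {k : Ω → Ω} (hk : IsIso F T T k) :
    k '' (E.core : Set Ω) = (E.core : Set Ω) := by
  obtain ⟨R', hR'⟩ := (hk.1.mono hcore.1).exists_image
  haveI := finite_of_le (hcore.1.trans hTS)
  have hle : R' ≤ E.core := le_sSup (normal_image_of_invariant hE hcore hk hR'.2)
  rw [hR'.2, Subgroup.eq_of_le_of_card_ge hle hR'.card_eq.le]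

/-- A subgroup normal in an invariant subsystem and preserved by `Aut_F(T)` is strongly closed. -/
theorem stronglyClosed_of_normal_invariant [Finite S] (hE : E.IsInvariantIn F) {U : Subgroup Ω}
    (hU : E.IsNormal U) (hk : ∀ k, IsIso F T T k → ∀ x ∈ U, k x ∈ U) : F.StronglyClosed U := by
  obtain ⟨-, hT, -, -⟩ := id hE
  refine stronglyClosed_iff.2 ⟨hU.1.trans hT.1, fun P f hf x hx hxU => ?_⟩
  obtain ⟨k, g, hki, hg, he⟩ := invariant_frattini hE (hf.mono (inf_le_left : P ⊓ T ≤ P)) inf_le_right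
  have hxT : x ∈ P ⊓ T := ⟨hx, hU.1 hxU⟩
  rw [he x hxT]
  exact hk k hki _ ((stronglyClosed_iff.1 (stronglyClosed_of_normal hU)).2 _ _ hg x hxT hxU)

variable [Finite S] [Fact p.Prime]

/-- The largest normal subgroup of a normal subsystem is normal. -/
theorem core_normal_of_invariant (hS : IsPGroup p S) (hF : F.IsSaturated p) (hE : E.IsInvariantIn F)
    (hcore : E.IsNormal E.core) : F.IsNormal E.core := by
  obtain ⟨-, hT, -, -⟩ := id hE
  obtain ⟨n, hn⟩ := exists_zSer_top hS (hcore.1.trans hT.1)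
  refine isNormal_of_series hS hF (zSer E.core) n (zSer_zero _) hn (fun i _ => ?_)
    fun i _ => zSer_commutator _ i
  refine stronglyClosed_of_normal_invariant hE
    (isNormal_char hcore (zSer_le _ i) (zSer_subgroupOf_char _ i)) fun k hk x hx => ?_
  have hkR : IsIso F E.core E.core k :=
    ⟨hk.1.mono hcore.1, core_image_of_invariant hT.1 hE hcore hk⟩
  have hfix := Subgroup.characteristic_iff_map_eq.mp (zSer_subgroupOf_char E.core i) hkR.equiv
  have hm : hkR.equiv ⟨x, zSer_le _ i hx⟩ ∈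
      ((zSer E.core i).subgroupOf E.core).map hkR.equiv.toMonoidHom := ⟨_, hx, rfl⟩
  rw [hfix] at hm
  exact hm

/-- The centralizer system of a normal subgroup is normal. -/
theorem centralizerSystem_isNormalIn (hS : IsPGroup p S) (hF : F.IsSaturated p) {Q : Subgroup Ω}
    (hQ : F.IsNormal Q) : (centralizerSystem F Q hQ.1).IsNormalIn F p := by
  have hC : F.IsCentralizerSystem Q (centralizerSystem F Q hQ.1) :=
    isCentralizerSystem_centralizerSystem Q hQ.1
  set T := centralizerIn S Q with hT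
  have hTS : T ≤ S := centralizerIn_le S Q
  haveI := finite_of_le hTS
  have hQn := normal_fullyNormalized hQ
  have hQr := receptive_of_fullyNormalized hS hF hQn
  have hsub : (centralizerSystem F Q hQ.1).IsSubsystemOf F := fun P =>
    hom_subset_of_isMap fun f hf => ((IsCentralizerSystem.isMap_iff hC).1 hf).1
  have hclosed : F.StronglyClosed T := stronglyClosed_iff.2 ⟨hTS, fun P f hf x hx hxT => by
    obtain ⟨f', hf', he, him⟩ := normal_extendsStab hQ hf
    rw [← he hx]
    exact map_mem_centralizer hf' le_sup_right him (Subgroup.mem_sup_left hx) hxT.2⟩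
  -- the stabilizing extension of an automorphism of `T`
  have hext : ∀ k, IsIso F T T k → ∃ k', IsIso F (T ⊔ Q) (T ⊔ Q) k' ∧ Set.EqOn k' k T ∧
      k' '' (Q : Set Ω) = (Q : Set Ω) := by
    intro k hk
    obtain ⟨k', hk', he, him⟩ := normal_extendsStab hQ hk.1
    exact ⟨k', IsIso.sup hk' ((Set.image_congr he).trans hk.2) him, he, him⟩
  refine ⟨⟨centralizerSystem_isSaturated hS hF (fullyCentralized_of_fullyNormalized hS hF hQn), hF,
    Fus93.isInvariantIn_of hsub hclosed (fun P f hf k hk P' hP' => ?_) fun P f hf hPT => ?_⟩, fun α hα => ?_⟩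
  · -- transport by an automorphism of `T`
    obtain ⟨hfF, hP, hfT, f', hf', he, hfix⟩ := (IsCentralizerSystem.isMap_iff hC).1 hf
    obtain ⟨k', hk', hke, him⟩ := hext k hk
    obtain ⟨i, hi, hil, hir⟩ := hk'.exists_inv
    have hkQ : ∀ q ∈ Q, k' q ∈ Q := fun q hq => by
      rw [← SetLike.mem_coe, ← him]; exact ⟨q, hq, rfl⟩
    have hiQ : ∀ q ∈ Q, i q ∈ Q := fun q hq => by
      rw [← SetLike.mem_coe, ← him] at hq
      obtain ⟨w, hw, rfl⟩ := hq
      rw [hil w (Subgroup.mem_sup_right hw)]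
      exact hw
    have hP'T : P' ≤ T := fun y hy => by
      rw [← SetLike.mem_coe, hP'] at hy
      obtain ⟨x, hx, rfl⟩ := hy
      exact hk.mem (hP hx)
    have hdom : P' ⊔ Q ≤ T ⊔ Q := sup_le_sup_right hP'T Q
    have him' : ∀ y ∈ P' ⊔ Q, i y ∈ P ⊔ Q :=
      isMap_mem_sup (hi.1.mono hdom) le_sup_left le_sup_right (fun y hy => by
        rw [← SetLike.mem_coe, hP'] at hy
        obtain ⟨x, hx, rfl⟩ := hy
        rw [← hke (hP hx), hil x (Subgroup.mem_sup_left (hP hx))]
        exact Subgroup.mem_sup_left hx) fun y hy => Subgroup.mem_sup_right (hiQ y hy)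
    have hf'm : ∀ y ∈ P ⊔ Q, f' y ∈ T ⊔ Q :=
      isMap_mem_sup hf' le_sup_left le_sup_right
        (fun y hy => Subgroup.mem_sup_left (by rw [he hy]; exact hfT y hy))
        fun y hy => Subgroup.mem_sup_right (by rw [hfix y hy]; exact hy)
    have hg : IsMap F (P' ⊔ Q) (k' ∘ (f' ∘ i)) :=
      ((hi.1.mono hdom).comp hf' him').comp hk'.1 fun y hy => hf'm _ (him' y hy)
    have hval : ∀ x ∈ P, k' (f' (i (k x))) = k (f x) := fun x hx => by
      rw [← hke (hP hx), hil x (Subgroup.mem_sup_left (hP hx)), he hx, hke (hfT x hx)]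
    refine ⟨k' ∘ (f' ∘ i), (IsCentralizerSystem.isMap_iff hC).2 ⟨hg.mono le_sup_left, hP'T, fun y hy => ?_,
      k' ∘ (f' ∘ i), hg, fun _ _ => rfl, fun q hq => ?_⟩, hval⟩
    · rw [← SetLike.mem_coe, hP'] at hy
      obtain ⟨x, hx, rfl⟩ := hy
      show k' (f' (i (k x))) ∈ T
      rw [hval x hx]
      exact hk.mem (hfT x hx)
    · show k' (f' (i q)) = q
      rw [hfix _ (hiQ q hq), hir q (Subgroup.mem_sup_right hq)]
  · -- Frattini
    obtain ⟨ψ, hψ, hψe, hψQ⟩ := normal_extendsStab hQ hf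
    have hψQi : IsIso F Q Q ψ := ⟨hψ.mono le_sup_right, hψQ⟩
    obtain ⟨k, hk, hke⟩ := receptive_extend hQr hψQi (isExtendable_centralizerIn ψ)
    have hkT : IsIso F T T k := NormalLift.isIso_of_mapsTo (hk.mono le_sup_right) hTS
      (fun x hx => map_mem_centralizer hk le_sup_left ((Set.image_congr hke).trans hψQ)
        (Subgroup.mem_sup_right hx) hx.2) le_rfl
    have hkQT : IsIso F (Q ⊔ T) (Q ⊔ T) k := IsIso.sup hk ((Set.image_congr hke).trans hψQ) hkT.2
    obtain ⟨ki, hki, hkil, hkir⟩ := hkQT.exists_inv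
    have hψm : ∀ y ∈ P ⊔ Q, ψ y ∈ Q ⊔ T :=
      isMap_mem_sup hψ le_sup_left le_sup_right (fun y hy => Subgroup.mem_sup_right (by
          rw [hψe hy]; exact (stronglyClosed_iff.1 hclosed).2 _ _ hf y hy (hPT hy)))
        fun y hy => Subgroup.mem_sup_left (hψQi.mem hy)
    have hg : IsMap F (P ⊔ Q) (ki ∘ ψ) := hψ.comp hki.1 hψm
    have hgfix : ∀ q ∈ Q, ki (ψ q) = q := fun q hq => by
      rw [← hke hq, hkil q (Subgroup.mem_sup_left hq)]
    have hgT : ∀ x ∈ P, ki (ψ x) ∈ T := fun x hx => by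
      have h1 : ψ x ∈ T := by rw [hψe hx]; exact (stronglyClosed_iff.1 hclosed).2 _ _ hf x hx (hPT hx)
      obtain ⟨w, hw, hwe⟩ := hkT.exists_preimage h1
      rw [← hwe, hkil w (Subgroup.mem_sup_right hw)]
      exact hw
    refine ⟨k, ki ∘ ψ, hkT, (IsCentralizerSystem.isMap_iff hC).2 ⟨hg.mono le_sup_left, hPT, hgT,
      ki ∘ ψ, hg, fun _ _ => rfl, hgfix⟩, fun x hx => ?_⟩
    show f x = k (ki (ψ x))
    rw [hkir _ (hψm x (Subgroup.mem_sup_left hx)), hψe hx]
  · -- the extension condition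
    have hαi := (mem_autGroup le_rfl).1 hα
    obtain ⟨hαF, -, -, a, ha, hae, hafix⟩ := (IsCentralizerSystem.isMap_iff hC).1 hαi.1
    have hae' : Set.EqOn a (autFun α) T := hae
    have him : IsIso F (T ⊔ Q) (T ⊔ Q) a := IsIso.sup ha
      ((Set.image_congr hae').trans (autFun_image α)) ((Set.image_congr hafix).trans (Set.image_id' _))
    have hTQn : F.IsFullyNormalized (T ⊔ Q) := by
      refine ⟨sup_le hTS hQ.1, fun R hR => ?_⟩
      obtain ⟨f, hf⟩ := isConj_iff.1 hR
      obtain ⟨f', hf', he, hfQ⟩ := normal_extendsStab hQ hf.1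
      have hRle : R ≤ T ⊔ Q := fun y hy => by
        obtain ⟨x, hx, rfl⟩ := hf.exists_preimage hy
        refine isMap_mem_sup hf.1 le_sup_left le_sup_right (fun w hw => Subgroup.mem_sup_left ?_)
          (fun w hw => Subgroup.mem_sup_right ?_) x hx
        · exact (stronglyClosed_iff.1 hclosed).2 _ _ hf.1 w (Subgroup.mem_sup_left hw) hw
        · exact (stronglyClosed_iff.1 (stronglyClosed_of_normal hQ)).2 _ _ hf.1 w (Subgroup.mem_sup_right hw) hw
      haveI := finite_of_le (sup_le hTS hQ.1)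
      rw [Subgroup.eq_of_le_of_card_ge hRle hf.card_eq.le]
    set C := centralizerIn S T with hCd
    have hQC : Q ≤ C := fun q hq => ⟨hQ.1 hq, Subgroup.mem_centralizer_iff.2 fun t ht =>
      (Subgroup.mem_centralizer_iff.1 ht.2 q hq).symm⟩
    have hconjQ : ∀ g ∈ S, ∀ q ∈ Q, g * q * g⁻¹ ∈ Q := fun g hg q hq =>
      conj_mem_of_mem_normalizer (normal_le_normalizer hQ hg) hq
    have hext' : IsExtendable S (T ⊔ Q) a C := by
      refine ⟨centralizerIn_le S T, fun g hg => ?_⟩
      have hgT : ∀ t ∈ T, g * t * g⁻¹ = t := fun t ht => by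
        rw [← Subgroup.mem_centralizer_iff.1 hg.2 t ht]; group
      have hgN : g ∈ Subgroup.normalizer ((T ⊔ Q : Subgroup Ω) : Set Ω) :=
        mem_normalizer_sup (Subgroup.centralizer_le_normalizer _ hg.2) (normal_le_normalizer hQ hg.1)
      refine ⟨hgN, g, hg.1, fun x hx => ?_⟩
      -- both sides are homomorphisms agreeing on the generators
      have hm1 : IsMap F (T ⊔ Q) (a ∘ fun y => g * y * g⁻¹) :=
        (isMap_conj (sup_le hTS hQ.1) hg.1).comp him.1 fun y hy => conj_mem_of_mem_normalizer hgN hy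
      have hm2 : IsMap F (T ⊔ Q) ((fun y => g * y * g⁻¹) ∘ a) :=
        him.1.comp (isMap_conj le_rfl hg.1) fun y hy => him.1.apply_mem hy
      refine NormalLift.eqOn_sup hm1 hm2 le_sup_left le_sup_right ?_ ?_ hx
      · intro t ht
        show a (g * t * g⁻¹) = g * a t * g⁻¹
        rw [hgT t ht, hgT (a t) (by rw [hae' ht, autFun_of_mem α ht]; exact Subtype.mem _)]
      · intro q hq
        show a (g * q * g⁻¹) = g * a q * g⁻¹
        rw [hafix _ (hconjQ g hg.1 q hq), hafix q hq]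
    obtain ⟨b, hb, hbe⟩ := receptive_extend (receptive_of_fullyNormalized hS hF hTQn) him hext'
    have hbT : b '' (T : Set Ω) = (T : Set Ω) :=
      (Set.image_congr ((hbe.mono (le_sup_left : T ≤ T ⊔ Q)).trans hae')).trans (autFun_image α)
    have hbC : ∀ c ∈ C, b c ∈ C := fun c hc =>
      map_mem_centralizer hb (le_sup_left.trans le_sup_left) hbT (Subgroup.mem_sup_right hc) hc.2
    have hbD : IsMap F (T ⊔ C) b := hb.mono (sup_le_sup_right le_sup_left C)
    obtain ⟨β, hβ, hβe⟩ := (NormalLift.isIso_of_mapsTo hbD (sup_le hTS (centralizerIn_le _ _))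
      (isMap_mem_sup hbD le_sup_left le_sup_right
        (fun t ht => Subgroup.mem_sup_left (show b t ∈ T by
          rw [← SetLike.mem_coe, ← hbT]; exact ⟨t, ht, rfl⟩))
        fun c hc => Subgroup.mem_sup_right (hbC c hc)) le_rfl).exists_aut
    refine ⟨β, hβ, fun x => ?_, fun c hc => ?_⟩
    · rw [← autFun_coe β]
      show autFun β x = _
      rw [hβe (Subgroup.mem_sup_left x.2), hbe (Subgroup.mem_sup_left x.2), hae' x.2, autFun_coe]
    · rw [← autFun_coe β, hβe c.2]
      refine ⟨⟨S.mul_mem (inv_mem hc.1) (hbC _ hc).1, Subgroup.mem_centralizer_iff.2 fun q hq => ?_⟩,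
        (Subgroup.centralizer (T : Set Ω)).mul_mem (inv_mem hc.2) (hbC _ hc).2⟩
      have hq' : (c : Ω) * q * (c : Ω)⁻¹ ∈ Q := hconjQ _ hc.1 q hq
      have e1 : b ((c : Ω) * q * (c : Ω)⁻¹) = b c * b q * (b c)⁻¹ :=
        hb.map_conj (Subgroup.mem_sup_right hc) (Subgroup.mem_sup_left (Subgroup.mem_sup_right hq))
      rw [hbe (Subgroup.mem_sup_right hq'), hafix _ hq', hbe (Subgroup.mem_sup_right hq), hafix q hq] at e1
      calc q * ((c : Ω)⁻¹ * b c) = (c : Ω)⁻¹ * ((c : Ω) * q * (c : Ω)⁻¹) * b c := by group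
        _ = (c : Ω)⁻¹ * (b c * q * (b c)⁻¹) * b c := by rw [e1]
        _ = _ := by group

end Cfsg.Agent.Fusion
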