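import Cfsg.Agent.Lib.Fusion.ConstrainedNormalSub
import Cfsg.Agent.Fus93.Abelian
import Cfsg.Agent.S5290
import Cfsg.Agent.Fusion91.ComponentIso

/-!
# Quasisimple systems are not constrained
-/

set_option autoImplicit false
set_option linter.style.haveILetI false

namespace Cfsg.Agent.Fusion

open Cfsg
open Cfsg.FusionSystem (normalizerIn centralizerIn imageAlong preimageAlong)

variable {Ω : Type*} [Group Ω] {S : Subgroup Ω} {F : FusionSystem S} {p : ℕ}

/-- The inner system of a normal subgroup is a normal subsystem. -/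
theorem inner_isNormalIn_of_normal [Finite S] [Fact p.Prime] (hS : IsPGroup p S) (hF : F.IsSaturated p)
    {Q : Subgroup Ω} (hQ : F.IsNormal Q) : (innerFusionSystem Q).IsNormalIn F p := by
  refine ⟨(S5290.result p hS F hF Q hQ.1).1 hQ, fun α hα => ?_⟩
  obtain ⟨-, g, hg, he⟩ := (Fusion.mem_autGroup_iff_hom le_rfl).mp hα
  have hle : Q ⊔ centralizerIn S Q ≤ S := sup_le hQ.1 (centralizerIn_le S Q)
  have hgN : g ∈ normalizerIn S (Q ⊔ centralizerIn S Q) := ⟨hQ.1 hg, Subgroup.le_normalizer (Subgroup.mem_sup_left hg)⟩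
  have hm : conjAutHom S _ ⟨g, hgN⟩ ∈ F.autGroup (Q ⊔ centralizerIn S Q) := autInducedBy_le_autGroup hle (by
    rw [← range_conjAutHom]; exact ⟨_, rfl⟩)
  refine ⟨_, hm, fun x => (he x).symm, fun c hc => ?_⟩
  show (c : Ω)⁻¹ * (g * (c : Ω) * g⁻¹) ∈ _
  rw [Subgroup.mem_centralizer_iff.1 hc.2 g hg, mul_inv_cancel_right, inv_mul_cancel]
  exact Subgroup.one_mem _

/-- The image of a normal subgroup is normal in the image. -/
theorem isNormal_imageAlong {Ω' : Type*} [Group Ω'] {S' : Subgroup Ω'} {F' : FusionSystem S'} {α : S →* Ω'}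
    [Finite S] (hα : F.IsSurjectiveMorphism F' α) {Q : Subgroup Ω} (hQ : F.IsNormal Q) :
    F'.IsNormal (imageAlong α Q) := by
  refine isNormal_iff.2 ⟨fun y hy => ?_, fun P g hg => ?_⟩
  · obtain ⟨x, hx, rfl⟩ := (Fusion91.mem_imageAlong_push hQ.1).1 hy
    exact Fusion91.push_mem hα.2.1 (hQ.1 hx)
  obtain ⟨f, hf, he⟩ := Fusion91.exists_lift_map hα hg
  obtain ⟨f', hf', hee, hQ'⟩ := normal_extendsStab hQ hf
  obtain ⟨g', hg', hge⟩ := Fusion91.exists_push_map hα hf'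
  have hPle : P ≤ imageAlong α (preimageAlong α P ⊔ Q) := fun y hy => by
    obtain ⟨x, hx, rfl⟩ := Fusion91.exists_push_eq hα.2.1 (hg.dom_le hy)
    exact (Fusion91.mem_imageAlong_push hf'.dom_le).2
      ⟨x, Subgroup.mem_sup_left (Fusion91.mem_preimage_push.2 ⟨hx, hy⟩), rfl⟩
  have hQle : imageAlong α Q ≤ imageAlong α (preimageAlong α P ⊔ Q) :=
    Subgroup.map_mono (fun x hx => Subgroup.mem_sup_right hx)
  refine ⟨g', hg'.mono (sup_le hPle hQle), fun y hy => ?_, Set.ext fun y => ⟨?_, fun hy => ?_⟩⟩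
  · obtain ⟨x, hx, rfl⟩ := Fusion91.exists_push_eq hα.2.1 (hg.dom_le hy)
    have hx' : x ∈ preimageAlong α P := Fusion91.mem_preimage_push.2 ⟨hx, hy⟩
    rw [hge x (Subgroup.mem_sup_left hx'), hee hx', he x hx']
  · rintro ⟨y₀, hy₀, rfl⟩
    obtain ⟨x, hx, rfl⟩ := (Fusion91.mem_imageAlong_push hQ.1).1 hy₀
    rw [hge x (Subgroup.mem_sup_right hx)]
    exact (Fusion91.mem_imageAlong_push hQ.1).2 ⟨f' x, by rw [← SetLike.mem_coe, ← hQ']; exact ⟨x, hx, rfl⟩, rfl⟩
  · obtain ⟨x, hx, rfl⟩ := (Fusion91.mem_imageAlong_push hQ.1).1 hy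
    obtain ⟨x₀, hx₀, hxe⟩ := (hQ'.ge : (Q : Set Ω) ⊆ f' '' Q) hx
    refine ⟨_, (Fusion91.mem_imageAlong_push hQ.1).2 ⟨x₀, hx₀, rfl⟩, ?_⟩
    rw [hge x₀ (Subgroup.mem_sup_right hx₀), hxe]

/-- A system that is inner modulo a central subgroup has trivial hyperfocal subgroup. -/
theorem hyperfocal_eq_bot_of_inner_mod [Finite S] [Fact p.Prime] (hS : IsPGroup p S)
    {Z : Subgroup Ω} (hZ : F.IsCentral Z)
    (h : ∀ P f, IsMap F P f → ∃ t ∈ S, ∀ x ∈ P, (t * x * t⁻¹)⁻¹ * f x ∈ Z) :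
    F.hyperfocalSubgroup p = ⊥ := by
  refine (eq_bot_iff).2 ((Subgroup.closure_le _).2 ?_)
  rintro _ ⟨P, a, x, hP, ha, rfl⟩
  haveI := finite_of_le hP
  haveI := finite_mulAut P
  suffices hres : pResidual p (F.autGroup P) ≤ ⊥ by
    have h1 := hres ha
    rw [Subgroup.mem_bot] at h1
    simp [h1]
  refine Transfer.pResidual_le_iff.2 fun b hb => Subgroup.mem_bot.2 ?_
  obtain ⟨t, ht, he⟩ := h P _ ((mem_autGroup hP).1 b.2).1
  have hfix : ∀ z ∈ Z, z ∈ P → autFun (b : MulAut P) z = z := fun z hz hzP => by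
    obtain ⟨f', -, hee, hfx⟩ := (isCentral_iff.1 hZ).2 P _ ((mem_autGroup hP).1 b.2).1
    rw [← hee hzP]; exact hfx z hz
  have hcen : ∀ z ∈ Z, ∀ y ∈ S, y * z = z * y := by
    intro z hz y hy
    exact (F.center_le_centralizer ((le_sSup (show Z ∈ {Q | F.IsCentral Q} from hZ)) hz) y hy)
  have hit : ∀ n : ℕ, ∀ y : P,
      (t ^ n * y * (t ^ n)⁻¹)⁻¹ * (((b : MulAut P) ^ n) y : P) ∈ Z := by
    intro n
    induction n with
    | zero => intro y; simp
    | succ n ih =>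
      intro y
      have h1 := ih y
      let w : P := ((b : MulAut P) ^ n) y
      have h2 : (t * w * t⁻¹)⁻¹ * ((b : MulAut P) w : P) ∈ Z := by
        have h0 := he w w.2
        rwa [autFun_coe] at h0
      rw [show ((b : MulAut P) ^ (n + 1)) y = (b : MulAut P) w by rw [pow_succ', MulAut.mul_apply]]
      show (t ^ (n + 1) * (y : Ω) * (t ^ (n + 1))⁻¹)⁻¹ * (((b : MulAut P) w : P) : Ω) ∈ Z
      have h3 := hcen _ h1 t ht
      have h4 : (w : Ω) = (t ^ n * y * (t ^ n)⁻¹) * ((t ^ n * y * (t ^ n)⁻¹)⁻¹ * w) :=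
        (mul_inv_cancel_left _ _).symm
      have h5 : t * w * t⁻¹ = (t ^ (n + 1) * (y : Ω) * (t ^ (n + 1))⁻¹) * ((t ^ n * y * (t ^ n)⁻¹)⁻¹ * w) := by
        conv_lhs => rw [h4]
        calc t * (t ^ n * y * (t ^ n)⁻¹ * ((t ^ n * y * (t ^ n)⁻¹)⁻¹ * w)) * t⁻¹
            = t * (t ^ n * y * (t ^ n)⁻¹) * t⁻¹ * (t * ((t ^ n * y * (t ^ n)⁻¹)⁻¹ * w) * t⁻¹) := by group
          _ = t * (t ^ n * y * (t ^ n)⁻¹) * t⁻¹ * ((t ^ n * y * (t ^ n)⁻¹)⁻¹ * w) := by
            rw [h3, mul_inv_cancel_right]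
          _ = _ := by rw [pow_succ']; group
      rw [h5, mul_inv_rev, mul_assoc] at h2
      have := Z.mul_mem h1 h2
      rwa [mul_inv_cancel_left] at this
  obtain ⟨k, hk⟩ := hS ⟨t, ht⟩
  have hk' : t ^ p ^ k = 1 := congrArg Subtype.val hk
  have hmem : (b : MulAut P) ^ p ^ k ∈ NormalLift.fixMod P Z := by
    refine ⟨fun y hy => ?_, fun y => ?_⟩
    · have : ∀ n : ℕ, ((b : MulAut P) ^ n) y = y := by
        intro n
        induction n with
        | zero => simp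
        | succ n ih =>
          rw [pow_succ', MulAut.mul_apply, ih]
          exact Subtype.ext ((autFun_coe _ _).symm.trans (hfix _ hy y.2))
      exact this _
    · have := hit (p ^ k) y
      rw [hk'] at this
      simpa using this
  obtain ⟨l, hl⟩ := NormalLift.fixMod_isPGroup (hS.to_le hP) ⟨_, hmem⟩
  have hl' : ((b : MulAut P) ^ p ^ k) ^ p ^ l = 1 := congrArg Subtype.val hl
  rw [← pow_mul, ← pow_add] at hl'
  have hd : orderOf b ∣ p ^ (k + l) := by
    rw [← Subgroup.orderOf_coe]; exact orderOf_dvd_of_pow_eq_one hl'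
  exact orderOf_eq_one_iff.1 (Nat.eq_one_of_dvd_coprimes (hb.pow_right (k + l)) dvd_rfl hd)

/-- A quasisimple system is not constrained. -/
theorem not_isConstrained_of_quasisimple [Finite S] [Fact p.Prime] (hS : IsPGroup p S) (hq : F.Quasisimple p) :
    ¬ F.IsConstrained p := by
  rintro ⟨hF, Q, hQ, hQc⟩
  obtain ⟨-, hhyp, hsimp⟩ := hq
  have hZc := Fusion91.stronglyClosed_center F
  obtain ⟨E, hE⟩ := Fusion91.exists_factor_mk' F hZc
  have hα := S5134.result p hS F hF F.center hZc _ E hE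
  obtain ⟨hEs, hne, hs⟩ := hsimp E hE
  haveI : Finite (⊤ : Subgroup (S ⧸ (F.center).subgroupOf S)) := inferInstance
  have hR := isNormal_imageAlong hα hQ
  have hSt : IsPGroup p (⊤ : Subgroup (S ⧸ (F.center).subgroupOf S)) :=
    (hS.to_quotient _).to_subgroup ⊤
  rcases hs _ _ (inner_isNormalIn_of_normal hSt hEs hR) with hbot | ⟨htop, hall⟩
  · -- `Q` central
    have hQZ : Q ≤ F.center := fun x hx => by
      refine (hE.2.1 ⟨x, hQ.1 hx⟩).1 ?_
      rw [← Subgroup.mem_bot, ← hbot]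
      exact Fusion91.mem_imageAlong.2 ⟨⟨x, hQ.1 hx⟩, hx, rfl⟩
    refine hne (eq_bot_iff.2 fun y _ => ?_)
    obtain ⟨x, rfl⟩ := QuotientGroup.mk'_surjective _ y
    rw [Subgroup.mem_bot, hE.2.1]
    refine hQZ (centralizer_le_of_centric hQc ⟨x.2, Subgroup.mem_centralizer_iff.2 fun q hq => ?_⟩)
    exact (F.center_le_centralizer (hQZ hq) x x.2).symm
  · have hb : F.hyperfocalSubgroup p = ⊥ := by
      refine hyperfocal_eq_bot_of_inner_mod hS (Fusion91.isCentral_center F) fun P f hf => ?_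
      obtain ⟨g, hg, hge⟩ := Fusion91.exists_push_map hα hf
      obtain ⟨φ, hφ, hφg⟩ := hg
      rw [← hall] at hφ
      obtain ⟨hP', r, hr, hre⟩ := hφ
      obtain ⟨t, rfl⟩ := QuotientGroup.mk'_surjective _ r
      refine ⟨t, t.2, fun x hx => ?_⟩
      have hxS := hf.dom_le hx
      have hfS := hf.apply_mem hx
      have h1 := hge x hx
      have hxi : QuotientGroup.mk' ((F.center).subgroupOf S) ⟨x, hxS⟩ ∈
          imageAlong (QuotientGroup.mk' ((F.center).subgroupOf S)) P :=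
        Fusion91.mem_imageAlong.2 ⟨⟨x, hxS⟩, hx, rfl⟩
      rw [Fusion91.push_of_mem hxS, Fusion91.push_of_mem hfS, ← hφg ⟨_, hxi⟩, hre] at h1
      refine (hE.2.1 ((t * ⟨x, hxS⟩ * t⁻¹)⁻¹ * ⟨f x, hfS⟩)).1 ?_
      rw [map_mul, map_inv, map_mul, map_mul, map_inv, ← h1]
      exact inv_mul_cancel _
    rw [hhyp] at hb
    refine hne (eq_bot_iff.2 fun y _ => ?_)
    obtain ⟨x, rfl⟩ := QuotientGroup.mk'_surjective _ y
    rw [Subgroup.mem_bot, hE.2.1, Subgroup.mem_bot.1 (hb.le x.2)]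
    exact Subgroup.one_mem _

/-- A constrained system has no component. -/
theorem no_component_of_isConstrained [Finite S] [Fact p.Prime] (hS : IsPGroup p S) (hF : F.IsConstrained p)
    {T : Subgroup Ω} {C : FusionSystem T} : ¬ C.IsComponentIn F p := fun ⟨hsub, hq⟩ => by
  have hTS : T ≤ S := Fusion91.le_of_subnormal hsub
  haveI := finite_of_le hTS
  exact not_isConstrained_of_quasisimple (hS.to_le hTS) hq (isConstrained_of_isSubnormalIn hS hF hsub)

/-- Constrained is equivalent to having no component. -/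
theorem isConstrained_iff_no_component [Finite S] [Fact p.Prime] (hS : IsPGroup p S) (hF : F.IsSaturated p) :
    F.IsConstrained p ↔ ¬ ∃ (T : Subgroup Ω) (C : FusionSystem T), C.IsComponentIn F p := by
  refine ⟨fun hc ⟨T, C, hC⟩ => no_component_of_isConstrained hS hc hC, fun h => ?_⟩
  by_contra hnc
  exact h (exists_component hS hF hnc)

end Cfsg.Agent.Fusion
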