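import Cfsg.Agent.Lib.Fusion.NormalLift

/-!
# The centralizer in `S` of a normal subsystem
-/

set_option autoImplicit false

namespace Cfsg.Agent.Fusion.NormalLift

open Cfsg
open Cfsg.FusionSystem (normalizerIn centralizerIn)

variable {Ω : Type*} [Group Ω] {S T : Subgroup Ω} {F : FusionSystem S} {E : FusionSystem T} {p : ℕ}
  [Finite S] [Fact p.Prime]

set_option maxHeartbeats 1600000 in
/-- Lifts exist. -/
theorem NData.exists_lift (h : NData F E p) {R : Subgroup Ω} (hR : F.IsFullyNormalized R) (hRT : R ≤ T)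
    (hc : centralizerIn T R ≤ R) : ∀ α ∈ E.autGroup R, Lift F α := by
  haveI := h.finiteT
  induction hn : Nat.card T - Nat.card R using Nat.strong_induction_on generalizing R with
  | _ n ih =>
  haveI := finite_of_le hRT
  haveI := finite_mulAut R
  by_cases hRe : R = T
  · subst hRe
    intro α hα
    obtain ⟨β, hβ, hβT, hβC⟩ := h.normal.2 α hα
    refine ⟨β, hβ, fun x hx => ?_, fun c hcC => ?_⟩
    · rw [autFun_of_mem β (Subgroup.mem_sup_left hx : x ∈ R ⊔ centralizerIn S R), autFun_of_mem α hx]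
      exact hβT ⟨x, hx⟩
    · rw [autFun_of_mem β (Subgroup.mem_sup_right hcC : c ∈ R ⊔ centralizerIn S R)]
      exact (hβC ⟨c, Subgroup.mem_sup_right hcC⟩ hcC).1
  set A := E.autGroup R with hA
  have hRS := hRT.trans h.tS
  let X : Subgroup A :=
    { carrier := {a | Lift F (a : MulAut R)}
      one_mem' := lift_one
      mul_mem' := fun ha hb => lift_mul hRS ha hb
      inv_mem' := fun {a} ha => by
        obtain ⟨m, hm⟩ := mem_powers_iff_mem_zpowers.mpr
          (Subgroup.inv_mem _ (Subgroup.mem_zpowers a) : a⁻¹ ∈ Subgroup.zpowers a)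
        show Lift F ((a⁻¹ : A) : MulAut R)
        rw [← hm]
        exact lift_pow hRS ha m }
  haveI : X.Normal := ⟨fun a ha b => h.lift_conj (h.centralized hR) ha
    (autGroup_mono (h.sub R) b.2)⟩
  obtain ⟨U, hU⟩ :=
    (fullyAutomized_of_fullyNormalized h.tp h.eSat (h.fullyNormalized_e hR hRT)).2
  have hUX : (U : Subgroup A) ≤ X := by
    intro a ha
    rw [hU, Subgroup.mem_subgroupOf, mem_autInducedBy] at ha
    obtain ⟨t, ht, hte⟩ := ha
    have htN := mem_normalizer_of_induces hte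
    have hCn : t ∈ normalizerIn S (R ⊔ centralizerIn S R) := by
      refine ⟨h.tS ht, mem_normalizer_sup htN ?_⟩
      have key : ∀ s ∈ normalizerIn S R, ∀ c ∈ centralizerIn S R, s * c * s⁻¹ ∈ centralizerIn S R :=
        fun s hs c hc' => ⟨S.mul_mem (S.mul_mem hs.1 hc'.1) (S.inv_mem hs.1),
          Subgroup.mem_centralizer_iff.mpr fun y hy => by
            have h1 : s⁻¹ * y * s ∈ R := by
              simpa using conj_mem_of_mem_normalizer (Subgroup.inv_mem _ hs.2) hy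
            calc y * (s * c * s⁻¹) = s * (s⁻¹ * y * s * c) * s⁻¹ := by group
              _ = s * (c * (s⁻¹ * y * s)) * s⁻¹ := by rw [Subgroup.mem_centralizer_iff.mp hc'.2 _ h1]
              _ = s * c * s⁻¹ * y := by group⟩
      refine Subgroup.mem_normalizer_iff.mpr fun c => ⟨key t ⟨h.tS ht, htN⟩ c, fun hc' => ?_⟩
      simpa [mul_assoc] using key t⁻¹ (Subgroup.inv_mem _ ⟨h.tS ht, htN⟩) _ hc'
    refine ⟨conjAutHom S _ ⟨t, hCn⟩, autInducedBy_le_autGroup (sup_le hRS (centralizerIn_le _ _))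
      (by rw [← range_conjAutHom]; exact ⟨_, rfl⟩), fun x hx => ?_, fun c hcC => ?_⟩
    · rw [autFun_of_mem _ (Subgroup.mem_sup_left hx : x ∈ R ⊔ centralizerIn S R),
        autFun_of_mem _ hx, hte]
      rfl
    · have hcD : c ∈ R ⊔ centralizerIn S R := Subgroup.mem_sup_right hcC
      rw [autFun_of_mem _ hcD]
      show c⁻¹ * (t * c * t⁻¹) ∈ R
      refine hc ⟨(h.comm_mem hcC.1 ht).2, Subgroup.mul_mem _ (Subgroup.inv_mem _ hcC.2) ?_⟩
      refine Subgroup.mem_centralizer_iff.mpr fun y hy => ?_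
      have h1 : t⁻¹ * y * t ∈ R := by
        simpa using conj_mem_of_mem_normalizer (Subgroup.inv_mem _ htN) hy
      calc y * (t * c * t⁻¹) = t * (t⁻¹ * y * t * c) * t⁻¹ := by group
        _ = t * (c * (t⁻¹ * y * t)) * t⁻¹ := by rw [Subgroup.mem_centralizer_iff.mp hcC.2 _ h1]
        _ = t * c * t⁻¹ * y := by group
  set N := Subgroup.normalizer ((U : Subgroup A) : Set A) with hN
  have hfr := Sylow.normalizer_sup_eq_top (U.subtype hUX)
  rw [Sylow.coe_subtype, Subgroup.subgroupOf_map_subtype, inf_eq_left.mpr hUX] at hfr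
  -- the coprime elements normalizing `U`
  have hcore : ∀ a : A, a ∈ N → Nat.Coprime (orderOf a) p → a ∈ X := by
    intro a haN ha
    have hlt : R < T := lt_of_le_of_ne hRT hRe
    set R₁ := normalizerIn T R with hR₁
    have hR₁lt : R < R₁ := lt_normalizerIn h.tp hlt
    have hR₁T : R₁ ≤ T := normalizerIn_le _ _
    obtain ⟨Q₁, hQ₁, hQ₁n⟩ := exists_fullyNormalized (F := F) (hR₁T.trans h.tS)
    obtain ⟨θ₁, hθ₁, hθ₁R, hθ₁N, hθ₁T⟩ := h.exists_normT_map hQ₁n hQ₁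
    have hsub : normalizerIn S R ≤ normalizerIn S R₁ := fun s hs => by
      haveI := finite_of_le hR₁T
      refine ⟨hs.1, Subgroup.mem_normalizer_fintype fun x hx => ⟨h.conj_t hs.1 hx.1, ?_⟩⟩
      exact Subgroup.mul_mem _ (Subgroup.mul_mem _ hs.2 hx.2) (Subgroup.inv_mem _ hs.2)
    set D₁ := Q₁ ⊔ centralizerIn S Q₁ with hD₁
    obtain ⟨D₂, hD₂, hD₂n⟩ := exists_fullyNormalized (F := F)
      (sup_le hQ₁n.1 (centralizerIn_le _ _) : D₁ ≤ S)
    obtain ⟨θ₂, hθ₂, hθ₂D, -, -⟩ := h.exists_normT_map hD₂n hD₂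
    have hND : normalizerIn S Q₁ ≤ normalizerIn S D₁ := fun s hs => by
      refine ⟨hs.1, mem_normalizer_sup hs.2 ?_⟩
      have key : ∀ u ∈ normalizerIn S Q₁, ∀ c ∈ centralizerIn S Q₁, u * c * u⁻¹ ∈ centralizerIn S Q₁ :=
        fun u hu c hc' => ⟨S.mul_mem (S.mul_mem hu.1 hc'.1) (S.inv_mem hu.1),
          Subgroup.mem_centralizer_iff.mpr fun y hy => by
            have h1 : u⁻¹ * y * u ∈ Q₁ := by
              simpa using conj_mem_of_mem_normalizer (Subgroup.inv_mem _ hu.2) hy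
            calc y * (u * c * u⁻¹) = u * (u⁻¹ * y * u * c) * u⁻¹ := by group
              _ = u * (c * (u⁻¹ * y * u)) * u⁻¹ := by rw [Subgroup.mem_centralizer_iff.mp hc'.2 _ h1]
              _ = u * c * u⁻¹ * y := by group⟩
      refine Subgroup.mem_normalizer_iff.mpr fun c => ⟨key s hs c, fun hc' => ?_⟩
      simpa [mul_assoc] using key s⁻¹ (Subgroup.inv_mem _ hs) _ hc'
    have hθ : IsMap F (normalizerIn S R) (θ₂ ∘ θ₁) :=
      (hθ₁.mono hsub).comp hθ₂ fun x hx => hND (hθ₁N x (hsub hx))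
    set θ := θ₂ ∘ θ₁ with hθd
    have hRN : R ≤ normalizerIn S R := le_normalizerIn hRS
    obtain ⟨R', hR'⟩ := (hθ.mono hRN).exists_image
    have hR'T : R' ≤ T := fun y hy => by
      obtain ⟨x, hx, rfl⟩ := hR'.exists_preimage hy
      exact Fusion92.closed_apply h.closed hθ (hRN hx) (hRT hx)
    have hNmap : ∀ s ∈ normalizerIn S R, θ s ∈ normalizerIn S R' := fun s hs =>
      map_mem_normalizer hθ hRN hR'.2 hs hs.2
    have hR'n : F.IsFullyNormalized R' :=
      ⟨hR'.cod_le, fun W hW => (hR.2 W (isConj_trans hR'.isConj hW)).trans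
        (card_le_of_injOn (normalizerIn_le _ _) hθ.injOn hNmap)⟩
    have hc' : centralizerIn T R' ≤ R' := h.centT_conj hR hc (isConj_symm hR'.isConj)
    have hR₁S : R₁ ≤ normalizerIn S R := fun x hx => ⟨h.tS hx.1, hx.2⟩
    have hTmap : ∀ t ∈ R₁, θ t ∈ normalizerIn T R' := fun t ht =>
      ⟨Fusion92.closed_apply h.closed hθ (hR₁S ht) ht.1, (hNmap t (hR₁S ht)).2⟩
    have hθR₁ : IsIso F R₁ (normalizerIn T R') θ :=
      isIso_of_mapsTo (hθ.mono hR₁S) ((normalizerIn_le _ _).trans h.tS) hTmap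
        (h.card_normT_le hR (isConj_symm hR'.isConj))
    -- the normalizer of `R'` in `T` is fully normalized, with fully normalized `D`
    have hRQ : R₁ ≤ normalizerIn S R₁ := le_normalizerIn (hR₁T.trans h.tS)
    have hQsub : Q₁ ≤ normalizerIn S D₁ := (le_normalizerIn hQ₁n.1).trans hND
    obtain ⟨Q₂, hQ₂⟩ := (hθ₂.mono hQsub).exists_image
    have hQ₂eq : normalizerIn T R' = Q₂ := by
      refine (hθR₁.cod_unique ⟨hθ.mono hR₁S, ?_⟩)
      rw [hθd, Set.image_comp, hθ₁R.2, hQ₂.2]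
    have hQ₂n : F.IsFullyNormalized Q₂ :=
      ⟨hQ₂.cod_le, fun W hW => (hQ₁n.2 W (isConj_trans hQ₂.isConj hW)).trans
        (card_le_of_injOn (normalizerIn_le _ _) (hθ₂.injOn.mono fun x hx => hND hx)
          fun s hs => map_mem_normalizer hθ₂ hQsub hQ₂.2 (hND hs) hs.2)⟩
    have hC₁sub : centralizerIn S Q₁ ≤ normalizerIn S D₁ :=
      fun c hc' => hND ⟨hc'.1, Subgroup.centralizer_le_normalizer _ hc'.2⟩
    have hCmap : ∀ c ∈ centralizerIn S Q₁, θ₂ c ∈ centralizerIn S Q₂ := fun c hc' =>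
      map_mem_centralizer hθ₂ hQsub hQ₂.2 (hC₁sub hc') hc'.2
    have hCim : θ₂ '' (centralizerIn S Q₁ : Set Ω) = (centralizerIn S Q₂ : Set Ω) :=
      Set.Subset.antisymm (fun y ⟨x, hx, hy⟩ => hy ▸ hCmap x hx)
        (surjOn_of_card_le (centralizerIn_le _ _) (hθ₂.injOn.mono hC₁sub) hCmap
          ((h.centralized hQ₁n).2 Q₂ hQ₂.isConj))
    have hD₂eq : D₂ = Q₂ ⊔ centralizerIn S Q₂ :=
      hθ₂D.cod_unique (IsIso.sup (hθ₂.mono (le_normalizerIn (sup_le hQ₁n.1 (centralizerIn_le _ _))))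
        hQ₂.2 hCim)
    -- transport
    set a' := MulAut.congr hR'.equiv (a : MulAut R) with ha'
    have ha'E : a' ∈ E.autGroup R' := by
      have hiso := (mem_autGroup hRT).mp a.2
      obtain ⟨χ, hχ, hχe⟩ := h.strongInv R R' R (autFun (a : MulAut R)) θ le_rfl hRT hiso.1
        (fun x hx => hiso.mem hx) (hθ.mono hRN) hR'
      refine autGroup_mem_of_isMap (hχ.congr fun y hy => ?_)
      obtain ⟨x, hx, rfl⟩ := hR'.exists_preimage hy
      rw [hχe x hx, autFun_congr hR' (a : MulAut R) hx]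
    have ha'o : Nat.Coprime (orderOf a') p := by
      rw [ha', MulEquiv.orderOf_eq, Subgroup.orderOf_coe]
      exact ha
    have hnorm : ∀ t' ∈ normalizerIn T R', ∃ t'' ∈ T, ∀ y ∈ R',
        autFun a' (t' * y * t'⁻¹) = t'' * autFun a' y * t''⁻¹ := by
      intro t' ht'
      obtain ⟨t, ht, rfl⟩ := hθR₁.exists_preimage ht'
      have htN : t ∈ normalizerIn T R := ht
      set ct : MulAut R := conjAutHom T R ⟨t, htN⟩ with hct
      have hctI : ct ∈ autInducedBy T R := by rw [← range_conjAutHom]; exact ⟨_, rfl⟩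
      have hctU : (⟨ct, autInducedBy_le_autGroup hRT hctI⟩ : A) ∈ (U : Subgroup A) := by
        rw [hU, Subgroup.mem_subgroupOf]; exact hctI
      have h1 := conj_mem_of_mem_normalizer haN hctU
      rw [hU, Subgroup.mem_subgroupOf, mem_autInducedBy] at h1
      obtain ⟨u, hu, hue⟩ := h1
      have huN : u ∈ R₁ := ⟨hu, mem_normalizer_of_induces hue⟩
      refine ⟨θ u, (hTmap u huN).1, fun y hy => ?_⟩
      obtain ⟨x, hx, rfl⟩ := hR'.exists_preimage hy
      have hxN := hRN hx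
      have htS := hR₁S ht
      have hcx : t * x * t⁻¹ ∈ R := conj_mem_of_mem_normalizer ht.2 hx
      rw [← hθ.map_conj htS hxN, autFun_congr hR' _ hcx, autFun_congr hR' _ hx,
        ← hθ.map_conj (hR₁S huN) (hRN (autFun_of_mem (a : MulAut R) hx ▸ ((a : MulAut R) _).2))]
      congr 1
      have h2 := hue ((a : MulAut R) ⟨x, hx⟩)
      rw [autFun_of_mem _ hcx, autFun_of_mem _ hx]
      refine Eq.trans ?_ h2
      show _ = (((a : MulAut R) (ct ((a : MulAut R).symm ((a : MulAut R) ⟨x, hx⟩)))) : Ω)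
      rw [MulEquiv.symm_apply_apply]
      rfl
    have hlift : Lift F a' := by
      refine h.lift_core hR'n hR'T hc' (hQ₂eq ▸ hQ₂n) (hQ₂eq ▸ hD₂eq ▸ hD₂n) ?_ ha'E ha'o hnorm
      have hR'lt : R' < normalizerIn T R' :=
        lt_normalizerIn h.tp (lt_of_le_of_ne hR'T fun he => hRe (Subgroup.eq_of_le_of_card_ge hRT
          (by rw [hR'.card_eq, he])))
      refine ih _ ?_ (hQ₂eq ▸ hQ₂n) (normalizerIn_le _ _)
        ((inf_le_inf_left _ (Subgroup.centralizer_le hR'lt.le)).trans (hc'.trans hR'lt.le)) rfl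
      have h1 : Nat.card R₁ = Nat.card (normalizerIn T R') := hθR₁.card_eq
      have h2 : Nat.card R < Nat.card R₁ := by
        haveI := finite_of_le hR₁T
        exact lt_of_le_of_ne (Subgroup.card_le_of_le hR₁lt.le) fun he =>
          hR₁lt.ne (Subgroup.eq_of_le_of_card_ge hR₁lt.le he.ge)
      have h3 := Subgroup.card_le_of_le hR₁T
      omega
    -- back
    have hCN : R ⊔ centralizerIn S R ≤ normalizerIn S R :=
      sup_le hRN (centralizerIn_le_normalizerIn _ _)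
    have hmemC : ∀ c ∈ centralizerIn S R, θ c ∈ centralizerIn S R' := fun c hc'' =>
      map_mem_centralizer hθ hRN hR'.2 (hCN (Subgroup.mem_sup_right hc'')) hc''.2
    have himC : θ '' (centralizerIn S R : Set Ω) = (centralizerIn S R' : Set Ω) :=
      Set.Subset.antisymm (fun y ⟨x, hx, hy⟩ => hy ▸ hmemC x hx)
        (surjOn_of_card_le (centralizerIn_le _ _)
          (hθ.injOn.mono fun x hx => hCN (Subgroup.mem_sup_right hx)) hmemC
          ((h.centralized hR).2 R' hR'.isConj))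
    have hθD : IsIso F (R ⊔ centralizerIn S R) (R' ⊔ centralizerIn S R') θ :=
      IsIso.sup (hθ.mono hCN) hR'.2 himC
    obtain ⟨i, hi, hil, hir⟩ := hθD.exists_inv
    have hiR : IsIso F R' R i := by
      refine ⟨hi.1.mono le_sup_left, ?_⟩
      rw [← hR'.2, Set.image_image]
      exact (Set.image_congr fun x hx => hil x (Subgroup.mem_sup_left hx)).trans (Set.image_id' _)
    have hback := lift_transport hiR hi (fun c hc'' => ⟨θ c, hmemC c hc'', hil c (Subgroup.mem_sup_right hc'')⟩) hlift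
    have he : MulAut.congr hiR.equiv a' = (a : MulAut R) := by
      rw [equiv_symm hR' hiR fun x hx => hil x (Subgroup.mem_sup_left hx), ha']
      refine MulEquiv.ext fun x => ?_
      show hR'.equiv.symm (hR'.equiv ((a : MulAut R) (hR'.equiv.symm (hR'.equiv x)))) = _
      rw [MulEquiv.symm_apply_apply, MulEquiv.symm_apply_apply]
    show Lift F (a : MulAut R)
    rw [← he]
    exact hback
  have hNX : X.subgroupOf N = ⊤ := by
    refine eq_top_of_sylow_coprime (U.subtype Subgroup.le_normalizer) _ ?_ fun a ha => ?_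
    · rw [Sylow.coe_subtype]; exact Subgroup.comap_mono hUX
    · exact Subgroup.mem_subgroupOf.mpr (hcore a a.2 (by rwa [Subgroup.orderOf_coe]))
  intro α hα
  have hle : N ⊔ X ≤ X := sup_le (Subgroup.subgroupOf_eq_top.mp hNX) le_rfl
  exact hle (hfr ▸ Subgroup.mem_top (⟨α, hα⟩ : A))

set_option maxHeartbeats 1600000 in
/-- A lift of prime-to-`p` order fixes every element of `C_S(R)` fixed by some extension. -/
theorem NData.exists_fixing_lift (h : NData F E p) {R : Subgroup Ω} (hR : F.IsFullyNormalized R)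
    (hRT : R ≤ T) (hc : centralizerIn T R ≤ R) {α : MulAut R} (hα : α ∈ E.autGroup R)
    (ho : Nat.Coprime (orderOf α) p) :
    ∃ g, IsMap F (R ⊔ centralizerIn S R) g ∧ Set.EqOn g (autFun α) R ∧
      ∀ y ∈ centralizerIn S R, ∀ f, IsMap F (R ⊔ Subgroup.zpowers y) f →
        Set.EqOn f (autFun α) R → f y = y → g y = y := by
  have hRS := hR.1
  haveI := finite_of_le hRS
  set C := centralizerIn S R with hC
  set D := R ⊔ C with hD
  have hDS : D ≤ S := sup_le hRS (centralizerIn_le _ _)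
  haveI := finite_of_le hDS
  haveI := finite_mulAut D
  obtain ⟨γ₀, hγ₀, hγ₀e, hγ₀c⟩ := h.exists_lift hR hRT hc α hα
  obtain ⟨m, hm, hαm⟩ := exists_pow_coprime γ₀ α ho
  -- powers of the lift
  have hpow : ∀ n : ℕ, Set.EqOn (autFun (γ₀ ^ n)) (autFun (α ^ n)) R ∧
      ∀ c ∈ C, c⁻¹ * autFun (γ₀ ^ n) c ∈ R := by
    intro n
    induction n with
    | zero =>
      refine ⟨fun x hx => ?_, fun c hcC => ?_⟩
      · rw [pow_zero, pow_zero, autFun_one hx, autFun_one (Subgroup.mem_sup_left hx : x ∈ D)]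
      · rw [pow_zero, autFun_one (Subgroup.mem_sup_right hcC : c ∈ D)]; simp
    | succ n ihn =>
      obtain ⟨i1, i2⟩ := ihn
      have hiso₀ := ((mem_autGroup hDS).mp hγ₀).1
      have hmem : ∀ y : Ω, y ∈ R → autFun γ₀ y ∈ R := fun y hy => by
        rw [hγ₀e hy, autFun_of_mem α hy]; exact (α _).2
      refine ⟨fun x hx => ?_, fun c hcC => ?_⟩
      · rw [pow_succ', pow_succ', autFun_mul _ _ (Subgroup.mem_sup_left hx : x ∈ D), autFun_mul _ _ hx,
          Function.comp_apply, Function.comp_apply, i1 hx]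
        exact hγ₀e (autFun_of_mem (α ^ n) hx ▸ ((α ^ n) _).2)
      · have hcD : c ∈ D := Subgroup.mem_sup_right hcC
        have h1 := R.mul_mem (hγ₀c c hcC) (hmem _ (i2 c hcC))
        rw [mul_assoc, ← hiso₀.map_mul hcD (Subgroup.mem_sup_left (i2 c hcC)), mul_inv_cancel_left] at h1
        rwa [pow_succ', autFun_mul _ _ hcD]
  obtain ⟨hγe, hγc⟩ := hpow m
  rw [hαm] at hγe
  set γ := γ₀ ^ m with hγ
  have hγF : γ ∈ F.autGroup D := Subgroup.pow_mem _ hγ₀ m
  have hγiso := (mem_autGroup hDS).mp hγF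
  refine ⟨autFun γ, hγiso.1, hγe, fun y hy f hf hfe hfy => ?_⟩
  have hCcom : ∀ {c x : Ω}, c ∈ C → x ∈ R → c * x = x * c := fun hc' hx =>
    (Subgroup.mem_centralizer_iff.mp hc'.2 _ hx).symm
  have hRy : R ⊔ Subgroup.zpowers y ≤ D := sup_le_sup_left ((Subgroup.zpowers_le).mpr hy) R
  set z := y⁻¹ * autFun γ y with hz
  have hzR : z ∈ R := hγc y hy
  have hαiso := (mem_autGroup hRT).mp hα
  -- `f` is an automorphism of `R⟨y⟩`
  have hfzy : f '' (Subgroup.zpowers y : Set Ω) = (Subgroup.zpowers y : Set Ω) := by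
    refine (Set.image_congr fun x hx => ?_).trans (Set.image_id _)
    obtain ⟨k, rfl⟩ := Subgroup.mem_zpowers_iff.mp hx
    obtain ⟨φ, -, hφ⟩ := id hf
    have hyM : y ∈ R ⊔ Subgroup.zpowers y := Subgroup.mem_sup_right (Subgroup.mem_zpowers y)
    rw [← hφ ⟨y ^ k, Subgroup.zpow_mem _ hyM k⟩,
      show (⟨y ^ k, Subgroup.zpow_mem _ hyM k⟩ : ↥(R ⊔ Subgroup.zpowers y)) = ⟨y, hyM⟩ ^ k from rfl,
      map_zpow, hφ, hfy]
    rfl
  have hfR : f '' (R : Set Ω) = (R : Set Ω) :=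
    (Set.image_congr hfe).trans (Set.image_congr (fun x _ => rfl) |>.trans hαiso.2)
  have hfiso : IsIso F (R ⊔ Subgroup.zpowers y) (R ⊔ Subgroup.zpowers y) f := IsIso.sup hf hfR hfzy
  obtain ⟨fi, hfi, hfil, -⟩ := hfiso.exists_inv
  have hγmem : ∀ x ∈ R ⊔ Subgroup.zpowers y, autFun γ x ∈ R ⊔ Subgroup.zpowers y := by
    refine isMap_mem_sup (hγiso.1.mono hRy) le_sup_left le_sup_right
      (fun x hx => Subgroup.mem_sup_left (hγe hx ▸ hαiso.mem hx)) fun x hx => ?_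
    obtain ⟨k, rfl⟩ := Subgroup.mem_zpowers_iff.mp hx
    obtain ⟨φ, -, hφ⟩ := id hγiso.1
    have hyD : y ∈ D := Subgroup.mem_sup_right hy
    rw [← hφ ⟨y ^ k, Subgroup.zpow_mem _ hyD k⟩,
      show (⟨y ^ k, Subgroup.zpow_mem _ hyD k⟩ : D) = ⟨y, hyD⟩ ^ k from rfl, map_zpow, hφ]
    refine Subgroup.zpow_mem _ ?_ k
    rw [show autFun γ y = y * z by rw [hz]; group]
    exact Subgroup.mul_mem _ (Subgroup.mem_sup_right (Subgroup.mem_zpowers y)) (Subgroup.mem_sup_left hzR)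
  set η := fi ∘ autFun γ with hη
  have hηM : IsMap F (R ⊔ Subgroup.zpowers y) η := (hγiso.1.mono hRy).comp hfi.1 hγmem
  have hηR : ∀ x ∈ R, η x = x := fun x hx => by
    show fi (autFun γ x) = x
    rw [hγe hx, ← hfe hx]
    exact hfil x (Subgroup.mem_sup_left hx)
  set Z := R ⊓ C with hZ
  set W := Z ⊔ Subgroup.zpowers y with hW
  have hWC : W ≤ C := sup_le inf_le_right ((Subgroup.zpowers_le).mpr hy)
  have hWle : W ≤ R ⊔ Subgroup.zpowers y := sup_le_sup_right inf_le_left _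
  have hyW : y ∈ W := Subgroup.mem_sup_right (Subgroup.mem_zpowers y)
  -- `z₁ = α⁻¹ z`
  obtain ⟨z₁, hz₁, hz₁e⟩ := hαiso.exists_preimage hzR
  have hηy : η y = y * z₁ := by
    show fi (autFun γ y) = y * z₁
    have hyM : y ∈ R ⊔ Subgroup.zpowers y := Subgroup.mem_sup_right (Subgroup.mem_zpowers y)
    have h1 : f (y * z₁) = autFun γ y := by
      rw [hf.map_mul hyM (Subgroup.mem_sup_left hz₁), hfy, hfe hz₁, hz₁e, hz]
      group
    rw [← h1]
    exact hfil _ (Subgroup.mul_mem _ hyM (Subgroup.mem_sup_left hz₁))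
  have hγC : ∀ c ∈ C, autFun γ c ∈ C := fun c hc' =>
    map_mem_centralizer hγiso.1 le_sup_left ((Set.image_congr hγe).trans hαiso.2)
      (Subgroup.mem_sup_right hc') hc'.2
  have hz₁C : z₁ ∈ C := by
    have h1 : η y ∈ C := by
      have hM' : η '' (R : Set Ω) = (R : Set Ω) := (Set.image_congr hηR).trans (Set.image_id' _)
      exact map_mem_centralizer hηM le_sup_left hM' (Subgroup.mem_sup_right (Subgroup.mem_zpowers y)) hy.2
    rw [hηy] at h1
    simpa using C.mul_mem (C.inv_mem hy) h1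
  -- in the centralizer system
  set E₃ := centralizerSystem F R hRS with hE₃
  have hE₃s : E₃.IsSaturated p := centralizerSystem_isSaturated h.pgroup h.sat (h.centralized hR)
  have hE₃iff : ∀ {P : Subgroup Ω} {g : Ω → Ω}, IsMap E₃ P g ↔ IsMap F P g ∧ P ≤ C ∧
      (∀ x ∈ P, g x ∈ C) ∧ ExtendsFix F R P g :=
    fun {P g} => IsCentralizerSystem.isMap_iff (isCentralizerSystem_centralizerSystem R hRS)
  have hCp : IsPGroup p C := h.pgroup.to_le (centralizerIn_le _ _)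
  haveI := finite_of_le (centralizerIn_le S R)
  obtain ⟨W', hW', hW'n⟩ := exists_fullyNormalized (F := E₃) hWC
  obtain ⟨θ, hθ⟩ := isConj_iff.mp hW'
  obtain ⟨-, -, hθC, θ', hθ', hθ'e, hθ'R⟩ := hE₃iff.mp hθ.1
  have hθZ : ∀ x ∈ Z, θ x = x := fun x hx => by
    rw [← hθ'e (Subgroup.mem_sup_left hx : x ∈ W)]
    exact hθ'R x hx.1
  have hηW : IsMap E₃ W η := by
    refine hE₃iff.mpr ⟨hηM.mono hWle, hWC, fun x hx => ?_, η, hηM.mono ?_, fun _ _ => rfl, hηR⟩
    · exact map_mem_centralizer hηM le_sup_left ((Set.image_congr hηR).trans (Set.image_id' _))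
        (hWle hx) (hWC hx).2
    · exact sup_le hWle le_sup_left
  have hηWiso : IsIso E₃ W W η := by
    refine isIso_of_mapsTo hηW hWC (isMap_mem_sup hηW le_sup_left le_sup_right
      (fun x hx => Subgroup.mem_sup_left ((hηR x hx.1).symm ▸ hx)) fun x hx => ?_) le_rfl
    obtain ⟨k, rfl⟩ := Subgroup.mem_zpowers_iff.mp hx
    obtain ⟨φ, -, hφ⟩ := id hηW
    rw [← hφ ⟨y ^ k, Subgroup.zpow_mem _ hyW k⟩,
      show (⟨y ^ k, Subgroup.zpow_mem _ hyW k⟩ : W) = ⟨y, hyW⟩ ^ k from rfl, map_zpow, hφ, hηy]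
    exact Subgroup.zpow_mem _ (Subgroup.mul_mem _ hyW (Subgroup.mem_sup_left ⟨hz₁, hz₁C⟩)) k
  obtain ⟨η₁, hη₁, hη₁e⟩ := hηWiso.exists_aut
  haveI := finite_of_le hW'n.1
  haveI := finite_mulAut W'
  set A₃ := E₃.autGroup W' with hA₃
  set η₂ := MulAut.congr hθ.equiv η₁ with hη₂
  have hη₂A : η₂ ∈ A₃ := by
    rw [hA₃, ← autGroup_map_congr hθ]; exact ⟨η₁, hη₁, rfl⟩
  have hA₃Z : ∀ b ∈ A₃, ∀ x : W', (x : Ω) ∈ Z → b x = x := fun b hb x hx => Subtype.ext (by
    obtain ⟨-, -, -, b', -, hb'e, hb'R⟩ := hE₃iff.mp ((mem_autGroup hW'n.1).mp hb).1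
    rw [← autFun_coe b, ← hb'e x.2]
    exact hb'R x hx.1)
  haveI : (Subgroup.comap A₃.subtype (fixMod W' Z)).Normal :=
    fixMod_normal A₃ fun b hb x hx => by rw [hA₃Z b hb x hx]; exact hx
  have hzero : η₂ ∈ fixMod W' Z := by
    refine ⟨hA₃Z _ hη₂A, fun x => ?_⟩
    have hle : W ≤ (Subgroup.map W.subtype
        ({ carrier := {w : W | ((w⁻¹ * η₁ w : W) : Ω) ∈ Z}
           one_mem' := by simp
           mul_mem' := fun {u v} hu hv => by
             show (((u * v)⁻¹ * η₁ (u * v) : W) : Ω) ∈ Z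
             rw [show (u * v)⁻¹ * η₁ (u * v) = v⁻¹ * (u⁻¹ * η₁ u) * v * (v⁻¹ * η₁ v) by
               rw [map_mul]; group, Subgroup.coe_mul]
             refine Z.mul_mem ?_ hv
             have h3 := hCcom (hWC v.2) (hu : ((u⁻¹ * η₁ u : W) : Ω) ∈ Z).1
             simp only [Subgroup.coe_mul, Subgroup.coe_inv] at h3 ⊢
             rw [mul_assoc (v : Ω)⁻¹, ← h3, inv_mul_cancel_left]
             exact hu
           inv_mem' := fun {u} hu => by
             show (((u⁻¹)⁻¹ * η₁ u⁻¹ : W) : Ω) ∈ Z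
             rw [show u⁻¹⁻¹ * η₁ u⁻¹ = u * (u⁻¹ * η₁ u)⁻¹ * u⁻¹ by rw [map_inv]; group]
             have h3 := hCcom (hWC u.2) (Z.inv_mem (hu : ((u⁻¹ * η₁ u : W) : Ω) ∈ Z)).1
             simp only [Subgroup.coe_mul, Subgroup.coe_inv] at h3 ⊢
             rw [h3, mul_inv_cancel_right]
             exact Z.inv_mem hu } : Subgroup W)) := by
      refine sup_le (fun w hw => ⟨⟨w, Subgroup.mem_sup_left hw⟩, ?_, rfl⟩)
        ((Subgroup.zpowers_le).mpr ⟨⟨y, hyW⟩, ?_, rfl⟩)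
      · show w⁻¹ * ((η₁ ⟨w, Subgroup.mem_sup_left hw⟩ : W) : Ω) ∈ Z
        rw [← autFun_of_mem η₁ (Subgroup.mem_sup_left hw : w ∈ W),
          hη₁e (Subgroup.mem_sup_left hw : w ∈ W), hηR w hw.1]
        simp
      · show y⁻¹ * ((η₁ ⟨y, hyW⟩ : W) : Ω) ∈ Z
        rw [← autFun_of_mem η₁ hyW, hη₁e hyW, hηy, inv_mul_cancel_left]
        exact ⟨hz₁, hz₁C⟩
    obtain ⟨w, hw, rfl⟩ := hθ.exists_preimage x.2 |> fun ⟨w, hw, he⟩ =>
      (⟨⟨w, hw⟩, trivial, Subtype.ext he⟩ :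
        ∃ w : W, True ∧ (⟨θ w, hθ.mem w.2⟩ : W') = x)
    obtain ⟨w', hw', hw'e⟩ := hle w.2
    have h1 : ((w⁻¹ * η₁ w : W) : Ω) ∈ Z := Subtype.ext hw'e ▸ hw'
    have he : (⟨θ w, hθ.mem w.2⟩ : W') = hθ.equiv w := Subtype.ext (hθ.equiv_apply w).symm
    rw [he, Subgroup.coe_mul, Subgroup.coe_inv, congr_apply_equiv hθ, hθ.equiv_apply,
      ← hθ.1.map_inv w.2, ← hθ.1.map_mul (Subgroup.inv_mem _ w.2) (η₁ w).2]
    rw [show θ ((w : Ω)⁻¹ * (η₁ w : Ω)) = ((w⁻¹ * η₁ w : W) : Ω) from hθZ _ h1]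
    exact h1
  obtain ⟨U, hU⟩ := (fullyAutomized_of_fullyNormalized hCp hE₃s hW'n).2
  have hmemU : (⟨η₂, hη₂A⟩ : A₃) ∈ (U : Subgroup A₃) :=
    IsPGroup.le_sylow_of_normal
      ((fixMod_isPGroup (hCp.to_le hW'n.1)).comap_of_injective _ (Subgroup.subtype_injective _)) U
      (Subgroup.mem_subgroupOf.mpr hzero)
  rw [hU, Subgroup.mem_subgroupOf, mem_autInducedBy] at hmemU
  obtain ⟨c, hcC, hce⟩ := hmemU
  have hyC' : θ y ∈ C := hθC y hyW
  have hcomm : (θ y)⁻¹ * (c * θ y * c⁻¹) = z₁ := by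
    have h1 := hce (hθ.equiv ⟨y, hyW⟩)
    rw [congr_apply_equiv hθ, hθ.equiv_apply, ← autFun_of_mem η₁ hyW, hη₁e hyW, hηy,
      hθ.1.map_mul hyW (Subgroup.mem_sup_left ⟨hz₁, hz₁C⟩), hθZ z₁ ⟨hz₁, hz₁C⟩] at h1
    rw [← h1, inv_mul_cancel_left]
  -- the lift fixes commutators of `C`
  have hγz : autFun γ z₁ = z₁ := by
    obtain ⟨a, ha, hae⟩ : ∃ a ∈ Z, autFun γ (θ y) = θ y * a :=
      ⟨(θ y)⁻¹ * autFun γ (θ y), ⟨hγc _ hyC', C.mul_mem (C.inv_mem hyC') (hγC _ hyC')⟩, by group⟩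
    obtain ⟨b, hb, hbe⟩ : ∃ b ∈ Z, autFun γ c = c * b :=
      ⟨c⁻¹ * autFun γ c, ⟨hγc _ hcC, C.mul_mem (C.inv_mem hcC) (hγC _ hcC)⟩, by group⟩
    have hm1 : c ∈ D := Subgroup.mem_sup_right hcC
    have hm2 : θ y ∈ D := Subgroup.mem_sup_right hyC'
    have e1 : a * b = b * a := hCcom ha.2 hb.1
    have e2 : c * a = a * c := hCcom hcC ha.1
    have e3 : θ y * b = b * θ y := hCcom hyC' hb.1
    rw [← hcomm, hγiso.1.map_mul (D.inv_mem hm2) (D.mul_mem (D.mul_mem hm1 hm2) (D.inv_mem hm1)),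
      hγiso.1.map_inv hm2, hγiso.1.map_mul (D.mul_mem hm1 hm2) (D.inv_mem hm1),
      hγiso.1.map_mul hm1 hm2, hγiso.1.map_inv hm1, hae, hbe]
    calc (θ y * a)⁻¹ * (c * b * (θ y * a) * (c * b)⁻¹)
        = a⁻¹ * (θ y)⁻¹ * c * ((b * θ y) * a * b⁻¹) * c⁻¹ := by group
      _ = a⁻¹ * (θ y)⁻¹ * c * (θ y * (b * a) * b⁻¹) * c⁻¹ := by rw [← e3]; group
      _ = a⁻¹ * (θ y)⁻¹ * c * θ y * a * c⁻¹ := by rw [← e1]; group
      _ = a⁻¹ * ((θ y)⁻¹ * (c * θ y * c⁻¹)) * (c * a * c⁻¹) := by group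
      _ = a⁻¹ * z₁ * a := by rw [hcomm, e2]; group
      _ = z₁ := by rw [mul_assoc, ← hCcom ha.2 hz₁, inv_mul_cancel_left]
      _ = (θ y)⁻¹ * (c * θ y * c⁻¹) := hcomm.symm
  have hzz : z₁ = z := by rw [← hz₁e, ← hγe hz₁, hγz]
  rw [hzz] at hγz hz₁C
  have hγy : autFun γ y = y * z := by rw [hz]; group
  have hit : ∀ n : ℕ, autFun (γ ^ n) y = y * z ^ n := by
    intro n
    have hyD : y ∈ D := Subgroup.mem_sup_right hy
    have hzD : z ∈ D := Subgroup.mem_sup_left hzR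
    induction n with
    | zero => rw [pow_zero, autFun_one hyD]; simp
    | succ n ihn =>
      rw [pow_succ', autFun_mul _ _ hyD, Function.comp_apply, ihn,
        hγiso.1.map_mul hyD (D.pow_mem hzD n), hγiso.1.map_pow hzD, hγy, hγz, mul_assoc, ← pow_succ']
  have h1 := hit (orderOf γ)
  rw [pow_orderOf_eq_one, autFun_one (Subgroup.mem_sup_right hy : y ∈ D), id_eq] at h1
  have h2 : z ^ orderOf γ = 1 := by simpa using h1.symm
  obtain ⟨k, hk⟩ := h.pgroup ⟨z, hRS hzR⟩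
  have h3 : z = 1 := orderOf_eq_one_iff.mp (Nat.eq_one_of_dvd_coprimes (hm.pow_right k)
    (orderOf_dvd_of_pow_eq_one h2) (orderOf_dvd_of_pow_eq_one (congrArg Subtype.val hk)))
  rw [hγy, h3, mul_one]

end Cfsg.Agent.Fusion.NormalLift
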