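import Cfsg.Agent.Lib.Fusion.Alperin
import Cfsg.Agent.Lib.Fusion.Saturation

/-!
# Maps generated by the elements of `p`-power order of the automizers of centric subgroups
-/

set_option autoImplicit false

namespace Cfsg.Agent.Fusion.PrimeToP

open Cfsg
open Cfsg.FusionSystem (normalizerIn centralizerIn)

variable {Ω : Type*} [Group Ω] {S : Subgroup Ω} {F : FusionSystem S} {p : ℕ}

/-- The maps of the smallest subsystem containing all `p`-power order automorphisms of centric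
subgroups. -/
inductive Gen (F : FusionSystem S) (p : ℕ) : Subgroup Ω → (Ω → Ω) → Prop
  | conj {P : Subgroup Ω} {s : Ω} : P ≤ S → s ∈ S → Gen F p P (fun x => s * x * s⁻¹)
  | aut {P Q : Subgroup Ω} {a : MulAut Q} : F.IsCentric Q → a ∈ F.autGroup Q →
      (∃ k, a ^ p ^ k = 1) → P ≤ Q → Gen F p P (autFun a)
  | comp {P Q : Subgroup Ω} {f g : Ω → Ω} : Gen F p P f → Gen F p Q g → (∀ x ∈ P, f x ∈ Q) →
      Gen F p P (g ∘ f)
  | inv {P Q : Subgroup Ω} {f g : Ω → Ω} : Gen F p P f → f '' (P : Set Ω) = (Q : Set Ω) →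
      (∀ x ∈ P, g (f x) = x) → Gen F p Q g
  | congr {P : Subgroup Ω} {f g : Ω → Ω} : Gen F p P f → Set.EqOn f g P → Gen F p P g

theorem Gen.isMap_of {E : FusionSystem S}
    (h : ∀ (Q : Subgroup Ω), F.IsCentric Q → ∀ a ∈ F.autGroup Q, (∃ k, a ^ p ^ k = 1) →
      a ∈ E.autGroup Q)
    {P : Subgroup Ω} {f : Ω → Ω} (hg : Gen F p P f) : IsMap E P f := by
  induction hg with
  | conj hP hs => exact isMap_conj hP hs
  | aut hc ha hk hle => exact ((mem_autGroup hc.1).mp (h _ hc _ ha hk)).1.mono hle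
  | comp _ _ hm hf hg => exact hf.comp hg hm
  | @inv P Q f g _ him hinv hf =>
    have hiso : IsIso E P Q f := ⟨hf, him⟩
    obtain ⟨g', hg', hl, -⟩ := hiso.exists_inv
    refine hg'.1.congr fun y hy => ?_
    obtain ⟨x, hx, rfl⟩ := hiso.exists_preimage hy
    rw [hl x hx, hinv x hx]
  | congr _ he hf => exact hf.congr he

theorem Gen.isMap {P : Subgroup Ω} {f : Ω → Ω} (hg : Gen F p P f) : IsMap F P f :=
  hg.isMap_of fun _ _ _ ha _ => ha

theorem gen_id {P : Subgroup Ω} (hP : P ≤ S) : Gen F p P id :=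
  (Gen.conj hP S.one_mem).congr fun x _ => by simp

theorem Gen.mono {P P' : Subgroup Ω} {f : Ω → Ω} (hg : Gen F p P f) (h : P' ≤ P) :
    Gen F p P' f :=
  ((gen_id (h.trans hg.isMap.dom_le)).comp hg fun _ hx => h hx).congr fun _ _ => rfl

theorem isCentric_of_isConj {P Q : Subgroup Ω} (h : F.IsCentric P) (hc : F.IsConj P Q) :
    F.IsCentric Q :=
  ⟨isConj_le_right hc, fun Q' hQ' => h.2 Q' (isConj_trans hc hQ')⟩

/-- `Gen` is invariant under automorphisms of `S`. -/
theorem Gen.transport {α αi : Ω → Ω} (hα : IsIso F S S α) (hl : ∀ x ∈ S, αi (α x) = x)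
    {P : Subgroup Ω} {f : Ω → Ω} (hg : Gen F p P f) :
    ∀ P' : Subgroup Ω, (P' : Set Ω) = α '' (P : Set Ω) → Gen F p P' (α ∘ f ∘ αi) := by
  have hback : ∀ {P P' : Subgroup Ω}, P ≤ S → (P' : Set Ω) = α '' (P : Set Ω) → ∀ y ∈ P',
      ∃ x ∈ P, α x = y ∧ αi y = x := by
    intro P P' hP hP' y hy
    have : y ∈ α '' (P : Set Ω) := hP' ▸ hy
    obtain ⟨x, hx, rfl⟩ := this
    exact ⟨x, hx, rfl, hl x (hP hx)⟩
  have hle : ∀ {P P' : Subgroup Ω}, P ≤ S → (P' : Set Ω) = α '' (P : Set Ω) → P' ≤ S := by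
    intro P P' hP hP' y hy
    obtain ⟨x, hx, rfl, -⟩ := hback hP hP' y hy
    exact hα.mem (hP hx)
  induction hg with
  | @conj P s hP hs =>
    intro P' hP'
    refine (Gen.conj (s := α s) (hle hP hP') (hα.mem hs)).congr fun y hy => ?_
    obtain ⟨x, hx, rfl, hxi⟩ := hback hP hP' y hy
    simp only [Function.comp_apply, hxi]
    exact (hα.1.map_conj hs (hP hx)).symm
  | @aut P Q a hc ha hk hPQ =>
    intro P' hP'
    obtain ⟨Q', hQ'⟩ := (hα.1.mono hc.1).exists_image
    obtain ⟨k, hk⟩ := hk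
    have hsub : P' ≤ Q' := fun y hy => by
      obtain ⟨x, hx, rfl, -⟩ := hback (hPQ.trans hc.1) hP' y hy
      exact hQ'.mem (hPQ hx)
    refine (Gen.aut (a := MulAut.congr hQ'.equiv a) (isCentric_of_isConj hc hQ'.isConj)
      (by rw [← autGroup_map_congr hQ']; exact ⟨a, ha, rfl⟩)
      ⟨k, by rw [← map_pow, hk, map_one]⟩ hsub).congr fun y hy => ?_
    obtain ⟨x, hx, rfl, hxi⟩ := hback (hPQ.trans hc.1) hP' y hy
    simp only [Function.comp_apply, hxi]
    have h1 := congr_apply_equiv hQ' a ⟨x, hPQ hx⟩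
    rw [autFun_of_mem a (hPQ hx), ← h1, autFun_of_mem _ (hsub hy)]
    congr 2
  | @comp P Q f g hf hg hm ihf ihg =>
    intro P' hP'
    obtain ⟨Q', hQ'⟩ := (hα.1.mono hg.isMap.dom_le).exists_image
    refine ((ihf P' hP').comp (ihg Q' hQ'.2.symm) fun y hy => ?_).congr fun y hy => ?_
    · obtain ⟨x, hx, rfl, hxi⟩ := hback hf.isMap.dom_le hP' y hy
      simp only [Function.comp_apply, hxi]
      exact hQ'.mem (hm x hx)
    · obtain ⟨x, hx, rfl, hxi⟩ := hback hf.isMap.dom_le hP' y hy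
      simp only [Function.comp_apply, hxi, hl _ (hg.isMap.dom_le (hm x hx))]
  | @inv P Q f g hf him hinv ihf =>
    intro Q' hQ'
    have hiso : IsIso F P Q f := ⟨hf.isMap, him⟩
    obtain ⟨P', hP'⟩ := (hα.1.mono hf.isMap.dom_le).exists_image
    refine Gen.inv (ihf P' hP'.2.symm) ?_ fun y hy => ?_
    · rw [hQ', ← hiso.2, ← hP'.2, Set.image_image, Set.image_image]
      exact Set.image_congr fun x hx => by
        simp only [Function.comp_apply, hl _ (hf.isMap.dom_le hx)]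
    · obtain ⟨x, hx, rfl, hxi⟩ := hback hf.isMap.dom_le hP'.2.symm y hy
      simp only [Function.comp_apply, hxi, hl _ (hf.isMap.apply_mem hx), hinv x hx]
  | @congr P f g hf he ih =>
    intro P' hP'
    refine (ih P' hP').congr fun y hy => ?_
    obtain ⟨x, hx, rfl, hxi⟩ := hback hf.isMap.dom_le hP' y hy
    simp only [Function.comp_apply, hxi, he hx]

/-- `f` is an automorphism of `S` after a generated map. -/
def Factors (F : FusionSystem S) (p : ℕ) (P : Subgroup Ω) (f : Ω → Ω) : Prop :=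
  ∃ α g, IsIso F S S α ∧ Gen F p P g ∧ Set.EqOn f (α ∘ g) P

theorem Gen.factors {P : Subgroup Ω} {f : Ω → Ω} (h : Gen F p P f) : Factors F p P f :=
  ⟨id, f, isIso_id le_rfl, h, fun _ _ => rfl⟩

theorem Factors.congr {P : Subgroup Ω} {f f' : Ω → Ω} (h : Factors F p P f) (he : Set.EqOn f f' P) :
    Factors F p P f' :=
  let ⟨α, g, hα, hg, hf⟩ := h
  ⟨α, g, hα, hg, he.symm.trans hf⟩

theorem Factors.mono {P P' : Subgroup Ω} {f : Ω → Ω} (h : Factors F p P f) (hle : P' ≤ P) :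
    Factors F p P' f :=
  let ⟨α, g, hα, hg, hf⟩ := h
  ⟨α, g, hα, hg.mono hle, hf.mono hle⟩

theorem Factors.comp {P Q : Subgroup Ω} {f f' : Ω → Ω} (h : Factors F p P f) (h' : Factors F p Q f')
    (hm : ∀ x ∈ P, f x ∈ Q) : Factors F p P (f' ∘ f) := by
  obtain ⟨α, g, hα, hg, hf⟩ := h
  obtain ⟨α', g', hα', hg', hf'⟩ := h'
  obtain ⟨αi, hαi, hl, hr⟩ := hα.exists_inv
  obtain ⟨R, hR⟩ := (hαi.1.mono hg'.isMap.dom_le).exists_image
  have h1 : Gen F p R (αi ∘ g' ∘ α) := hg'.transport hαi hr R hR.2.symm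
  refine ⟨α' ∘ α, (αi ∘ g' ∘ α) ∘ g, hα.comp hα', hg.comp h1 fun x hx => ?_, fun x hx => ?_⟩
  · have : αi (f x) = g x := by rw [hf hx, Function.comp_apply, hl _ (hg.isMap.apply_mem hx)]
    exact this ▸ hR.mem (hm x hx)
  · have hx' := hm x hx
    simp only [Function.comp_apply]
    rw [hf' hx', Function.comp_apply, hf hx, Function.comp_apply]
    rw [hr]
    refine hg'.isMap.apply_mem ?_
    rwa [hf hx, Function.comp_apply] at hx'

theorem Factors.inv {P Q : Subgroup Ω} {f fi : Ω → Ω} (h : Factors F p P f) (hf : IsIso F P Q f)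
    (hl : ∀ x ∈ P, fi (f x) = x) : Factors F p Q fi := by
  obtain ⟨α, g, hα, hg, he⟩ := h
  obtain ⟨αi, hαi, hαl, hαr⟩ := hα.exists_inv
  obtain ⟨R, hR⟩ := hg.isMap.exists_image
  obtain ⟨gi, hgi, hgl, -⟩ := hR.exists_inv
  have hgen : Gen F p R gi := Gen.inv hg hR.2 hgl
  have hQ : (Q : Set Ω) = α '' (R : Set Ω) := by
    rw [← hf.2, ← hR.2, Set.image_image]
    exact Set.image_congr he
  refine ⟨αi, α ∘ gi ∘ αi, hαi, hgen.transport hα hαl Q hQ, fun y hy => ?_⟩
  obtain ⟨x, hx, rfl⟩ := hf.exists_preimage hy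
  simp only [Function.comp_apply]
  rw [hl x hx, he hx, Function.comp_apply, hαl _ (hg.isMap.apply_mem hx), hgl x hx,
    hαl _ (hg.isMap.dom_le hx)]

variable [Finite S] [Fact p.Prime]

theorem factors_all (hS : IsPGroup p S) (hF : F.IsSaturated p) {P : Subgroup Ω} {f : Ω → Ω}
    (hf : IsMap F P f) : Factors F p P f := by
  induction hn : Nat.card S - Nat.card P using Nat.strong_induction_on generalizing P f with
  | _ n ih =>
  have hPS := hf.dom_le
  by_cases hPeq : P = S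
  · subst hPeq
    exact ⟨f, id, ⟨hf, Set.Subset.antisymm (fun y ⟨x, hx, hy⟩ => hy ▸ hf.apply_mem hx)
      (fun y hy => surjOn_of_card_le le_rfl hf.injOn (fun x hx => hf.apply_mem hx) le_rfl y hy)⟩,
      gen_id le_rfl, fun _ _ => rfl⟩
  obtain ⟨Q, hQ⟩ := hf.exists_image
  obtain ⟨R, hPR, hRn⟩ := exists_fullyNormalized (F := F) hPS
  have hRa := fullyAutomized_of_fullyNormalized hS hF hRn
  have hRr := receptive_of_fullyNormalized hS hF hRn
  have hQR : F.IsConj Q R := isConj_trans (isConj_symm hQ.isConj) hPR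
  have hlt : ∀ {X Y : Subgroup Ω}, Nat.card X = Nat.card P → X < Y → Y ≤ S →
      Nat.card S - Nat.card Y < n := by
    intro X Y hX hXY hY
    haveI := finite_of_le hY
    have h1 : Nat.card X < Nat.card Y :=
      lt_of_le_of_ne (Subgroup.card_le_of_le hXY.le) fun he =>
        hXY.ne (Subgroup.eq_of_le_of_card_ge hXY.le he.ge)
    have h2 := Subgroup.card_le_of_le hY
    omega
  have hproper : ∀ {X : Subgroup Ω}, Nat.card X = Nat.card P → X ≤ S → X < S := by
    intro X hX hXS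
    refine lt_of_le_of_ne hXS fun he => hPeq ?_
    exact Subgroup.eq_of_le_of_card_ge hPS (by rw [← hX, he])
  have hbig : ∀ {X Y : Subgroup Ω} {θ : Ω → Ω}, Nat.card X = Nat.card P → X < Y →
      IsMap F Y θ → Factors F p X θ := fun hX hXY hθ =>
    (ih _ (hlt hX hXY hθ.dom_le) hθ rfl).mono hXY.le
  obtain ⟨θ, hθ, hθP, -⟩ := exists_normalizer_map hS hRa hRr hPR
  obtain ⟨θ', hθ', hθQ, -⟩ := exists_normalizer_map hS hRa hRr hQR
  have cθ : Factors F p P θ := hbig rfl (lt_normalizerIn hS (hproper rfl hPS)) hθ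
  have cθ' : Factors F p Q θ' :=
    hbig hQ.card_eq.symm (lt_normalizerIn hS (hproper hQ.card_eq.symm hQ.cod_le)) hθ'
  obtain ⟨θi, hθi, hθl, hθr⟩ := hθP.exists_inv
  obtain ⟨θ'i, hθ'i, hθ'l, hθ'r⟩ := hθQ.exists_inv
  have cθ'i : Factors F p R θ'i := cθ'.inv hθQ hθ'l
  have hβ : IsIso F R R (θ' ∘ f ∘ θi) := (hθi.comp hQ).comp hθQ
  obtain ⟨β, hβm, hβe⟩ := hβ.exists_aut
  suffices cβ : Factors F p R (autFun β) by
    refine ((cθ.comp cβ fun x hx => hθP.mem hx).comp cθ'i fun x hx => ?_).congr fun x hx => ?_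
    · rw [Function.comp_apply, hβe (hθP.mem hx)]
      exact hβ.mem (hθP.mem hx)
    · simp only [Function.comp_apply]
      rw [hβe (hθP.mem hx)]
      simp only [Function.comp_apply, hθl x hx]
      exact hθ'l _ (hQ.mem hx)
  have hRcard : Nat.card R = Nat.card P := (isConj_card hPR).symm
  by_cases hRc : F.IsCentric R
  · haveI := finite_of_le hRn.1
    haveI := finite_mulAut R
    set A := F.autGroup R with hA
    obtain ⟨U, hU⟩ := hRa.2
    set N₀ : Subgroup A := Subgroup.closure {γ : A | ∃ k, γ ^ p ^ k = 1} with hN₀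
    haveI : N₀.Normal := by
      refine Subgroup.normalizer_eq_top_iff.mp (eq_top_iff.mpr fun a _ => ?_)
      refine Subgroup.mem_normalizer_fintype fun γ hγ => ?_
      induction hγ using Subgroup.closure_induction with
      | mem γ hγ =>
        obtain ⟨k, hk⟩ := hγ
        exact Subgroup.subset_closure ⟨k, by rw [conj_pow, hk, mul_one, mul_inv_cancel]⟩
      | one => simp
      | mul x y _ _ hx hy =>
        show a * (x * y) * a⁻¹ ∈ N₀
        rw [show a * (x * y) * a⁻¹ = a * x * a⁻¹ * (a * y * a⁻¹) by group]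
        exact N₀.mul_mem hx hy
      | inv x _ hx =>
        show a * x⁻¹ * a⁻¹ ∈ N₀
        rw [show a * x⁻¹ * a⁻¹ = (a * x * a⁻¹)⁻¹ by group]
        exact N₀.inv_mem hx
    have hUN : (U : Subgroup A) ≤ N₀ := fun γ hγ => by
      obtain ⟨k, hk⟩ := U.isPGroup' ⟨γ, hγ⟩
      exact Subgroup.subset_closure ⟨k, congrArg Subtype.val hk⟩
    have hfr := Sylow.normalizer_sup_eq_top (U.subtype hUN)
    rw [Sylow.coe_subtype, Subgroup.subgroupOf_map_subtype, inf_eq_left.mpr hUN] at hfr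
    obtain ⟨ν, hν, b, hb, hab⟩ := Subgroup.mem_sup_of_normal_right.mp
      (hfr ▸ Subgroup.mem_top (⟨β, hβm⟩ : A) :
        (⟨β, hβm⟩ : A) ∈ Subgroup.normalizer ((U : Subgroup A) : Set A) ⊔ N₀)
    have cb : Gen F p R (autFun (b : MulAut R)) := by
      clear hab
      induction hb using Subgroup.closure_induction with
      | mem γ hγ =>
        obtain ⟨k, hk⟩ := hγ
        exact Gen.aut hRc γ.2 ⟨k, congrArg Subtype.val hk⟩ le_rfl
      | one => exact (gen_id hRn.1).congr autFun_one.symm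
      | mul x y _ _ hx hy =>
        exact (hy.comp hx fun z hz => by rw [autFun_of_mem _ hz]; exact Subtype.mem _).congr
          (autFun_mul _ _).symm
      | inv x _ hx =>
        refine Gen.inv hx (autFun_image _) fun z hz => ?_
        rw [autFun_of_mem _ hz, autFun_coe]
        exact congrArg Subtype.val ((x : MulAut R).symm_apply_apply _)
    have cν : Factors F p R (autFun (ν : MulAut R)) := by
      have hiso := (mem_autGroup hRn.1).mp ν.2
      have hext : IsExtendable S R (autFun (ν : MulAut R)) (normalizerIn S R) := by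
        refine ⟨normalizerIn_le S R, fun s hs => ⟨hs.2, ?_⟩⟩
        set c : MulAut R := conjAutHom S R ⟨s, hs⟩ with hc
        have hcI : c ∈ autInducedBy S R := by rw [← range_conjAutHom]; exact ⟨_, rfl⟩
        have hcU : (⟨c, autInducedBy_le_autGroup hRn.1 hcI⟩ : A) ∈ (U : Subgroup A) := by
          rw [hU, Subgroup.mem_subgroupOf]; exact hcI
        have h1 := conj_mem_of_mem_normalizer hν hcU
        rw [hU, Subgroup.mem_subgroupOf, mem_autInducedBy] at h1
        obtain ⟨t, ht, he⟩ := h1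
        refine ⟨t, ht, fun x hx => ?_⟩
        have h2 := he ((ν : MulAut R) ⟨x, hx⟩)
        rw [autFun_of_mem _ (conj_mem_of_mem_normalizer hs.2 hx), autFun_of_mem _ hx]
        refine Eq.trans ?_ h2
        show _ = (((ν : MulAut R) (c ((ν : MulAut R).symm ((ν : MulAut R) ⟨x, hx⟩)))) : Ω)
        rw [MulEquiv.symm_apply_apply]
        rfl
      obtain ⟨k, hk, hke⟩ := receptive_extend hRr hiso hext
      rw [sup_eq_right.mpr (le_normalizerIn hRn.1)] at hk
      exact (hbig hRcard (lt_normalizerIn hS (hproper hRcard hRn.1)) hk).congr hke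
    refine (cb.factors.comp cν fun z hz => by rw [autFun_of_mem _ hz]; exact Subtype.mem _).congr ?_
    rw [show β = (ν : MulAut R) * (b : MulAut R) from (congrArg Subtype.val hab).symm]
    exact (autFun_mul _ _).symm
  · obtain ⟨Y, k, hRY, hk, hke⟩ := isExtendableAut_of_not_centric hS hF hRn hRc hβm
    exact (hbig hRcard hRY hk).congr hke

theorem gen_of_pElement (hS : IsPGroup p S) (hF : F.IsSaturated p) {P : Subgroup Ω} (hP : P ≤ S)
    {a : MulAut P} (ha : a ∈ F.autGroup P) (hp : ∃ k, a ^ p ^ k = 1) : Gen F p P (autFun a) := by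
  obtain ⟨R, hPR, hRn⟩ := exists_fullyNormalized (F := F) hP
  obtain ⟨θ, hθ⟩ := isConj_iff.mp hPR
  haveI := finite_of_le hRn.1
  haveI := finite_mulAut R
  set A := F.autGroup R with hA
  obtain ⟨U, hU⟩ := (fullyAutomized_of_fullyNormalized hS hF hRn).2
  obtain ⟨k, hk⟩ := hp
  set a' : A := hθ.autEquiv ⟨a, ha⟩ with ha'
  have hz : IsPGroup p (Subgroup.zpowers a') := by
    have hord : a' ^ p ^ k = 1 := by
      rw [ha', ← map_pow, show (⟨a, ha⟩ : F.autGroup P) ^ p ^ k = 1 from Subtype.ext hk, map_one]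
    obtain ⟨n, -, hn⟩ := (Nat.dvd_prime_pow (Fact.out : p.Prime)).mp (orderOf_dvd_of_pow_eq_one hord)
    exact IsPGroup.of_card (n := n) (by rw [Nat.card_zpowers, hn])
  obtain ⟨V, hV⟩ := hz.exists_le_sylow
  obtain ⟨χ, hχ⟩ := MulAction.exists_smul_eq A V U
  have hmem : χ * a' * χ⁻¹ ∈ (U : Subgroup A) := by
    rw [← hχ, Sylow.coe_subgroup_smul]
    exact ⟨a', hV (Subgroup.mem_zpowers a'), rfl⟩
  rw [hU, Subgroup.mem_subgroupOf, mem_autInducedBy] at hmem
  obtain ⟨s, hs, hse⟩ := hmem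
  have hψ : IsIso F P R (autFun (χ : MulAut R) ∘ θ) := hθ.comp ((mem_autGroup hRn.1).mp χ.2)
  obtain ⟨f, hf, hfl, hfr⟩ := hψ.exists_inv
  have hrel : ∀ x ∈ P, autFun (χ : MulAut R) (θ (autFun a x)) =
      s * (autFun (χ : MulAut R) (θ x)) * s⁻¹ := by
    intro x hx
    rw [autFun_of_mem (χ : MulAut R) (hθ.mem hx), ← hse, autFun_of_mem a hx]
    have e : θ (a ⟨x, hx⟩ : Ω) = ((a' : MulAut R) ⟨θ x, hθ.mem hx⟩ : Ω) :=
      (congr_apply_equiv hθ a ⟨x, hx⟩).symm
    rw [e, autFun_coe]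
    show _ = (((χ : MulAut R) ((a' : MulAut R) ((χ : MulAut R).symm ((χ : MulAut R) ⟨θ x, hθ.mem hx⟩)))) : Ω)
    rw [MulEquiv.symm_apply_apply]
  obtain ⟨α, g, hα, hg, he⟩ := factors_all hS hF hf.1
  obtain ⟨αi, hαi, hαl, hαr⟩ := hα.exists_inv
  obtain ⟨R', hR'⟩ := hg.isMap.exists_image
  obtain ⟨gi, hgi, hgl, -⟩ := hR'.exists_inv
  have hgen : Gen F p R' gi := Gen.inv hg hR'.2 hgl
  have hconj : ∀ x ∈ R, s * x * s⁻¹ ∈ R := fun x hx =>
    conj_mem_of_mem_normalizer (mem_normalizer_of_induces hse) hx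
  have hmid : Gen F p R' (g ∘ (fun x => s * x * s⁻¹) ∘ gi) :=
    (hgen.comp (Gen.conj hRn.1 hs) fun y hy => hgi.mem hy).comp hg fun y hy => hconj _ (hgi.mem hy)
  have hPset : (P : Set Ω) = α '' (R' : Set Ω) := by
    rw [← hf.2, ← hR'.2, Set.image_image]
    exact Set.image_congr he
  refine (hmid.transport hα hαl P hPset).congr fun x hx => ?_
  simp only [Function.comp_apply]
  set y := autFun (χ : MulAut R) (θ x) with hy
  have hyR : y ∈ R := hψ.mem hx
  have e1 : x = α (g y) := by rw [← Function.comp_apply (f := α), ← he hyR]; exact (hfl x hx).symm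
  have e2 : αi x = g y := by rw [e1, hαl _ (hg.isMap.apply_mem hyR)]
  rw [e2, hgl y hyR]
  have hax : autFun a x ∈ P := by rw [autFun_of_mem a hx]; exact (a _).2
  have h3 : f (s * y * s⁻¹) = autFun a x := by
    rw [hy, ← hrel x hx]; exact hfl _ hax
  rw [← h3, he (hconj _ hyR), Function.comp_apply]

end Cfsg.Agent.Fusion.PrimeToP
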