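import Cfsg.Agent.Lib.Fusion.CenterIndex
import Mathlib.FieldTheory.Finite.Basic

/-!
# Moving middle subgroups: the complement of the derived subgroup
-/

set_option autoImplicit false
set_option maxHeartbeats 400000

namespace Cfsg.Agent.Fusion.CenterIndex

open Cfsg
open Cfsg.Agent.Fusion
open Cfsg.FusionSystem (normalizerIn centralizerIn)
open scoped commutatorElement

variable {Ω : Type*} [Group Ω] {S : Subgroup Ω} {F : FusionSystem S} {p : ℕ} [hp : Fact p.Prime]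
  {c : Ω} [Finite S] {E : Subgroup Ω}

/-- A middle subgroup some of whose automorphisms moves the centre. -/
def IsMoving (p : ℕ) (F : FusionSystem S) (E : Subgroup Ω) : Prop :=
  IsMid p S E ∧ ∃ α ∈ F.autGroup E, ∃ z ∈ Zc S, autFun α z ∉ Zc S

/-- The part of the centre that all automorphisms of `E` keep in the centre. -/
def kept (F : FusionSystem S) (E : Subgroup Ω) : Set Ω :=
  {w | w ∈ Zc S ∧ ∀ γ ∈ F.autGroup E, autFun γ w ∈ Zc S}

/-- The output of the analysis of a moving subgroup. -/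
structure MovingData (p : ℕ) (F : FusionSystem S) (c : Ω) (E : Subgroup Ω) (k : Ω) : Prop where
  k_mem : k ∈ E
  k_not : k ∉ Zc S
  k_pow : k ^ p = 1
  decomp : ∀ z ∈ Zc S, ∃ w ∈ kept F E, ∃ n : ℕ, z = w * c ^ n
  disjoint : ∀ n : ℕ, c ^ n ∈ kept F E → c ^ n = 1
  factor : ∀ γ ∈ F.autGroup E, ∃ τ ∈ F.autGroup E, (∀ w ∈ kept F E, autFun τ w = w) ∧
    (∀ z ∈ Zc S, autFun (τ⁻¹ * γ) z ∈ Zc S) ∧ (autFun τ c = c ∨ ∃ i : ℕ, autFun τ c = c ^ i * k)
  image_c : ∃ α ∈ F.autGroup E, autFun α c = k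
  double : p ≠ 2 → ∃ δ ∈ F.autGroup E, (∀ w ∈ kept F E, autFun δ w = w) ∧ autFun δ c = c ^ 2

theorem moving_data (hc : Ctx p S c) (hF : F.IsSaturated p) (h : IsMoving p F E) :
    ∃ k, MovingData p F c E k := by
  obtain ⟨hE, α, hα, z₁, hz₁, hαz₁⟩ := h
  obtain ⟨b, hb, hbE⟩ := hE.exists_outside hc
  have hcE : c ∈ E := hE.zc_le hc.c_mem
  set k := autFun α c with hk
  set a := autFun α⁻¹ c with ha
  have hkE : k ∈ E := ap_mem α hcE
  have haE : a ∈ E := ap_mem α⁻¹ hcE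
  have hkZ : k ∉ Zc S := fun h => hαz₁ (maps_zc hc hE hF hα h hz₁)
  have haZ : a ∉ Zc S := fun h => hαz₁ (maps_zc_of_img hc hE hF hα h hz₁)
  have hαa : autFun α a = c := ap_inv_right α hcE
  have hu : ⁅b, k⁆ ≠ 1 := fun h =>
    hkZ (hE.mem_zc_of_commute hc hb hbE hkE (commutatorElement_eq_one_iff_commute.mp h).symm)
  have hv : ⁅b, a⁆ ≠ 1 := fun h =>
    haZ (hE.mem_zc_of_commute hc hb hbE haE (commutatorElement_eq_one_iff_commute.mp h).symm)
  set t := cj hc hE hb with ht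
  have htpow : ∀ (m : ℕ) (x : Ω), x ∈ E → autFun (t ^ m) x = ⁅b, x⁆ ^ m * x := fun m x hx => by
    rw [ht, cj_pow hc hE hb, cj_apply hc hE _ hx, ← hc.comm_pow_left hb (hE.le hx)]
    simp [commutatorElement_def]
  have htZ : ∀ (m : ℕ) (z : Ω), z ∈ Zc S → autFun (t ^ m) z = z := fun m z hz => by
    rw [htpow m z (hE.zc_le hz), commutatorElement_eq_one_iff_commute.mpr (zc_comm hz hb).symm, one_pow,
      one_mul]
  have htA : ∀ m : ℕ, t ^ m ∈ F.autGroup E := fun m => pow_mem (cj_mem hc hE hb) m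
  set t' : ℕ → MulAut E := fun m => α * t ^ m * α⁻¹ with ht'
  have ht'A : ∀ m, t' m ∈ F.autGroup E := fun m => mul_mem (mul_mem hα (htA m)) (inv_mem hα)
  have ht'app : ∀ (m : ℕ) (x : Ω), x ∈ E → autFun (t' m) x = autFun α (autFun (t ^ m) (autFun α⁻¹ x)) :=
    fun m x hx => by rw [ht', ap_mul _ _ hx, ap_mul _ _ (ap_mem α⁻¹ hx)]
  set W₀ : Set Ω := {w | w ∈ Zc S ∧ autFun α⁻¹ w ∈ Zc S} with hW₀
  have htW : ∀ m, ∀ w ∈ W₀, autFun (t ^ m) w = w := fun m w hw => htZ m w hw.1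
  have ht'W : ∀ m, ∀ w ∈ W₀, autFun (t' m) w = w := fun m w hw => by
    rw [ht'app m w (hE.zc_le hw.1), htZ m _ hw.2, ap_inv_right α (hE.zc_le hw.1)]
  have hmover : ∀ i : ℕ, ∃ τ ∈ F.autGroup E, (∀ w ∈ W₀, autFun τ w = w) ∧ autFun τ c = c ^ i * k := by
    intro i
    obtain ⟨m, hm⟩ := hc.gen_c (hc.comm_mem b hb a (hE.le haE)) hv (Subgroup.mem_zpowers c)
    obtain ⟨n, hn⟩ := hc.gen_c (hc.comm_mem b hb k (hE.le hkE)) hu
      (mul_mem (Subgroup.npow_mem_zpowers c i) (inv_mem (Subgroup.mem_zpowers c)))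
    refine ⟨t ^ n * t' m, mul_mem (htA n) (ht'A m), fun w hw => ?_, ?_⟩
    · rw [ap_mul _ _ (hE.zc_le hw.1), ht'W m w hw, htW n w hw]
    · rw [ap_mul _ _ hcE, ht'app m c hcE, htpow m _ haE, hm, ap_map_mul α hcE haE, hαa, ← hk,
        ap_map_mul _ hkE hcE, htZ n c hc.c_mem, htpow n k hkE, hn]
      rw [mul_assoc, (hE.commute hc hkE hcE).eq, ← mul_assoc, inv_mul_cancel_right]
  have hfact : ∀ γ ∈ F.autGroup E, ∃ τ ∈ F.autGroup E, (∀ w ∈ W₀, autFun τ w = w) ∧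
      (∀ z ∈ Zc S, autFun (τ⁻¹ * γ) z ∈ Zc S) ∧ (autFun τ c = c ∨ ∃ i : ℕ, autFun τ c = c ^ i * k) := by
    intro γ hγ
    by_cases hγc : autFun γ⁻¹ c ∈ Zc S
    · refine ⟨1, one_mem _, fun w hw => ap_one (hE.zc_le hw.1), fun z hz => ?_, Or.inl (ap_one hcE)⟩
      rw [inv_one, one_mul]
      exact maps_zc_of_img hc hE hF hγ hγc hz
    · obtain ⟨z, hz, n, hn⟩ := hE.decomp (ap_mem γ⁻¹ hcE) hγc (ap_mem γ⁻¹ hkE)
      obtain ⟨i, hi⟩ := exists_pow_of_zpowers hc.c_inS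
        (inv_mem (Subgroup.npow_mem_zpowers c n))
      obtain ⟨τ, hτ, hτW, hτc⟩ := hmover i
      refine ⟨τ, hτ, hτW, ?_, Or.inr ⟨i, hτc⟩⟩
      have h1 : autFun (γ⁻¹ * τ) c = z := by
        rw [ap_mul _ _ hcE, hτc, hi, ap_map_mul _ (E.inv_mem (E.pow_mem hcE n)) hkE,
          ap_map_inv _ (E.pow_mem hcE n), ap_map_pow _ hcE, hn, (zc_comm hz
            (hE.le (E.pow_mem (ap_mem γ⁻¹ hcE) n))).eq, inv_mul_cancel_left]
      have h2 : ∀ w ∈ Zc S, autFun (γ⁻¹ * τ) w ∈ Zc S := fun w hw =>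
        maps_zc hc hE hF (mul_mem (inv_mem hγ) hτ) (h1 ▸ hz) hw
      intro w hw
      have := ap_inv_mem (γ⁻¹ * τ) hE.zc_le hE.le h2 hw
      rwa [mul_inv_rev, inv_inv] at this
  have hkept : W₀ = kept F E := by
    refine Set.Subset.antisymm (fun w hw => ⟨hw.1, fun γ hγ => ?_⟩) fun w hw => ⟨hw.1, hw.2 _ (inv_mem hα)⟩
    obtain ⟨τ, hτ, hτW, hτZ, -⟩ := hfact γ⁻¹ (inv_mem hγ)
    have := ap_inv_mem (τ⁻¹ * γ⁻¹) hE.zc_le hE.le hτZ hw.1
    rwa [mul_inv_rev, inv_inv, inv_inv, ap_mul _ _ (hE.zc_le hw.1), hτW w hw] at this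
  refine ⟨k, hkE, hkZ, by rw [hk, ← ap_map_pow α hcE, hc.c_pow, ap_map_one], ?_, ?_, hkept ▸ hfact,
    ⟨α, hα, rfl⟩, ?_⟩
  · intro z hz
    obtain ⟨z₀, hz₀, n, hn⟩ := hE.decomp haE haZ (ap_mem α⁻¹ (hE.zc_le hz))
    have h1 : z = autFun α z₀ * c ^ n := by
      rw [← hαa, ← ap_map_pow α haE, ← ap_map_mul α (hE.zc_le hz₀) (E.pow_mem haE n), ← hn,
        ap_inv_right α (hE.zc_le hz)]
    refine ⟨autFun α z₀, hkept ▸ ⟨?_, ?_⟩, n, h1⟩
    · rw [eq_mul_inv_of_mul_eq h1.symm]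
      exact mul_mem hz (inv_mem (pow_mem hc.c_mem n))
    · rw [ap_inv_left α (hE.zc_le hz₀)]
      exact hz₀
  · intro n hn
    rw [← hkept] at hn
    by_contra hne
    obtain ⟨m, hm⟩ := hc.gen_c (Subgroup.npow_mem_zpowers c n) hne (Subgroup.mem_zpowers c)
    refine haZ ?_
    rw [ha, ← hm, ap_map_pow _ (E.pow_mem hcE n)]
    exact pow_mem hn.2 m
  · intro hp2
    obtain ⟨τ, hτ, hτW, hτc⟩ := hmover 2
    have hv2 : ⁅b, a⁆ ^ 2 ≠ 1 := by
      intro h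
      have h1 := orderOf_dvd_of_pow_eq_one h
      rw [hc.orderOf_eq (hc.comm_mem b hb a (hE.le haE)) hv] at h1
      exact hp2 ((Nat.prime_dvd_prime_iff_eq hp.out Nat.prime_two).mp h1)
    obtain ⟨m, hm⟩ := hc.gen_c (pow_mem (hc.comm_mem b hb a (hE.le haE)) 2) hv2
      (inv_mem (Subgroup.mem_zpowers c))
    refine ⟨t' m * τ, mul_mem (ht'A m) hτ, fun w hw => ?_, ?_⟩
    · rw [← hkept] at hw
      rw [ap_mul _ _ (hE.zc_le hw.1), hτW w hw, ht'W m w hw]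
    · have hak : autFun α⁻¹ (c ^ 2 * k) = a ^ 2 * c := by
        rw [ap_map_mul _ (E.pow_mem hcE 2) hkE, ap_map_pow _ hcE, hk, ap_inv_left α hcE]
      rw [ap_mul _ _ hcE, hτc, ht'app m _ (E.mul_mem (E.pow_mem hcE 2) hkE), hak,
        ap_map_mul _ (E.pow_mem haE 2) hcE, htZ m c hc.c_mem, ap_map_pow _ haE, htpow m a haE,
        Commute.mul_pow (zc_comm (pow_mem (hc.comm_zc hb (hE.le haE)) m) (hE.le haE)),
        ← pow_mul, mul_comm m 2, pow_mul, hm, (hE.commute hc (E.inv_mem hcE) (E.pow_mem haE 2)).eq,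
        inv_mul_cancel_right, ap_map_pow α haE, hαa]

/-! ### Maps of the whole group -/

section SMaps

variable {h : Ω → Ω} (hc : Ctx p S c)
include hc

omit hp [Finite S] hc in
theorem h_zc (hh : IsIso F S S h) {z : Ω} (hz : z ∈ Zc S) : h z ∈ Zc S := by
  refine mem_zc (hh.mem (zcS_le hz)) fun y hy => ?_
  obtain ⟨x, hx, rfl⟩ := hh.exists_preimage hy
  show h z * h x = h x * h z
  rw [← hh.1.map_mul (zcS_le hz) hx, (zc_comm hz hx).eq, hh.1.map_mul hx (zcS_le hz)]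

omit hp [Finite S] hc in
theorem h_zc_inv (hh : IsIso F S S h) {z : Ω} (hz : z ∈ S) (hz' : h z ∈ Zc S) : z ∈ Zc S := by
  refine mem_zc hz fun y hy => hh.1.injOn (S.mul_mem hz hy) (S.mul_mem hy hz) ?_
  rw [hh.1.map_mul hz hy, hh.1.map_mul hy hz]
  exact (zc_comm hz' (hh.mem hy)).eq

theorem h_c (hh : IsIso F S S h) : h c ∈ Subgroup.zpowers c := by
  obtain ⟨x, hx, y, hy, hxy⟩ := hc.exists_noncomm
  obtain ⟨m, hm⟩ := hc.gen_c (hc.comm_mem x hx y hy) hxy (Subgroup.mem_zpowers c)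
  have h1 : h ⁅x, y⁆ = ⁅h x, h y⁆ := by
    simp only [commutatorElement_def]
    rw [hh.1.map_mul (S.mul_mem (S.mul_mem hx hy) (S.inv_mem hx)) (S.inv_mem hy),
      hh.1.map_mul (S.mul_mem hx hy) (S.inv_mem hx), hh.1.map_mul hx hy, hh.1.map_inv hx, hh.1.map_inv hy]
  rw [show h c = h (⁅x, y⁆ ^ m) by rw [hm], hh.1.map_pow (zcS_le (hc.comm_zc hx hy)), h1]
  exact pow_mem (hc.comm_mem _ (hh.mem hx) _ (hh.mem hy)) m

theorem moving_image (hh : IsIso F S S h) (hE : IsMoving p F E) :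
    ∃ E', IsIso F E E' h ∧ IsMoving p F E' ∧ ∀ w ∈ kept F E, h w ∈ kept F E' := by
  obtain ⟨hM, α, hα, z, hz, hαz⟩ := hE
  obtain ⟨E', hE'⟩ := (hh.1.mono hM.le).exists_image
  have hmid : IsMid p S E' := by
    refine ⟨hE'.cod_le, fun y hy => ?_, hE'.card_eq ▸ hM.card_eq⟩
    obtain ⟨x, hx, rfl⟩ := hh.exists_preimage (zcS_le hy)
    exact hE'.mem (hM.zc_le (h_zc_inv hh hx hy))
  refine ⟨E', hE', ⟨hmid, MulAut.congr hE'.equiv α, ?_, h z, h_zc hh hz, fun hb => ?_⟩, fun w hw => ?_⟩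
  · rw [← autGroup_map_congr hE']
    exact Subgroup.mem_map_of_mem _ hα
  · rw [show autFun (MulAut.congr hE'.equiv α) (h z) = h (autFun α z) by
      rw [autFun_of_mem α (hM.zc_le hz), ← congr_apply_equiv hE' α ⟨z, hM.zc_le hz⟩,
        autFun_of_mem _ (hE'.mem (hM.zc_le hz))]
      rfl] at hb
    exact hαz (h_zc_inv hh (hM.le (ap_mem α (hM.zc_le hz))) hb)
  · refine ⟨h_zc hh hw.1, fun γ hγ => ?_⟩
    rw [← autGroup_map_congr hE'] at hγ
    obtain ⟨γ₀, hγ₀, rfl⟩ := hγ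
    rw [MulEquiv.coe_toMonoidHom, show autFun (MulAut.congr hE'.equiv γ₀) (h w) = h (autFun γ₀ w) by
      rw [autFun_of_mem γ₀ (hM.zc_le hw.1), ← congr_apply_equiv hE' γ₀ ⟨w, hM.zc_le hw.1⟩,
        autFun_of_mem _ (hE'.mem (hM.zc_le hw.1))]
      rfl]
    exact h_zc hh (hw.2 γ₀ hγ₀)

theorem fix_zc_of_unipotent (hF : F.IsSaturated p) (hh : IsIso F S S h) (hhc : h c = c)
    (hd : ∀ z ∈ Zc S, z⁻¹ * h z ∈ Subgroup.zpowers c) {z : Ω} (hz : z ∈ Zc S) : h z = z := by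
  haveI := finite_mulAut S
  obtain ⟨α, hα, he⟩ := hh.exists_aut
  set g : F.autGroup S := ⟨α, hα⟩
  have h1 : autFun ((g ^ p : F.autGroup S) : MulAut S) z = z := by
    rw [Subgroup.coe_pow]
    obtain ⟨n, hn⟩ := exists_pow_of_zpowers hc.c_inS (hd z hz)
    have h2 : autFun α c = c := (he hc.c_inS).trans hhc
    rw [ap_pow_of_diff (d := z⁻¹ * h z) (zcS_le hz) (zcS_le (hc.zpowers_le (hd z hz)))
      (by rw [← hn, ap_map_pow α hc.c_inS, h2]) (by rw [mul_inv_cancel_left]; exact he (zcS_le hz)),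
      ← hn, ← pow_mul, mul_comm, pow_mul, hc.c_pow, one_pow, mul_one]
  obtain ⟨k, m, hm, hkm⟩ := Nat.exists_eq_pow_mul_and_not_dvd (orderOf_pos g).ne' p hp.out.ne_one
  obtain ⟨R, hR⟩ := (fullyAutomized_of_fullyNormalized hc.pgroup hF (fullyNormalized_self (F := F))).2
  rw [autInducedBy_self_eq_inn] at hR
  haveI hRn : (R : Subgroup (F.autGroup S)).Normal := hR ▸ inn_subgroupOf_normal
  have hgm : g ^ m ∈ (Cfsg.Inn S).subgroupOf (F.autGroup S) := by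
    rw [← hR]
    have hpg : IsPGroup p (Subgroup.zpowers (g ^ m)) := IsPGroup.of_card (n := k) (by
      rw [Nat.card_zpowers, orderOf_pow' g (by rintro rfl; exact hm (dvd_zero p)),
        Nat.gcd_eq_right (Dvd.intro_left _ hkm.symm), hkm,
        Nat.mul_div_cancel _ (Nat.pos_of_ne_zero (by rintro rfl; exact hm (dvd_zero p)))])
    obtain ⟨Q, hQ⟩ := hpg.exists_le_sylow
    haveI := Sylow.unique_of_normal R hRn
    rw [Subsingleton.elim R Q]
    exact hQ (Subgroup.mem_zpowers _)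
  have h2 : autFun ((g ^ m : F.autGroup S) : MulAut S) z = z := by
    obtain ⟨s, hs, hsx⟩ := mem_inn.mp hgm
    rw [autFun_of_mem _ (zcS_le hz)]
    refine (hsx _).trans ?_
    show s * z * s⁻¹ = z
    rw [(zc_comm hz hs).symm.eq, mul_inv_cancel_right]
  let T : Subgroup (F.autGroup S) :=
    { carrier := {γ | autFun (γ : MulAut S) z = z}
      one_mem' := ap_one (zcS_le hz)
      mul_mem' := fun {a b} ha hb => by
        show autFun ((a * b : F.autGroup S) : MulAut S) z = z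
        rw [Subgroup.coe_mul, ap_mul _ _ (zcS_le hz)]
        exact (congrArg _ hb).trans ha
      inv_mem' := fun {a} ha => by
        show autFun ((a⁻¹ : F.autGroup S) : MulAut S) z = z
        rw [Subgroup.coe_inv]
        conv_lhs => rw [← (show autFun (a : MulAut S) z = z from ha)]
        exact ap_inv_left _ (zcS_le hz) }
  have hg : g ∈ T := by
    have hco : Nat.gcd p m = 1 := hp.out.coprime_iff_not_dvd.mpr hm
    have hb := Nat.gcd_eq_gcd_ab p m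
    rw [hco] at hb
    have : g = (g ^ p) ^ Nat.gcdA p m * (g ^ m) ^ Nat.gcdB p m := by
      rw [← zpow_natCast, ← zpow_natCast, ← zpow_mul, ← zpow_mul, ← zpow_add, ← hb]
      simp
    rw [this]
    exact mul_mem (zpow_mem (show g ^ p ∈ T from h1) _) (zpow_mem (show g ^ m ∈ T from h2) _)
  exact (he (zcS_le hz)).symm.trans hg

/-- For odd `p` there is only one kept subgroup. -/
theorem kept_le_kept (hF : F.IsSaturated p) (hp2 : p ≠ 2) {P₁ P₂ : Subgroup Ω}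
    {x₁ x₂ : Ω} (h₁ : IsMid p S P₁) (d₁ : MovingData p F c P₁ x₁) (h₂ : IsMid p S P₂)
    (d₂ : MovingData p F c P₂ x₂) {w : Ω} (hw : w ∈ kept F P₂) : w ∈ kept F P₁ := by
  have key : ∀ (P : Subgroup Ω) (x : Ω), IsMid p S P → MovingData p F c P x →
      ∃ f, IsIso F S S f ∧ f c = c ^ 2 ∧ (∀ v ∈ kept F P, f v = v) ∧ ∀ z ∈ Zc S, z⁻¹ * f z ∈ Subgroup.zpowers c := by
    intro P x hP d
    obtain ⟨δ, hδ, hδW, hδc⟩ := d.double hp2
    have hcP := hP.zc_le hc.c_mem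
    obtain ⟨f, hf, hfe⟩ := exists_extend hc hP hF hδ fun z hz =>
      maps_zc hc hP hF hδ (hδc ▸ pow_mem hc.c_mem 2) hz
    have hfc : f c = c ^ 2 := (hfe hcP).trans hδc
    have hfW : ∀ v ∈ kept F P, f v = v := fun v hv => (hfe (hP.zc_le hv.1)).trans (hδW v hv)
    refine ⟨f, hf, hfc, hfW, fun z hz => ?_⟩
    obtain ⟨v, hv, n, rfl⟩ := d.decomp z hz
    rw [hf.1.map_mul (zcS_le hv.1) (S.pow_mem hc.c_inS n), hfW v hv, hf.1.map_pow hc.c_inS, hfc,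
      mul_inv_rev, mul_assoc, inv_mul_cancel_left]
    exact mul_mem (inv_mem (Subgroup.npow_mem_zpowers c n))
      (pow_mem (Subgroup.npow_mem_zpowers c 2) n)
  obtain ⟨f₁, hf₁, hc₁, hW₁, hd₁⟩ := key P₁ x₁ h₁ d₁
  obtain ⟨f₂, hf₂, hc₂, hW₂, hd₂⟩ := key P₂ x₂ h₂ d₂
  have hit : ∀ n : ℕ, IsIso F S S f₁^[n] ∧ f₁^[n] c = c ^ 2 ^ n ∧
      ∀ z ∈ Zc S, z⁻¹ * f₁^[n] z ∈ Subgroup.zpowers c := by
    intro n
    induction n with
    | zero => exact ⟨isIso_id le_rfl, by simp, fun z _ => by simp⟩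
    | succ n ih =>
      obtain ⟨i1, i2, i3⟩ := ih
      rw [Function.iterate_succ']
      refine ⟨i1.comp hf₁, ?_, fun z hz => ?_⟩
      · rw [Function.comp_apply, i2, hf₁.1.map_pow hc.c_inS, hc₁, ← pow_mul, ← pow_succ']
      · have := mul_mem (i3 z hz) (hd₁ _ (h_zc i1 hz))
        simpa [mul_assoc] using this
  have hp1 : 1 ≤ p - 1 := by have := hp.out.two_le; omega
  have hfermat : c ^ 2 ^ (p - 1) = c := by
    haveI := Fact.mk hp.out
    have h2 : ((2 : ℕ) : ZMod p) ^ (p - 1) = 1 := ZMod.pow_card_sub_one_eq_one (by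
      rw [Ne, ZMod.natCast_eq_zero_iff]
      exact fun h => hp2 ((Nat.prime_dvd_prime_iff_eq hp.out Nat.prime_two).mp h))
    have h3 : 2 ^ (p - 1) % p = 1 := by
      have := congrArg ZMod.val h2
      rwa [← Nat.cast_pow, ZMod.val_natCast, ZMod.val_one] at this
    rw [← Nat.mod_add_div (2 ^ (p - 1)) p, h3, pow_add, pow_one, pow_mul, hc.c_pow, one_pow, mul_one]
  obtain ⟨m, hm⟩ : ∃ m, p - 1 = m + 1 := ⟨p - 2, by omega⟩
  rw [hm] at hfermat
  obtain ⟨i1, i2, i3⟩ := hit (m + 1)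
  obtain ⟨j1, j2, j3⟩ := hit m
  have e1 : f₁^[m + 1] w = w := fix_zc_of_unipotent hc hF i1 (i2.trans hfermat) i3 hw.1
  have e2 : f₁^[m] (f₂ w) = w := by
    refine fix_zc_of_unipotent hc hF (h := f₁^[m] ∘ f₂) (hf₂.comp j1) ?_ (fun z hz => ?_) hw.1
    · rw [Function.comp_apply, hc₂, j1.1.map_pow hc.c_inS, j2, ← pow_mul, ← pow_succ]
      exact hfermat
    · have := mul_mem (hd₂ z hz) (j3 _ (h_zc hf₂ hz))
      simpa [mul_assoc] using this
  have e3 : f₁ w = w := by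
    have : f₁^[m] (f₂ w) = f₁^[m] (f₁ w) := by rw [e2, ← Function.iterate_succ_apply, e1]
    rw [hW₂ w hw] at this
    exact (j1.1.injOn (zcS_le hw.1) (hf₁.mem (zcS_le hw.1)) this).symm
  obtain ⟨v, hv, n, rfl⟩ := d₁.decomp w hw.1
  rw [hf₁.1.map_mul (zcS_le hv.1) (S.pow_mem hc.c_inS n), hW₁ v hv, hf₁.1.map_pow hc.c_inS, hc₁,
    mul_right_inj, ← pow_mul, mul_comm, pow_mul, sq] at e3
  rw [mul_eq_left.mp e3, mul_one]
  exact hv

end SMaps

end Cfsg.Agent.Fusion.CenterIndex
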