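import Cfsg.Agent.Lib.Fusion.CenterIndexGood
import Cfsg.Agent.Lib.PGroup.Basic

/-!
# Saturated fusion systems over `p`-groups with centre of index `p²`: the kept subgroup is normal
-/

set_option autoImplicit false
set_option maxHeartbeats 400000

namespace Cfsg.Agent.Fusion.CenterIndex

open Cfsg
open Cfsg.Agent.Fusion
open Cfsg.FusionSystem (normalizerIn centralizerIn)
open scoped commutatorElement

variable {Ω : Type*} [Group Ω] {S : Subgroup Ω} {F : FusionSystem S} {p : ℕ} [hp : Fact p.Prime]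
  {c : Ω} [Finite S]

omit hp [Finite S] in
theorem zc_eq_map : Zc S = (Subgroup.center S).map S.subtype := by
  ext x
  constructor
  · intro hx
    refine ⟨⟨x, hx.1⟩, Subgroup.mem_center_iff.mpr fun y => Subtype.ext ?_, rfl⟩
    exact (zc_comm hx y.2).symm.eq
  · rintro ⟨z, hz, rfl⟩
    exact mem_zc z.2 fun y hy => (congrArg Subtype.val (Subgroup.mem_center_iff.mp hz ⟨y, hy⟩)).symm

omit hp [Finite S] in
theorem card_zc : Nat.card (Zc S) = Nat.card (Subgroup.center S) := by
  rw [zc_eq_map]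
  exact Subgroup.card_map_of_injective S.subtype_injective

theorem not_essential_top (hS : IsPGroup p S) (hF : F.IsSaturated p) : ¬ F.IsEssential p S := by
  rintro ⟨-, hn, hN, M, hM⟩
  haveI := finite_mulAut S
  haveI := hN
  obtain ⟨T, hT⟩ := exists_outSylow hS hF hn
  obtain ⟨x, hx⟩ := exists_prime_orderOf_dvd_card' p hM.1
  obtain ⟨Q, hQ⟩ := (IsPGroup.of_card (p := p) (n := 1)
    (by rw [Nat.card_zpowers, hx, pow_one] : Nat.card (Subgroup.zpowers x) = p ^ 1)).exists_le_sylow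
  have hbot : T.toSubgroup = ⊥ := by
    rw [eq_bot_iff]
    intro y hy
    obtain ⟨β, rfl⟩ := QuotientGroup.mk'_surjective _ y
    have hβ := (hT β).mp hy
    rw [autInducedBy_self_eq_inn] at hβ
    exact (QuotientGroup.eq_one_iff β).mpr hβ
  have h1 : Nat.card Q.toSubgroup = 1 := by
    rw [show Nat.card Q.toSubgroup = Nat.card T.toSubgroup from
      Q.card_eq_multiplicity.trans T.card_eq_multiplicity.symm, hbot, Subgroup.card_bot]
  have h2 := hQ (Subgroup.mem_zpowers x)
  rw [Subgroup.card_eq_one.mp h1, Subgroup.mem_bot] at h2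
  rw [h2, orderOf_one] at hx
  exact hp.out.ne_one hx.symm

/-- If all centric subgroups of `S` equal `S`, then `S` is normal. -/
theorem not_abelian (hS : IsPGroup p S) (hF : F.IsSaturated p) (hne : S ≠ ⊥) (hcore : F.core = ⊥) :
    ¬ Zc S = S := by
  intro hab
  have hn : F.IsNormal S := by
    refine isNormal_of_invariant hS hF fun P hP => ?_
    have hPS : P = S := by
      rcases hP with h | h
      · exact h
      · refine le_antisymm h.1.1 fun x hx => h.1.2 P (isConj_refl h.1.1) ⟨hx, ?_⟩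
        refine Subgroup.mem_centralizer_iff.mpr fun y hy => ?_
        exact (zc_comm (hab.symm ▸ hx : x ∈ Zc S) (h.1.1 hy)).symm.eq
    subst hPS
    exact ⟨le_rfl, fun α _ => autFun_image α⟩
  exact hne (le_bot_iff.mp (hcore ▸ le_sSup hn : S ≤ (⊥ : Subgroup Ω)))

theorem exists_ctx (hS : IsPGroup p S) (hab : ¬ Zc S = S)
    (hidx : (Subgroup.center S).index ≤ p ^ 2) : ∃ c, Ctx p S c := by
  haveI := finite_of_le (zcS_le (S := S))
  haveI : IsPGroup p (Subgroup.center S) := hS.to_subgroup _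
  have hnc : ∀ g : S ⧸ Subgroup.center S, Subgroup.zpowers g ≠ ⊤ := by
    intro g hg
    haveI : IsCyclic (S ⧸ Subgroup.center S) := isCyclic_iff_exists_zpowers_eq_top.mpr ⟨g, hg⟩
    apply hab
    refine le_antisymm zcS_le fun x hx => mem_zc hx fun y hy => ?_
    exact congrArg Subtype.val (commutative_of_cyclic_center_quotient (QuotientGroup.mk' (Subgroup.center S))
      (QuotientGroup.ker_mk' _).le ⟨x, hx⟩ ⟨y, hy⟩)
  obtain ⟨j, hj⟩ := hS.index (Subgroup.center S)
  have hQcard : Nat.card (S ⧸ Subgroup.center S) = p ^ 2 := by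
    show (Subgroup.center S).index = p ^ 2
    have h2 : j ≤ 2 := by
      rw [hj] at hidx
      exact (Nat.pow_le_pow_iff_right hp.out.one_lt).mp hidx
    interval_cases j
    · refine absurd ?_ hab
      rw [zc_eq_map, Subgroup.index_eq_one.mp (hj.trans (pow_zero p)), ← MonoidHom.range_eq_map,
        Subgroup.range_subtype]
    · exfalso
      have hq : Nat.card (S ⧸ Subgroup.center S) = p := by
        show (Subgroup.center S).index = p
        rw [hj, pow_one]
      haveI : IsCyclic (S ⧸ Subgroup.center S) := isCyclic_of_prime_card hq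
      obtain ⟨g, hg⟩ := IsCyclic.exists_generator (α := S ⧸ Subgroup.center S)
      exact hnc g (eq_top_iff.mpr fun x _ => hg x)
    · exact hj
  have hcard : Nat.card S = p ^ 2 * Nat.card (Zc S) := by
    rw [card_zc, ← hQcard]
    exact Subgroup.card_eq_card_quotient_mul_card_subgroup _
  have hcen : ∀ x ∈ S, ∀ y ∈ S, ⁅x, y⁆ ∈ Zc S := by
    intro x hx y hy
    rw [zc_eq_map]
    refine ⟨⁅(⟨x, hx⟩ : S), (⟨y, hy⟩ : S)⁆, ?_, rfl⟩
    rw [SetLike.mem_coe, ← QuotientGroup.eq_one_iff, commutatorElement_def]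
    simp only [QuotientGroup.mk_mul, QuotientGroup.mk_inv]
    have := IsPGroup.commutative_of_card_eq_prime_sq hQcard (QuotientGroup.mk ⟨x, hx⟩) (QuotientGroup.mk ⟨y, hy⟩)
    rw [this]
    group
  have hpow : ∀ x ∈ S, x ^ p ∈ Zc S := by
    intro x hx
    rw [zc_eq_map]
    refine ⟨⟨x, hx⟩ ^ p, ?_, rfl⟩
    rw [SetLike.mem_coe, ← QuotientGroup.eq_one_iff, QuotientGroup.mk_pow]
    set q : S ⧸ Subgroup.center S := QuotientGroup.mk ⟨x, hx⟩
    obtain ⟨i, hi, hiq⟩ := (Nat.dvd_prime_pow hp.out).mp (hQcard ▸ orderOf_dvd_natCard q)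
    have hi1 : i ≤ 1 := by
      by_contra h
      obtain rfl : i = 2 := by omega
      exact hnc q (Subgroup.eq_top_of_card_eq _ (by rw [Nat.card_zpowers, hiq, hQcard]))
    exact orderOf_dvd_iff_pow_eq_one.mp (hiq ▸ (pow_dvd_pow p hi1).trans (by rw [pow_one]))
  have hmul : ∀ x ∈ S, ∀ y ∈ S, ∀ z ∈ S, ⁅x * y, z⁆ = ⁅x, z⁆ * ⁅y, z⁆ := by
    intro x hx y hy z hz
    have h2 := zc_comm (hcen y hy z hz) hx
    have h3 := zc_comm (hcen y hy z hz) (zcS_le (hcen x hx z hz))
    have h1 : ⁅x * y, z⁆ = x * ⁅y, z⁆ * x⁻¹ * ⁅x, z⁆ := by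
      simp only [commutatorElement_def]; group
    rw [h1, ← h2.eq]
    simp [mul_assoc, h3.eq]
  obtain ⟨a, ha, haZ⟩ : ∃ a ∈ S, a ∉ Zc S := SetLike.exists_of_lt (lt_of_le_of_ne zcS_le hab)
  obtain ⟨b, hb, hab'⟩ : ∃ b ∈ S, ⁅b, a⁆ ≠ 1 := by
    by_contra! h
    exact haZ (mem_zc ha fun y hy => (commutatorElement_eq_one_iff_commute.mp (h y hy)).symm)
  refine ⟨⁅b, a⁆, hS, hcard, hcen b hb a ha, hab', ?_, ?_⟩
  · have h1 : ∀ n : ℕ, ⁅b ^ n, a⁆ = ⁅b, a⁆ ^ n := by
      intro n
      induction n with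
      | zero => simp [commutatorElement_def]
      | succ n ih => rw [pow_succ, hmul _ (S.pow_mem hb n) b hb a ha, ih, pow_succ]
    rw [← h1, commutatorElement_eq_one_iff_commute]
    exact zc_comm (hpow b hb) ha
  · set K := Subgroup.zpowers ⁅b, a⁆ with hK
    let T : Ω → Subgroup Ω := fun y =>
      { carrier := {x | x ∈ S ∧ (y ∈ S → ⁅x, y⁆ ∈ K)}
        one_mem' := ⟨S.one_mem, fun _ => by rw [commutatorElement_one_left]; exact K.one_mem⟩
        mul_mem' := fun {u v} hu hv => ⟨S.mul_mem hu.1 hv.1, fun hy => by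
          rw [hmul u hu.1 v hv.1 y hy]; exact K.mul_mem (hu.2 hy) (hv.2 hy)⟩
        inv_mem' := fun {u} hu => ⟨S.inv_mem hu.1, fun hy => by
          have := hmul u⁻¹ (S.inv_mem hu.1) u hu.1 y hy
          rw [inv_mul_cancel, commutatorElement_one_left] at this
          rw [eq_inv_of_mul_eq_one_left this.symm]
          exact K.inv_mem (hu.2 hy)⟩ }
    have hgen : ∀ U : Subgroup Ω, Zc S ≤ U → a ∈ U → b ∈ U → U ≤ S → U = S := by
      intro U hZU haU hbU hUS
      set M := Zc S ⊔ Subgroup.zpowers a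
      have hMU : M ≤ U := sup_le hZU (Subgroup.zpowers_le.mpr haU)
      have hbM : b ∉ M := by
        intro hbM
        have hle : M ≤ Subgroup.centralizer ({a} : Set Ω) := sup_le
          (fun z hz => Subgroup.mem_centralizer_singleton_iff.mpr (zc_comm hz ha).eq)
          (Subgroup.zpowers_le.mpr (Subgroup.mem_centralizer_singleton_iff.mpr rfl))
        exact hab' (commutatorElement_eq_one_iff_commute.mpr
          (Subgroup.mem_centralizer_singleton_iff.mp (hle hbM)))
      haveI := finite_of_le hUS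
      haveI := finite_of_le (hMU.trans hUS)
      have h1 : Zc S < M := lt_of_le_of_ne le_sup_left fun h =>
        haZ (h ▸ Subgroup.mem_sup_right (Subgroup.mem_zpowers a))
      have h2 : M < U := lt_of_le_of_ne hMU fun h => hbM (h ▸ hbU)
      refine Subgroup.eq_of_le_of_card_ge hUS ?_
      obtain ⟨d, hd⟩ := Subgroup.card_dvd_of_le h1.le
      obtain ⟨e, he⟩ := Subgroup.card_dvd_of_le h2.le
      obtain ⟨f, hf⟩ := Subgroup.card_dvd_of_le hUS
      have hZ0 : 0 < Nat.card (Zc S) := Nat.card_pos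
      have hdef : d * e * f = p ^ 2 := Nat.eq_of_mul_eq_mul_left hZ0 (by
        rw [← mul_assoc, ← mul_assoc, ← hd, ← he, ← hf, hcard, mul_comm])
      have hd1 : d ≠ 1 := fun h => absurd (Subgroup.eq_of_le_of_card_ge h1.le (by rw [hd, h, mul_one])) h1.ne
      have he1 : e ≠ 1 := fun h => absurd (Subgroup.eq_of_le_of_card_ge h2.le (by rw [he, h, mul_one])) h2.ne
      obtain ⟨i, -, rfl⟩ := (Nat.dvd_prime_pow hp.out).mp (show d ∣ p ^ 2 from ⟨e * f, by rw [← hdef, mul_assoc]⟩)
      obtain ⟨l, -, rfl⟩ := (Nat.dvd_prime_pow hp.out).mp (show e ∣ p ^ 2 from ⟨p ^ i * f, by rw [← hdef]; ring⟩)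
      have hi : i ≠ 0 := fun h => hd1 (by rw [h, pow_zero])
      have hl : l ≠ 0 := fun h => he1 (by rw [h, pow_zero])
      have h22 : p ^ 2 ≤ p ^ i * p ^ l := by
        rw [← pow_add]
        exact Nat.pow_le_pow_right hp.out.pos (by omega)
      rw [hcard, he, hd, mul_assoc, mul_comm]
      exact Nat.mul_le_mul_left _ h22
    have hTab : ∀ y, y ∈ S → (y ∈ Zc S ∨ y = a ∨ y = b) → T y = S := by
      intro y hy hy'
      refine hgen _ (fun z hz => ⟨zcS_le hz, fun hy => ?_⟩) ⟨ha, fun hy => ?_⟩ ⟨hb, fun hy => ?_⟩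
        fun u hu => hu.1
      · rw [commutatorElement_eq_one_iff_commute.mpr (zc_comm hz hy)]
        exact K.one_mem
      · rcases hy' with h | h | h
        · rw [commutatorElement_eq_one_iff_commute.mpr (zc_comm h ha).symm]; exact K.one_mem
        · rw [h, commutatorElement_self]; exact K.one_mem
        · rw [h, ← commutatorElement_inv]; exact K.inv_mem (Subgroup.mem_zpowers _)
      · rcases hy' with h | h | h
        · rw [commutatorElement_eq_one_iff_commute.mpr (zc_comm h hb).symm]; exact K.one_mem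
        · rw [h]; exact Subgroup.mem_zpowers _
        · rw [h, commutatorElement_self]; exact K.one_mem
    intro x hx y hy
    have hU : T x = S := by
      refine hgen _ (fun z hz => ⟨zcS_le hz, fun hx => ?_⟩) ⟨ha, fun hx => ?_⟩ ⟨hb, fun hx => ?_⟩
        fun u hu => hu.1
      · rw [← commutatorElement_inv]
        exact K.inv_mem (((hTab z (zcS_le hz) (Or.inl hz)).symm ▸ hx : x ∈ T z).2 (zcS_le hz))
      · rw [← commutatorElement_inv]
        exact K.inv_mem (((hTab a ha (Or.inr (Or.inl rfl))).symm ▸ hx : x ∈ T a).2 ha)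
      · rw [← commutatorElement_inv]
        exact K.inv_mem (((hTab b hb (Or.inr (Or.inr rfl))).symm ▸ hx : x ∈ T b).2 hb)
    rw [← commutatorElement_inv]
    exact K.inv_mem ((hU.symm ▸ hy : y ∈ T x).2 hx)

variable (hc : Ctx p S c)
include hc

theorem moving_of_essential (hF : F.IsSaturated p) {E : Subgroup Ω} (hE : F.IsEssential p E) :
    IsMoving p F E := by
  have hc' := hE.1
  have hES := hc'.1
  have hZE : Zc S ≤ E := fun z hz => hc'.2 E (isConj_refl hES)
    ⟨hz.1, Subgroup.mem_centralizer_iff.mpr fun y hy => (zc_comm hz (hES hy)).symm.eq⟩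
  haveI := finite_of_le hES
  haveI := finite_of_le (zcS_le (S := S))
  have hEne : E ≠ S := fun h => not_essential_top hc.pgroup hF (h ▸ hE)
  have hEZ : E ≠ Zc S := by
    intro h
    obtain ⟨x, hx, y, hy, hxy⟩ := hc.exists_noncomm
    have : x ∈ E := hc'.2 E (isConj_refl hES) ⟨hx, Subgroup.mem_centralizer_iff.mpr fun z hz =>
      (zc_comm (h ▸ hz : z ∈ Zc S) hx).eq⟩
    exact hxy (commutatorElement_eq_one_iff_commute.mpr (zc_comm (h ▸ this) hy))
  have hmid : IsMid p S E := by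
    refine ⟨hES, hZE, ?_⟩
    obtain ⟨d, hd⟩ := Subgroup.card_dvd_of_le hZE
    obtain ⟨e, he⟩ := Subgroup.card_dvd_of_le hES
    have hde : d * e = p ^ 2 := Nat.eq_of_mul_eq_mul_left (Nat.card_pos (α := Zc S)) (by
      rw [← mul_assoc, ← hd, ← he, hc.card_eq, mul_comm])
    obtain ⟨i, hi, rfl⟩ := (Nat.dvd_prime_pow hp.out).mp ⟨e, hde.symm⟩
    interval_cases i
    · exact absurd (Subgroup.eq_of_le_of_card_ge hZE (by rw [hd, pow_zero, mul_one])).symm hEZ
    · rw [hd, pow_one, mul_comm]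
    · exact absurd (Subgroup.eq_of_le_of_card_ge hES (by rw [hd, hc.card_eq, mul_comm])) hEne
  refine ⟨hmid, ?_⟩
  by_contra! hno
  obtain ⟨b, hb, hbE⟩ := hmid.exists_outside hc
  refine hbE (radical_chain hc.pgroup hc' (isRadical_of_essential hc.pgroup hE)
    (fun i => if i = 0 then ⊥ else if i = 1 then Zc S else E) 2 (fun i => ?_) rfl rfl ?_
    ⟨hb, hmid.mem_normalizer hc hb⟩ ?_)
  · split
    · exact bot_le
    · split
      · exact hZE
      · exact le_rfl
  · intro i _ α hα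
    split
    · simp [ap_map_one]
    · split
      · exact Set.Subset.antisymm (fun y ⟨x, hx, hxy⟩ => hxy ▸ hno α hα x hx)
          fun y hy => surjOn_of_card_le zcS_le ((ap_injOn α).mono hZE) (hno α hα) le_rfl y hy
      · exact autFun_image α
  · intro i hi x hx
    rcases Nat.lt_or_ge i 1 with h | h
    · obtain rfl : i = 0 := by omega
      simp only [Nat.zero_add, one_ne_zero, if_false, if_true] at hx ⊢
      rw [(zc_comm hx hb).symm.eq, mul_inv_cancel_right, inv_mul_cancel]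
      exact Subgroup.one_mem _
    · obtain rfl : i = 1 := by omega
      simp only [show (1 : ℕ) + 1 ≠ 0 by omega, show (1 : ℕ) + 1 ≠ 1 by omega, one_ne_zero, if_false,
        if_true] at hx ⊢
      rw [hc.conj_eq hb (hES hx)]
      exact hc.comm_zc hb (hES hx)

theorem exists_two_moving (hF : F.IsSaturated p) (hne : S ≠ ⊥) (hcore : F.core = ⊥) :
    ∃ E₁ E₂, IsMoving p F E₁ ∧ IsMoving p F E₂ ∧ E₁ ≠ E₂ := by
  by_contra! h
  by_cases hex : ∃ E, IsMoving p F E
  · obtain ⟨E, hE⟩ := hex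
    have hn : F.IsNormal E := by
      refine isNormal_of_invariant hc.pgroup hF fun P hP => ?_
      rcases hP with rfl | hP
      · refine ⟨hE.1.le, fun α hα => ?_⟩
        obtain ⟨E', hE', hm, -⟩ := moving_image hc ((mem_autGroup le_rfl).mp hα) hE
        rw [hE'.2, h E' E hm hE]
      · obtain rfl := h P E (moving_of_essential hc hF hP) hE
        exact ⟨le_rfl, fun α _ => autFun_image α⟩
    obtain ⟨a, ha, haZ⟩ := hE.1.exists_not_mem hc
    have h1 : a ∈ (⊥ : Subgroup Ω) := hcore ▸ (le_sSup hn : E ≤ F.core) ha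
    exact haZ (Subgroup.mem_bot.mp h1 ▸ Subgroup.one_mem _)
  · have hn : F.IsNormal S := by
      refine isNormal_of_invariant hc.pgroup hF fun P hP => ?_
      rcases hP with rfl | hP
      · exact ⟨le_rfl, fun α _ => autFun_image α⟩
      · exact absurd ⟨P, moving_of_essential hc hF hP⟩ hex
    exact hne (le_bot_iff.mp (hcore ▸ le_sSup hn : S ≤ (⊥ : Subgroup Ω)))

/-- The coordinates with respect to two moving subgroups. -/
theorem coords {E₁ E₂ : Subgroup Ω} (h₁ : IsMid p S E₁) (h₂ : IsMid p S E₂) {k₁ k₂ : Ω} (hk₁ : k₁ ∈ E₁)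
    (hk₁Z : k₁ ∉ Zc S) (hk₂ : k₂ ∈ E₂) (hk₂Z : k₂ ∉ Zc S) (hne : E₁ ≠ E₂) :
    k₁ ∉ E₂ ∧ ∀ x ∈ S, ∃ i j : ℕ, ∃ z ∈ Zc S, x = k₁ ^ i * (z * k₂ ^ j) := by
  have hk : k₁ ∉ E₂ := fun h => hne (by
    haveI := finite_of_le h₁.le
    haveI := finite_of_le h₂.le
    ext x
    constructor
    · intro hx
      obtain ⟨z, hz, n, rfl⟩ := h₁.decomp hk₁ hk₁Z hx
      exact E₂.mul_mem (h₂.zc_le hz) (E₂.pow_mem h n)
    · intro hx
      obtain ⟨z, hz, n, rfl⟩ := h₂.decomp h hk₁Z hx
      exact E₁.mul_mem (h₁.zc_le hz) (E₁.pow_mem hk₁ n))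
  refine ⟨hk, fun x hx => ?_⟩
  obtain ⟨i, e, he, rfl⟩ := h₂.split hc (h₁.le hk₁) hk hx
  obtain ⟨z, hz, j, rfl⟩ := h₂.decomp hk₂ hk₂Z he
  exact ⟨i, j, z, hz, rfl⟩

end Cfsg.Agent.Fusion.CenterIndex
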