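import Cfsg.Agent.Lib.Fusion.SatExtend

/-!
# The saturation criterion
-/

set_option autoImplicit false
set_option linter.style.haveILetI false

namespace Cfsg.Agent.Fusion.SatCrit

open Cfsg Cfsg.Agent.Fusion
open Cfsg.FusionSystem (normalizerIn centralizerIn)
open scoped Pointwise

variable {Ω : Type*} [Group Ω] {S : Subgroup Ω} [Finite S] {F : FusionSystem S} {p : ℕ}
  [Fact p.Prime] {P₀ : Subgroup Ω}

/-- A fully normalized conjugate is properly contained in its `Q₀`. -/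
theorem Crit.lt_qZero (h : Crit F p P₀) {ℋ : Set (Subgroup Ω)} (hℋS : ∀ P ∈ ℋ, P ≤ S)
    (hℋconj : ∀ P ∈ ℋ, ∀ Q, F.IsConj P Q → Q ∈ ℋ)
    (hgen : ∀ E : FusionSystem S, (∀ P ∈ ℋ, F.Hom P ⊆ E.Hom P) → F ≤ E) (hP₀ : P₀ ∉ ℋ)
    (hstar : ∀ P : Subgroup Ω, F.IsCentric P → P ∉ ℋ → ∃ Q, F.IsConj P Q ∧
      ¬ (autInducedBy S Q ⊓ (pCore p (F.autGroup Q)).map (F.autGroup Q).subtype ≤ Cfsg.Inn Q))
    {P : Subgroup Ω} (hPn : F.IsFullyNormalized P) (hP : F.IsConj P₀ P) :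
    ∃ g ∈ qZero F p P, g ∉ P := by
  obtain ⟨Q, hPQ, g, hg, hgQ⟩ : ∃ Q, F.IsConj P Q ∧ ∃ g ∈ qZero F p Q, g ∉ Q := by
    by_cases hc : F.IsCentric P
    · obtain ⟨Q, hQ, hQn⟩ := hstar P hc fun hm => hP₀ (hℋconj P hm P₀ (isConj_symm hP))
      obtain ⟨α, hα, hαI⟩ := SetLike.not_le_iff_exists.1 hQn
      obtain ⟨g, hg, hgα⟩ := mem_autInducedBy.1 hα.1
      have hgN : g ∈ normalizerIn S Q := ⟨hg, mem_normalizer_of_induces hgα⟩
      have he : conjAutHom S Q ⟨g, hgN⟩ = α := MulEquiv.ext fun x => Subtype.ext (hgα x).symm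
      refine ⟨Q, hQ, g, mem_qZero.2 ⟨hgN, he ▸ hα.2⟩, fun hgQ => hαI ?_⟩
      rw [inn_eq_autInducedBy]
      exact mem_autInducedBy.2 ⟨g, hgQ, hgα⟩
    · obtain ⟨Q, hQ, hQc⟩ : ∃ Q, F.IsConj P Q ∧ ¬ centralizerIn S Q ≤ Q := by
        by_contra hne
        push_neg at hne
        exact hc ⟨hPn.1, hne⟩
      obtain ⟨g, hg, hgQ⟩ := SetLike.not_le_iff_exists.1 hQc
      refine ⟨Q, hQ, g, mem_qZero.2 ⟨centralizerIn_le_normalizerIn S Q hg, ?_⟩, hgQ⟩
      rw [show conjAutHom S Q ⟨g, centralizerIn_le_normalizerIn S Q hg⟩ = 1 from by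
        rw [← MonoidHom.mem_ker, ker_conjAutHom]; exact hg]
      exact Subgroup.one_mem _
  obtain ⟨a, ha, haQ⟩ := h.exists_to_fullyNormalized hℋS hℋconj hgen hP₀ hPn hP (isConj_trans hP hPQ)
  have hQN := le_normalizerIn haQ.dom_le
  refine ⟨a g, map_qZero ha haQ hQN le_rfl (qZero_le hg) hg, fun hgP => ?_⟩
  obtain ⟨x, hx, hxe⟩ := haQ.exists_preimage hgP
  exact hgQ (ha.injOn (hQN hx) (qZero_le hg) hxe ▸ hx)

/-- The saturation axioms at `P₀`. -/
theorem Crit.sat_self (h : Crit F p P₀) {ℋ : Set (Subgroup Ω)} (hℋS : ∀ P ∈ ℋ, P ≤ S)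
    (hℋconj : ∀ P ∈ ℋ, ∀ Q, F.IsConj P Q → Q ∈ ℋ)
    (hgen : ∀ E : FusionSystem S, (∀ P ∈ ℋ, F.Hom P ⊆ E.Hom P) → F ≤ E) (hP₀ : P₀ ∉ ℋ)
    (hstar : ∀ P : Subgroup Ω, F.IsCentric P → P ∉ ℋ → ∃ Q, F.IsConj P Q ∧
      ¬ (autInducedBy S Q ⊓ (pCore p (F.autGroup Q)).map (F.autGroup Q).subtype ≤ Cfsg.Inn Q)) :
    Sat F p P₀ := by
  obtain ⟨P, hP, hPn⟩ := exists_fullyNormalized (F := F) h.le
  have hPQ := le_qZero (F := F) h.pgroup hPn.1
  obtain ⟨g, hg, hgP⟩ := h.lt_qZero hℋS hℋconj hgen hP₀ hstar hPn hP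
  have hR₀ : Nat.card P₀ < Nat.card (qZero F p P) := by
    rw [isConj_card hP]
    haveI := finite_of_le (qZero_le_base (F := F) (p := p) (P := P))
    by_contra hle
    exact hgP ((Subgroup.eq_of_le_of_card_ge hPQ (not_lt.mp hle)).ge hg)
  obtain ⟨R, hR₀R, hRa, hRr⟩ := h.sat _ qZero_le_base hR₀
  obtain ⟨α, hα, hαR, -⟩ := exists_normalizer_map h.pgroup hRa hRr hR₀R
  obtain ⟨P₁, hP₁R, hαP⟩ := hαR.restrict hPQ
  have hαN : IsMap F (normalizerIn S P) α :=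
    hα.mono fun x hx => ⟨hx.1, normalizerIn_le_normalizer_qZero hPn.1 hx⟩
  have hP₁c : F.IsConj P₀ P₁ := isConj_trans hP hαP.isConj
  have hP₁n : F.IsFullyNormalized P₁ := ⟨hαP.cod_le, fun Q hQ =>
    (hPn.2 Q (isConj_trans hαP.isConj hQ)).trans (card_le_of_injOn (normalizerIn_le _ _) hαN.injOn
      fun x hx => normalizer_map_mem hαN hαP (le_normalizerIn hPn.1) le_rfl hx)⟩
  have hRQ : R = qZero F p P₁ := by
    haveI := finite_of_le (qZero_le_base (F := F) (p := p) (P := P₁))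
    refine Subgroup.eq_of_le_of_card_ge (fun w hw => ?_) ?_
    · obtain ⟨v, hv, rfl⟩ := hαR.exists_preimage hw
      exact map_qZero hαN hαP (le_normalizerIn hPn.1) le_rfl (qZero_le hv) hv
    · obtain ⟨c, hc, hcP⟩ := h.exists_to_fullyNormalized hℋS hℋconj hgen hP₀ hPn hP hP₁c
      rw [← hαR.card_eq]
      exact card_le_of_injOn qZero_le_base (hc.injOn.mono qZero_le) fun x hx =>
        map_qZero hc hcP (le_normalizerIn hcP.dom_le) le_rfl (qZero_le hx) hx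
  have hNR : ∀ t ∈ normalizerIn S P₁, t ∈ Subgroup.normalizer (R : Set Ω) := fun t ht =>
    hRQ ▸ normalizerIn_le_normalizer_qZero hαP.cod_le ht
  haveI := finite_of_le hRa.1
  haveI := finite_mulAut R
  haveI := finite_of_le hαP.cod_le
  haveI := finite_mulAut P₁
  let L := stab F R P₁ hRa.1 hP₁R
  have hrestr : ∀ a : L, IsIso F P₁ P₁ (autFun (((a : F.autGroup R)) : MulAut R)) := fun a =>
    ⟨((mem_autGroup hRa.1).1 (a : F.autGroup R).2).1.mono hP₁R, a.2⟩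
  let ρ : L →* F.autGroup P₁ :=
    MonoidHom.mk' (fun a => ⟨(hrestr a).equiv, (hrestr a).equiv_mem_autGroup⟩) fun a b =>
      Subtype.ext (MulEquiv.ext fun x => Subtype.ext (autFun_mul _ _ (hP₁R x.2)))
  have hρ : Function.Surjective ρ := by
    intro β
    have hβ := (mem_autGroup hαP.cod_le).1 β.2
    obtain ⟨f, hf, hfe⟩ := h.ext_all hℋS hℋconj hgen hP₀ hP₁n hP₁c hβ
    have hfR : IsIso F R R f := by
      rw [hRQ]
      exact Ext.iso h.pgroup hβ hf hfe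
    obtain ⟨δ, hδ, hδe⟩ := hfR.exists_aut
    have hδP : autFun δ '' (P₁ : Set Ω) = (P₁ : Set Ω) :=
      (Set.image_congr ((hδe.mono hP₁R).trans hfe)).trans hβ.2
    refine ⟨⟨⟨δ, hδ⟩, hδP⟩, Subtype.ext (MulEquiv.ext fun x => Subtype.ext ?_)⟩
    exact ((hδe (hP₁R x.2)).trans (hfe x.2)).trans (autFun_coe _ x)
  let U : Subgroup L := (autInducedBy S R).comap ((F.autGroup R).subtype.comp L.subtype)
  have hUp : IsPGroup p U := by
    refine IsPGroup.comap_of_injective ?_ _ ?_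
    · rw [← range_conjAutHom]
      exact (h.pgroup.to_le (normalizerIn_le S R)).of_surjective
        (conjAutHom S R).rangeRestrict (MonoidHom.rangeRestrict_surjective _)
    · intro a b hab
      exact Subtype.ext (Subtype.ext hab)
  have hUconj : ∀ t, ∀ ht : t ∈ normalizerIn S P₁, ∃ u ∈ U,
      ((u : F.autGroup R) : MulAut R) = conjAutHom S R ⟨t, ⟨ht.1, hNR t ht⟩⟩ := by
    intro t ht
    have hmem : conjAutHom S R ⟨t, ⟨ht.1, hNR t ht⟩⟩ ∈ autInducedBy S R := by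
      rw [← range_conjAutHom]; exact ⟨_, rfl⟩
    refine ⟨⟨⟨_, autInducedBy_le_autGroup hRa.1 hmem⟩, ?_⟩, hmem, rfl⟩
    rw [mem_stab, show autFun (conjAutHom S R ⟨t, ⟨ht.1, hNR t ht⟩⟩) '' (P₁ : Set Ω) =
      (fun v => t * v * t⁻¹) '' (P₁ : Set Ω) from Set.image_congr fun v hv => autFun_of_mem _ (hP₁R hv)]
    exact image_conj_eq_self ht.2
  -- `U` is a Sylow subgroup of the stabilizer
  obtain ⟨W, hW⟩ : ∃ W : Sylow p L, (W : Subgroup L) = U := by
    obtain ⟨W, hUW⟩ := hUp.exists_le_sylow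
    obtain ⟨z, hzR, ⟨V, hV⟩, hz⟩ := exists_rep_fusion h.pgroup hRa hRr hP₁R
    obtain ⟨d, hd, hdz, hdR⟩ := hz P₁ id (isIso_id hRa.1) (isIso_id hαP.cod_le)
    obtain ⟨δ, hδ, hδe⟩ := hdR.exists_aut
    have hd' : IsMap F (normalizerIn S P₁) d := hd.mono fun t ht => ⟨ht, hNR t ht⟩
    have hdN : ∀ s ∈ normalizerIn S z, ∃ t ∈ normalizerIn S P₁, d t = s :=
      surjOn_of_card_le (normalizerIn_le _ _) hd'.injOn
        (fun t ht => normalizer_map_mem hd' hdz (le_normalizerIn hαP.cod_le) le_rfl ht)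
        (hP₁n.2 z hdz.isConj)
    let δ' : F.autGroup R := ⟨δ, hδ⟩
    have hδz : autFun δ '' (P₁ : Set Ω) = (z : Set Ω) :=
      (Set.image_congr (hδe.mono hP₁R)).trans hdz.2
    have hLz : ∀ a : L, δ' * (a : F.autGroup R) * δ'⁻¹ ∈ stab F R z hRa.1 hzR := by
      intro a
      rw [mem_stab]
      conv_lhs => rw [← hδz, ← Set.image_comp]
      conv_rhs => rw [← hδz, ← (hrestr a).2, ← Set.image_comp]
      refine Set.image_congr fun v hv => ?_
      have hdv : autFun δ v ∈ R := ((mem_autGroup hRa.1).1 hδ).mem (hP₁R hv)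
      simp only [Function.comp_apply]
      rw [autFun_of_mem _ hdv, autFun_of_mem ((a : F.autGroup R) : MulAut R) (hP₁R hv), autFun_coe]
      simp only [δ', Subgroup.coe_mul, Subgroup.coe_inv, MulAut.mul_apply, autFun_of_mem δ (hP₁R hv),
        Subtype.coe_eta, MulAut.inv_apply_self]
    let j : L →* stab F R z hRa.1 hzR :=
      MonoidHom.mk' (fun a => ⟨δ' * (a : F.autGroup R) * δ'⁻¹, hLz a⟩) fun a b => Subtype.ext (by
        show δ' * ((a * b : L) : F.autGroup R) * δ'⁻¹ = δ' * (a : F.autGroup R) * δ'⁻¹ * (δ' * (b : F.autGroup R) * δ'⁻¹)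
        rw [Subgroup.coe_mul]; group)
    have hj : Function.Injective j := fun a b hab =>
      Subtype.ext (mul_left_cancel (mul_right_cancel (congrArg Subtype.val hab)))
    obtain ⟨V', hV'⟩ := (W.isPGroup'.map j).exists_le_sylow
    have h1 : Nat.card W ≤ Nat.card V := by
      have h3 := Nat.card_le_card_of_injective
        (fun a : W => (⟨j a, hV' ⟨a, a.2, rfl⟩⟩ : V'))
        (fun a b hab => Subtype.ext (hj (congrArg Subtype.val hab)))
      exact h3.trans ((Sylow.card_eq_multiplicity V').trans (Sylow.card_eq_multiplicity V).symm).le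
    refine ⟨W, (Subgroup.eq_of_le_of_card_ge hUW (h1.trans ?_)).symm⟩
    have hpre : ∀ v : V, ∃ u : U, j u = (v : stab F R z hRa.1 hzR) := by
      intro v
      obtain ⟨s, hs, hsv⟩ := mem_autInducedBy.1 (hV v v.2)
      have hsz : s ∈ normalizerIn S z := by
        refine ⟨hs, Subgroup.mem_normalizer_iff.2 fun w => ?_⟩
        have him : (fun w => s * w * s⁻¹) '' (z : Set Ω) = (z : Set Ω) :=
          (Set.image_congr fun w hw => ((autFun_of_mem _ (hzR hw)).trans (hsv ⟨w, hzR hw⟩)).symm).trans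
            (v : stab F R z hRa.1 hzR).2
        constructor
        · intro hw; rw [← SetLike.mem_coe, ← him]; exact ⟨w, hw, rfl⟩
        · intro hw
          rw [← SetLike.mem_coe, ← him] at hw
          obtain ⟨w', hw', he⟩ := hw
          exact mul_left_cancel (mul_right_cancel he) ▸ hw'
      obtain ⟨t, ht, rfl⟩ := hdN s hsz
      obtain ⟨u, hu, hue⟩ := hUconj t ht
      refine ⟨⟨u, hu⟩, Subtype.ext (Subtype.ext (MulEquiv.ext fun r => Subtype.ext ?_))⟩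
      rw [hsv r]
      obtain ⟨r, rfl⟩ := δ.surjective r
      show (((δ * ((u : F.autGroup R) : MulAut R) * δ⁻¹) (δ r) : R) : Ω) = _
      rw [MulAut.mul_apply, MulAut.mul_apply, MulAut.inv_apply_self, hue, ← autFun_coe δ r,
        ← autFun_coe δ, hδe (Subtype.mem _), hδe r.2, conjAutHom_apply]
      exact hd.map_conj ⟨ht, hNR t ht⟩
        ⟨hRQ.le.trans qZero_le r.2, Subgroup.le_normalizer r.2⟩
    choose w hw using hpre
    exact Nat.card_le_card_of_injective w fun a b hab =>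
      Subtype.ext ((hw a).symm.trans ((congrArg (fun u : U => j u) hab).trans (hw b)))
  have hρU : ((autInducedBy S P₁).subgroupOf (F.autGroup P₁)) = U.map ρ := by
    ext β
    rw [Subgroup.mem_subgroupOf]
    constructor
    · intro hβ
      obtain ⟨t, ht, htβ⟩ := mem_autInducedBy.1 hβ
      obtain ⟨u, hu, hue⟩ := hUconj t ⟨ht, mem_normalizer_of_induces htβ⟩
      refine ⟨u, hu, Subtype.ext (MulEquiv.ext fun x => Subtype.ext ?_)⟩
      rw [htβ x]
      show autFun ((u : F.autGroup R) : MulAut R) x = _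
      rw [autFun_of_mem _ (hP₁R x.2), hue]
      rfl
    · rintro ⟨u, hu, rfl⟩
      obtain ⟨t, ht, htu⟩ := mem_autInducedBy.1 hu
      refine mem_autInducedBy.2 ⟨t, ht, fun x => ?_⟩
      show autFun ((u : F.autGroup R) : MulAut R) x = _
      rw [autFun_of_mem _ (hP₁R x.2)]
      exact htu ⟨x, hP₁R x.2⟩
  refine ⟨P₁, hP₁c, ⟨hαP.cod_le, W.mapSurjective hρ, ?_⟩, isReceptive_of hαP.cod_le ?_⟩
  · rw [hρU, ← hW]
    rfl
  intro A f hf M hAM hM
  obtain ⟨c, hc, hcA⟩ := h.exists_to_fullyNormalized hℋS hℋconj hgen hP₀ hP₁n hP₁c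
    (isConj_trans hP₁c (isConj_symm hf.isConj))
  obtain ⟨ci, hci, hcil, -⟩ := hcA.exists_inv
  obtain ⟨β, hβ, hβe⟩ := (hci.comp hf).exists_aut
  obtain ⟨δ, hδ⟩ := hρ ⟨β, hβ⟩
  have hMN : M ≤ normalizerIn S A := fun m hm => ⟨hM.1 hm, (hM.2 m hm).1⟩
  obtain ⟨M₁, hM₁⟩ := (hc.mono hMN).exists_image
  have hM₁N : M₁ ≤ normalizerIn S P₁ := fun w hw => by
    obtain ⟨m, hm, rfl⟩ := hM₁.exists_preimage hw
    exact normalizer_map_mem hc hcA (le_normalizerIn hcA.dom_le) le_rfl (hMN hm)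
  let H : Subgroup L := ((autInducedBy S P₁).subgroupOf (F.autGroup P₁)).comap ρ
  have hWH : (W : Subgroup L) ≤ H := by
    intro u hu
    rw [hW] at hu
    rw [Subgroup.mem_comap, hρU]
    exact ⟨u, hu, rfl⟩
  let B : Subgroup L := (autInducedBy M₁ R).comap ((F.autGroup R).subtype.comp L.subtype)
  have hBH : B.map (MulAut.conj δ).toMonoidHom ≤ H := by
    rintro _ ⟨b, hb, rfl⟩
    obtain ⟨w, hw, hwb⟩ := mem_autInducedBy.1 hb
    obtain ⟨m, hm, rfl⟩ := hM₁.exists_preimage hw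
    obtain ⟨-, k, hk, hke⟩ := hM.2 m hm
    rw [Subgroup.mem_comap, MulEquiv.coe_toMonoidHom, MulAut.conj_apply, Subgroup.mem_subgroupOf, map_mul, map_mul, map_inv, hδ]
    refine mem_autInducedBy.2 ⟨k, hk, fun y => ?_⟩
    obtain ⟨y, rfl⟩ := β.surjective y
    simp only [Subgroup.coe_mul, Subgroup.coe_inv, MulAut.mul_apply, MulAut.inv_apply_self]
    obtain ⟨x, hx, hxy⟩ := hcA.exists_preimage y.2
    have h1 : ((((ρ b : F.autGroup P₁) : MulAut P₁) y : P₁) : Ω) = c (m * x * m⁻¹) := by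
      show autFun ((b : F.autGroup R) : MulAut R) y = _
      rw [hc.map_conj (hMN hm) (le_normalizerIn hcA.dom_le hx), hxy, autFun_of_mem _ (hP₁R y.2)]
      exact hwb ⟨y, hP₁R y.2⟩
    rw [← autFun_coe β, hβe (Subtype.mem _), Function.comp_apply, h1,
      hcil _ (conj_mem_of_mem_normalizer (hMN hm).2 hx), ← autFun_coe β, hβe y.2, Function.comp_apply,
      ← hxy, hcil x hx]
    exact hke x hx
  have hBp : IsPGroup p B := by
    refine IsPGroup.comap_of_injective ?_ _ ?_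
    · rw [← range_conjAutHom]
      exact (h.pgroup.to_le ((normalizerIn_le M₁ R).trans (hM₁N.trans (normalizerIn_le _ _)))).of_surjective
        (conjAutHom M₁ R).rangeRestrict (MonoidHom.rangeRestrict_surjective _)
    · intro a b hab
      exact Subtype.ext (Subtype.ext hab)
  obtain ⟨Q, hQ⟩ := ((hBp.map (MulAut.conj δ).toMonoidHom).comap_subtype (K := H)).exists_le_sylow
  obtain ⟨l, hl⟩ := MulAction.exists_smul_eq H Q (W.subtype hWH)
  obtain ⟨a₀, ha₀, ha₀l⟩ : ρ (l : L) ∈ U.map ρ := hρU ▸ l.2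
  let δ₁ : L := a₀⁻¹ * (l : L) * δ
  have hδ₁ : ρ δ₁ = ⟨β, hβ⟩ := by
    show ρ (a₀⁻¹ * (l : L) * δ) = _
    rw [map_mul, map_mul, map_inv, ha₀l, inv_mul_cancel, one_mul, hδ]
  have hδ₁B : ∀ b ∈ B, δ₁ * b * δ₁⁻¹ ∈ U := by
    intro b hb
    have hmem : δ * b * δ⁻¹ ∈ H := hBH ⟨b, hb, rfl⟩
    have h2 : l * (⟨δ * b * δ⁻¹, hmem⟩ : H) * l⁻¹ ∈ ((l • Q : Sylow p H) : Subgroup H) :=
      ⟨_, hQ (Subgroup.mem_subgroupOf.2 ⟨b, hb, rfl⟩), rfl⟩
    rw [hl] at h2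
    have h3 : (l : L) * (δ * b * δ⁻¹) * (l : L)⁻¹ ∈ U := hW ▸ h2
    have h4 := U.mul_mem (U.mul_mem (U.inv_mem ha₀) h3) ha₀
    convert h4 using 1
    simp only [δ₁]
    group
  have hδ₁i : IsIso F R R (autFun ((δ₁ : F.autGroup R) : MulAut R)) :=
    (mem_autGroup hRa.1).1 (δ₁ : F.autGroup R).2
  have hext : IsExtendable S R (autFun ((δ₁ : F.autGroup R) : MulAut R)) M₁ := by
    refine ⟨hM₁N.trans (normalizerIn_le _ _), fun w hw => ⟨hNR w (hM₁N hw), ?_⟩⟩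
    obtain ⟨u, hu, hue⟩ := hUconj w (hM₁N hw)
    have huB : u ∈ B := by
      show ((u : F.autGroup R) : MulAut R) ∈ autInducedBy M₁ R
      exact mem_autInducedBy.2 ⟨w, hw, fun r => by rw [hue]; rfl⟩
    obtain ⟨s, hs, hse⟩ := mem_autInducedBy.1 (hδ₁B u huB)
    refine ⟨s, hs, fun r hr => ?_⟩
    have h1 := hse (((δ₁ : F.autGroup R) : MulAut R) ⟨r, hr⟩)
    simp only [MonoidHom.comp_apply, Subgroup.coe_subtype, Subgroup.coe_mul, Subgroup.coe_inv,
      MulAut.mul_apply, MulAut.inv_apply_self, hue] at h1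
    rw [autFun_of_mem _ hr, ← h1, autFun_of_mem _ (conj_mem_of_mem_normalizer (hNR w (hM₁N hw)) hr)]
    rfl
  obtain ⟨f', hf', hf'e⟩ := receptive_extend hRr hδ₁i hext
  refine ⟨f' ∘ c, hM₁.comp_map (hf'.mono le_sup_right), fun x hx => ?_⟩
  have hy : c x ∈ P₁ := hcA.mem hx
  rw [Function.comp_apply, hf'e (hP₁R hy)]
  have h1 : autFun ((δ₁ : F.autGroup R) : MulAut R) (c x) = autFun β (c x) := by
    rw [autFun_of_mem β hy]
    exact congrArg (fun a : F.autGroup P₁ => (((a : MulAut P₁) ⟨c x, hy⟩ : P₁) : Ω)) hδ₁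
  rw [h1, hβe hy, Function.comp_apply, hcil x hx]

/-- The saturation criterion. -/
theorem isSaturated_of_criterion (hS : IsPGroup p S) {ℋ : Set (Subgroup Ω)} (hℋS : ∀ P ∈ ℋ, P ≤ S)
    (hℋconj : ∀ P ∈ ℋ, ∀ Q, F.IsConj P Q → Q ∈ ℋ)
    (hsat : ∀ P ∈ ℋ, ∃ Q, F.IsConj P Q ∧ F.IsFullyAutomized p Q ∧ F.IsReceptive Q)
    (hgen : ∀ E : FusionSystem S, (∀ P ∈ ℋ, F.Hom P ⊆ E.Hom P) → F ≤ E)
    (hstar : ∀ P : Subgroup Ω, F.IsCentric P → P ∉ ℋ → ∃ Q, F.IsConj P Q ∧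
      ¬ (autInducedBy S Q ⊓ (pCore p (F.autGroup Q)).map (F.autGroup Q).subtype ≤ Cfsg.Inn Q)) :
    F.IsSaturated p := by
  have hSℋ : S ∈ ℋ := by
    by_contra hc
    obtain ⟨Q, hQ, hQn⟩ := hstar S isCentric_self hc
    obtain rfl : Q = S := Subgroup.eq_of_le_of_card_ge (isConj_le_right hQ) (isConj_card hQ).le
    exact hQn (inf_le_left.trans autInducedBy_self_eq_inn.le)
  suffices H : ∀ n, ∀ P : Subgroup Ω, P ≤ S → Nat.card S - Nat.card P = n → Sat F p P from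
    fun P hP => H _ P hP rfl
  intro n
  induction n using Nat.strong_induction_on with
  | _ n ih =>
    intro P hP hn
    by_cases hPℋ : P ∈ ℋ
    · exact hsat P hPℋ
    refine Crit.sat_self ⟨hS, hP, lt_of_le_of_ne hP fun e => hPℋ (e ▸ hSℋ), fun R hR hlt =>
      ih _ (by have := Subgroup.card_le_of_le hR; omega) R hR rfl⟩ hℋS hℋconj hgen hPℋ hstar

end Cfsg.Agent.Fusion.SatCrit
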