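import Cfsg.Agent.Lib.Fusion.Closed
import Cfsg.Agent.Fusion91.Core
import Cfsg.Agent.Fusion91.Image
import Cfsg.Agent.Fusion91.Product
import Cfsg.Agent.S5136
import Cfsg.Prelude.Def_FusionFitting

/-!
# Central products: the factors are subsystems
-/

set_option autoImplicit false
set_option linter.style.haveILetI false

namespace Cfsg.Agent.Fusion

open Cfsg
open Cfsg.FusionSystem (normalizerIn centralizerIn imageAlong preimageAlong)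

variable {Ω : Type*} [Group Ω] {T₁ T₂ T : Subgroup Ω} {E₁ : FusionSystem T₁} {E₂ : FusionSystem T₂}
  {D : FusionSystem T}

/-- The second factor of a central product is a subsystem of it. -/
theorem subsystem_right_of_centralProduct [Finite T₁] [Finite T₂]
    (h : FusionSystem.IsCentralProductOf E₁ E₂ D) : E₂.IsSubsystemOf D := by
  obtain ⟨D₀, hD₀, Z, θ, hZc, -, -, -, hθ₂, hZle, hker, hran, hiff⟩ := h
  haveI : Finite ↥(T₁.prod T₂) := Finite.of_equiv _ (T₁.prodEquiv T₂).toEquiv.symm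
  intro P φ hφ
  have hP : P ≤ T₂ := (E₂.le_of_mem hφ).1
  have hin : ∀ {w : Ω}, w ∈ T₂ → ((1, w) : Ω × Ω) ∈ T₁.prod T₂ := fun hw => ⟨T₁.one_mem, hw⟩
  have hPT : P ≤ T := fun w hw => hran ▸ ⟨⟨(1, w), hin (hP hw)⟩, hθ₂ w _⟩
  refine (hiff P φ).mpr ⟨hPT, ?_⟩
  let P₀ : Subgroup (Ω × Ω) := (⊥ : Subgroup Ω).prod P
  have hP₀ : P₀ ≤ T₁.prod T₂ := Subgroup.prod_mono bot_le hP
  have hm1 : IsMap E₁ (P₀.map (MonoidHom.fst Ω Ω)) id := isMap_id (fun x ⟨y, hy, hyx⟩ => by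
    rw [← hyx]; exact (hP₀ hy).1)
  have hm2 : IsMap E₂ (P₀.map (MonoidHom.snd Ω Ω)) (extFun φ) :=
    (isMap_extFun hφ).mono (fun x ⟨y, hy, hyx⟩ => by rw [← hyx]; exact hy.2)
  have hm : IsMap D₀ P₀ (fun z => (z.1, extFun φ z.2)) :=
    (Fusion91.isMap_prod_iff hD₀).2 ⟨hP₀, id, extFun φ, hm1, hm2, fun _ _ => rfl⟩
  obtain ⟨f', hf', he, hfix⟩ := (isCentral_iff.1 (Fusion91.isCentral_center D₀)).2 _ _ hm
  have hpre : preimageAlong θ P ≤ P₀ ⊔ D₀.center := by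
    intro z hz
    obtain ⟨hzT, hzP⟩ := Fusion91.mem_preimageAlong.1 hz
    have hw : (((1 : Ω), θ ⟨z, hzT⟩) : Ω × Ω) ∈ T₁.prod T₂ := hin (hP hzP)
    have hZ : (((1 : Ω), θ ⟨z, hzT⟩) : Ω × Ω)⁻¹ * z ∈ Z := by
      refine (hker ((⟨_, hw⟩ : ↥(T₁.prod T₂))⁻¹ * ⟨z, hzT⟩)).1 ?_
      rw [map_mul, map_inv, hθ₂, inv_mul_cancel]
    rw [← mul_inv_cancel_left (((1 : Ω), θ ⟨z, hzT⟩) : Ω × Ω) z]
    exact Subgroup.mul_mem _ (Subgroup.mem_sup_left ⟨Subgroup.one_mem _, hzP⟩)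
      (Subgroup.mem_sup_right (hZc hZ))
  obtain ⟨ψ, hψ, hψe⟩ := hf'.mono hpre
  refine ⟨ψ, hψ, Fusion91.preimageAlong_le θ P, fun x => (D₀.le_of_mem hψ).2 x,
    fun x => (Fusion91.mem_preimageAlong.1 x.2).2, fun x => ?_⟩
  obtain ⟨hzT, hzP⟩ := Fusion91.mem_preimageAlong.1 x.2
  let a : ↥(T₁.prod T₂) := ⟨((1 : Ω), θ ⟨x, hzT⟩), hin (hP hzP)⟩
  have ha : θ a = θ ⟨x, hzT⟩ := hθ₂ _ _
  have hZm : ((a⁻¹ * ⟨x, hzT⟩ : ↥(T₁.prod T₂)) : Ω × Ω) ∈ Z := (hker _).1 (by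
    rw [map_mul, map_inv, ha, inv_mul_cancel])
  have haP : (a : Ω × Ω) ∈ P₀ := ⟨Subgroup.one_mem _, hzP⟩
  have hval : f' (x : Ω × Ω) = ((1 : Ω), φ ⟨θ ⟨x, hzT⟩, hzP⟩) * ((a⁻¹ * ⟨x, hzT⟩ : ↥(T₁.prod T₂)) : Ω × Ω) := by
    have e1 : (x : Ω × Ω) = (a : Ω × Ω) * ((a⁻¹ * ⟨x, hzT⟩ : ↥(T₁.prod T₂)) : Ω × Ω) := by simp
    conv_lhs => rw [e1]
    rw [hf'.map_mul (Subgroup.mem_sup_left haP) (Subgroup.mem_sup_right (hZc hZm)), hfix _ (hZc hZm), he haP,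
      ← extFun_of_mem φ hzP]
  have hφT : φ ⟨θ ⟨x, hzT⟩, hzP⟩ ∈ T₂ := (E₂.le_of_mem hφ).2 _
  have hsplit : (⟨ψ x, (D₀.le_of_mem hψ).2 x⟩ : ↥(T₁.prod T₂)) =
      ⟨((1 : Ω), φ ⟨θ ⟨x, hzT⟩, hzP⟩), hin hφT⟩ * (a⁻¹ * ⟨x, hzT⟩) :=
    Subtype.ext ((hψe x).trans hval)
  rw [hsplit, map_mul, (hker _).2 hZm, mul_one, hθ₂]

end Cfsg.Agent.Fusion
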