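import Cfsg.Agent.Lib.Fusion.ConstrainedCentralizer
import Cfsg.Agent.Lib.Fusion.Quasisimple
import Cfsg.Agent.Fus93.Iso
import Cfsg.Agent.Lib.PGroup.Basic
import Cfsg.Agent.S5126

/-!
# Characteristic `p`-type or component type
-/

set_option autoImplicit false
set_option linter.style.haveILetI false

namespace Cfsg.Agent.Fusion

open Cfsg
open Cfsg.FusionSystem (normalizerIn centralizerIn)

variable {Ω : Type*} [Group Ω] {S : Subgroup Ω} {F : FusionSystem S} {p : ℕ}

/-- An isomorphism of systems preserves constrainedness. -/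
theorem fiso_isConstrained {Ω' : Type*} [Group Ω'] {S' : Subgroup Ω'} {F' : FusionSystem S'} {a : Ω → Ω'}
    {b : Ω' → Ω} [Finite S] [Finite S'] [Fact p.Prime] (h : Fus93.FIso F F' a b) (hF : F.IsConstrained p) :
    F'.IsConstrained p := by
  obtain ⟨hsat, Q, hQ, hQc⟩ := hF
  refine isConstrained_of_normal_self_centralizing (h.isSaturated hsat) (Q := Fus93.img a Q)
    (isNormal_iff.2 ⟨h.img_le hQ.1, fun P g hg => ?_⟩) ?_
  · have hPS := hg.dom_le
    have hPb : Fus93.img b P ≤ S := h.symm.img_le hPS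
    obtain ⟨f', hf', he, hQ'⟩ := normal_extendsStab hQ (h.symm.map hg)
    have hm := h.map hf'
    rw [h.img_sup hPb hQ.1, h.symm.img_img hPS] at hm
    refine ⟨_, hm, fun x hx => ?_, ?_⟩
    · show a (f' (b x)) = g x
      rw [he (h.symm.apply_mem_img hx)]
      simp only [Function.comp_apply, h.right x (hPS hx), h.right _ (hg.apply_mem hx)]
    · rw [h.coe_img hQ.1, Set.image_image]
      conv_rhs => rw [← hQ', Set.image_image]
      exact Set.image_congr fun x hx => by
        show a (f' (b (a x))) = a (f' x)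
        rw [h.left x (hQ.1 hx)]
  · rw [← h.img_centralizerIn hQ.1]
    exact Fus93.FIso.img_mono (centralizer_le_of_centric hQc)

/-- Transport of centralizer systems along an isomorphism. -/
theorem centralizerSystem_fiso [Finite S] {U U' : Subgroup Ω} (hU : U ≤ S) (hU' : U' ≤ S) {f : Ω → Ω}
    (hf : IsIso F (U ⊔ centralizerIn S U) (U' ⊔ centralizerIn S U') f)
    (hfU : f '' (U : Set Ω) = (U' : Set Ω))
    (hfC : f '' (centralizerIn S U : Set Ω) = (centralizerIn S U' : Set Ω)) :
    ∃ g, Fus93.FIso (centralizerSystem F U hU) (centralizerSystem F U' hU') f g := by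
  obtain ⟨g, hg, hgl, hgr⟩ := hf.exists_inv
  have hgC : g '' (centralizerIn S U' : Set Ω) = (centralizerIn S U : Set Ω) := by
    rw [← hfC, Set.image_image]
    exact (Set.image_congr fun x hx => hgl x (Subgroup.mem_sup_right hx)).trans (Set.image_id' _)
  have hgU : g '' (U' : Set Ω) = (U : Set Ω) := by
    rw [← hfU, Set.image_image]
    exact (Set.image_congr fun x hx => hgl x (Subgroup.mem_sup_left hx)).trans (Set.image_id' _)
  have key : ∀ {U U' : Subgroup Ω} (hU : U ≤ S) (hU' : U' ≤ S) {f g : Ω → Ω},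
      IsIso F (U ⊔ centralizerIn S U) (U' ⊔ centralizerIn S U') f →
      IsIso F (U' ⊔ centralizerIn S U') (U ⊔ centralizerIn S U) g →
      (∀ x ∈ U ⊔ centralizerIn S U, g (f x) = x) → (∀ y ∈ U' ⊔ centralizerIn S U', f (g y) = y) →
      f '' (centralizerIn S U : Set Ω) = (centralizerIn S U' : Set Ω) →
      g '' (centralizerIn S U' : Set Ω) = (centralizerIn S U : Set Ω) →
      g '' (U' : Set Ω) = (U : Set Ω) →
      ∀ P h, IsMap (centralizerSystem F U hU) P h → ∀ P' : Subgroup Ω, (P' : Set Ω) = f '' P →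
        IsMap (centralizerSystem F U' hU') P' (f ∘ h ∘ g) := by
    intro U U' hU hU' f g hf hg hgl hgr hfC hgC hgU P h hh P' hP'
    obtain ⟨-, hPC, hhC, h₁, hh₁, he₁, hfix⟩ :=
      (IsCentralizerSystem.isMap_iff (isCentralizerSystem_centralizerSystem U hU)).1 hh
    have hP'C : P' ≤ centralizerIn S U' := fun y hy => by
      rw [← SetLike.mem_coe, hP'] at hy
      obtain ⟨x, hx, rfl⟩ := hy
      rw [← SetLike.mem_coe, ← hfC]
      exact ⟨x, hPC hx, rfl⟩
    have hgP : ∀ y ∈ P', g y ∈ P := fun y hy => by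
      rw [← SetLike.mem_coe, hP'] at hy
      obtain ⟨x, hx, rfl⟩ := hy
      rw [hgl x (Subgroup.mem_sup_right (hPC hx))]
      exact hx
    have hle : P' ⊔ U' ≤ U' ⊔ centralizerIn S U' := sup_le (hP'C.trans le_sup_right) le_sup_left
    have hle' : P ⊔ U ≤ U ⊔ centralizerIn S U := sup_le (hPC.trans le_sup_right) le_sup_left
    have hgm : IsMap F (P' ⊔ U') g := hg.1.mono hle
    have hgPU : ∀ y ∈ P' ⊔ U', g y ∈ P ⊔ U := fun y hy => isMap_mem_sup hgm le_sup_left le_sup_right
      (fun y hy => Subgroup.mem_sup_left (hgP y hy))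
      (fun y hy => Subgroup.mem_sup_right (by rw [← SetLike.mem_coe, ← hgU]; exact ⟨y, hy, rfl⟩)) y hy
    have hh₁' : ∀ x ∈ P ⊔ U, h₁ x ∈ U ⊔ centralizerIn S U := fun x hx =>
      isMap_mem_sup hh₁ le_sup_left le_sup_right
        (fun x hx => Subgroup.mem_sup_right (by rw [he₁ hx]; exact hhC x hx))
        (fun x hx => Subgroup.mem_sup_left (by rw [hfix x hx]; exact hx)) x hx
    have hm : IsMap F (P' ⊔ U') (f ∘ h₁ ∘ g) :=
      (hgm.comp hh₁ hgPU).comp hf.1 fun y hy => hh₁' _ (hgPU y hy)
    refine (IsCentralizerSystem.isMap_iff (isCentralizerSystem_centralizerSystem U' hU')).2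
      ⟨(hm.mono le_sup_left).congr fun y hy => ?_, hP'C, fun y hy => ?_, _, hm, fun y hy => ?_, fun y hy => ?_⟩
    · simp only [Function.comp_apply, he₁ (hgP y hy)]
    · rw [← SetLike.mem_coe, ← hfC]
      exact ⟨_, hhC _ (hgP y hy), rfl⟩
    · simp only [Function.comp_apply, he₁ (hgP y hy)]
    · have hy' : g y ∈ U := by rw [← SetLike.mem_coe, ← hgU]; exact ⟨y, hy, rfl⟩
      simp only [Function.comp_apply, hfix _ hy', hgr y (Subgroup.mem_sup_left hy)]
  refine ⟨g, ⟨fun x hx y hy => hf.1.map_mul (Subgroup.mem_sup_right hx) (Subgroup.mem_sup_right hy),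
    fun x hx => ?_, fun y hy => ?_, fun x hx => hgl x (Subgroup.mem_sup_right hx),
    fun y hy => hgr y (Subgroup.mem_sup_right hy), key hU hU' hf hg hgl hgr hfC hgC hgU, ?_⟩⟩
  · rw [← SetLike.mem_coe, ← hfC]; exact ⟨x, hx, rfl⟩
  · rw [← SetLike.mem_coe, ← hgC]; exact ⟨y, hy, rfl⟩
  · exact key hU' hU hg hf hgr hgl hgC hfC hfU

/-- If the centralizer system of a fully normalized subgroup is constrained, so is its normalizer system. -/
theorem isConstrained_normalizer_of_centralizer [Finite S] [Fact p.Prime] (hS : IsPGroup p S) (hF : F.IsSaturated p)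
    {U : Subgroup Ω} (hU : F.IsFullyNormalized U) (hC : (centralizerSystem F U hU.1).IsConstrained p)
    {E : FusionSystem (normalizerIn S U)} (hE : F.IsNormalizerSystem U E) : E.IsConstrained p := by
  have hEs := isNormalizerSystem_isSaturated hS hF hU E hE
  have hUE := S5126.normal_in_normalizer hU.1 hE
  have hNp : IsPGroup p ↥(normalizerIn S U) := hS.to_le (normalizerIn_le S U)
  haveI := finite_of_le (normalizerIn_le S U)
  haveI := finite_of_le (centralizerIn_le S U)
  haveI : Finite ↥(centralizerIn (normalizerIn S U) U) := finite_of_le (centralizerIn_le _ U)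
  have hset : ∀ x, x ∈ centralizerIn (normalizerIn S U) U ↔ x ∈ centralizerIn S U := fun x =>
    ⟨fun h => ⟨h.1.1, h.2⟩, fun h => ⟨centralizerIn_le_normalizerIn S U h, h.2⟩⟩
  have hC₂ := isCentralizerSystem_centralizerSystem (F := E) U hUE.1
  have hCF := isCentralizerSystem_centralizerSystem (F := F) U hU.1
  have hfi : Fus93.FIso (centralizerSystem F U hU.1) (centralizerSystem E U hUE.1) id id := by
    refine ⟨fun _ _ _ _ => rfl, fun x hx => (hset x).2 hx, fun x hx => (hset x).1 hx, fun _ _ => rfl,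
      fun _ _ => rfl, fun P f hf P' hP' => ?_, fun P' f hf P hP => ?_⟩
    · obtain rfl : P' = P := SetLike.coe_injective (hP'.trans (Set.image_id _))
      obtain ⟨h1, h2, h3, f', hf', he, hfix⟩ := (IsCentralizerSystem.isMap_iff hCF).1 hf
      have hEm : IsMap E (P' ⊔ U) f' := by
        have hle : P' ⊔ U ≤ normalizerIn S U :=
          sup_le (h2.trans (centralizerIn_le_normalizerIn S U)) (le_normalizerIn hU.1)
        have himU : f' '' (U : Set Ω) = (U : Set Ω) :=
          (Set.image_congr fun u hu => hfix u hu).trans (Set.image_id' _)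
        exact (IsNormalizerSystem.isMap_iff hE).2 ⟨hf', hle,
          fun x hx => map_mem_normalizer hf' le_sup_right himU hx (hle hx).2, f',
          hf'.mono (sup_le le_rfl le_sup_right), fun _ _ => rfl, himU⟩
      exact (IsCentralizerSystem.isMap_iff hC₂).2 ⟨(hEm.mono le_sup_left).congr fun x hx => he hx,
        fun x hx => (hset x).2 (h2 hx), fun x hx => (hset _).2 (h3 x hx), f', hEm, he, hfix⟩
    · obtain rfl : P = P' := SetLike.coe_injective (hP.trans (Set.image_id _))
      obtain ⟨h1, h2, h3, f', hf', he, hfix⟩ := (IsCentralizerSystem.isMap_iff hC₂).1 hf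
      exact (IsCentralizerSystem.isMap_iff hCF).2 ⟨((IsNormalizerSystem.isMap_iff hE).1 h1).1,
        fun x hx => (hset x).1 (h2 hx), fun x hx => (hset _).1 (h3 x hx), f',
        ((IsNormalizerSystem.isMap_iff hE).1 hf').1, he, hfix⟩
  obtain ⟨hCs, R, hR, hRc⟩ := fiso_isConstrained hfi hC
  have hRE : E.IsNormal (centralizerSystem E U hUE.1).core :=
    core_normal_of_invariant hNp hEs (centralizerSystem_isNormalIn hNp hEs hUE).1.2.2 (Fusion91.isNormal_core _)
  refine isConstrained_of_normal_self_centralizing hEs (Fusion91.IsNormal.sup _ hUE hRE) fun x hx => ?_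
  refine Subgroup.mem_sup_right (Fusion91.le_core hR (centralizer_le_of_centric hRc ⟨⟨hx.1, ?_⟩, ?_⟩))
  · exact Subgroup.centralizer_le (SetLike.coe_subset_coe.2
      (le_sup_left : U ≤ U ⊔ (centralizerSystem E U hUE.1).core)) hx.2
  · exact Subgroup.centralizer_le (SetLike.coe_subset_coe.2
      ((Fusion91.le_core hR).trans (le_sup_right : _ ≤ U ⊔ (centralizerSystem E U hUE.1).core))) hx.2

/-- Characteristic `p`-type or component type. -/
theorem charPType_or_componentType [Finite S] [Fact p.Prime] (hS : IsPGroup p S) (hF : F.IsSaturated p) :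
    F.IsOfCharacteristicPType p ∨ F.IsOfComponentType p := by
  classical
  by_cases hct : F.IsOfComponentType p
  · exact Or.inr hct
  refine Or.inl fun U hUne hU E hE => isConstrained_normalizer_of_centralizer hS hF hU ?_ hE
  -- an element of order p
  haveI := finite_of_le (normalizerIn_le S U)
  have hNp : IsPGroup p ↥(normalizerIn S U) := hS.to_le (normalizerIn_le S U)
  haveI hn : (U.subgroupOf (normalizerIn S U)).Normal :=
    (Subgroup.normal_subgroupOf_iff_le_normalizer (le_normalizerIn hU.1)).2 inf_le_right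
  have hne : U.subgroupOf (normalizerIn S U) ≠ ⊥ := fun h => hUne (by
    rw [eq_bot_iff]
    intro u hu
    have : (⟨u, le_normalizerIn hU.1 hu⟩ : ↥(normalizerIn S U)) ∈ U.subgroupOf (normalizerIn S U) := hu
    rw [h, Subgroup.mem_bot] at this
    exact congrArg Subtype.val this)
  have hne2 := PGroup.inf_center_ne_bot hNp hne
  obtain ⟨z, hz, hz1⟩ := (Subgroup.bot_or_exists_ne_one _).resolve_left hne2
  obtain ⟨k, hk⟩ := (IsPGroup.iff_orderOf.1 hNp) z
  have hk0 : k ≠ 0 := fun h => hz1 (by rw [h, pow_zero, orderOf_eq_one_iff] at hk; exact hk)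
  let w := z ^ p ^ (k - 1)
  have hw : w ∈ U.subgroupOf (normalizerIn S U) ⊓ Subgroup.center _ := Subgroup.pow_mem _ hz _
  have hwo : orderOf (w : Ω) = p := by
    rw [Subgroup.orderOf_coe]
    show orderOf (z ^ p ^ (k - 1)) = p
    rw [orderOf_pow_of_dvd (pow_ne_zero _ (Fact.out : p.Prime).ne_zero) (hk ▸ pow_dvd_pow p (Nat.sub_le k 1)), hk,
      Nat.pow_div (Nat.sub_le k 1) (Fact.out : p.Prime).pos, show k - (k - 1) = 1 by omega, pow_one]
  have hwU : Subgroup.zpowers (w : Ω) ≤ U := Subgroup.zpowers_le.2 hw.1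
  have hXS : Subgroup.zpowers (w : Ω) ≤ S := hwU.trans hU.1
  -- move it to a fully normalized subgroup
  obtain ⟨X', hXX', hX'⟩ := exists_fullyNormalized (F := F) hXS
  obtain ⟨f₀, hf₀, hf₀X, hf₀N⟩ := exists_normalizer_map hS (fullyAutomized_of_fullyNormalized hS hF hX')
    (receptive_of_fullyNormalized hS hF hX') hXX'
  have hCN : normalizerIn S U ≤ centralizerIn S (Subgroup.zpowers (w : Ω)) := fun y hy => by
    refine ⟨hy.1, Subgroup.mem_centralizer_iff.2 ?_⟩
    rintro _ ⟨n, rfl⟩
    have h1 : Commute (⟨y, hy⟩ : ↥(normalizerIn S U)) w := Subgroup.mem_center_iff.1 hw.2 ⟨y, hy⟩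
    exact ((h1.map (Subgroup.subtype _)).zpow_right n).symm.eq
  have hdom : normalizerIn S U ≤ normalizerIn S (Subgroup.zpowers (w : Ω)) :=
    hCN.trans (centralizerIn_le_normalizerIn _ _)
  have hUC : U ⊔ centralizerIn S U ≤ normalizerIn S U :=
    sup_le (le_normalizerIn hU.1) (centralizerIn_le_normalizerIn S U)
  have hfUC : IsMap F (U ⊔ centralizerIn S U) f₀ := hf₀.mono (hUC.trans hdom)
  obtain ⟨U', hU'⟩ : ∃ U', IsIso F U U' f₀ := by
    have hm : IsMap F U f₀ := hfUC.mono (le_sup_left : U ≤ U ⊔ centralizerIn S U)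
    obtain ⟨φ, -, hφf⟩ := id hm
    refine ⟨φ.range, hm, Set.ext fun y => ⟨?_, ?_⟩⟩
    · rintro ⟨x, hx, rfl⟩; exact ⟨⟨x, hx⟩, hφf _⟩
    · rintro ⟨x, rfl⟩; exact ⟨x, x.2, (hφf x).symm⟩
  have hUfc := fullyCentralized_of_fullyNormalized hS hF hU
  have hX'U' : X' ≤ U' := fun y hy => by
    obtain ⟨x, hx, rfl⟩ := hf₀X.exists_preimage hy
    exact hU'.mem (hwU hx)
  have hmapC : ∀ c ∈ centralizerIn S U, f₀ c ∈ centralizerIn S U' := fun c hc =>
    map_mem_centralizer hfUC le_sup_left hU'.2 (Subgroup.mem_sup_right hc) hc.2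
  -- centralizers of the image
  have hcardC : Nat.card ↥(centralizerIn S U') ≤ Nat.card ↥(centralizerIn S U) := hUfc.2 U' hU'.isConj
  have hC' : f₀ '' (centralizerIn S U : Set Ω) = (centralizerIn S U' : Set Ω) :=
    Set.Subset.antisymm (fun y ⟨x, hx, hy⟩ => hy ▸ hmapC x hx)
      (surjOn_of_card_le (centralizerIn_le S U') (hfUC.injOn.mono fun x hx => Subgroup.mem_sup_right hx) hmapC hcardC)
  have hU'fc : F.IsFullyCentralized U' := by
    refine ⟨hU'.cod_le, fun Q hQ => (hUfc.2 Q (isConj_trans hU'.isConj hQ)).trans ?_⟩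
    exact card_le_of_injOn (centralizerIn_le S U') (hfUC.injOn.mono fun x hx => Subgroup.mem_sup_right hx) hmapC
  -- the centralizer system of X' is constrained
  have hX'card : Nat.card X' = p := by
    rw [← hf₀X.card_eq, Nat.card_zpowers, hwo]
  have hX'fc := fullyCentralized_of_fullyNormalized hS hF hX'
  have hCX' : (centralizerSystem F X' hX'.1).IsConstrained p := by
    haveI := finite_of_le (centralizerIn_le S X')
    by_contra hn
    exact hct ⟨X', hX'card, hX', _, isCentralizerSystem_centralizerSystem X' hX'.1,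
      exists_component (hS.to_le (centralizerIn_le S X')) (centralizerSystem_isSaturated hS hF hX'fc) hn⟩
  have hCU' : (centralizerSystem F U' hU'fc.1).IsConstrained p := by
    haveI := finite_of_le (centralizerIn_le S X')
    have hCp : IsPGroup p ↥(centralizerIn S X') := hS.to_le (centralizerIn_le S X')
    have hCX := isCentralizerSystem_centralizerSystem (F := F) X' hX'.1
    have hU'C : U' ≤ centralizerIn S X' := fun y hy => by
      obtain ⟨u, hu, rfl⟩ := hU'.exists_preimage hy
      exact map_mem_centralizer hf₀ ((le_normalizerIn hXS)) hf₀X.2 (hdom (le_normalizerIn hU.1 hu))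
        (hCN (le_normalizerIn hU.1 hu)).2
    have hU'le : centralizerIn S U' ≤ centralizerIn S X' := fun y hy =>
      ⟨hy.1, Subgroup.centralizer_le (SetLike.coe_subset_coe.2 hX'U') hy.2⟩
    have hU'fc' : (centralizerSystem F X' hX'.1).IsFullyCentralized U' := by
      refine ⟨hU'C, fun Q hQ => ?_⟩
      obtain ⟨h, hh⟩ := isConj_iff.1 hQ
      obtain ⟨hm, -, -, h', hh', he, hfix⟩ := (IsCentralizerSystem.isMap_iff hCX).1 hh.1
      have hQconj : F.IsConj U' Q := (show IsIso F U' Q h from ⟨hm, hh.2⟩).isConj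
      have hle1 : centralizerIn (centralizerIn S X') Q ≤ centralizerIn S Q := fun x hx => ⟨hx.1.1, hx.2⟩
      have hle2 : centralizerIn S U' ≤ centralizerIn (centralizerIn S X') U' := fun x hx => ⟨hU'le hx, hx.2⟩
      haveI := finite_of_le ((centralizerIn_le (centralizerIn S X') U').trans (centralizerIn_le S X'))
      haveI := finite_of_le (centralizerIn_le S Q)
      exact ((Subgroup.card_le_of_le hle1).trans (hU'fc.2 Q hQconj)).trans (Subgroup.card_le_of_le hle2)
    have h1 := isConstrained_centralizerSystem hCp hCX' hU'fc'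
    haveI := finite_of_le (centralizerIn_le S U')
    haveI : Finite ↥(centralizerIn (centralizerIn S X') U') :=
      finite_of_le ((centralizerIn_le (centralizerIn S X') U').trans (centralizerIn_le S X'))
    refine fiso_isConstrained (a := id) (b := id) ?_ h1
    have hCU := isCentralizerSystem_centralizerSystem (F := F) U' hU'fc.1
    have hCC := isCentralizerSystem_centralizerSystem (F := centralizerSystem F X' hX'.1) U' hU'C
    refine ⟨fun _ _ _ _ => rfl, fun x hx => ⟨hx.1.1, hx.2⟩, fun x hx => ⟨hU'le hx, hx.2⟩, fun _ _ => rfl,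
      fun _ _ => rfl, fun P h hh P' hP' => ?_, fun P' h hh P hP => ?_⟩
    · obtain rfl : P' = P := SetLike.coe_injective (hP'.trans (Set.image_id _))
      obtain ⟨g1, g2, g3, h', hh', he, hfix⟩ := (IsCentralizerSystem.isMap_iff hCC).1 hh
      exact (IsCentralizerSystem.isMap_iff hCU).2 ⟨((IsCentralizerSystem.isMap_iff hCX).1 g1).1,
        fun x hx => ⟨(g2 hx).1.1, (g2 hx).2⟩, fun x hx => ⟨(g3 x hx).1.1, (g3 x hx).2⟩, h',
        ((IsCentralizerSystem.isMap_iff hCX).1 hh').1, he, hfix⟩
    · obtain rfl : P = P' := SetLike.coe_injective (hP.trans (Set.image_id _))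
      obtain ⟨g1, g2, g3, h', hh', he, hfix⟩ := (IsCentralizerSystem.isMap_iff hCU).1 hh
      have hle : P ⊔ U' ≤ centralizerIn S X' := sup_le (g2.trans hU'le) hU'C
      have himU : h' '' (U' : Set Ω) = (U' : Set Ω) :=
        (Set.image_congr fun u hu => hfix u hu).trans (Set.image_id' _)
      have hmem : ∀ x ∈ P ⊔ U', h' x ∈ centralizerIn S X' := fun x hx =>
        map_mem_centralizer hh' (hX'U'.trans le_sup_right)
          ((Set.image_congr fun u hu => hfix u (hX'U' hu)).trans (Set.image_id' _)) hx (hle hx).2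
      have hm : IsMap (centralizerSystem F X' hX'.1) (P ⊔ U') h' :=
        (IsCentralizerSystem.isMap_iff hCX).2 ⟨hh', hle, hmem, h',
          hh'.mono (sup_le le_rfl (hX'U'.trans le_sup_right)), fun _ _ => rfl, fun u hu => hfix u (hX'U' hu)⟩
      exact (IsCentralizerSystem.isMap_iff hCC).2 ⟨(hm.mono le_sup_left).congr fun x hx => he hx,
        fun x hx => ⟨hU'le (g2 hx), (g2 hx).2⟩, fun x hx => ⟨hU'le (g3 x hx), (g3 x hx).2⟩, h', hm, he, hfix⟩
  -- transport back
  obtain ⟨g, hg⟩ := centralizerSystem_fiso hUfc.1 hU'fc.1 (IsIso.sup hfUC hU'.2 hC') hU'.2 hC'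
  haveI := finite_of_le (centralizerIn_le S U)
  haveI := finite_of_le (centralizerIn_le S U')
  exact fiso_isConstrained hg.symm hCU'

end Cfsg.Agent.Fusion
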