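import Cfsg.Agent.Lib.Fusion.CentralLift.Normal
import Cfsg.Agent.Lib.Fusion.NormalCore
import Cfsg.Agent.Lib.Fusion.PPowerNormal
import Cfsg.Agent.Lib.Fusion.PPowerIndex
import Cfsg.Agent.Fusion91.Solvable
import Cfsg.Prelude.Def_FusionComponents

/-!
# A saturated fusion system that is not constrained has a component
-/

set_option autoImplicit false
set_option linter.style.haveILetI false

namespace Cfsg.Agent.Fusion

open Cfsg
open Cfsg.FusionSystem (normalizerIn centralizerIn imageAlong preimageAlong)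

variable {Ω : Type*} [Group Ω] {S : Subgroup Ω} {F : FusionSystem S} {p : ℕ}

theorem centralizer_le_of_centric {Q : Subgroup Ω} (hc : F.IsCentric Q) : centralizerIn S Q ≤ Q :=
  hc.2 Q (isConj_refl hc.1)

/-- A normal subgroup with centralizer inside it makes the system constrained. -/
theorem isConstrained_of_normal_self_centralizing [Finite S] (hF : F.IsSaturated p) {Q : Subgroup Ω}
    (hQ : F.IsNormal Q) (hc : centralizerIn S Q ≤ Q) : F.IsConstrained p := by
  refine ⟨hF, Q, hQ, hQ.1, fun R hR => ?_⟩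
  obtain ⟨f, hf⟩ := isConj_iff.1 hR
  have hle : R ≤ Q := fun y hy => by
    obtain ⟨x, hx, rfl⟩ := hf.exists_preimage hy
    exact (stronglyClosed_iff.1 (stronglyClosed_of_normal hQ)).2 _ _ hf.1 x hx hx
  haveI := finite_of_le hQ.1
  rw [Subgroup.eq_of_le_of_card_ge hle hf.card_eq.le]
  exact hc

/-- The total number of maps. -/
noncomputable def numMaps {S : Subgroup Ω} (F : FusionSystem S) : ℕ :=
  Nat.card (Σ P : {P : Subgroup Ω // P ≤ S}, {φ : (P : Subgroup Ω) →* Ω // φ ∈ F.Hom P})

theorem finite_numMaps [Finite S] (F : FusionSystem S) :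
    Finite (Σ P : {P : Subgroup Ω // P ≤ S}, {φ : (P : Subgroup Ω) →* Ω // φ ∈ F.Hom P}) := by
  haveI : Finite {P : Subgroup Ω // P ≤ S} := Fusion91.finite_subgroups_le.to_subtype
  haveI : ∀ P : {P : Subgroup Ω // P ≤ S},
      Finite {φ : (P : Subgroup Ω) →* Ω // φ ∈ F.Hom P} := fun P => by
    haveI := finite_of_le P.2
    exact Finite.of_injective (fun φ x => (⟨φ.1 x, (F.le_of_mem φ.2).2 x⟩ : S)) fun φ ψ he =>
      Subtype.ext (MonoidHom.ext fun x => congrArg Subtype.val (congrFun he x))
  infer_instance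

theorem numMaps_lt {S : Subgroup Ω} [Finite S] {E F : FusionSystem S} (hle : E.IsSubsystemOf F)
    {P : Subgroup Ω} (hne : E.Hom P ≠ F.Hom P) : numMaps E < numMaps F := by
  haveI := finite_numMaps F
  haveI := finite_numMaps E
  obtain ⟨φ, hφ, hφE⟩ : ∃ φ ∈ F.Hom P, φ ∉ E.Hom P := by
    by_contra hno
    push_neg at hno
    exact hne (Set.Subset.antisymm (hle P) hno)
  let e : (Σ P : {P : Subgroup Ω // P ≤ S}, {φ : (P : Subgroup Ω) →* Ω // φ ∈ E.Hom P}) →
      (Σ P : {P : Subgroup Ω // P ≤ S}, {φ : (P : Subgroup Ω) →* Ω // φ ∈ F.Hom P}) :=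
    fun x => ⟨x.1, x.2.1, hle _ x.2.2⟩
  have hinj : Function.Injective e := by
    rintro ⟨P₁, φ₁, h₁⟩ ⟨P₂, φ₂, h₂⟩ he
    simp only [e, Sigma.mk.injEq] at he
    obtain ⟨rfl, he⟩ := he
    rw [heq_iff_eq, Subtype.mk.injEq] at he
    subst he
    rfl
  refine lt_of_le_of_ne (Nat.card_le_card_of_injective e hinj) fun heq => ?_
  have hb := hinj.bijective_of_nat_card_le heq.ge
  obtain ⟨⟨P₁, φ₁, h₁⟩, he⟩ := hb.2 ⟨⟨P, (F.le_of_mem hφ).1⟩, φ, hφ⟩
  simp only [e, Sigma.mk.injEq] at he
  obtain ⟨rfl, he⟩ := he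
  rw [heq_iff_eq, Subtype.mk.injEq] at he
  exact hφE (he ▸ h₁)

variable [Finite S] [Fact p.Prime]

/-- If the hyperfocal subgroup is central, the system is constrained. -/
theorem isConstrained_of_hyperfocal_le_central (hS : IsPGroup p S) (hF : F.IsSaturated p) {Z : Subgroup Ω}
    (hZ : F.IsCentral Z) (hle : F.hyperfocalSubgroup p ≤ Z) : F.IsConstrained p := by
  have hcl : F.StronglyClosed S := ⟨le_rfl, fun R _ φ hφ x => (F.le_of_mem hφ).2 x⟩
  refine isConstrained_of_normal_self_centralizing hF
    (isNormal_of_closed_le hS hF hcl fun P hc hr => ?_) (centralizerIn_le S S)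
  have hPS := hc.1
  haveI := finite_of_le hPS
  haveI := finite_mulAut P
  have hp : IsPGroup p (F.autGroup P) := by
    have hcop : ∀ a : F.autGroup P, Nat.Coprime (orderOf a) p → a = 1 := by
      intro a ha
      have hm := ((mem_autGroup hPS).1 a.2).1
      have hmem : (a : MulAut P) ∈ NormalLift.fixMod P Z := by
        refine ⟨fun x hx => Subtype.ext ?_, fun x => ?_⟩
        · obtain ⟨f', -, he, hfix⟩ := (isCentral_iff.1 hZ).2 P _ hm
          rw [← autFun_coe (a : MulAut P), ← he x.2]
          exact hfix x hx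
        · exact hle (Subgroup.subset_closure ⟨P, a, x, hPS, Transfer.mem_pResidual_of_coprime ha, rfl⟩)
      obtain ⟨k, hk⟩ := IsPGroup.iff_orderOf.1 (NormalLift.fixMod_isPGroup (hS.to_le hPS)) ⟨_, hmem⟩
      rw [Subgroup.orderOf_mk, Subgroup.orderOf_coe] at hk
      rw [hk] at ha
      rcases Nat.eq_zero_or_pos k with rfl | hk0
      · rwa [pow_zero, orderOf_eq_one_iff] at hk
      · rw [Nat.coprime_pow_left_iff hk0, Nat.coprime_self] at ha
        exact absurd ha (Fact.out : p.Prime).ne_one
    obtain ⟨U⟩ := (inferInstance : Nonempty (Sylow p (F.autGroup P)))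
    have htop := NormalLift.eq_top_of_sylow_coprime U U le_rfl fun a ha => by
      rw [hcop a ha]; exact Subgroup.one_mem _
    intro a
    obtain ⟨k, hk⟩ := U.2 ⟨a, htop.ge (Subgroup.mem_top a)⟩
    exact ⟨k, congrArg Subtype.val hk⟩
  refine le_of_normalizer_le hS hPS le_rfl (hPS.trans S.le_normalizer) fun g hgS hgP => ?_
  have hgN : g ∈ normalizerIn S P := ⟨hgS, hgP⟩
  have hm : conjAutHom S P ⟨g, hgN⟩ ∈ F.autGroup P := autInducedBy_le_autGroup hPS (by
    rw [← range_conjAutHom]; exact ⟨_, rfl⟩)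
  exact mem_of_normal_pSubgroup hc hr ⊤ inferInstance (hp.to_subgroup ⊤) hgN ⟨_, hm⟩ (Subgroup.mem_top _)
    fun x => rfl

/-- The centralizer system of the core is not constrained if the system is not. -/
theorem centralizerCore_not_constrained (hS : IsPGroup p S) (hF : F.IsSaturated p) (hQ : F.IsNormal F.core)
    (hnc : ¬ F.IsConstrained p) : ¬ (centralizerSystem F F.core hQ.1).IsConstrained p := by
  intro hc
  obtain ⟨hsat, R, hR, hRc⟩ := hc
  haveI := finite_of_le (centralizerIn_le S F.core)
  have hcore : (centralizerSystem F F.core hQ.1).IsNormal (centralizerSystem F F.core hQ.1).core :=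
    Fusion91.isNormal_core _
  have hle : R ≤ F.core := (le_sSup (show R ∈ {Q | (centralizerSystem F F.core hQ.1).IsNormal Q} from hR)).trans
    (Fusion91.le_core (core_normal_of_invariant hS hF (centralizerSystem_isNormalIn hS hF hQ).1.2.2 hcore))
  refine hnc (isConstrained_of_normal_self_centralizing hF hQ fun x hx => hle ?_)
  refine centralizer_le_of_centric hRc ⟨hx, Subgroup.mem_centralizer_iff.2 fun y hy => ?_⟩
  exact Subgroup.mem_centralizer_iff.1 hx.2 y (hle hy)

theorem exists_component_aux : ∀ n m, ∀ (S : Subgroup Ω) (F : FusionSystem S), Finite S → Nat.card S = n →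
    numMaps F = m → IsPGroup p S → F.IsSaturated p → ¬ F.IsConstrained p →
      ∃ (T : Subgroup Ω) (C : FusionSystem T), C.IsComponentIn F p := by
  intro n
  induction n using Nat.strong_induction_on with
  | _ n ihn =>
  intro m
  induction m using Nat.strong_induction_on with
  | _ m ihm =>
  intro S F _ hn hm hS hF hnc
  -- proper normal subsystems that are not constrained
  have hrec : ∀ (T : Subgroup Ω) (E : FusionSystem T), E.IsNormalIn F p →
      ¬ (T = S ∧ ∀ P, E.Hom P = F.Hom P) → ¬ E.IsConstrained p →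
        ∃ (T : Subgroup Ω) (C : FusionSystem T), C.IsComponentIn F p := by
    intro T E hE hproper hEc
    have hTS : T ≤ S := hE.1.2.2.2.1.1
    haveI := finite_of_le hTS
    obtain ⟨T', C, hC, hCq⟩ : ∃ (T' : Subgroup Ω) (C : FusionSystem T'), C.IsComponentIn E p := by
      rcases eq_or_ne T S with rfl | hne
      · obtain ⟨P, hP⟩ : ∃ P, E.Hom P ≠ F.Hom P := by
          by_contra hno
          push_neg at hno
          exact hproper ⟨rfl, hno⟩
        exact ihm _ (hm ▸ numMaps_lt hE.1.2.2.1 hP) _ E inferInstance hn rfl hS hE.1.1 hEc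
      · refine ihn _ ?_ _ T E inferInstance rfl rfl (hS.to_le hTS) hE.1.1 hEc
        rw [← hn]
        exact lt_of_le_of_ne (Subgroup.card_le_of_le hTS) fun he =>
          hne (Subgroup.eq_of_le_of_card_ge hTS he.ge)
    exact ⟨T', C, FusionSystem.IsSubnormalIn.step hC hE, hCq⟩
  by_contra hno
  have hall : ∀ (T : Subgroup Ω) (E : FusionSystem T), E.IsNormalIn F p →
      ¬ (T = S ∧ ∀ P, E.Hom P = F.Hom P) → E.IsConstrained p := fun T E hE hpr => by
    by_contra hEc
    exact hno (hrec T E hE hpr hEc)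
  -- the largest normal subgroup is central
  have hcoreN : F.IsNormal F.core := Fusion91.isNormal_core F
  have hCnc := centralizerCore_not_constrained hS hF hcoreN hnc
  have hcore : F.IsCentral F.core := by
    obtain ⟨hCS, hCF⟩ : centralizerIn S F.core = S ∧
        ∀ P, (centralizerSystem F F.core hcoreN.1).Hom P = F.Hom P := by
      by_contra hp
      exact hCnc (hall _ _ (centralizerSystem_isNormalIn hS hF hcoreN) hp)
    refine isCentral_iff.2 ⟨hcoreN.1, fun P f hf => ?_⟩
    exact ((IsCentralizerSystem.isMap_iff (isCentralizerSystem_centralizerSystem F.core hcoreN.1)).1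
      (hf.of_subset (hCF P).ge)).2.2.2
  have hZ : F.center = F.core :=
    le_antisymm (Fusion91.le_core (Fusion91.isNormal_of_central (Fusion91.isCentral_center F)))
      (le_sSup hcore)
  -- normal subsystems over noncentral subgroups are everything
  have hfull : ∀ (T : Subgroup Ω) (E : FusionSystem T), E.IsNormalIn F p → ¬ T ≤ F.center →
      T = S ∧ ∀ P, E.Hom P = F.Hom P := by
    intro T E hE hTZ
    by_contra hp
    obtain ⟨-, R, hR, hRc⟩ := hall T E hE hp
    have hTS : T ≤ S := hE.1.2.2.2.1.1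
    haveI := finite_of_le hTS
    have hRZ : R ≤ F.center := hZ ▸ (le_sSup (show R ∈ {Q | E.IsNormal Q} from hR)).trans
      (Fusion91.le_core (core_normal_of_invariant hS hF hE.1.2.2 (Fusion91.isNormal_core E)))
    refine hTZ fun x hx => hRZ (centralizer_le_of_centric hRc ⟨hx, Subgroup.mem_centralizer_iff.2 fun y hy => ?_⟩)
    exact (F.center_le_centralizer (hRZ hy) x (hTS hx)).symm
  have hSZ : ¬ S ≤ F.center := fun hle => by
    have hn : F.IsNormal F.center := Fusion91.isNormal_of_central (Fusion91.isCentral_center F)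
    exact hnc (isConstrained_of_normal_self_centralizing hF hn fun x hx => hle hx.1)
  -- the hyperfocal subgroup is everything
  have hhyp : F.hyperfocalSubgroup p = S := by
    by_contra hne
    have hHn : ((F.hyperfocalSubgroup p).subgroupOf S).Normal :=
      (Subgroup.normal_subgroupOf_iff_le_normalizer hyperfocal_le).2 hyperfocal_normalizer
    haveI := finite_of_le (hyperfocal_le (F := F) (p := p))
    obtain ⟨E, hE, hEi⟩ := PPow.exists_pPowerIndex (p := p) (Nat.card S) S F inferInstance rfl hS hF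
      (F.hyperfocalSubgroup p) hyperfocal_le le_rfl
    by_cases hle : F.hyperfocalSubgroup p ≤ F.center
    · exact hnc (isConstrained_of_hyperfocal_le_central hS hF (Fusion91.isCentral_center F) hle)
    · exact hne (hfull _ E (PPow.isNormalIn_of_pPowerIndex hS hF hyperfocal_le hHn hE hEi) hle).1
  refine hno ⟨S, F, FusionSystem.IsSubnormalIn.refl F p, hF, hhyp, fun E hE => ?_⟩
  -- the factor system is simple
  have hZc := Fusion91.stronglyClosed_center F
  have hα := S5134.result p hS F hF F.center hZc _ E hE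
  refine ⟨Fusion91.isSaturated_image hS hF hα, fun htop => ?_, fun T' N hN => ?_⟩
  · refine hSZ fun x hx => ?_
    have h1 : QuotientGroup.mk' ((F.center).subgroupOf S) ⟨x, hx⟩ ∈
        (⊤ : Subgroup (S ⧸ (F.center).subgroupOf S)) := Subgroup.mem_top _
    rw [htop, Subgroup.mem_bot] at h1
    exact (hE.2.1 _).1 h1
  by_cases hT : preimageAlong (QuotientGroup.mk' ((F.center).subgroupOf S)) T' ≤ F.center
  · left
    rw [Subgroup.eq_bot_iff_forall]
    intro y hy
    obtain ⟨x, rfl⟩ := QuotientGroup.mk'_surjective _ y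
    exact (hE.2.1 _).2 (hT (Fusion91.mem_preimageAlong.2 ⟨x.2, hy⟩))
  · right
    have h : CentralLift.Ctx F F.center (QuotientGroup.mk' ((F.center).subgroupOf S)) E N p :=
      ⟨hS, hF, Fusion91.isCentral_center F, hE.2.1, hα, hN⟩
    obtain ⟨hTS, hHom⟩ := hfull _ h.lift h.lift_isNormalIn hT
    have hT' : T' = ⊤ := by
      rw [← h.img_top, hTS, eq_top_iff]
      intro y _
      obtain ⟨x, rfl⟩ := QuotientGroup.mk'_surjective _ y
      exact Fusion91.mem_imageAlong.2 ⟨x, x.2, rfl⟩
    refine ⟨hT', fun P => Set.Subset.antisymm (hN.1.2.2.1 P) (hom_subset_of_isMap fun g hg => ?_)⟩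
    obtain ⟨f, hf, hfe⟩ := Fusion91.exists_lift_map hα hg
    obtain ⟨-, -, g', hg', hge⟩ := h.lmap_over (h.isMap_lift.1 (hf.of_subset (hHom _).ge))
    rw [h.img_pre (hg.dom_le)] at hg'
    refine hg'.congr fun y hy => ?_
    obtain ⟨x, hx, rfl⟩ := Fusion91.exists_push_eq hα.2.1 (Subgroup.mem_top y)
    have hx' := Fusion91.mem_preimage_push.2 ⟨hx, hy⟩
    rw [hge x hx', hfe x hx']

/-- A saturated system that is not constrained has a component. -/
theorem exists_component (hS : IsPGroup p S) (hF : F.IsSaturated p) (hnc : ¬ F.IsConstrained p) :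
    ∃ (T : Subgroup Ω) (C : FusionSystem T), C.IsComponentIn F p :=
  exists_component_aux _ _ S F inferInstance rfl rfl hS hF hnc

end Cfsg.Agent.Fusion
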