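import Cfsg.Agent.Lib.Fusion.ConstrainedNormalSub
import Cfsg.Agent.Lib.Coprime.Action

/-!
# Centralizer systems in constrained systems are constrained
-/

set_option autoImplicit false
set_option linter.style.haveILetI false

namespace Cfsg.Agent.Fusion

open Cfsg
open Cfsg.FusionSystem (normalizerIn centralizerIn)

/-- Thompson's `P × Q` lemma for automorphism groups. -/
theorem aut_eq_one_of_pxq {p : ℕ} [Fact p.Prime] {M : Type*} [Group M] [Finite M] (hM : IsPGroup p M)
    (A : Subgroup (MulAut M)) (hA : IsPGroup p A) (a : MulAut M) (hcop : Nat.Coprime (orderOf a) p)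
    (hcomm : ∀ b ∈ A, b * a = a * b) (hfix : ∀ x, (∀ b ∈ A, b x = x) → a x = x) : a = 1 := by
  let inlH : M →* M ⋊[MonoidHom.id (MulAut M)] MulAut M := SemidirectProduct.inl
  let inrH : MulAut M →* M ⋊[MonoidHom.id (MulAut M)] MulAut M := SemidirectProduct.inr
  have hact : ∀ (b : MulAut M) (x : M), inrH b * inlH x * (inrH b)⁻¹ = inlH (b x) := fun b x => by
    have := SemidirectProduct.inl_aut (φ := MonoidHom.id (MulAut M)) b x
    simp only [MonoidHom.id_apply] at this
    rw [this, ← map_inv]
  have hnorm : ∀ b : MulAut M, inrH b ∈ Subgroup.normalizer (inlH.range : Set _) := fun b => by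
    refine Subgroup.mem_normalizer_iff.2 fun y => ⟨?_, ?_⟩
    · rintro ⟨x, rfl⟩
      exact ⟨b x, (hact b x).symm⟩
    · rintro ⟨x, hx⟩
      refine ⟨b⁻¹ x, ?_⟩
      have h1 := hact b⁻¹ x
      rw [hx, map_inv] at h1
      rw [← h1]; group
  haveI : Finite (MulAut M) := Finite.of_injective (fun e : MulAut M => (e : M → M)) DFunLike.coe_injective
  haveI : Finite (M ⋊[MonoidHom.id (MulAut M)] MulAut M) := Finite.of_equiv _ SemidirectProduct.equivProd.symm
  have hcard : Nat.card (Subgroup.zpowers (inrH a)) = orderOf a := by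
    rw [Nat.card_zpowers]
    exact orderOf_injective inrH SemidirectProduct.inr_injective a
  have h := Coprime.thompson_pxq p (A.map inrH) (Subgroup.zpowers (inrH a)) inlH.range (hA.map inrH)
    (by rw [hcard]; exact hcop) (hM.of_surjective _ inlH.rangeRestrict_surjective) ?_ ?_ ?_ ?_
  · refine MulEquiv.ext fun x => ?_
    have h1 := Subgroup.mem_centralizer_iff.1 (h (Subgroup.mem_zpowers _)) (inlH x) ⟨x, rfl⟩
    refine SemidirectProduct.inl_injective (φ := MonoidHom.id (MulAut M)) ?_
    show inlH (a x) = inlH x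
    rw [← hact a x, ← h1, mul_inv_cancel_right]
  · rintro _ ⟨b, hb, rfl⟩
    refine Subgroup.mem_centralizer_iff.2 ?_
    rintro _ ⟨n, rfl⟩
    have hc : Commute b a := hcomm b hb
    exact (((hc.map inrH).zpow_right n).symm).eq
  · rintro _ ⟨b, -, rfl⟩
    exact hnorm b
  · exact Subgroup.zpowers_le.2 (hnorm a)
  · rintro _ ⟨⟨x, rfl⟩, hx⟩
    have hxa : a x = x := hfix x fun b hb => by
      have h1 := Subgroup.mem_centralizer_iff.1 hx (inrH b) ⟨b, hb, rfl⟩
      refine SemidirectProduct.inl_injective (φ := MonoidHom.id (MulAut M)) ?_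
      show inlH (b x) = inlH x
      rw [← hact b x, h1, mul_inv_cancel_right]
    refine Subgroup.mem_centralizer_iff.2 ?_
    rintro _ ⟨n, rfl⟩
    have hc : Commute (inrH a) (inlH x) := by
      have h1 := hact a x
      rw [hxa] at h1
      exact mul_inv_eq_iff_eq_mul.1 h1
    exact (hc.zpow_left n).eq

variable {Ω : Type*} [Group Ω] {S : Subgroup Ω} {F : FusionSystem S} {p : ℕ}

/-- Centralizer systems of fully centralized subgroups in constrained systems are constrained. -/
theorem isConstrained_centralizerSystem [Finite S] [Fact p.Prime] (hS : IsPGroup p S)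
    (hF : F.IsConstrained p) {U : Subgroup Ω} (hU : F.IsFullyCentralized U) :
    (centralizerSystem F U hU.1).IsConstrained p := by
  obtain ⟨hsat, Q₀, hQ₀, hQ₀c⟩ := hF
  have hUS := hU.1
  have hWS : centralizerIn S U ≤ S := centralizerIn_le S U
  haveI := finite_of_le hWS
  have hE := isCentralizerSystem_centralizerSystem (F := F) U hUS
  have hEs := centralizerSystem_isSaturated hS hsat hU
  have hWp : IsPGroup p ↥(centralizerIn S U) := hS.to_le hWS
  have hQ : F.IsNormal F.core := Fusion91.isNormal_core F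
  have hQc : centralizerIn S F.core ≤ F.core := fun x hx => by
    refine Fusion91.le_core hQ₀ (centralizer_le_of_centric hQ₀c ⟨hx.1, ?_⟩)
    exact Subgroup.centralizer_le (Fusion91.le_core hQ₀) hx.2
  have hQcl := stronglyClosed_of_normal hQ
  have hRW : centralizerIn F.core U ≤ centralizerIn S U := fun x hx => ⟨hQ.1 hx.1, hx.2⟩
  have hR : (centralizerSystem F U hUS).IsNormal (centralizerIn F.core U) := by
    refine isNormal_iff.2 ⟨hRW, fun P f hf => ?_⟩
    obtain ⟨hfm, hPW, -, f₁, hf₁, he₁, hfix₁⟩ := (IsCentralizerSystem.isMap_iff hE).1 hf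
    obtain ⟨f₂, hf₂, he₂, hQ₂⟩ := normal_extendsStab hQ hf₁
    have hfixU : ∀ u ∈ U, f₂ u = u := fun u hu => by
      rw [he₂ (Subgroup.mem_sup_right hu)]; exact hfix₁ u hu
    have hPle : P ≤ P ⊔ U ⊔ F.core := le_sup_left.trans le_sup_left
    have hRle : centralizerIn F.core U ≤ P ⊔ U ⊔ F.core := fun x hx => Subgroup.mem_sup_right hx.1
    have hUle : U ≤ P ⊔ U ⊔ F.core := le_sup_right.trans le_sup_left
    have himU : f₂ '' (U : Set Ω) = (U : Set Ω) :=
      (Set.image_congr fun u hu => hfixU u hu).trans (Set.image_id' _)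
    have hmapR : ∀ x ∈ centralizerIn F.core U, f₂ x ∈ centralizerIn F.core U := fun x hx => by
      have h1 : f₂ x ∈ centralizerIn S U := map_mem_centralizer hf₂ hUle himU (hRle hx) hx.2
      exact ⟨(Set.ext_iff.1 hQ₂ (f₂ x)).1 ⟨x, hx.1, rfl⟩, h1.2⟩
    have hsup : P ⊔ centralizerIn F.core U ≤ centralizerIn S U := sup_le hPW hRW
    have hsle : P ⊔ centralizerIn F.core U ≤ P ⊔ U ⊔ F.core := sup_le hPle hRle
    refine ⟨f₂, (IsCentralizerSystem.isMap_iff hE).2 ⟨hf₂.mono hsle, hsup,
      fun x hx => map_mem_centralizer hf₂ hUle himU (hsle hx) (hsup hx).2, f₂,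
      hf₂.mono (sup_le hsle hUle), fun _ _ => rfl, hfixU⟩, fun x hx => ?_, ?_⟩
    · rw [he₂ (Subgroup.mem_sup_left hx), he₁ hx]
    · refine Set.Subset.antisymm ?_ fun y hy => ?_
      · rintro _ ⟨x, hx, rfl⟩
        exact hmapR x hx
      · exact surjOn_of_card_le (hRW.trans hWS) (hf₂.injOn.mono hRle) hmapR le_rfl y hy
  have hRcl := stronglyClosed_of_normal hR
  have hKW : centralizerIn (centralizerIn S U) (centralizerIn F.core U) ≤ centralizerIn S U :=
    centralizerIn_le _ _
  have hKN : centralizerIn S U ≤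
      Subgroup.normalizer (centralizerIn (centralizerIn S U) (centralizerIn F.core U) : Set Ω) := by
    have hn := stronglyClosed_le_normalizer hRcl
    have key : ∀ s ∈ centralizerIn S U, ∀ x ∈ centralizerIn (centralizerIn S U) (centralizerIn F.core U),
        s * x * s⁻¹ ∈ centralizerIn (centralizerIn S U) (centralizerIn F.core U) := by
      intro s hs x hx
      refine ⟨Subgroup.mul_mem _ (Subgroup.mul_mem _ hs hx.1) (Subgroup.inv_mem _ hs),
        Subgroup.mem_centralizer_iff.2 fun r hr => ?_⟩
      have h1 := conj_mem_of_mem_normalizer (hn (Subgroup.inv_mem _ hs)) hr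
      rw [inv_inv] at h1
      have h2 := Subgroup.mem_centralizer_iff.1 hx.2 _ h1
      calc r * (s * x * s⁻¹) = s * (s⁻¹ * r * s * x) * s⁻¹ := by group
        _ = s * (x * (s⁻¹ * r * s)) * s⁻¹ := by rw [h2]
        _ = s * x * s⁻¹ * r := by group
    intro s hs
    refine Subgroup.mem_set_normalizer_iff.mpr fun x => ⟨key s hs x, fun h => ?_⟩
    have := key s⁻¹ (Subgroup.inv_mem _ hs) _ h
    rwa [show s⁻¹ * (s * x * s⁻¹) * s⁻¹⁻¹ = x by group] at this
  have hK : (centralizerSystem F U hUS).IsNormal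
      (centralizerIn (centralizerIn S U) (centralizerIn F.core U)) := by
    refine isNormal_of_invariant hWp hEs fun P hP => ?_
    have key : (centralizerSystem F U hUS).IsCentric P ∧ (centralizerSystem F U hUS).IsRadical p P := by
      rcases hP with rfl | hP
      · exact ⟨isCentric_self, isRadical_self hWp hEs⟩
      · exact ⟨hP.1, isRadical_of_essential hWp hP⟩
    obtain ⟨hc, hr⟩ := key
    have hPW := hc.1
    haveI := finite_of_le hPW
    haveI := finite_mulAut P
    have hRP : centralizerIn F.core U ≤ P := normal_le_centric_radical hWp hR hc hr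
    have hinv : ∀ b ∈ (centralizerSystem F U hUS).autGroup P, ∀ x : P,
        ((b x : P) : Ω) ∈ centralizerIn F.core U ↔ (x : Ω) ∈ centralizerIn F.core U := by
      intro b hb x
      have h1 : ∀ b ∈ (centralizerSystem F U hUS).autGroup P, ∀ x : P,
          (x : Ω) ∈ centralizerIn F.core U → ((b x : P) : Ω) ∈ centralizerIn F.core U := fun b hb x hx => by
        rw [← autFun_coe]
        exact (stronglyClosed_iff.1 hRcl).2 _ _ ((mem_autGroup hPW).1 hb).1 x x.2 hx
      refine ⟨fun h => ?_, h1 b hb x⟩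
      have := h1 _ (((centralizerSystem F U hUS).autGroup P).inv_mem hb) _ h
      rwa [show b⁻¹ (b x) = x from b.symm_apply_apply x] at this
    let B : Subgroup ((centralizerSystem F U hUS).autGroup P) :=
      { carrier := {a | ∀ x : P, (x : Ω) ∈ centralizerIn F.core U → (a : MulAut P) x = x}
        one_mem' := fun x _ => rfl
        mul_mem' := fun {a b} ha hb x hx => by rw [Subgroup.coe_mul, MulAut.mul_apply, hb x hx, ha x hx]
        inv_mem' := fun {a} ha x hx => by
          rw [Subgroup.coe_inv]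
          conv_lhs => rw [← ha x hx]
          exact (a : MulAut P).symm_apply_apply x }
    have hB : B.Normal := ⟨fun a ha b x hx => by
      have hbb : (b : MulAut P) ((b : MulAut P)⁻¹ x) = x := (b : MulAut P).apply_symm_apply x
      have hy : (((b : MulAut P)⁻¹ x : P) : Ω) ∈ centralizerIn F.core U :=
        (hinv _ b.2 _).1 (by rw [hbb]; exact hx)
      simp only [Subgroup.coe_mul, Subgroup.coe_inv, MulAut.mul_apply]
      rw [ha _ hy, hbb]⟩
    have hBp : IsPGroup p B := by
      have hcop : ∀ a : B, Nat.Coprime (orderOf a) p → a = 1 := by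
        rintro ⟨a, ha⟩ hcop
        rw [Subgroup.orderOf_mk, ← Subgroup.orderOf_coe] at hcop
        obtain ⟨hm, -, -, f₁, hf₁, he₁, hfix₁⟩ :=
          (IsCentralizerSystem.isMap_iff hE).1 ((mem_autGroup hPW).1 a.2).1
        obtain ⟨f₂, hf₂, he₂, hQ₂⟩ := normal_extendsStab hQ hf₁
        have hfixU : ∀ u ∈ U, f₂ u = u := fun u hu => by
          rw [he₂ (Subgroup.mem_sup_right hu)]; exact hfix₁ u hu
        have hP₂ : f₂ '' (P : Set Ω) = (P : Set Ω) :=
          (Set.image_congr fun x hx => by rw [he₂ (Subgroup.mem_sup_left hx), he₁ hx]).trans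
            ((mem_autGroup hPW).1 a.2).2
        have hU₂ : f₂ '' (U : Set Ω) = (U : Set Ω) :=
          (Set.image_congr fun u hu => hfixU u hu).trans (Set.image_id' _)
        have hPUiso : IsIso F (P ⊔ U) (P ⊔ U) f₂ := IsIso.sup (hf₂.mono le_sup_left) hP₂ hU₂
        obtain ⟨γ, hγ, hγe⟩ := (IsIso.sup hf₂ hPUiso.2 hQ₂).exists_aut
        have hMS : P ⊔ U ⊔ F.core ≤ S := hf₂.dom_le
        haveI := finite_of_le hMS
        haveI := finite_mulAut (P ⊔ U ⊔ F.core : Subgroup Ω)
        obtain ⟨m, hmcop, hma⟩ := NormalLift.exists_pow_coprime γ (a : MulAut P) hcop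
        have hpow : ∀ (n : ℕ) (z : ↥(P ⊔ U ⊔ F.core)),
            ((z : Ω) ∈ F.core → (((γ ^ n) z : ↥(P ⊔ U ⊔ F.core)) : Ω) ∈ F.core) ∧
            ((z : Ω) ∈ U → (((γ ^ n) z : ↥(P ⊔ U ⊔ F.core)) : Ω) = z) ∧
            ∀ hz : (z : Ω) ∈ P, (((γ ^ n) z : ↥(P ⊔ U ⊔ F.core)) : Ω) = (((a : MulAut P) ^ n) ⟨z, hz⟩ : P) := by
          intro n
          induction n with
          | zero => intro z; simp
          | succ n ih =>
            intro z
            obtain ⟨i1, i2, i3⟩ := ih z
            rw [pow_succ', MulAut.mul_apply, pow_succ', ← autFun_coe, hγe (Subtype.mem _)]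
            refine ⟨fun hz => ?_, fun hz => ?_, fun hz => ?_⟩
            · rw [← SetLike.mem_coe, ← hQ₂]; exact ⟨_, i1 hz, rfl⟩
            · rw [i2 hz]; exact hfixU _ hz
            · rw [i3 hz, he₂ (Subgroup.mem_sup_left (Subtype.mem _)), he₁ (Subtype.mem _), autFun_coe,
                MulAut.mul_apply]
        have hQle : F.core ≤ P ⊔ U ⊔ F.core := le_sup_right
        have hUle : U ≤ P ⊔ U ⊔ F.core := le_sup_right.trans le_sup_left
        haveI := finite_of_le hQ.1
        haveI := finite_mulAut F.core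
        -- the restriction to the core
        let g : MulAut (P ⊔ U ⊔ F.core : Subgroup Ω) := γ ^ m
        have hgQ : ∀ z : ↥(P ⊔ U ⊔ F.core), (z : Ω) ∈ F.core → ((g z : ↥(P ⊔ U ⊔ F.core)) : Ω) ∈ F.core :=
          fun z hz => (hpow m z).1 hz
        have hres : IsIso F F.core F.core (autFun g) := by
          have hgm : IsMap F (P ⊔ U ⊔ F.core) (autFun g) :=
            ((mem_autGroup hMS).1 ((F.autGroup _).pow_mem hγ m)).1
          refine NormalLift.isIso_of_mapsTo (hgm.mono hQle) hQ.1 (fun x hx => ?_) le_rfl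
          rw [autFun_of_mem g (hQle hx)]
          exact hgQ _ hx
        let β : MulAut F.core := hres.equiv
        have hβe : ∀ x : F.core, ((β x : F.core) : Ω) = (g ⟨x, hQle x.2⟩ : Ω) := fun x => by
          show autFun g x = _
          exact autFun_of_mem g (hQle x.2)
        have hβpow : ∀ (n : ℕ) (x : F.core), (((β ^ n) x : F.core) : Ω) = ((g ^ n) ⟨x, hQle x.2⟩ : Ω) := by
          intro n
          induction n with
          | zero => intro x; rfl
          | succ n ih =>
            intro x
            rw [pow_succ', MulAut.mul_apply, hβe, pow_succ', MulAut.mul_apply]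
            exact congrArg (fun z => ((g z : ↥(P ⊔ U ⊔ F.core)) : Ω)) (Subtype.ext (ih x))
        have hβcop : Nat.Coprime (orderOf β) p := by
          refine Nat.Coprime.coprime_dvd_left (orderOf_dvd_of_pow_eq_one (MulEquiv.ext fun x => ?_)) hmcop
          apply Subtype.ext
          rw [hβpow, show g ^ orderOf g = 1 from pow_orderOf_eq_one g]
          rfl
        have hUN : ∀ {u : Ω}, u ∈ U → u ∈ normalizerIn U F.core := fun hu =>
          ⟨hu, normal_le_normalizer hQ (hUS hu)⟩
        have hβ : β = 1 := by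
          refine aut_eq_one_of_pxq (hS.to_le hQ.1) (conjAutHom U F.core).range
            (((hS.to_le ((normalizerIn_le U F.core).trans hUS))).of_surjective _
              (conjAutHom U F.core).rangeRestrict_surjective) β hβcop ?_ fun x hx => ?_
          · rintro _ ⟨⟨u, hu⟩, rfl⟩
            refine MulEquiv.ext fun x => Subtype.ext ?_
            rw [MulAut.mul_apply, MulAut.mul_apply, hβe]
            show u * ((β x : F.core) : Ω) * u⁻¹ = _
            rw [hβe]
            let u' : ↥(P ⊔ U ⊔ F.core) := ⟨u, hUle hu.1⟩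
            have hu' : g u' = u' := Subtype.ext ((hpow m u').2.1 hu.1)
            have h2 : (⟨((conjAutHom U F.core ⟨u, hu⟩) x : F.core), hQle (Subtype.mem _)⟩ : ↥(P ⊔ U ⊔ F.core)) =
                u' * ⟨x, hQle x.2⟩ * u'⁻¹ := Subtype.ext rfl
            rw [h2, map_mul, map_mul, map_inv, hu']
            rfl
          · have hxR : (x : Ω) ∈ centralizerIn F.core U := by
              refine ⟨x.2, Subgroup.mem_centralizer_iff.2 fun u hu => ?_⟩
              have h1 : u * (x : Ω) * u⁻¹ = x :=
                congrArg Subtype.val (hx _ ⟨⟨u, hUN hu⟩, rfl⟩)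
              exact mul_inv_eq_iff_eq_mul.1 h1
            apply Subtype.ext
            rw [hβe, (hpow m _).2.2 (hRP hxR), hma]
            exact congrArg Subtype.val (ha ⟨x, hRP hxR⟩ hxR)
        have hmem : g ∈ NormalLift.fixMod (P ⊔ U ⊔ F.core) F.core := by
          have hfx : ∀ z : ↥(P ⊔ U ⊔ F.core), (z : Ω) ∈ F.core → g z = z := fun z hz => by
            have h1 := hβe ⟨z, hz⟩
            rw [hβ] at h1
            exact Subtype.ext h1.symm
          refine ⟨hfx, fun z => ?_⟩
          refine hQc ⟨hMS (z⁻¹ * g z).2, Subgroup.mem_centralizer_iff.2 fun q hq => ?_⟩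
          have hq' : (z : Ω) * q * (z : Ω)⁻¹ ∈ F.core :=
            conj_mem_of_mem_normalizer (normal_le_normalizer hQ (hMS z.2)) hq
          let q₀ : ↥(P ⊔ U ⊔ F.core) := ⟨q, hQle hq⟩
          have h1 : g (z * q₀ * z⁻¹) = z * q₀ * z⁻¹ := hfx _ hq'
          rw [map_mul, map_mul, map_inv, hfx q₀ hq] at h1
          have h2 : q₀ * (z⁻¹ * g z) = (z⁻¹ * g z) * q₀ := by
            calc q₀ * (z⁻¹ * g z) = z⁻¹ * (z * q₀ * z⁻¹) * g z := by group
              _ = z⁻¹ * (g z * q₀ * (g z)⁻¹) * g z := by rw [h1]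
              _ = (z⁻¹ * g z) * q₀ := by group
          exact congrArg Subtype.val h2
        obtain ⟨k, hk⟩ := NormalLift.fixMod_isPGroup (hS.to_le hMS) ⟨g, hmem⟩
        have hg1 : g = 1 := orderOf_eq_one_iff.1
          (Nat.eq_one_of_dvd_coprimes (hmcop.pow_right k) dvd_rfl
            (orderOf_dvd_of_pow_eq_one (congrArg Subtype.val hk)))
        refine Subtype.ext (Subtype.ext (MulEquiv.ext fun x => Subtype.ext ?_))
        have h1 := (hpow m ⟨x, Subgroup.mem_sup_left (Subgroup.mem_sup_left x.2)⟩).2.2 x.2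
        rw [hma, show γ ^ m = g from rfl, hg1] at h1
        exact h1.symm
      obtain ⟨V⟩ := (inferInstance : Nonempty (Sylow p B))
      have htop := NormalLift.eq_top_of_sylow_coprime V V le_rfl fun a ha => by
        rw [hcop a ha]; exact Subgroup.one_mem _
      intro a
      obtain ⟨k, hk⟩ := V.2 ⟨a, htop.ge (Subgroup.mem_top a)⟩
      exact ⟨k, congrArg Subtype.val hk⟩
    have hKP : centralizerIn (centralizerIn S U) (centralizerIn F.core U) ≤ P := by
      refine le_of_normalizer_le hWp hPW hKW (hPW.trans hKN) fun k hk hkP => ?_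
      have hkW : k ∈ normalizerIn (centralizerIn S U) P := ⟨hk.1, hkP⟩
      have hm : conjAutHom (centralizerIn S U) P ⟨k, hkW⟩ ∈ (centralizerSystem F U hUS).autGroup P :=
        autInducedBy_le_autGroup hPW (by rw [← range_conjAutHom]; exact ⟨_, rfl⟩)
      refine mem_of_normal_pSubgroup hc hr B hB hBp hkW ⟨_, hm⟩ (fun x hx => Subtype.ext ?_) fun x => rfl
      show k * (x : Ω) * k⁻¹ = x
      rw [← Subgroup.mem_centralizer_iff.1 hk.2 x hx, mul_inv_cancel_right]
    refine ⟨hKP, fun α hα => ?_⟩
    have hiso := (mem_autGroup hPW).1 hα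
    have hmaps : ∀ x ∈ centralizerIn (centralizerIn S U) (centralizerIn F.core U),
        autFun α x ∈ centralizerIn (centralizerIn S U) (centralizerIn F.core U) := by
      intro x hx
      refine ⟨hiso.1.apply_mem (hKP hx), Subgroup.mem_centralizer_iff.2 fun r hr => ?_⟩
      obtain ⟨y, hy⟩ := α.surjective ⟨r, hRP hr⟩
      have hyR : (y : Ω) ∈ centralizerIn F.core U :=
        (hinv α hα y).1 (by rw [hy]; exact hr)
      have hcomm : y * (⟨x, hKP hx⟩ : P) = ⟨x, hKP hx⟩ * y :=
        Subtype.ext (Subgroup.mem_centralizer_iff.1 hx.2 y hyR)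
      have h2 := congrArg α hcomm
      rw [map_mul, map_mul, hy] at h2
      rw [autFun_of_mem α (hKP hx)]
      exact congrArg Subtype.val h2
    refine Set.Subset.antisymm ?_ fun y hy => ?_
    · rintro _ ⟨x, hx, rfl⟩
      exact hmaps x hx
    · exact surjOn_of_card_le hKW (hiso.1.mono hKP).injOn hmaps le_rfl y hy
  refine isConstrained_of_normal_self_centralizing hEs (Fusion91.IsNormal.sup _ hR hK) fun x hx =>
    Subgroup.mem_sup_right ⟨hx.1, Subgroup.centralizer_le
      (SetLike.coe_subset_coe.2 (le_sup_left : centralizerIn F.core U ≤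
        centralizerIn F.core U ⊔ centralizerIn (centralizerIn S U) (centralizerIn F.core U))) hx.2⟩

end Cfsg.Agent.Fusion
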