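import Cfsg.Agent.Lib.Fusion.ComponentExists

/-!
# Normal subsystems of constrained systems are constrained
-/

set_option autoImplicit false
set_option linter.style.haveILetI false

namespace Cfsg.Agent.Fusion

open Cfsg
open Cfsg.FusionSystem (normalizerIn centralizerIn)

variable {Ω : Type*} [Group Ω] {S T : Subgroup Ω} {F : FusionSystem S} {E : FusionSystem T} {p : ℕ}

/-- The automorphisms of `P` fixing `R` and trivial on `Q` modulo `R`. -/
def chainFix (P Q R : Subgroup Ω) (hRQ : R ≤ Q) : Subgroup (MulAut P) where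
  carrier := {a | (∀ x : P, (x : Ω) ∈ R → a x = x) ∧ ∀ x : P, (x : Ω) ∈ Q → ((x⁻¹ * a x : P) : Ω) ∈ R}
  one_mem' := ⟨fun _ _ => rfl, fun x _ => by simp⟩
  mul_mem' {a b} ha hb := ⟨fun x hx => by rw [MulAut.mul_apply, hb.1 x hx, ha.1 x hx], fun x hx => by
    have h1 := hb.2 x hx
    have h2 : a (x⁻¹ * b x) = x⁻¹ * b x := ha.1 _ h1
    rw [MulAut.mul_apply, show x⁻¹ * a (b x) = (x⁻¹ * a x) * a (x⁻¹ * b x) by
      rw [mul_assoc, ← map_mul, mul_inv_cancel_left], h2, Subgroup.coe_mul]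
    exact R.mul_mem (ha.2 x hx) h1⟩
  inv_mem' {a} ha := by
    refine ⟨fun x hx => a.injective (by rw [ha.1 x hx]; exact a.apply_symm_apply x), fun x hx => ?_⟩
    have h1 := ha.2 x hx
    have h2 : a⁻¹ (x⁻¹ * a x) = x⁻¹ * a x := by
      refine a.injective ?_
      rw [ha.1 _ h1]; exact a.apply_symm_apply _
    rw [map_mul, show a⁻¹ (a x) = x from a.symm_apply_apply x, map_inv] at h2
    rw [show x⁻¹ * a⁻¹ x = (((a⁻¹ x)⁻¹) * x)⁻¹ by group, h2, Subgroup.coe_inv]
    exact R.inv_mem h1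

theorem chainFix_conj {P Q R : Subgroup Ω} {hRQ : R ≤ Q} {a b : MulAut P} (ha : a ∈ chainFix P Q R hRQ)
    (hR : ∀ x : P, ((b x : P) : Ω) ∈ R ↔ (x : Ω) ∈ R) (hQ : ∀ x : P, ((b x : P) : Ω) ∈ Q ↔ (x : Ω) ∈ Q) :
    b * a * b⁻¹ ∈ chainFix P Q R hRQ := by
  have hbb : ∀ x : P, b (b⁻¹ x) = x := fun x => b.apply_symm_apply x
  refine ⟨fun x hx => ?_, fun x hx => ?_⟩
  · rw [MulAut.mul_apply, MulAut.mul_apply, ha.1 _ ((hR _).mp (by rw [hbb]; exact hx)), hbb]
  · have h1 := (hR _).mpr (ha.2 (b⁻¹ x) ((hQ _).mp (by rw [hbb]; exact hx)))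
    rw [map_mul, map_inv, hbb] at h1
    exact h1

theorem chainFix_isPGroup [Fact p.Prime] {P Q R : Subgroup Ω} [Finite P] (hP : IsPGroup p P)
    (hQP : Q ≤ P) (hRQ : R ≤ Q) (hnorm : P ≤ Subgroup.normalizer (Q : Set Ω))
    (hc : centralizerIn P Q ≤ Q) : IsPGroup p (chainFix P Q R hRQ) := by
  obtain ⟨k, hk⟩ := IsPGroup.iff_card.mp hP
  rintro ⟨a, ha⟩
  have hit : ∀ (n : ℕ) (x : P), (x : Ω) ∈ Q → (a ^ n) x = x * (x⁻¹ * a x) ^ n := by
    intro n
    induction n with
    | zero => simp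
    | succ n ih =>
      intro x hx
      rw [pow_succ', MulAut.mul_apply, ih x hx, map_mul, map_pow, ha.1 _ (ha.2 x hx),
        pow_succ' (x⁻¹ * a x), ← mul_assoc x, mul_inv_cancel_left]
  set c := a ^ p ^ k with hcdef
  have hfix : ∀ x : P, (x : Ω) ∈ Q → c x = x := fun x hx => by
    rw [hcdef, hit _ x hx, ← hk, pow_card_eq_one', mul_one]
  have hmem : c ∈ NormalLift.fixMod P Q := by
    refine ⟨hfix, fun x => ?_⟩
    refine hc ⟨(x⁻¹ * c x : P).2, Subgroup.mem_centralizer_iff.2 fun q hq => ?_⟩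
    have hq' : (x : Ω) * q * (x : Ω)⁻¹ ∈ Q := conj_mem_of_mem_normalizer (hnorm x.2) hq
    let q₀ : P := ⟨q, hQP hq⟩
    have h1 : c (x * q₀ * x⁻¹) = x * q₀ * x⁻¹ := hfix _ hq'
    rw [map_mul, map_mul, map_inv, hfix q₀ hq] at h1
    have h2 : q₀ * (x⁻¹ * c x) = (x⁻¹ * c x) * q₀ := by
      calc q₀ * (x⁻¹ * c x) = x⁻¹ * (x * q₀ * x⁻¹) * c x := by group
        _ = x⁻¹ * (c x * q₀ * (c x)⁻¹) * c x := by rw [h1]
        _ = (x⁻¹ * c x) * q₀ := by group
    exact congrArg Subtype.val h2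
  obtain ⟨l, hl⟩ := NormalLift.fixMod_isPGroup hP ⟨c, hmem⟩
  refine ⟨k + l, Subtype.ext ?_⟩
  show a ^ p ^ (k + l) = 1
  rw [pow_add, pow_mul]
  exact congrArg Subtype.val hl

/-- A normal subsystem of a constrained system is constrained. -/
theorem isConstrained_of_isNormalIn [Finite S] [Fact p.Prime] (hS : IsPGroup p S) (hF : F.IsConstrained p)
    (hE : E.IsNormalIn F p) : E.IsConstrained p := by
  obtain ⟨hsat, Q₀, hQ₀, hQ₀c⟩ := hF
  have hTS : T ≤ S := hE.1.2.2.2.1.1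
  have hTcl : F.StronglyClosed T := hE.1.2.2.2.1
  haveI := finite_of_le hTS
  have hQ : F.IsNormal F.core := Fusion91.isNormal_core F
  have hQc : centralizerIn S F.core ≤ F.core := fun x hx => by
    refine Fusion91.le_core hQ₀ (centralizer_le_of_centric hQ₀c ⟨hx.1, ?_⟩)
    exact Subgroup.centralizer_le (Fusion91.le_core hQ₀) hx.2
  have hQcl := stronglyClosed_of_normal hQ
  -- the intersection is normal in the subsystem
  have hR : E.IsNormal (F.core ⊓ T) := by
    have hcl : E.StronglyClosed (F.core ⊓ T) := by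
      refine stronglyClosed_iff.2 ⟨inf_le_right, fun P f hf x hx hxR => ⟨?_, hf.apply_mem hx⟩⟩
      exact (stronglyClosed_iff.1 hQcl).2 P f (hf.of_subset (hE.1.2.2.1 P)) x hx hxR.1
    refine isNormal_of_closed_le (hS.to_le hTS) hE.1.1 hcl fun P hc hr => ?_
    refine le_of_normalizer_le (hS.to_le hTS) hc.1 inf_le_right
      (hc.1.trans (stronglyClosed_le_normalizer hcl)) fun g hgR hgP => ?_
    have hPS : P ≤ S := hc.1.trans hTS
    have hN : ((autInducedBy (F.core ⊓ T) P).subgroupOf (E.autGroup P)).Normal := by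
      refine ⟨fun β hβ α => ?_⟩
      rw [Subgroup.mem_subgroupOf, mem_autInducedBy] at hβ ⊢
      obtain ⟨q, hq, hqβ⟩ := hβ
      have hmap := (((mem_autGroup hc.1).mp α.2).1).of_subset (hE.1.2.2.1 P)
      obtain ⟨f', hf', he, hQ'⟩ := normal_extendsStab hQ hmap
      have hfq : f' q ∈ F.core := by rw [← SetLike.mem_coe, ← hQ']; exact ⟨q, hq.1, rfl⟩
      have hfT : f' q ∈ T := (stronglyClosed_iff.1 hTcl).2 _ _ hf' q (Subgroup.mem_sup_right hq.1) hq.2
      refine ⟨f' q, ⟨hfq, hfT⟩, fun x => ?_⟩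
      obtain ⟨y, rfl⟩ := (α : MulAut P).surjective x
      simp only [Subgroup.coe_mul, Subgroup.coe_inv, MulAut.mul_apply]
      rw [show ((α : MulAut P)⁻¹) ((α : MulAut P) y) = y from (α : MulAut P).symm_apply_apply y,
        ← autFun_coe, ← he (Subtype.mem _), hqβ,
        hf'.map_conj (Subgroup.mem_sup_right hq.1) (Subgroup.mem_sup_left y.2), he y.2, autFun_coe]
    have hp : IsPGroup p ((autInducedBy (F.core ⊓ T) P).subgroupOf (E.autGroup P)) := by
      have h1 : IsPGroup p (autInducedBy (F.core ⊓ T) P) :=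
        range_conjAutHom (F.core ⊓ T) P ▸
          ((hS.to_le hTS).to_le ((normalizerIn_le (F.core ⊓ T) P).trans inf_le_right)).of_surjective _
            (conjAutHom (F.core ⊓ T) P).rangeRestrict_surjective
      exact h1.comap_of_injective _ (Subgroup.subtype_injective _)
    have hgT : g ∈ normalizerIn T P := ⟨hgR.2, hgP⟩
    have hm : conjAutHom T P ⟨g, hgT⟩ ∈ autInducedBy T P := by
      rw [← range_conjAutHom]; exact ⟨_, rfl⟩
    exact mem_of_normal_pSubgroup hc hr _ hN hp hgT ⟨_, autInducedBy_le_autGroup hc.1 hm⟩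
      (Subgroup.mem_subgroupOf.mpr (mem_autInducedBy.mpr ⟨g, hgR, fun x => rfl⟩)) fun x => rfl
  refine isConstrained_of_normal_self_centralizing hE.1.1 hR ?_
  -- its centralizer in `T` is normal in the whole system
  have hRcl : ∀ {P : Subgroup Ω} {f : Ω → Ω}, IsMap F P f → ∀ x ∈ P, x ∈ F.core ⊓ T → f x ∈ F.core ⊓ T :=
    fun hf x hx hxR => ⟨(stronglyClosed_iff.1 hQcl).2 _ _ hf x hx hxR.1,
      (stronglyClosed_iff.1 hTcl).2 _ _ hf x hx hxR.2⟩
  have hSn : ∀ {s : Ω}, s ∈ S → ∀ {x : Ω}, x ∈ F.core ⊓ T → s * x * s⁻¹ ∈ F.core ⊓ T := fun hs x hx =>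
    hRcl (isMap_conj le_rfl hs) x (hTS hx.2) hx
  have hKN : S ≤ Subgroup.normalizer (centralizerIn T (F.core ⊓ T) : Set Ω) := by
    have key : ∀ s ∈ S, ∀ x ∈ centralizerIn T (F.core ⊓ T), s * x * s⁻¹ ∈ centralizerIn T (F.core ⊓ T) := by
      intro s hs x hx
      refine ⟨(stronglyClosed_iff.1 hTcl).2 _ _ (isMap_conj le_rfl hs) x (hTS hx.1) hx.1,
        Subgroup.mem_centralizer_iff.2 fun r hr => ?_⟩
      have h1 := hSn (S.inv_mem hs) hr
      rw [inv_inv] at h1
      have h2 := Subgroup.mem_centralizer_iff.1 hx.2 _ h1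
      calc r * (s * x * s⁻¹) = s * (s⁻¹ * r * s * x) * s⁻¹ := by group
        _ = s * (x * (s⁻¹ * r * s)) * s⁻¹ := by rw [h2]
        _ = s * x * s⁻¹ * r := by group
    intro s hs
    refine Subgroup.mem_set_normalizer_iff.mpr fun x => ⟨key s hs x, fun h => ?_⟩
    have := key s⁻¹ (S.inv_mem hs) _ h
    rwa [show s⁻¹ * (s * x * s⁻¹) * s⁻¹⁻¹ = x by group] at this
  have hK : F.IsNormal (centralizerIn T (F.core ⊓ T)) := by
    refine isNormal_of_invariant hS hsat fun P hP => ?_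
    have key : F.IsCentric P ∧ F.IsRadical p P := by
      rcases hP with rfl | hP
      · exact ⟨isCentric_self, isRadical_self hS hsat⟩
      · exact ⟨hP.1, isRadical_of_essential hS hP⟩
    obtain ⟨hc, hr⟩ := key
    have hPS := hc.1
    haveI := finite_of_le hPS
    have hQP : F.core ≤ P := normal_le_centric_radical hS hQ hc hr
    have hinv : ∀ (C : Subgroup Ω), F.StronglyClosed C → ∀ b ∈ F.autGroup P, ∀ x : P,
        ((b x : P) : Ω) ∈ C ↔ (x : Ω) ∈ C := by
      intro C hC b hb x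
      have h1 : ∀ b ∈ F.autGroup P, ∀ x : P, (x : Ω) ∈ C → ((b x : P) : Ω) ∈ C := fun b hb x hx => by
        rw [← autFun_coe]
        exact (stronglyClosed_iff.1 hC).2 _ _ ((mem_autGroup hPS).1 hb).1 x x.2 hx
      refine ⟨fun h => ?_, h1 b hb x⟩
      have := h1 _ ((F.autGroup P).inv_mem hb) _ h
      rwa [show b⁻¹ (b x) = x from b.symm_apply_apply x] at this
    have hKP : centralizerIn T (F.core ⊓ T) ≤ P := by
      refine le_of_normalizer_le hS hPS ((centralizerIn_le T _).trans hTS) (hPS.trans hKN) fun g hgK hgP => ?_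
      have hgS : g ∈ normalizerIn S P := ⟨hTS hgK.1, hgP⟩
      have hm : conjAutHom S P ⟨g, hgS⟩ ∈ F.autGroup P := autInducedBy_le_autGroup hPS (by
        rw [← range_conjAutHom]; exact ⟨_, rfl⟩)
      refine mem_of_normal_pSubgroup hc hr ((chainFix P F.core (F.core ⊓ T) inf_le_left).subgroupOf _)
        ⟨fun a ha b => Subgroup.mem_subgroupOf.mpr (chainFix_conj (Subgroup.mem_subgroupOf.mp ha)
          (fun x => by
            simp only [Subgroup.mem_inf]
            rw [hinv _ hQcl _ b.2, hinv _ hTcl _ b.2]) (hinv _ hQcl _ b.2))⟩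
        ((chainFix_isPGroup (hS.to_le hPS) hQP inf_le_left (hPS.trans (normal_le_normalizer hQ))
          fun x hx => hQc ⟨hPS hx.1, hx.2⟩).comap_of_injective _ (Subgroup.subtype_injective _))
        hgS ⟨_, hm⟩ (Subgroup.mem_subgroupOf.mpr ⟨fun x hx => Subtype.ext ?_, fun x hx => ?_⟩) fun x => rfl
      · show g * (x : Ω) * g⁻¹ = x
        rw [← Subgroup.mem_centralizer_iff.1 hgK.2 x hx, mul_inv_cancel_right]
      · show (x : Ω)⁻¹ * (g * (x : Ω) * g⁻¹) ∈ F.core ⊓ T
        refine ⟨F.core.mul_mem (F.core.inv_mem hx)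
          (conj_mem_of_mem_normalizer (normal_le_normalizer hQ (hTS hgK.1)) hx), ?_⟩
        have h2 := conj_mem_of_mem_normalizer (stronglyClosed_le_normalizer hTcl (S.inv_mem (hPS x.2))) hgK.1
        rw [inv_inv] at h2
        rw [show (x : Ω)⁻¹ * (g * (x : Ω) * g⁻¹) = ((x : Ω)⁻¹ * g * x) * g⁻¹ by group]
        exact T.mul_mem h2 (T.inv_mem hgK.1)
    refine ⟨hKP, fun α hα => ?_⟩
    have hiso := (mem_autGroup hPS).1 hα
    have hmaps : ∀ x ∈ centralizerIn T (F.core ⊓ T), autFun α x ∈ centralizerIn T (F.core ⊓ T) := by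
      intro x hx
      refine ⟨(stronglyClosed_iff.1 hTcl).2 _ _ hiso.1 x (hKP hx) hx.1,
        Subgroup.mem_centralizer_iff.2 fun r hr => ?_⟩
      obtain ⟨y, hy⟩ := α.surjective ⟨r, hQP hr.1⟩
      have hyR : (y : Ω) ∈ F.core ⊓ T := by
        have hre : ((α y : P) : Ω) = r := congrArg Subtype.val hy
        exact ⟨(hinv _ hQcl α hα y).1 (hre.symm ▸ hr.1), (hinv _ hTcl α hα y).1 (hre.symm ▸ hr.2)⟩
      have hcomm : y * (⟨x, hKP hx⟩ : P) = ⟨x, hKP hx⟩ * y :=
        Subtype.ext (Subgroup.mem_centralizer_iff.1 hx.2 y hyR)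
      have h2 := congrArg α hcomm
      rw [map_mul, map_mul, hy] at h2
      rw [autFun_of_mem α (hKP hx)]
      exact congrArg Subtype.val h2
    refine Set.Subset.antisymm ?_ fun y hy => ?_
    · rintro _ ⟨x, hx, rfl⟩
      exact hmaps x hx
    · exact surjOn_of_card_le ((centralizerIn_le T _).trans hTS) (hiso.1.mono hKP).injOn hmaps le_rfl y hy
  intro x hx
  exact ⟨Fusion91.le_core hK hx, hx.1⟩

theorem isConstrained_of_isSubnormalIn_aux {T S : Subgroup Ω} {E : FusionSystem T} {F : FusionSystem S}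
    (h : E.IsSubnormalIn F p) : p.Prime → Finite S → IsPGroup p S → F.IsConstrained p → E.IsConstrained p := by
  induction h with
  | refl => exact fun _ _ _ h => h
  | step _ hD ih =>
    intro hp _ hS hF
    haveI := Fact.mk hp
    have hle := hD.1.2.2.2.1.1
    exact ih hp (finite_of_le hle) (hS.to_le hle) (isConstrained_of_isNormalIn hS hF hD)

/-- A subnormal subsystem of a constrained system is constrained. -/
theorem isConstrained_of_isSubnormalIn [Finite S] [Fact p.Prime] (hS : IsPGroup p S) (hF : F.IsConstrained p)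
    (h : E.IsSubnormalIn F p) : E.IsConstrained p :=
  isConstrained_of_isSubnormalIn_aux h Fact.out inferInstance hS hF

end Cfsg.Agent.Fusion
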