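import Cfsg.Agent.Lib.Fusion.Group
import Cfsg.Agent.Lib.Fusion.Alperin
import Cfsg.Agent.Lib.Fusion.Subsystem
import Cfsg.Agent.Lib.Fusion.NormalLift
import Cfsg.Agent.Lib.Thompson.Cores

/-!
# Constrained fusion of normal and subnormal subgroups
-/

set_option autoImplicit false
set_option linter.style.haveILetI false

namespace Cfsg.Agent.Fusion

open Cfsg
open Cfsg.FusionSystem (normalizerIn centralizerIn)

universe u v

variable {p : ℕ}

/-- The trace of a Sylow subgroup on a normal subgroup is a Sylow subgroup. -/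
theorem exists_sylow_comap_normal [Fact p.Prime] {G : Type u} {H : Type v} [Group G] [Finite G]
    [Group H] (j : H →* G) (hj : Function.Injective j) (hN : j.range.Normal) (S : Sylow p G) :
    ∃ T : Sylow p H, (T : Subgroup H) = (S : Subgroup G).comap j := by
  haveI : Finite H := Finite.of_injective j hj
  obtain ⟨T, hT⟩ := (IsPGroup.comap_of_injective S.isPGroup' j hj).exists_le_sylow
  refine ⟨T, (Subgroup.eq_of_le_of_card_ge hT ?_).symm⟩
  obtain ⟨Q, hQ⟩ := (T.isPGroup'.map j).exists_le_sylow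
  obtain ⟨g, hg⟩ := MulAction.exists_smul_eq G Q S
  have hmem : ∀ t : T, ∃ h : (S : Subgroup G).comap j, j h = g * j t * g⁻¹ := by
    intro t
    obtain ⟨h, hh⟩ : g * j t * g⁻¹ ∈ j.range := hN.conj_mem _ ⟨t, rfl⟩ g
    refine ⟨⟨h, ?_⟩, hh⟩
    have h1 : g * j t * g⁻¹ ∈ ((g • Q : Sylow p G) : Subgroup G) := ⟨_, hQ ⟨t, t.2, rfl⟩, rfl⟩
    rw [Subgroup.mem_comap, hh]
    rwa [hg] at h1
  choose w hw using hmem
  exact Nat.card_le_card_of_injective w fun a b hab =>
    Subtype.ext (hj (mul_left_cancel (mul_right_cancel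
      ((hw a).symm.trans ((congrArg (fun h : (S : Subgroup G).comap j => j h) hab).trans (hw b))))))

/-- The fusion system of a normal subgroup of a group with constrained fusion is constrained. -/
theorem isConstrained_of_normal [Fact p.Prime] {G : Type u} {H : Type v} [Group G] [Finite G]
    [Group H] (j : H →* G) (hj : Function.Injective j) (hN : j.range.Normal) (S : Sylow p G)
    (hF : (groupFusionSystem (S : Subgroup G)).IsConstrained p) :
    (groupFusionSystem ((S : Subgroup G).comap j)).IsConstrained p := by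
  haveI : Finite H := Finite.of_injective j hj
  obtain ⟨T, hT⟩ := exists_sylow_comap_normal j hj hN S
  rw [← hT]
  set E := groupFusionSystem (T : Subgroup H) with hE
  have hEs : E.IsSaturated p := groupFusionSystem_isSaturated T
  obtain ⟨-, Q, hQn, hQc⟩ := hF
  have hTp : IsPGroup p (T : Subgroup H) := T.isPGroup'
  have hQS : Q ≤ (S : Subgroup G) := hQn.1
  have hSQ : (S : Subgroup G) ≤ Subgroup.normalizer (Q : Set G) := by
    intro s hs
    obtain ⟨f', hf', he, him⟩ := (isNormal_iff.1 hQn).2 _ _ (isMap_conj (F := groupFusionSystem (S : Subgroup G)) le_rfl hs)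
    have h1 : ∀ q ∈ Q, f' q = s * q * s⁻¹ := fun q hq => he (hQS hq)
    rw [Set.image_congr h1] at him
    refine Subgroup.mem_normalizer_iff.2 fun q => ⟨fun hq => ?_, fun hq => ?_⟩
    · rw [← SetLike.mem_coe, ← him]; exact ⟨q, hq, rfl⟩
    · rw [← SetLike.mem_coe, ← him] at hq
      obtain ⟨q', hq', he⟩ := hq
      exact mul_left_cancel (mul_right_cancel he) ▸ hq'
  have hCQ : centralizerIn (S : Subgroup G) Q ≤ Q := hQc.2 Q (isConj_refl hQS)
  -- the subgroup `X` of `N_G(Q)` inducing `O_p(Aut_G(Q))`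
  haveI := finite_mulAut Q
  let e := (conjAutHom (⊤ : Subgroup G) Q).rangeRestrict
  have hes : Function.Surjective e := MonoidHom.rangeRestrict_surjective _
  let X₀ : Subgroup ↥(normalizerIn (⊤ : Subgroup G) Q) := (pCore p _).comap e
  haveI hX₀ : X₀.Normal := Thompson.instPCoreNormal.comap e
  let X : Subgroup G := X₀.map (normalizerIn (⊤ : Subgroup G) Q).subtype
  have hXmem : ∀ {x : G}, x ∈ X ↔ ∃ h : x ∈ normalizerIn (⊤ : Subgroup G) Q, (⟨x, h⟩ : ↥(normalizerIn (⊤ : Subgroup G) Q)) ∈ X₀ :=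
    fun {x} => ⟨fun ⟨⟨_, h⟩, hm, he⟩ => he ▸ ⟨h, hm⟩, fun ⟨h, hm⟩ => ⟨_, hm, rfl⟩⟩
  have hXconj : ∀ g ∈ Subgroup.normalizer (Q : Set G), ∀ x ∈ X, g * x * g⁻¹ ∈ X := by
    intro g hg x hx
    obtain ⟨h, hm⟩ := hXmem.1 hx
    exact hXmem.2 ⟨_, hX₀.conj_mem _ hm ⟨g, Subgroup.mem_top g, hg⟩⟩
  have hXpow : ∀ x ∈ X, ∃ n : ℕ, x ^ p ^ n ∈ Subgroup.centralizer (Q : Set G) := by
    intro x hx
    obtain ⟨h, hm⟩ := hXmem.1 hx
    obtain ⟨n, hn⟩ := Thompson.isPGroup_pCore (p := p) ⟨_, hm⟩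
    refine ⟨n, ?_⟩
    have h1 : conjAutHom (⊤ : Subgroup G) Q (⟨x, h⟩ ^ p ^ n) = 1 := by
      have h2 := congrArg (fun a : pCore p ↥(conjAutHom (⊤ : Subgroup G) Q).range => ((a : ↥(conjAutHom (⊤ : Subgroup G) Q).range) : MulAut Q)) hn
      rw [map_pow]
      exact h2
    rw [← MonoidHom.mem_ker, ker_conjAutHom] at h1
    exact h1.2
  set R : Subgroup H := X.comap j ⊓ (T : Subgroup H) with hR
  have hjT : ∀ {x : H}, x ∈ (T : Subgroup H) ↔ j x ∈ (S : Subgroup G) := fun {x} => by rw [hT]; rfl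
  have hTR : (T : Subgroup H) ≤ Subgroup.normalizer (R : Set H) := by
    have key : ∀ t ∈ (T : Subgroup H), ∀ r ∈ R, t * r * t⁻¹ ∈ R := fun t ht r hr => by
      refine ⟨?_, Subgroup.mul_mem _ (Subgroup.mul_mem _ ht hr.2) (Subgroup.inv_mem _ ht)⟩
      show j (t * r * t⁻¹) ∈ X
      rw [map_mul, map_mul, map_inv]
      exact hXconj _ (hSQ (hjT.1 ht)) _ hr.1
    intro t ht
    refine Subgroup.mem_normalizer_iff.2 fun r => ⟨key t ht r, fun hr => ?_⟩
    have := key t⁻¹ (Subgroup.inv_mem _ ht) _ hr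
    simpa [mul_assoc] using this
  have hQX : Q ≤ X := by
    intro q hq
    have hqN : q ∈ normalizerIn (⊤ : Subgroup G) Q := ⟨Subgroup.mem_top q, Subgroup.le_normalizer hq⟩
    refine hXmem.2 ⟨hqN, ?_⟩
    let Q' : Subgroup ↥(normalizerIn (⊤ : Subgroup G) Q) := Q.subgroupOf _
    haveI : Q'.Normal := ⟨fun a ha b =>
      show (b : G) * (a : G) * (b : G)⁻¹ ∈ Q from conj_mem_of_mem_normalizer b.2.2 (ha : (a : G) ∈ Q)⟩
    exact Thompson.le_pCore (‹Q'.Normal›.map e hes)
      (((S.isPGroup'.to_le hQS).comap_subtype).map e) ⟨⟨q, hqN⟩, hq, rfl⟩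
  -- automorphisms of centric radical subgroups stabilize `R`
  have key : ∀ P f, IsMap E P f → ExtendsStab E R P f := by
    refine alperin_induction_cr hTp hEs _ (fun P f g h he => h.congr he) ?_ ?_ ?_
    · exact fun P P' f g hf _ h1 h2 => h1.comp h2 fun x hx => hf.mem hx
    · rintro P P' f _ hle ⟨f', h1, h2, h3⟩
      exact ⟨f', h1.mono (sup_le_sup_right hle R), h2.mono hle, h3⟩
    intro U hUc hUr hUn f hf
    have hUT := hUn.1
    haveI := finite_mulAut U
    -- induced by elements of `X`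
    let A : Subgroup (E.autGroup U) := (autInducedBy (X.comap j) U).subgroupOf (E.autGroup U)
    have hUS : U.map j ≤ (S : Subgroup G) := by
      rintro _ ⟨u, hu, rfl⟩
      exact hjT.1 (hUT hu)
    have hlift : ∀ h : H, (∀ u ∈ U, h * u * h⁻¹ ∈ U) → ∃ g ∈ Subgroup.normalizer (Q : Set G),
        ∀ u ∈ U, g * j u * g⁻¹ = j (h * u * h⁻¹) := by
      intro h hh
      have hm : IsMap (groupFusionSystem (S : Subgroup G)) (U.map j) (fun x => j h * x * (j h)⁻¹) :=
        isMap_group_iff.2 ⟨hUS, by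
          rintro _ ⟨u, hu, rfl⟩
          rw [← map_inv, ← map_mul, ← map_mul]
          exact hjT.1 (hUT (hh u hu)), j h, fun _ _ => rfl⟩
      obtain ⟨f', hf', he, him⟩ := (isNormal_iff.1 hQn).2 _ _ hm
      obtain ⟨-, -, g, hg⟩ := isMap_group_iff.1 hf'
      refine ⟨g, Subgroup.mem_normalizer_iff.2 fun q => ?_, fun u hu => ?_⟩
      · have him' : (fun x => g * x * g⁻¹) '' (Q : Set G) = (Q : Set G) :=
          (Set.image_congr fun x hx => (hg x (Subgroup.mem_sup_right hx)).symm).trans him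
        constructor
        · intro hq; rw [← SetLike.mem_coe, ← him']; exact ⟨q, hq, rfl⟩
        · intro hq
          rw [← SetLike.mem_coe, ← him'] at hq
          obtain ⟨q', hq', he'⟩ := hq
          exact mul_left_cancel (mul_right_cancel he') ▸ hq'
      · rw [← hg _ (Subgroup.mem_sup_left ⟨u, hu, rfl⟩), he ⟨u, hu, rfl⟩]
        simp only [map_mul, map_inv]
    haveI hA : A.Normal := by
      refine ⟨fun a ha b => ?_⟩
      obtain ⟨x, hx, hxa⟩ := mem_autInducedBy.1 (Subgroup.mem_subgroupOf.1 ha)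
      obtain ⟨h, -, hhb⟩ := mem_autInducedBy.1 ((autGroup_group T hUT).le b.2)
      obtain ⟨g, hgQ, hg⟩ := hlift h fun u hu => hhb ⟨u, hu⟩ ▸ ((b : MulAut U) ⟨u, hu⟩).2
      obtain ⟨y, hy⟩ : g * j x * g⁻¹ ∈ j.range := hN.conj_mem _ ⟨x, rfl⟩ g
      refine Subgroup.mem_subgroupOf.2 (mem_autInducedBy.2 ⟨y, ?_, fun v => ?_⟩)
      · rw [Subgroup.mem_comap, hy]
        exact hXconj g hgQ _ hx
      · obtain ⟨v, rfl⟩ := (b : MulAut U).surjective v
        apply hj
        simp only [Subgroup.coe_mul, Subgroup.coe_inv, MulAut.mul_apply, MulAut.inv_apply_self, map_mul,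
          map_inv, hy, hhb]
        have e : ∀ w ∈ U, j h * j w * (j h)⁻¹ = g * j w * g⁻¹ := fun w hw => by
          rw [hg w hw, map_mul, map_mul, map_inv]
        rw [e _ v.2, e _ ((a : MulAut U) v).2, hxa, map_mul, map_mul, map_inv]
        group
    have hAp : IsPGroup p A := by
      rintro ⟨a, ha⟩
      obtain ⟨x, hx, hxa⟩ := mem_autInducedBy.1 (Subgroup.mem_subgroupOf.1 ha)
      obtain ⟨n, hn⟩ := hXpow (j x) hx
      set z := x ^ p ^ n with hz
      obtain ⟨k, m, hm, hkm⟩ := Nat.exists_eq_pow_mul_and_not_dvd (orderOf_pos z).ne' p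
        (Fact.out : p.Prime).ne_one
      refine ⟨n + k, Subtype.ext (Subtype.ext ?_)⟩
      have hxN : x ∈ normalizerIn (X.comap j) U := ⟨hx, mem_normalizer_of_induces hxa⟩
      have hax : (a : MulAut U) = conjAutHom (X.comap j) U ⟨x, hxN⟩ :=
        MulEquiv.ext fun v => Subtype.ext (hxa v)
      have hwN : x ^ p ^ (n + k) ∈ Subgroup.normalizer (U : Set H) := Subgroup.pow_mem _ hxN.2 _
      have hw : x ^ p ^ (n + k) = z ^ p ^ k := by rw [hz, ← pow_mul, pow_add]
      simp only [Subgroup.coe_pow, Subgroup.coe_one, hax, ← map_pow]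
      refine MulEquiv.ext fun v => Subtype.ext ?_
      rw [conjAutHom_apply, Subgroup.coe_pow, MulAut.one_apply]
      set w := x ^ p ^ (n + k) with hwdef
      set d := w * (v : H) * w⁻¹ * (v : H)⁻¹ with hd
      have hdU : d ∈ U := U.mul_mem (conj_mem_of_mem_normalizer hwN v.2) (U.inv_mem v.2)
      have hwC : j w ∈ Subgroup.centralizer (Q : Set G) := by
        rw [hw, map_pow, hz, map_pow]
        exact Subgroup.pow_mem _ hn _
      have hvQ : j v ∈ Subgroup.normalizer (Q : Set G) := hSQ (hjT.1 (hUT v.2))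
      have hdC : j d ∈ Subgroup.centralizer (Q : Set G) := by
        refine Subgroup.mem_centralizer_iff.2 fun q hq => ?_
        have h1 := Subgroup.mem_centralizer_iff.1 hwC
        have h2 := conj_mem_of_mem_normalizer (Subgroup.inv_mem _ hvQ) hq
        rw [inv_inv] at h2
        have h3 := h1 _ h2
        have h4 := h1 q hq
        simp only [hd, map_mul, map_inv]
        calc q * (j w * j v * (j w)⁻¹ * (j v)⁻¹)
            = j w * j v * (((j v)⁻¹ * q * j v) * (j w)⁻¹) * (j v)⁻¹ := by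
              rw [← mul_assoc, ← mul_assoc, ← mul_assoc, h4]; group
          _ = j w * j v * ((j w)⁻¹ * ((j v)⁻¹ * q * j v)) * (j v)⁻¹ := by
              rw [(Commute.inv_right (h3 : Commute ((j v)⁻¹ * q * j v) (j w))).eq]
          _ = _ := by group
      have hdQ : j d ∈ Q := hCQ ⟨hjT.1 (hUT hdU), hdC⟩
      have hcomm : Commute d w :=
        hj (by simp only [map_mul]; exact Subgroup.mem_centralizer_iff.1 hwC (j d) hdQ)
      have hit : ∀ i : ℕ, w ^ i * (v : H) * (w ^ i)⁻¹ = d ^ i * (v : H) := by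
        intro i
        induction i with
        | zero => simp
        | succ i ih =>
          rw [pow_succ', pow_succ]
          calc w * w ^ i * (v : H) * (w * w ^ i)⁻¹ = w * (w ^ i * (v : H) * (w ^ i)⁻¹) * w⁻¹ := by group
            _ = w * d ^ i * (v : H) * w⁻¹ := by rw [ih]; group
            _ = d ^ i * w * (v : H) * w⁻¹ := by rw [(hcomm.pow_left i).eq]
            _ = d ^ i * d * (v : H) := by rw [hd]; group
      have hd1 : d = 1 := by
        have h1 : d ^ m = 1 := by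
          have := hit m
          have hwm : w ^ m = 1 := by rw [hw, ← pow_mul, ← hkm, pow_orderOf_eq_one]
          rwa [hwm, one_mul, inv_one, mul_one, right_eq_mul] at this
        obtain ⟨i, hi⟩ := hTp ⟨d, hUT hdU⟩
        have hi' : d ^ p ^ i = 1 := congrArg Subtype.val hi
        have hcop : Nat.Coprime m (p ^ i) :=
          Nat.Coprime.pow_right i ((Fact.out : p.Prime).coprime_iff_not_dvd.2 hm).symm
        exact orderOf_eq_one_iff.1 (Nat.eq_one_of_dvd_coprimes hcop (orderOf_dvd_of_pow_eq_one h1)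
          (orderOf_dvd_of_pow_eq_one hi'))
      show w * (v : H) * w⁻¹ = (v : H)
      exact mul_inv_eq_one.1 hd1
    -- `R ≤ U`
    have hRU : R ≤ U := by
      by_contra hne
      have hlt : U < U ⊔ R := lt_of_le_of_ne le_sup_left fun e => hne (le_sup_right.trans e.ge)
      have hsup : U ⊔ R ≤ (T : Subgroup H) := sup_le hUT inf_le_right
      obtain ⟨d, hd, hdU⟩ := SetLike.exists_of_lt (lt_normalizerIn (hTp.to_le hsup) hlt)
      have hd' : d ∈ ((U ⊔ R : Subgroup H) : Set H) := hd.1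
      rw [Subgroup.coe_mul_of_left_le_normalizer_right U R (hUT.trans hTR)] at hd'
      obtain ⟨u, hu, r, hr, rfl⟩ := hd'
      have hrN : r ∈ Subgroup.normalizer (U : Set H) := by
        have := Subgroup.mul_mem _ (Subgroup.inv_mem _ (Subgroup.le_normalizer hu)) hd.2
        rwa [inv_mul_cancel_left] at this
      have hrU : r ∉ U := fun h => hdU (U.mul_mem hu h)
      have hmem : conjAutHom (T : Subgroup H) U ⟨r, hr.2, hrN⟩ ∈ autInducedBy (T : Subgroup H) U := by
        rw [← range_conjAutHom]; exact ⟨_, rfl⟩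
      have hA' : (⟨_, autInducedBy_le_autGroup (F := E) hUT hmem⟩ : E.autGroup U) ∈ A :=
        Subgroup.mem_subgroupOf.2 (mem_autInducedBy.2 ⟨r, hr.1, fun v => rfl⟩)
      have hI : conjAutHom (T : Subgroup H) U ⟨r, hr.2, hrN⟩ ∈ Cfsg.Inn U :=
        hUr.2.le ⟨_, Thompson.le_pCore hA hAp hA', rfl⟩
      rw [inn_eq_autInducedBy, mem_autInducedBy] at hI
      obtain ⟨w, hw, hwv⟩ := hI
      refine hrU ?_
      have hc : w⁻¹ * r ∈ centralizerIn (T : Subgroup H) U := by
        refine ⟨Subgroup.mul_mem _ (Subgroup.inv_mem _ (hUT hw)) hr.2,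
          Subgroup.mem_centralizer_iff.2 fun v hv => ?_⟩
        have := hwv ⟨v, hv⟩
        rw [conjAutHom_apply] at this
        calc v * (w⁻¹ * r) = w⁻¹ * (w * v * w⁻¹) * r := by group
          _ = w⁻¹ * (r * v * r⁻¹) * r := by rw [← this]
          _ = _ := by group
      have := U.mul_mem hw (hUc.2 U (isConj_refl hUT) hc)
      rwa [mul_inv_cancel_left] at this
    refine ⟨f, by rw [sup_eq_left.2 hRU]; exact hf.1, fun _ _ => rfl, ?_⟩
    obtain ⟨-, -, h, hfh⟩ := isMap_group_iff.1 hf.1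
    obtain ⟨g, hgQ, hg⟩ := hlift h fun u hu => hfh u hu ▸ hf.mem hu
    have hmaps : ∀ r ∈ R, f r ∈ R := by
      intro r hr
      refine ⟨?_, hUT (hf.mem (hRU hr))⟩
      show j (f r) ∈ X
      rw [hfh r (hRU hr), ← hg r (hRU hr)]
      exact hXconj g hgQ _ hr.1
    exact Set.Subset.antisymm (fun y ⟨r, hr, e⟩ => e ▸ hmaps r hr)
      fun y hy => surjOn_of_card_le (S := (T : Subgroup H)) inf_le_right (hf.1.injOn.mono hRU) hmaps le_rfl y hy
  have hRn : E.IsNormal R := isNormal_iff.2 ⟨inf_le_right, key⟩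
  refine ⟨hEs, R, hRn, inf_le_right, fun R₁ hR₁ => ?_⟩
  obtain ⟨f, hf⟩ := isConj_iff.1 hR₁
  obtain ⟨f', -, he, him⟩ := key R f hf.1
  obtain rfl : R₁ = R := SetLike.coe_injective (hf.2.symm.trans ((Set.image_congr he).symm.trans him))
  rintro c ⟨hcT, hcC⟩
  refine ⟨?_, hcT⟩
  have hcN : j c ∈ normalizerIn (⊤ : Subgroup G) Q := ⟨Subgroup.mem_top _, hSQ (hjT.1 hcT)⟩
  refine hXmem.2 ⟨hcN, ?_⟩
  let Z : Subgroup G := Q ⊓ j.range
  let A : Subgroup ↥(conjAutHom (⊤ : Subgroup G) Q).range := (NormalLift.fixMod Q Z).comap (Subgroup.subtype _)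
  haveI : A.Normal := by
    refine ⟨fun a ha b => ?_⟩
    obtain ⟨_, ⟨g, rfl⟩⟩ := b
    rw [Subgroup.mem_comap, Subgroup.coe_subtype, Subgroup.coe_mul, Subgroup.coe_mul, Subgroup.coe_inv]
    refine NormalLift.fixMod_conj ha fun x => ?_
    constructor
    · intro hx
      refine ⟨x.2, ?_⟩
      have := hN.conj_mem _ hx.2 (g : G)⁻¹
      simpa [conjAutHom_apply, mul_assoc] using this
    · intro hx
      exact ⟨(conjAutHom (⊤ : Subgroup G) Q g x).2, hN.conj_mem _ hx.2 (g : G)⟩
  refine Thompson.le_pCore ‹A.Normal›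
    ((NormalLift.fixMod_isPGroup (S.isPGroup'.to_le hQS)).comap_subtype) ?_
  refine ⟨fun x hx => Subtype.ext ?_, fun x => ?_⟩
  · obtain ⟨r, hr⟩ := hx.2
    have hrR : r ∈ R := ⟨Subgroup.mem_comap.2 (hr ▸ hQX hx.1), hjT.2 (hr ▸ hQS hx.1)⟩
    show j c * (x : G) * (j c)⁻¹ = x
    rw [← hr, ← map_inv, ← map_mul, ← map_mul, ← Subgroup.mem_centralizer_iff.1 hcC r hrR,
      mul_inv_cancel_right]
  · refine ⟨Subtype.mem _, ?_⟩
    show (x : G)⁻¹ * (j c * x * (j c)⁻¹) ∈ j.range
    rw [show (x : G)⁻¹ * (j c * x * (j c)⁻¹) = ((x : G)⁻¹ * j c * (x : G)⁻¹⁻¹) * (j c)⁻¹ by group]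
    exact j.range.mul_mem (hN.conj_mem _ ⟨c, rfl⟩ _) (j.range.inv_mem ⟨c, rfl⟩)

/-- Subnormal subgroups inherit constrained fusion. -/
theorem isConstrained_of_subnormal [Fact p.Prime] {G : Type u} [Group G] [Finite G] (S : Sylow p G)
    (hF : (groupFusionSystem (S : Subgroup G)).IsConstrained p) {H : Subgroup G} (hH : H.IsSubnormal) :
    ∃ T : Sylow p H, (T : Subgroup H) = (S : Subgroup G).subgroupOf H ∧
      (groupFusionSystem (T : Subgroup H)).IsConstrained p := by
  induction hH with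
  | top =>
    have hN : (⊤ : Subgroup G).subtype.range.Normal := by
      rw [Subgroup.range_subtype]; infer_instance
    obtain ⟨T, hT⟩ := exists_sylow_comap_normal (⊤ : Subgroup G).subtype Subtype.val_injective hN S
    exact ⟨T, hT, hT ▸ isConstrained_of_normal _ Subtype.val_injective hN S hF⟩
  | step H K h_le _ hN ih =>
    obtain ⟨T, hT, hTc⟩ := ih
    have hN' : (Subgroup.inclusion h_le).range.Normal := by
      rw [Subgroup.inclusion_range]; exact hN
    obtain ⟨U, hU⟩ := exists_sylow_comap_normal (Subgroup.inclusion h_le) (Subgroup.inclusion_injective h_le) hN' T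
    refine ⟨U, ?_, hU ▸ isConstrained_of_normal _ (Subgroup.inclusion_injective h_le) hN' T hTc⟩
    rw [hU, hT]
    rfl

end Cfsg.Agent.Fusion
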