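import Cfsg.Agent.Lib.Fusion.FittingConstrained
import Cfsg.Agent.Lib.Fusion.NormalCore
import Cfsg.Agent.Lib.Fusion.ComponentExists
import Cfsg.Agent.S5127
import Cfsg.Agent.S5134
import Cfsg.Agent.S5148
import Cfsg.Agent.S5150
import Cfsg.Agent.S5155

/-!
# The generalized Fitting subsystem and what centralizes it
-/

set_option autoImplicit false
set_option linter.style.haveILetI false

namespace Cfsg.Agent.Fusion.Fitting

open Cfsg
open Cfsg.FusionSystem (normalizerIn centralizerIn imageAlong preimageAlong)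

variable {Ω : Type*} [Group Ω] {T₁ T₂ U : Subgroup Ω} {E₂ : FusionSystem T₂} {D : FusionSystem U}
  {p : ℕ} [Fact p.Prime]

/-- The data of a central product of an inner system with a saturated system. -/
structure CPData (E₂ : FusionSystem T₂) (D : FusionSystem U) (T₁ : Subgroup Ω)
    (D₀ : FusionSystem (T₁.prod T₂)) (θ : ↥(T₁.prod T₂) →* Ω) : Prop where
  prod : FusionSystem.IsProductSystem (innerFusionSystem T₁) E₂ D₀
  surj : D₀.IsSurjectiveMorphism D θ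
  push_eq : ∀ z ∈ T₁.prod T₂, Fusion91.push θ z = z.1 * z.2
  comm : ∀ a ∈ T₁, ∀ b ∈ T₂, a * b = b * a
  left : T₁ ≤ U
  right : T₂ ≤ U

omit [Fact p.Prime] in
theorem isPGroup_prod {A B : Subgroup Ω} (hA : IsPGroup p A) (hB : IsPGroup p B) :
    IsPGroup p (A.prod B) := by
  intro z
  obtain ⟨k, hk⟩ := hA ⟨(z : Ω × Ω).1, z.2.1⟩
  obtain ⟨l, hl⟩ := hB ⟨(z : Ω × Ω).2, z.2.2⟩
  have hk' : (z : Ω × Ω).1 ^ p ^ k = 1 := congrArg Subtype.val hk
  have hl' : (z : Ω × Ω).2 ^ p ^ l = 1 := congrArg Subtype.val hl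
  refine ⟨k + l, Subtype.ext (Prod.ext ?_ ?_)⟩
  · show (z : Ω × Ω).1 ^ p ^ (k + l) = 1
    rw [pow_add, pow_mul, hk', one_pow]
  · show (z : Ω × Ω).2 ^ p ^ (k + l) = 1
    rw [pow_add, mul_comm, pow_mul, hl', one_pow]

theorem exists_cpData [Finite T₁] [Finite T₂] (h₁ : IsPGroup p T₁) (h₂ : IsPGroup p T₂)
    (hi : (innerFusionSystem T₁).IsSaturated p) (hs : E₂.IsSaturated p)
    (h : FusionSystem.IsCentralProductOf (innerFusionSystem T₁) E₂ D) :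
    ∃ D₀ θ, CPData E₂ D T₁ D₀ θ := by
  obtain ⟨D₀, hD₀, Z, θ, hZc, -, -, hθ₁, hθ₂, hfac⟩ := h
  haveI : Finite ↥(T₁.prod T₂) := Finite.of_equiv _ (T₁.prodEquiv T₂).toEquiv.symm
  have hcl : D₀.StronglyClosed Z := by
    refine stronglyClosed_iff.2 ⟨hfac.1, fun R f hf x hx hxZ => ?_⟩
    obtain ⟨f', -, he, hfix⟩ := (isCentral_iff.1 (Fusion91.isCentral_center D₀)).2 R f hf
    rw [← he hx, hfix x (hZc hxZ)]
    exact hxZ
  have hα := S5134.result p (isPGroup_prod h₁ h₂) D₀ (Fusion91.isSaturated_prod h₁ h₂ hi hs hD₀) Z hcl θ D hfac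
  have hl : ∀ {a : Ω}, a ∈ T₁ → ((a, 1) : Ω × Ω) ∈ T₁.prod T₂ := fun ha => ⟨ha, T₂.one_mem⟩
  have hr : ∀ {b : Ω}, b ∈ T₂ → ((1, b) : Ω × Ω) ∈ T₁.prod T₂ := fun hb => ⟨T₁.one_mem, hb⟩
  refine ⟨D₀, θ, hD₀, hα, fun z hz => ?_, fun a ha b hb => ?_, fun a ha => ?_, fun b hb => ?_⟩
  · rw [Fusion91.push_of_mem hz]
    have e : (⟨z, hz⟩ : ↥(T₁.prod T₂)) = ⟨(z.1, 1), hl hz.1⟩ * ⟨(1, z.2), hr hz.2⟩ :=
      Subtype.ext (Prod.ext (mul_one _).symm (one_mul _).symm)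
    rw [e, map_mul, hθ₁, hθ₂]
  · have e : (⟨(a, 1), hl ha⟩ : ↥(T₁.prod T₂)) * ⟨(1, b), hr hb⟩ = ⟨(1, b), hr hb⟩ * ⟨(a, 1), hl ha⟩ :=
      Subtype.ext (Prod.ext (by simp) (by simp))
    have := congrArg θ e
    rwa [map_mul, map_mul, hθ₁, hθ₂] at this
  · exact hfac.2.2.1 ▸ ⟨⟨(a, 1), hl ha⟩, hθ₁ a _⟩
  · exact hfac.2.2.1 ▸ ⟨⟨(1, b), hr hb⟩, hθ₂ b _⟩

variable {D₀ : FusionSystem (T₁.prod T₂)} {θ : ↥(T₁.prod T₂) →* Ω}

omit [Fact p.Prime] in
/-- The form of the maps. -/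
theorem CPData.lift (h : CPData E₂ D T₁ D₀ θ) {P : Subgroup Ω} {f : Ω → Ω} (hf : IsMap D P f) :
    ∃ c ∈ T₁, ∃ f₂, IsMap E₂ ((preimageAlong θ P).map (MonoidHom.snd Ω Ω)) f₂ ∧
      ∀ x ∈ P, ∃ z ∈ preimageAlong θ P, x = z.1 * z.2 ∧ f x = c * z.1 * c⁻¹ * f₂ z.2 := by
  obtain ⟨g, hg, hge⟩ := Fusion91.exists_lift_map h.surj hf
  obtain ⟨hle, f₁, f₂, hf₁, hf₂, he⟩ := (Fusion91.isMap_prod_iff h.prod).1 hg
  obtain ⟨φ, ⟨-, c, hc, hce⟩, hφ⟩ := hf₁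
  refine ⟨c, hc, f₂, hf₂, fun x hx => ?_⟩
  obtain ⟨z, hz, rfl⟩ := Fusion91.exists_push_eq h.surj.2.1 (hf.dom_le hx)
  have hzp : z ∈ preimageAlong θ P := Fusion91.mem_preimage_push.2 ⟨hz, hx⟩
  refine ⟨z, hzp, h.push_eq z hz, ?_⟩
  rw [← hge z hzp, h.push_eq _ (hg.apply_mem hzp), he z hzp]
  show f₁ z.1 * f₂ z.2 = _
  rw [← hφ ⟨z.1, Fusion91.mem_map_fst hzp⟩, hce]

omit [Fact p.Prime] in
/-- A subgroup of the inner factor commuting with the inner factor is central. -/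
theorem CPData.isCentral (h : CPData E₂ D T₁ D₀ θ) {Y : Subgroup Ω} (hY : Y ≤ T₁)
    (hc : ∀ y ∈ Y, ∀ a ∈ T₁, a * y = y * a) : D.IsCentral Y := by
  refine isCentral_iff.2 ⟨hY.trans h.left, fun P f hf => ?_⟩
  obtain ⟨g, hg, hge⟩ := Fusion91.exists_lift_map h.surj hf
  obtain ⟨hle, f₁, f₂, hf₁, hf₂, he⟩ := (Fusion91.isMap_prod_iff h.prod).1 hg
  obtain ⟨φ, ⟨-, c, hcT, hce⟩, hφ⟩ := hf₁
  set R := preimageAlong θ P with hR
  set Y₀ : Subgroup (Ω × Ω) := Y.prod ⊥ with hY₀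
  have hY₀le : Y₀ ≤ T₁.prod T₂ := Subgroup.prod_mono hY bot_le
  have hle' : R ⊔ Y₀ ≤ T₁.prod T₂ := sup_le hle hY₀le
  have hg' : IsMap D₀ (R ⊔ Y₀) fun z => (c * z.1 * c⁻¹, f₂ z.2) := by
    refine (Fusion91.isMap_prod_iff h.prod).2 ⟨hle', _, f₂, isMap_conj ?_ hcT, hf₂.mono ?_, fun _ _ => rfl⟩
    · rintro _ ⟨z, hz, rfl⟩; exact (hle' hz).1
    · rw [Subgroup.map_sup]
      refine sup_le le_rfl ?_
      rintro _ ⟨z, hz, rfl⟩
      rw [show (MonoidHom.snd Ω Ω) z = z.2 from rfl, Subgroup.mem_bot.1 hz.2]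
      exact Subgroup.one_mem _
  obtain ⟨f', hf', hfe⟩ := Fusion91.exists_push_map h.surj hg'
  have hPle : P ≤ imageAlong θ (R ⊔ Y₀) := fun x hx => by
    obtain ⟨z, hz, rfl⟩ := Fusion91.exists_push_eq h.surj.2.1 (hf.dom_le hx)
    exact (Fusion91.mem_imageAlong_push hle').2
      ⟨z, Subgroup.mem_sup_left (Fusion91.mem_preimage_push.2 ⟨hz, hx⟩), rfl⟩
  have hpy : ∀ y ∈ Y, Fusion91.push θ ((y, 1) : Ω × Ω) = y := fun y hy => by
    rw [h.push_eq _ (hY₀le ⟨hy, Subgroup.one_mem _⟩), mul_one]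
  have hYle : Y ≤ imageAlong θ (R ⊔ Y₀) := fun y hy =>
    (Fusion91.mem_imageAlong_push hle').2 ⟨(y, 1), Subgroup.mem_sup_right ⟨hy, Subgroup.one_mem _⟩, hpy y hy⟩
  refine ⟨f', hf'.mono (sup_le hPle hYle), fun x hx => ?_, fun y hy => ?_⟩
  · obtain ⟨z, hz, rfl⟩ := Fusion91.exists_push_eq h.surj.2.1 (hf.dom_le hx)
    have hzp : z ∈ R := Fusion91.mem_preimage_push.2 ⟨hz, hx⟩
    rw [hfe z (Subgroup.mem_sup_left hzp), ← hge z hzp, he z hzp]
    congr 1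
    refine Prod.ext ?_ rfl
    show c * z.1 * c⁻¹ = f₁ z.1
    rw [← hφ ⟨z.1, Fusion91.mem_map_fst hzp⟩, hce]
  · have hy0 : ((y, 1) : Ω × Ω) ∈ R ⊔ Y₀ := Subgroup.mem_sup_right ⟨hy, Subgroup.one_mem _⟩
    conv_lhs => rw [← hpy y hy]
    rw [hfe _ hy0, hc y hy c hcT, mul_inv_cancel_right, hf₂.map_one]
    exact hpy y hy

section InSystem

variable {S : Subgroup Ω} {F : FusionSystem S}

omit [Fact p.Prime] in
/-- The central product is a subsystem of `F` when `E₂` centralizes the inner factor in `F`. -/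
theorem CPData.subsystem (h : CPData E₂ D T₁ D₀ θ) (h₁S : T₁ ≤ S)
    (hEQ : ∀ P, E₂.Hom P ⊆ F.centralizerHom T₁ P) {P : Subgroup Ω} {f : Ω → Ω} (hf : IsMap D P f) :
    IsMap F P f := by
  obtain ⟨c, hc, f₂, hf₂, he⟩ := h.lift hf
  obtain ⟨φ, hφ, hφe⟩ := id hf₂
  obtain ⟨-, -, -, m, hm, hme, hmfix⟩ := (mem_centralizerHom hφe).1 (hEQ _ hφ)
  have hmem : ∀ x ∈ P, x ∈ (preimageAlong θ P).map (MonoidHom.snd Ω Ω) ⊔ T₁ := fun x hx => by
    obtain ⟨z, hz, hxz, -⟩ := he x hx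
    rw [hxz]
    exact Subgroup.mul_mem _ (Subgroup.mem_sup_right ((Fusion91.preimageAlong_le θ P) hz).1)
      (Subgroup.mem_sup_left (Fusion91.mem_map_snd hz))
  have hmP : IsMap F P m := hm.mono hmem
  have hcomp : IsMap F P ((fun y => c * y * c⁻¹) ∘ m) :=
    hmP.comp (isMap_conj le_rfl (h₁S hc)) fun x hx => hmP.apply_mem hx
  refine hcomp.congr fun x hx => ?_
  obtain ⟨z, hz, hxz, hfz⟩ := he x hx
  have hz1 : z.1 ∈ T₁ := ((Fusion91.preimageAlong_le θ P) hz).1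
  have hz2 := Fusion91.mem_map_snd hz
  rw [Function.comp_apply, hfz, hxz, hm.map_mul (Subgroup.mem_sup_right hz1) (Subgroup.mem_sup_left hz2),
    hmfix _ hz1, hme hz2, mul_assoc, mul_assoc, mul_assoc, mul_assoc]
  rw [← h.comm c⁻¹ (T₁.inv_mem hc) (f₂ z.2) (hf₂.apply_mem hz2)]

end InSystem

/-- The centre of the generalized Fitting subsystem, and what centralizes it. -/
theorem center_fitting {S : Subgroup Ω} [Finite S] (hS : IsPGroup p S) {F : FusionSystem S}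
    (hF : F.IsSaturated p) (hD : D.IsGeneralizedFittingOf F p) :
    (D.center ≤ centralizerIn S U ∧ ∀ P : Subgroup Ω, D.Hom P ⊆ F.centralizerHom D.center P) ∧
      ∀ Y : Subgroup Ω, Y ≤ centralizerIn S U →
        (∀ P : Subgroup Ω, D.Hom P ⊆ F.centralizerHom Y P) → Y ≤ D.center := by
  obtain ⟨T, E, hE, hprod⟩ := hD
  have hQn := Fusion91.isNormal_core F
  have hQS : F.core ≤ S := hQn.1
  have hTS : T ≤ S := hE.1.1.2.2.2.1.1
  haveI := finite_of_le hQS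
  haveI := finite_of_le hTS
  have hEQ := fun P => S5150.result p hS F hF E hE P
  obtain ⟨D₀, θ, hd⟩ := exists_cpData (hS.to_le hQS) (hS.to_le hTS)
    (inner_isNormalIn_of_normal hS hF hQn).1.1 hE.1.1.1 hprod
  have hUS : U ≤ S := fun x hx => by
    obtain ⟨z, hz, rfl⟩ := Fusion91.exists_push_eq hd.surj.2.1 hx
    rw [hd.push_eq z hz]
    exact S.mul_mem (hQS hz.1) (hTS hz.2)
  haveI := finite_of_le hUS
  have hcen := Fusion91.isCentral_center D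
  have hcent : D.center ≤ centralizerIn S U := fun x hx =>
    ⟨hUS (hcen.1 hx), D.center_le_centralizer hx⟩
  have hin : ∀ {Z : Subgroup Ω}, Z ≤ centralizerIn S U → ∀ {x : Ω}, x ∈ U → x ∈ centralizerIn S Z :=
    fun {Z} hZ {x} hx => ⟨hUS hx, Subgroup.mem_centralizer_iff.2 fun z hz =>
      (Subgroup.mem_centralizer_iff.1 (hZ hz).2 x hx).symm⟩
  refine ⟨⟨hcent, fun P φ hφ => ?_⟩, fun Y hY hDY => ?_⟩
  · have hm := isMap_extFun hφ
    refine (mem_centralizerHom fun x => (extFun_coe φ x).symm).2 ⟨hd.subsystem hQS hEQ hm,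
      fun x hx => hin hcent (hm.dom_le hx), fun x hx => hin hcent (hm.apply_mem hx), ?_⟩
    obtain ⟨f', hf', he, hfix⟩ := (isCentral_iff.1 hcen).2 P _ hm
    exact ⟨f', hd.subsystem hQS hEQ hf', he, hfix⟩
  -- the centralizer system of the layer
  obtain ⟨W, hW, hEW, hWmax, -⟩ := S5127.result p hS F hF E hE.1
  obtain ⟨C, hC, hCT⟩ := S5155.result p hS F hF E hE.1 W hW hEW hWmax
  have hWS : W ≤ S := hW.trans (centralizerIn_le S T)
  haveI := finite_of_le hWS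
  have hYW : Y ≤ W := by
    refine hWmax Y (fun y hy => ⟨(hY hy).1, Subgroup.mem_centralizer_iff.2 fun t ht =>
      Subgroup.mem_centralizer_iff.1 (hY hy).2 t (hd.right ht)⟩) fun P φ hφ => ?_
    exact hDY P (subsystem_right_of_centralProduct hprod P hφ)
  have hcon : C.IsConstrained p := by
    by_contra hnc
    obtain ⟨V, K, hK⟩ := exists_component (hS.to_le hWS) hC.1.1 hnc
    have hKF : K.IsComponentIn F p := ⟨.step hK.1 hC, hK.2⟩
    have hsub := hE.2.1 V K hKF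
    have hVW : V ≤ W := Fusion91.le_of_subnormal hK.1
    have hVT : V ≤ T := ((isMap_id (F := K) le_rfl).of_isSubsystemOf hsub).dom_le
    haveI := finite_of_le (hVW.trans hWS)
    refine S5148.result p (hS.to_le (hVW.trans hWS)) K hK.2 ⟨⟨fun a b => Subtype.ext ?_⟩⟩
    exact (Subgroup.mem_centralizer_iff.1 (hW (hVW a.2)).2 b (hVT b.2)).symm
  obtain ⟨-, Q₀, hQ₀, hQ₀c⟩ := hcon
  have hQ₀le : Q₀ ≤ C.core := le_sSup hQ₀
  have hRF : C.core ≤ F.core :=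
    le_sSup (core_normal_of_invariant hS hF hC.1.2.2 (Fusion91.isNormal_core C))
  have hYQ : Y ≤ F.core := fun y hy => by
    refine hRF (hQ₀le (centralizer_le_of_centric hQ₀c ⟨hYW hy, Subgroup.mem_centralizer_iff.2 fun q hq => ?_⟩))
    exact Subgroup.mem_centralizer_iff.1 (hY hy).2 q (hd.left (hRF (hQ₀le hq)))
  exact le_sSup (hd.isCentral hYQ fun y hy a ha =>
    Subgroup.mem_centralizer_iff.1 (hY hy).2 a (hd.left ha))

end Cfsg.Agent.Fusion.Fitting
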