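import Cfsg.Agent.Lib.Fusion.CentralProduct
import Cfsg.Agent.Lib.Fusion.Quasisimple

/-!
# Constrained systems and the generalized Fitting subsystem
-/

set_option autoImplicit false
set_option linter.style.haveILetI false

namespace Cfsg.Agent.Fusion

open Cfsg
open Cfsg.FusionSystem (normalizerIn centralizerIn imageAlong preimageAlong)

variable {Ω : Type*} [Group Ω] {S : Subgroup Ω} {F : FusionSystem S} {p : ℕ}

/-- Without components, the system over the trivial group is the layer. -/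
theorem isLayerOf_bot [Finite S] [Fact p.Prime] (hS : IsPGroup p S) (hF : F.IsSaturated p)
    (hno : ∀ (T : Subgroup Ω) (C : FusionSystem T), ¬ C.IsComponentIn F p) :
    (innerFusionSystem (⊥ : Subgroup Ω)).IsLayerOf F p := by
  refine ⟨inner_isNormalIn_of_normal hS hF (Fusion91.isNormal_bot F), fun U C hC => absurd hC (hno U C), ?_⟩
  intro R D _ _ P φ hφ
  obtain ⟨hP, g, hg, he⟩ := hφ
  rw [Subgroup.mem_bot] at hg
  exact (isMap_conj (F := D) (hP.trans bot_le) R.one_mem).mem_hom fun x => by rw [he x, hg]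

/-- A constrained system is its own core as generalized Fitting subsystem. -/
theorem inner_core_isGeneralizedFitting [Finite S] [Fact p.Prime] (hS : IsPGroup p S) (hF : F.IsConstrained p) :
    (innerFusionSystem F.core).IsGeneralizedFittingOf F p := by
  have hQS : F.core ≤ S := (Fusion91.isNormal_core F).1
  haveI := finite_of_le hQS
  refine ⟨⊥, _, isLayerOf_bot hS hF.1 fun T C hC => no_component_of_isConstrained hS hF hC, ?_⟩
  haveI : Finite (⊥ : Subgroup Ω) := inferInstance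
  obtain ⟨D₀, hD₀⟩ := S5136.result p (hS.to_le hQS) (hS.to_le (bot_le : (⊥ : Subgroup Ω) ≤ S))
    (innerFusionSystem F.core) (innerFusionSystem (⊥ : Subgroup Ω))
  let θ : ↥(F.core.prod (⊥ : Subgroup Ω)) →* Ω := (MonoidHom.fst Ω Ω).comp (F.core.prod ⊥).subtype
  refine ⟨D₀, hD₀, ⊥, θ, bot_le, bot_inf_eq _, bot_inf_eq _, fun x _ => rfl,
    fun y hy => (Subgroup.mem_bot.1 hy.2).symm, bot_le, fun s => ?_, ?_, fun P φ => ⟨?_, ?_⟩⟩
  · rw [Subgroup.mem_bot]
    exact ⟨fun h => Prod.ext h (Subgroup.mem_bot.1 s.2.2), fun h => congrArg Prod.fst h⟩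
  · ext x
    exact ⟨fun ⟨z, hz⟩ => hz ▸ z.2.1, fun hx => ⟨⟨(x, 1), hx, Subgroup.one_mem _⟩, rfl⟩⟩
  · rintro ⟨hP, g, hg, he⟩
    have hpre : preimageAlong θ P ≤ F.core.prod ⊥ := Fusion91.preimageAlong_le θ P
    have hg1 : ((g, 1) : Ω × Ω) ∈ F.core.prod ⊥ := ⟨hg, Subgroup.one_mem _⟩
    obtain ⟨ψ, hψ, hψe⟩ := (isMap_conj (F := D₀) hpre hg1)
    refine ⟨hP, ψ, hψ, hpre, fun x => (D₀.le_of_mem hψ).2 x, fun x => (Fusion91.mem_preimageAlong.1 x.2).2,
      fun x => ?_⟩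
    show φ _ = ((ψ x : Ω × Ω)).1
    rw [he, hψe]
    show g * (x : Ω × Ω).1 * g⁻¹ = _
    simp
  · rintro ⟨hP, ψ, hψ, hpre, hv, hin, he⟩
    obtain ⟨-, ψ₁, hψ₁, ψ₂, -, hψe⟩ := (hD₀ _ ψ).1 hψ
    obtain ⟨-, g, hg, hge⟩ := hψ₁
    refine ⟨hP, g, hg, fun x => ?_⟩
    have hx : (((x : Ω), 1) : Ω × Ω) ∈ preimageAlong θ P :=
      Fusion91.mem_preimageAlong.2 ⟨⟨hP x.2, Subgroup.one_mem _⟩, x.2⟩
    have h1 : φ x = (ψ ⟨_, hx⟩).1 := he ⟨_, hx⟩
    rw [h1, hψe ⟨_, hx⟩ (Fusion91.mem_map_fst hx) (Fusion91.mem_map_snd hx)]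
    exact hge _

/-- If the core is the generalized Fitting subsystem then there is no component. -/
theorem no_component_of_fitting [Finite S] [Fact p.Prime] (hS : IsPGroup p S)
    (h : (innerFusionSystem F.core).IsGeneralizedFittingOf F p) {T : Subgroup Ω} {C : FusionSystem T} :
    ¬ C.IsComponentIn F p := by
  intro hC
  obtain ⟨T', E, hE, hprod⟩ := h
  haveI := finite_of_le (Fusion91.isNormal_core F).1
  have hT'S : T' ≤ S := hE.1.1.2.2.2.1.1
  haveI := finite_of_le hT'S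
  have hTS : T ≤ S := Fusion91.le_of_subnormal hC.1
  haveI := finite_of_le hTS
  have hsub := hE.2.1 T C hC
  have hsub' := subsystem_right_of_centralProduct hprod
  obtain ⟨hq, hhyp, hsimp⟩ := hC.2
  have hbot : C.hyperfocalSubgroup p = ⊥ := by
    refine eq_bot_iff.2 ((Subgroup.closure_le _).2 ?_)
    rintro _ ⟨P, a, x, hP, ha, rfl⟩
    haveI := finite_of_le (hP.trans hTS)
    haveI := finite_mulAut P
    suffices hres : pResidual p (C.autGroup P) ≤ ⊥ by
      have h1 := hres ha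
      rw [Subgroup.mem_bot] at h1
      simp [h1]
    refine Transfer.pResidual_le_iff.2 fun b hb => Subgroup.mem_bot.2 ?_
    obtain ⟨φ, hφ, hφe⟩ := ((mem_autGroup hP).1 b.2).1
    obtain ⟨-, g, hg, he⟩ := hsub' P (hsub P hφ)
    have hgS : g ∈ S := (Fusion91.isNormal_core F).1 hg
    have hb' : (b : MulAut P) ∈ autInducedBy S P := mem_autInducedBy.2 ⟨g, hgS, fun y => by
      rw [← autFun_coe, ← hφe y]; exact he y⟩
    have hp : IsPGroup p (autInducedBy S P) :=
      range_conjAutHom S P ▸ (hS.to_le (normalizerIn_le S P)).of_surjective _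
        (conjAutHom S P).rangeRestrict_surjective
    obtain ⟨k, hk⟩ := (IsPGroup.iff_orderOf.1 hp) ⟨_, hb'⟩
    rw [Subgroup.orderOf_mk, Subgroup.orderOf_coe] at hk
    exact orderOf_eq_one_iff.1 (Nat.eq_one_of_dvd_coprimes (hb.pow_right k) dvd_rfl hk.dvd)
  rw [hhyp] at hbot
  obtain ⟨Ē, hĒ⟩ := Fusion91.exists_factor_mk' C (Fusion91.stronglyClosed_center C)
  refine (hsimp Ē hĒ).2.1 (eq_bot_iff.2 fun y _ => ?_)
  obtain ⟨x, rfl⟩ := QuotientGroup.mk'_surjective _ y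
  rw [Subgroup.mem_bot, hĒ.2.1, Subgroup.mem_bot.1 (hbot.le x.2)]
  exact Subgroup.one_mem _

end Cfsg.Agent.Fusion
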