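import Cfsg.Prelude.Def_FusionSystem

/-!
# Maps of fusion systems as functions on the ambient group

`IsMap F P f` says that the restriction of the function `f : Ω → Ω` to the subgroup `P` is a map of the system.
`IsIso F P Q f` says moreover that `f` carries `P` onto `Q`. Composition is composition of functions, restriction
is free, inverses are `Function.invFunOn`, so no codomain restriction or dependent membership proof is needed.
-/

set_option autoImplicit false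

namespace Cfsg.Agent.Fusion

open Cfsg
open Cfsg.FusionSystem (normalizerIn centralizerIn extender)

variable {Ω : Type*} [Group Ω] {S : Subgroup Ω} {F : FusionSystem S}

open Classical in
/-- A homomorphism on a subgroup, as a function on the ambient group (`1` outside the subgroup). -/
noncomputable def extFun {P : Subgroup Ω} (φ : P →* Ω) : Ω → Ω :=
  fun x => if h : x ∈ P then φ ⟨x, h⟩ else 1

theorem extFun_of_mem {P : Subgroup Ω} (φ : P →* Ω) {x : Ω} (h : x ∈ P) : extFun φ x = φ ⟨x, h⟩ :=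
  dif_pos h

@[simp] theorem extFun_coe {P : Subgroup Ω} (φ : P →* Ω) (x : P) : extFun φ (x : Ω) = φ x :=
  dif_pos x.2

/-- The function `f` restricted to `P` is a map of the system. -/
def IsMap (F : FusionSystem S) (P : Subgroup Ω) (f : Ω → Ω) : Prop :=
  ∃ φ ∈ F.Hom P, ∀ x : P, φ x = f x

/-- The function `f` restricted to `P` is an isomorphism of the system from `P` onto `Q`. -/
def IsIso (F : FusionSystem S) (P Q : Subgroup Ω) (f : Ω → Ω) : Prop :=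
  IsMap F P f ∧ f '' (P : Set Ω) = (Q : Set Ω)

theorem fusion_ext {F E : FusionSystem S} (h : ∀ P, F.Hom P = E.Hom P) : F = E := by
  obtain ⟨a, _, _, _, _, _⟩ := F
  obtain ⟨b, _, _, _, _, _⟩ := E
  have : a = b := funext h
  subst this
  rfl

theorem fusion_antisymm {F E : FusionSystem S} (h₁ : F ≤ E) (h₂ : E ≤ F) : F = E :=
  fusion_ext fun P => Set.Subset.antisymm (h₁ P) (h₂ P)

theorem isMap_extFun {P : Subgroup Ω} {φ : P →* Ω} (h : φ ∈ F.Hom P) : IsMap F P (extFun φ) :=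
  ⟨φ, h, fun x => (extFun_coe φ x).symm⟩

theorem IsMap.mem_hom {P : Subgroup Ω} {f : Ω → Ω} (h : IsMap F P f) {φ : P →* Ω}
    (hφ : ∀ x : P, φ x = f x) : φ ∈ F.Hom P := by
  obtain ⟨ψ, hψ, hψf⟩ := h
  rwa [show φ = ψ from MonoidHom.ext fun x => (hφ x).trans (hψf x).symm]

theorem mem_hom_iff_isMap {P : Subgroup Ω} {φ : P →* Ω} : φ ∈ F.Hom P ↔ IsMap F P (extFun φ) :=
  ⟨isMap_extFun, fun h => h.mem_hom fun x => (extFun_coe φ x).symm⟩

/-- Inclusion of systems (possibly over different subgroups) in terms of `IsMap`. -/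
theorem hom_subset_of_isMap {T : Subgroup Ω} {E : FusionSystem T} {P : Subgroup Ω}
    (h : ∀ f, IsMap F P f → IsMap E P f) : F.Hom P ⊆ E.Hom P :=
  fun _ hφ => mem_hom_iff_isMap.mpr (h _ (isMap_extFun hφ))

theorem le_of_isMap {E : FusionSystem S} (h : ∀ P f, IsMap F P f → IsMap E P f) : F ≤ E :=
  fun P => hom_subset_of_isMap (h P)

theorem IsMap.of_subset {T : Subgroup Ω} {E : FusionSystem T} {P : Subgroup Ω} {f : Ω → Ω}
    (h : F.Hom P ⊆ E.Hom P) (hf : IsMap F P f) : IsMap E P f := by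
  obtain ⟨φ, hφ, hφf⟩ := hf
  exact ⟨φ, h hφ, hφf⟩

theorem IsMap.of_le {E : FusionSystem S} {P : Subgroup Ω} {f : Ω → Ω}
    (h : F ≤ E) (hf : IsMap F P f) : IsMap E P f :=
  hf.of_subset (h P)

theorem IsMap.of_isSubsystemOf {T : Subgroup Ω} {E : FusionSystem T} {P : Subgroup Ω} {f : Ω → Ω}
    (h : E.IsSubsystemOf F) (hf : IsMap E P f) : IsMap F P f :=
  hf.of_subset (h P)

theorem IsMap.congr {P : Subgroup Ω} {f g : Ω → Ω} (h : IsMap F P f) (hfg : Set.EqOn f g P) :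
    IsMap F P g := by
  obtain ⟨φ, hφ, hφf⟩ := h
  exact ⟨φ, hφ, fun x => (hφf x).trans (hfg x.2)⟩

theorem IsMap.dom_le {P : Subgroup Ω} {f : Ω → Ω} (h : IsMap F P f) : P ≤ S := by
  obtain ⟨φ, hφ, -⟩ := h
  exact (F.le_of_mem hφ).1

theorem IsMap.apply_mem {P : Subgroup Ω} {f : Ω → Ω} (h : IsMap F P f) {x : Ω} (hx : x ∈ P) :
    f x ∈ S := by
  obtain ⟨φ, hφ, hφf⟩ := h
  exact hφf ⟨x, hx⟩ ▸ (F.le_of_mem hφ).2 ⟨x, hx⟩

theorem IsMap.injOn {P : Subgroup Ω} {f : Ω → Ω} (h : IsMap F P f) : Set.InjOn f P := by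
  obtain ⟨φ, hφ, hφf⟩ := h
  intro a ha b hb hab
  exact congrArg Subtype.val (F.injective_of_mem hφ (a₁ := ⟨a, ha⟩) (a₂ := ⟨b, hb⟩)
    (by rw [hφf, hφf]; exact hab))

theorem IsMap.map_mul {P : Subgroup Ω} {f : Ω → Ω} (h : IsMap F P f) {x y : Ω} (hx : x ∈ P)
    (hy : y ∈ P) : f (x * y) = f x * f y := by
  obtain ⟨φ, -, hφf⟩ := h
  rw [← hφf ⟨x, hx⟩, ← hφf ⟨y, hy⟩, ← φ.map_mul]
  exact (hφf (⟨x, hx⟩ * ⟨y, hy⟩)).symm

theorem IsMap.map_one {P : Subgroup Ω} {f : Ω → Ω} (h : IsMap F P f) : f 1 = 1 := by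
  obtain ⟨φ, -, hφf⟩ := h
  exact (hφf 1).symm.trans φ.map_one

theorem IsMap.map_inv {P : Subgroup Ω} {f : Ω → Ω} (h : IsMap F P f) {x : Ω} (hx : x ∈ P) :
    f x⁻¹ = (f x)⁻¹ := by
  obtain ⟨φ, -, hφf⟩ := h
  rw [← hφf ⟨x, hx⟩, ← φ.map_inv]
  exact (hφf (⟨x, hx⟩⁻¹)).symm

theorem IsMap.map_conj {P : Subgroup Ω} {f : Ω → Ω} (h : IsMap F P f) {g x : Ω} (hg : g ∈ P)
    (hx : x ∈ P) : f (g * x * g⁻¹) = f g * f x * (f g)⁻¹ := by
  rw [h.map_mul (mul_mem hg hx) (inv_mem hg), h.map_mul hg hx, h.map_inv hg]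

theorem IsMap.map_pow {P : Subgroup Ω} {f : Ω → Ω} (h : IsMap F P f) {x : Ω} (hx : x ∈ P) (n : ℕ) :
    f (x ^ n) = f x ^ n := by
  induction n with
  | zero => simp [h.map_one]
  | succ n ih => rw [pow_succ, h.map_mul (pow_mem hx n) hx, ih, pow_succ]

theorem isMap_conj {P : Subgroup Ω} {g : Ω} (hP : P ≤ S) (hg : g ∈ S) :
    IsMap F P fun x => g * x * g⁻¹ :=
  ⟨conjHom P g, F.conj_mem hP hg, fun _ => rfl⟩

theorem isMap_id {P : Subgroup Ω} (hP : P ≤ S) : IsMap F P id :=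
  (isMap_conj hP S.one_mem).congr fun x _ => by simp

theorem IsMap.comp {P Q : Subgroup Ω} {f g : Ω → Ω} (hf : IsMap F P f) (hg : IsMap F Q g)
    (h : ∀ x ∈ P, f x ∈ Q) : IsMap F P (g ∘ f) := by
  obtain ⟨φ, hφ, hφf⟩ := hf
  obtain ⟨ψ, hψ, hψg⟩ := hg
  have h' : ∀ x : P, φ x ∈ Q := fun x => (hφf x).symm ▸ h x x.2
  refine ⟨_, F.comp_mem hφ hψ h', fun x => ?_⟩
  simp only [MonoidHom.coe_comp, Function.comp_apply]
  rw [hψg]
  exact congrArg g (hφf x)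

theorem IsMap.mono {P Q : Subgroup Ω} {f : Ω → Ω} (hf : IsMap F Q f) (h : P ≤ Q) : IsMap F P f :=
  ((isMap_id (h.trans hf.dom_le)).comp hf fun _ hx => h hx).congr fun _ _ => rfl

theorem restrict_mem {P Q : Subgroup Ω} {φ : Q →* Ω} (hφ : φ ∈ F.Hom Q) (h : P ≤ Q) :
    φ.comp (Subgroup.inclusion h) ∈ F.Hom P :=
  ((isMap_extFun hφ).mono h).mem_hom fun x => (extFun_of_mem φ (h x.2)).symm

theorem subtype_mem {P : Subgroup Ω} (hP : P ≤ S) : P.subtype ∈ F.Hom P :=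
  (isMap_id hP).mem_hom fun _ => rfl

/-! ### Images -/

theorem IsMap.exists_image {P : Subgroup Ω} {f : Ω → Ω} (h : IsMap F P f) :
    ∃ Q, IsIso F P Q f := by
  obtain ⟨φ, hφ, hφf⟩ := h
  refine ⟨φ.range, ⟨φ, hφ, hφf⟩, Set.ext fun y => ⟨?_, ?_⟩⟩
  · rintro ⟨x, hx, rfl⟩
    exact ⟨⟨x, hx⟩, hφf _⟩
  · rintro ⟨x, rfl⟩
    exact ⟨x, x.2, (hφf x).symm⟩

theorem IsMap.isIso_range {P : Subgroup Ω} {φ : P →* Ω} (h : φ ∈ F.Hom P) :
    IsIso F P φ.range (extFun φ) := by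
  refine ⟨isMap_extFun h, Set.ext fun y => ⟨?_, ?_⟩⟩
  · rintro ⟨x, hx, rfl⟩
    exact ⟨⟨x, hx⟩, (extFun_of_mem φ hx).symm⟩
  · rintro ⟨x, rfl⟩
    exact ⟨x, x.2, extFun_coe φ x⟩

theorem IsIso.isMap {P Q : Subgroup Ω} {f : Ω → Ω} (h : IsIso F P Q f) : IsMap F P f := h.1

theorem IsIso.mem {P Q : Subgroup Ω} {f : Ω → Ω} (h : IsIso F P Q f) {x : Ω} (hx : x ∈ P) :
    f x ∈ Q := by
  have : f x ∈ f '' (P : Set Ω) := ⟨x, hx, rfl⟩
  rwa [h.2] at this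

theorem IsIso.exists_preimage {P Q : Subgroup Ω} {f : Ω → Ω} (h : IsIso F P Q f) {y : Ω} (hy : y ∈ Q) :
    ∃ x ∈ P, f x = y := by
  have : y ∈ f '' (P : Set Ω) := by rw [h.2]; exact hy
  exact this

theorem IsIso.cod_le {P Q : Subgroup Ω} {f : Ω → Ω} (h : IsIso F P Q f) : Q ≤ S := fun y hy => by
  obtain ⟨x, hx, rfl⟩ := h.exists_preimage hy
  exact h.isMap.apply_mem hx

theorem IsIso.dom_le {P Q : Subgroup Ω} {f : Ω → Ω} (h : IsIso F P Q f) : P ≤ S := h.1.dom_le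

theorem IsIso.congr {P Q : Subgroup Ω} {f g : Ω → Ω} (h : IsIso F P Q f) (hfg : Set.EqOn f g P) :
    IsIso F P Q g :=
  ⟨h.1.congr hfg, by rw [← h.2]; exact Set.image_congr fun x hx => (hfg hx).symm⟩

theorem IsIso.cod_unique {P Q Q' : Subgroup Ω} {f : Ω → Ω} (h : IsIso F P Q f) (h' : IsIso F P Q' f) :
    Q = Q' :=
  SetLike.coe_injective (h.2.symm.trans h'.2)

theorem isIso_id {P : Subgroup Ω} (hP : P ≤ S) : IsIso F P P id :=
  ⟨isMap_id hP, Set.image_id _⟩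

theorem IsIso.comp {P Q R : Subgroup Ω} {f g : Ω → Ω} (hf : IsIso F P Q f) (hg : IsIso F Q R g) :
    IsIso F P R (g ∘ f) :=
  ⟨hf.1.comp hg.1 fun _ hx => hf.mem hx, by rw [Set.image_comp, hf.2, hg.2]⟩

theorem IsIso.comp_map {P Q : Subgroup Ω} {f g : Ω → Ω} (hf : IsIso F P Q f) (hg : IsMap F Q g) :
    IsMap F P (g ∘ f) :=
  hf.1.comp hg fun _ hx => hf.mem hx

theorem IsIso.invFunOn {P Q : Subgroup Ω} {f : Ω → Ω} (h : IsIso F P Q f) :
    IsIso F Q P (Function.invFunOn f (P : Set Ω)) := by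
  obtain ⟨φ, hφ, hφf⟩ := h.1
  obtain ⟨ψ, hψ, hψφ⟩ := F.inv_mem hφ
  have hQ : Q = φ.range := by
    apply SetLike.coe_injective
    rw [← h.2]
    ext y
    constructor
    · rintro ⟨x, hx, rfl⟩
      exact ⟨⟨x, hx⟩, hφf _⟩
    · rintro ⟨x, rfl⟩
      exact ⟨x, x.2, (hφf x).symm⟩
  subst hQ
  have key : ∀ x ∈ P, Function.invFunOn f (P : Set Ω) (f x) = x := fun x hx =>
    h.1.injOn.leftInvOn_invFunOn hx
  refine ⟨⟨ψ, hψ, ?_⟩, ?_⟩
  · rintro ⟨_, x, rfl⟩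
    rw [hψφ x]
    show (x : Ω) = Function.invFunOn f (P : Set Ω) (φ x)
    rw [hφf, key x x.2]
  · ext x
    constructor
    · rintro ⟨_, ⟨a, rfl⟩, rfl⟩
      rw [hφf, key a a.2]
      exact a.2
    · intro hx
      exact ⟨f x, ⟨⟨x, hx⟩, hφf _⟩, key x hx⟩

theorem IsIso.exists_inv {P Q : Subgroup Ω} {f : Ω → Ω} (h : IsIso F P Q f) :
    ∃ g, IsIso F Q P g ∧ (∀ x ∈ P, g (f x) = x) ∧ ∀ y ∈ Q, f (g y) = y := by
  refine ⟨_, h.invFunOn, fun x hx => h.1.injOn.leftInvOn_invFunOn hx, fun y hy => ?_⟩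
  exact Function.invFunOn_eq (h.exists_preimage hy)

theorem IsIso.card_eq {P Q : Subgroup Ω} {f : Ω → Ω} (h : IsIso F P Q f) :
    Nat.card P = Nat.card Q :=
  Nat.card_congr ((Set.BijOn.mk (fun _ hx => h.mem hx) h.1.injOn
    (fun _ hy => h.exists_preimage hy)).equiv f)

/-- The isomorphism of groups underlying an isomorphism of the system. -/
noncomputable def IsIso.equiv {P Q : Subgroup Ω} {f : Ω → Ω} (h : IsIso F P Q f) : P ≃* Q :=
  MulEquiv.ofBijective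
    ({ toFun := fun x => ⟨f x, h.mem x.2⟩
       map_one' := Subtype.ext h.1.map_one
       map_mul' := fun x y => Subtype.ext (h.1.map_mul x.2 y.2) } : P →* Q)
    ⟨fun x y hxy => Subtype.ext (h.1.injOn x.2 y.2 (congrArg Subtype.val hxy)),
     fun y => by
      obtain ⟨x, hx, hxy⟩ := h.exists_preimage y.2
      exact ⟨⟨x, hx⟩, Subtype.ext hxy⟩⟩

@[simp] theorem IsIso.equiv_apply {P Q : Subgroup Ω} {f : Ω → Ω} (h : IsIso F P Q f) (x : P) :
    (h.equiv x : Ω) = f x := rfl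

theorem IsIso.apply_equiv_symm {P Q : Subgroup Ω} {f : Ω → Ω} (h : IsIso F P Q f) (y : Q) :
    f (h.equiv.symm y : Ω) = y :=
  (h.equiv_apply _).symm.trans (congrArg Subtype.val (h.equiv.apply_symm_apply y))

/-- Restricting an isomorphism to a subgroup of its source. -/
theorem IsIso.restrict {P Q R : Subgroup Ω} {f : Ω → Ω} (h : IsIso F P Q f) (hR : R ≤ P) :
    ∃ R', R' ≤ Q ∧ IsIso F R R' f := by
  obtain ⟨R', hR'⟩ := (h.1.mono hR).exists_image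
  refine ⟨R', fun y hy => ?_, hR'⟩
  obtain ⟨x, hx, rfl⟩ := hR'.exists_preimage hy
  exact h.mem (hR hx)

/-! ### Conjugacy in the system -/

theorem isConj_iff {P Q : Subgroup Ω} : F.IsConj P Q ↔ ∃ f, IsIso F P Q f := by
  constructor
  · rintro ⟨φ, hφ, rfl⟩
    exact ⟨_, IsMap.isIso_range hφ⟩
  · rintro ⟨f, hf⟩
    obtain ⟨φ, hφ, hφf⟩ := hf.1
    refine ⟨φ, hφ, ?_⟩
    apply SetLike.coe_injective
    rw [← hf.2]
    ext y
    constructor
    · rintro ⟨x, rfl⟩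
      exact ⟨x, x.2, (hφf x).symm⟩
    · rintro ⟨x, hx, rfl⟩
      exact ⟨⟨x, hx⟩, hφf _⟩

theorem IsIso.isConj {P Q : Subgroup Ω} {f : Ω → Ω} (h : IsIso F P Q f) : F.IsConj P Q :=
  isConj_iff.mpr ⟨f, h⟩

theorem isConj_refl {P : Subgroup Ω} (hP : P ≤ S) : F.IsConj P P := (isIso_id hP).isConj

theorem isConj_symm {P Q : Subgroup Ω} (h : F.IsConj P Q) : F.IsConj Q P := by
  obtain ⟨f, hf⟩ := isConj_iff.mp h
  exact hf.invFunOn.isConj

theorem isConj_trans {P Q R : Subgroup Ω} (h : F.IsConj P Q) (h' : F.IsConj Q R) : F.IsConj P R := by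
  obtain ⟨f, hf⟩ := isConj_iff.mp h
  obtain ⟨g, hg⟩ := isConj_iff.mp h'
  exact (hf.comp hg).isConj

theorem isConj_le_left {P Q : Subgroup Ω} (h : F.IsConj P Q) : P ≤ S := by
  obtain ⟨f, hf⟩ := isConj_iff.mp h
  exact hf.dom_le

theorem isConj_le_right {P Q : Subgroup Ω} (h : F.IsConj P Q) : Q ≤ S := by
  obtain ⟨f, hf⟩ := isConj_iff.mp h
  exact hf.cod_le

theorem isConj_card {P Q : Subgroup Ω} (h : F.IsConj P Q) : Nat.card P = Nat.card Q := by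
  obtain ⟨f, hf⟩ := isConj_iff.mp h
  exact hf.card_eq

end Cfsg.Agent.Fusion
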