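import Cfsg.Agent.FusTransfer.Transfer
import Cfsg.Agent.Lib.Fusion.Saturation
import Mathlib.GroupTheory.NoncommCoprod

/-!
# The character of the permutations commuting with the right action of a characteristic biset

For a homomorphism `ψ` from `S` to an abelian group that does not see fusion, the permutations
commuting with the right action get a character, equal to `ψ ^ m` on the left action. Its value on a
permutation that also commutes with the left action of a fully centralized subgroup `R` is a value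
of `ψ` on `C_S(R)`.
-/

set_option autoImplicit false
set_option linter.style.haveILetI false

namespace Cfsg.Agent.Fusion.PPow

open Cfsg Cfsg.Agent.Fusion Cfsg.Agent.FusTransfer
open Cfsg.FusionSystem (normalizerIn centralizerIn)

universe u v

section General

variable {G : Type*} [Group G] {X : Type*} [MulAction G X] {A : Type*} [CommGroup A]

theorem exists_potential (d : G →* A) (Y : Set X) (hY : ∀ (g : G) (x : X), x ∈ Y → g • x ∈ Y)
    (h : ∀ (g : G) (x : X), x ∈ Y → g • x = x → d g = 1) :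
    ∃ pot : X → A, ∀ (g : G) (x : X), x ∈ Y → pot (g • x) = d g * pot x := by
  classical
  letI rs : Setoid X := MulAction.orbitRel G X
  have hex : ∀ x : X, ∃ g : G, g • (Quotient.mk rs x).out = x := fun x =>
    MulAction.orbitRel_apply.mp (Setoid.symm (Quotient.mk_out (s := rs) x))
  choose c hc using hex
  refine ⟨fun x => d (c x), fun g x hx => ?_⟩
  have hq : Quotient.mk rs (g • x) = Quotient.mk rs x :=
    Quotient.sound (MulAction.orbitRel_apply.mpr ⟨g, rfl⟩)
  set o := (Quotient.mk rs x).out with ho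
  have h1 : c (g • x) • o = g • x := by
    have := hc (g • x)
    rwa [hq] at this
  have ho' : o ∈ Y := by
    have := hY (c x)⁻¹ x hx
    rwa [inv_smul_eq_iff.mpr (hc x).symm] at this
  have h2 : ((g * c x)⁻¹ * c (g • x)) • o = o := by
    rw [mul_smul, h1, inv_smul_eq_iff, mul_smul, hc x]
  have h3 := h _ o ho' h2
  rw [map_mul, map_inv, inv_mul_eq_one, map_mul] at h3
  exact h3.symm

/-- For a function constant on the orbits of a `p`-group, with values of order dividing `p`, only
the fixed points contribute to the product. -/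
theorem prod_eq_prod_fixed {p : ℕ} [Fact p.Prime] (hG : IsPGroup p G) {Y : Type*} [Fintype Y]
    [MulAction G Y] (D : Y → A) (hD : ∀ (g : G) (y : Y), D (g • y) = D y) (hA : ∀ a : A, a ^ p = 1)
    [DecidablePred fun y => y ∈ MulAction.fixedPoints G Y] :
    ∏ y, D y = ∏ y ∈ Finset.univ.filter (fun y => y ∈ MulAction.fixedPoints G Y), D y := by
  classical
  have hsub : Finset.univ.filter (fun y => y ∈ MulAction.fixedPoints G Y) ⊆ Finset.univ :=
    Finset.subset_univ _
  rw [← Finset.prod_fiberwise_of_maps_to (g := D) (t := Finset.univ.image D)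
    (fun y _ => Finset.mem_image_of_mem D (Finset.mem_univ y)) D,
    ← Finset.prod_fiberwise_of_maps_to (s := Finset.univ.filter fun y => y ∈ MulAction.fixedPoints G Y)
    (g := D) (t := Finset.univ.image D)
    (fun y _ => Finset.mem_image_of_mem D (Finset.mem_univ y)) D]
  refine Finset.prod_congr rfl fun a _ => ?_
  rw [Finset.prod_congr rfl (fun y hy => (Finset.mem_filter.mp hy).2),
    Finset.prod_congr rfl (fun y hy => (Finset.mem_filter.mp hy).2), Finset.prod_const,
    Finset.prod_const, pow_eq_pow_mod _ (hA a)]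
  conv_rhs => rw [pow_eq_pow_mod _ (hA a)]
  congr 1
  let Z : SubMulAction G Y :=
    { carrier := {y | D y = a}
      smul_mem' := fun g y (hy : D y = a) => show D (g • y) = a by rw [hD, hy] }
  have h1 := hG.card_modEq_card_fixedPoints Z
  have e1 : Nat.card Z = (Finset.univ.filter fun y => D y = a).card := by
    rw [← Fintype.card_subtype, ← Nat.card_eq_fintype_card]
    exact Nat.card_congr (Equiv.subtypeEquivRight fun _ => Iff.rfl)
  have e2 : Nat.card (MulAction.fixedPoints G Z) =
      ((Finset.univ.filter fun y => y ∈ MulAction.fixedPoints G Y).filter fun y => D y = a).card := by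
    rw [Finset.filter_filter, ← Fintype.card_subtype, ← Nat.card_eq_fintype_card]
    exact Nat.card_congr
      { toFun := fun z => ⟨z.1.1, fun g => congrArg Subtype.val (z.2 g), z.1.2⟩
        invFun := fun y => ⟨⟨y.1, y.2.2⟩, fun g => Subtype.ext (y.2.1 g)⟩
        left_inv := fun z => rfl
        right_inv := fun y => rfl }
  rw [e1, e2] at h1
  exact h1

end General

variable {Ω : Type u} [Group Ω] {S : Subgroup Ω} {F : FusionSystem S}
variable {X : Type u} [MulAction (S × S) X]

/-- The permutation of right orbits induced by a right equivariant permutation. -/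
noncomputable def quotPerm (g : rightComm S X) : Equiv.Perm (Quotient (rightSetoid S X)) :=
  Quotient.congr (g : Equiv.Perm X) fun a b => by
    constructor
    · rintro ⟨t, rfl⟩
      exact ⟨t, (g.2 t a).symm⟩
    · rintro ⟨t, ht⟩
      exact ⟨t, (g : Equiv.Perm X).injective (by rw [g.2 t a, ht])⟩

theorem quotPerm_mk (g : rightComm S X) (x : X) :
    quotPerm g (Quotient.mk (rightSetoid S X) x) = Quotient.mk (rightSetoid S X) ((g : Equiv.Perm X) x) := rfl

/-- `quotPerm` as a homomorphism. -/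
noncomputable def quotPermHom (S : Subgroup Ω) (X : Type u) [MulAction (S × S) X] :
    rightComm S X →* Equiv.Perm (Quotient (rightSetoid S X)) :=
  MonoidHom.mk' quotPerm fun g g' => Equiv.ext fun o => Quotient.inductionOn o fun x => rfl

variable {A : Type v} [CommGroup A] {ψ : S →* A}

/-- A potential: the left action multiplies it by `ψ`, the right one divides it by `ψ`. -/
def IsPot (ψ : S →* A) (pot : X → A) : Prop :=
  ∀ (r t : S) (x : X), pot (((r, t) : S × S) • x) = ψ r * (ψ t)⁻¹ * pot x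

theorem exists_isPot (hst : ∀ z : X, MulAction.stabilizer (S × S) z ∈ graphs F)
    (hψ : ∀ P f (hf : IsMap F P f) x (hx : x ∈ P),
      ψ ⟨f x, hf.apply_mem hx⟩ = ψ ⟨x, hf.dom_le hx⟩) :
    ∃ pot : X → A, IsPot ψ pot := by
  let d : S × S →* A := ψ.comp (MonoidHom.fst S S) * (ψ.comp (MonoidHom.snd S S))⁻¹
  obtain ⟨pot, hpot⟩ := exists_potential d (Set.univ : Set X) (fun _ _ _ => trivial)
    (fun a x _ ha => by
      obtain ⟨P, f, hg⟩ := hst x
      obtain ⟨h1, h2⟩ := (hg.2 a).1 (MulAction.mem_stabilizer_iff.2 ha)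
      show ψ a.1 * (ψ a.2)⁻¹ = 1
      rw [mul_inv_eq_one, ← hψ P f hg.1 a.2 h1]
      exact congrArg ψ (Subtype.ext h2.symm))
  exact ⟨pot, fun r t x => hpot (r, t) x trivial⟩

/-- The change of a potential by `g`, on a right orbit. -/
noncomputable def delta {pot : X → A} (hp : IsPot ψ pot) (g : rightComm S X) :
    Quotient (rightSetoid S X) → A :=
  Quotient.lift (fun x => pot ((g : Equiv.Perm X) x) / pot x) fun x y ⟨t, ht⟩ => by
    show pot _ / pot _ = pot _ / pot _
    rw [← ht, g.2, hp, hp, mul_div_mul_left_eq_div]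

theorem delta_mk {pot : X → A} (hp : IsPot ψ pot) (g : rightComm S X) (x : X) :
    delta hp g (Quotient.mk (rightSetoid S X) x) = pot ((g : Equiv.Perm X) x) / pot x := rfl

variable [Fintype (Quotient (rightSetoid S X))]

/-- The character. -/
noncomputable def chi {pot : X → A} (hp : IsPot ψ pot) : rightComm S X →* A :=
  MonoidHom.mk' (fun g => ∏ o, delta hp g o) fun g g' => by
    have h : ∀ o, delta hp (g * g') o = delta hp g (quotPerm g' o) * delta hp g' o := fun o =>
      Quotient.inductionOn o fun x => by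
        rw [quotPerm_mk, delta_mk, delta_mk, delta_mk, div_mul_div_cancel]
        rfl
    rw [Finset.prod_congr rfl fun o _ => h o, Finset.prod_mul_distrib,
      (quotPerm g').bijective.prod_comp fun o => delta hp g o]

theorem chi_leftRep {pot : X → A} (hp : IsPot ψ pot) (s : S) :
    chi hp (leftRep S X s) = ψ s ^ Nat.card (Quotient (rightSetoid S X)) := by
  show ∏ o, delta hp (leftRep S X s) o = _
  rw [Nat.card_eq_fintype_card, ← Finset.card_univ, ← Finset.prod_const]
  refine Finset.prod_congr rfl fun o _ => Quotient.inductionOn o fun x => ?_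
  rw [delta_mk, leftRep_apply, hp, map_one, inv_one, mul_one, mul_div_assoc, div_self', mul_one]

omit [Fintype (Quotient (rightSetoid S X))] in
theorem card_quotient_mul (hst : ∀ z : X, MulAction.stabilizer (S × S) z ∈ graphs F) :
    Nat.card (Quotient (rightSetoid S X)) * Nat.card S = Nat.card X := by
  rw [← Nat.card_prod]
  refine Nat.card_congr (Equiv.ofBijective
    (fun q : Quotient (rightSetoid S X) × S => ((1, q.2) : S × S) • q.1.out) ⟨?_, ?_⟩)
  · rintro ⟨o, t⟩ ⟨o', t'⟩ h
    change ((1, t) : S × S) • o.out = ((1, t') : S × S) • o'.out at h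
    have ho : o = o' := by
      rw [← o.out_eq, ← o'.out_eq]
      refine Quotient.sound (s := rightSetoid S X) ⟨t'⁻¹ * t, ?_⟩
      rw [show ((1, t'⁻¹ * t) : S × S) = ((1, t') : S × S)⁻¹ * (1, t) by simp, mul_smul, h, inv_smul_smul]
    subst ho
    obtain ⟨P, f, hg⟩ := hst o.out
    have h2 : ((1, t'⁻¹ * t) : S × S) ∈ MulAction.stabilizer (S × S) o.out := by
      rw [MulAction.mem_stabilizer_iff,
        show ((1, t'⁻¹ * t) : S × S) = ((1, t') : S × S)⁻¹ * (1, t) by simp, mul_smul, h, inv_smul_smul]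
    have h3 : t'⁻¹ * t = 1 := congrArg Prod.snd (hg.eq_one_of_left h2 rfl)
    rw [inv_mul_eq_one] at h3
    rw [h3]
  · intro x
    obtain ⟨t, ht⟩ := Quotient.mk_out (s := rightSetoid S X) x
    exact ⟨(Quotient.mk (rightSetoid S X) x, t), ht⟩

variable [Finite S]

/-- The value of the character at a permutation commuting with the left action of `R`. -/
theorem exists_centralizer_eq_chi {p : ℕ} [Fact p.Prime] (hS : IsPGroup p S)
    (hst : ∀ z : X, MulAction.stabilizer (S × S) z ∈ graphs F)
    (hψ : ∀ P f (hf : IsMap F P f) x (hx : x ∈ P),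
      ψ ⟨f x, hf.apply_mem hx⟩ = ψ ⟨x, hf.dom_le hx⟩)
    (hA : Nat.card A = p) {pot : X → A} (hp : IsPot ψ pot) {R : Subgroup Ω} (hR : F.IsReceptive R)
    (g : rightComm S X)
    (hg : ∀ (r : Ω) (_ : r ∈ R) (h : r ∈ S), g * leftRep S X ⟨r, h⟩ = leftRep S X ⟨r, h⟩ * g) :
    ∃ c : S, (c : Ω) ∈ centralizerIn S R ∧ ψ c = chi hp g := by
  classical
  haveI : Finite A := Nat.finite_of_card_ne_zero (hA ▸ (Fact.out : p.Prime).ne_zero)
  have hAp : ∀ a : A, a ^ p = 1 := fun a => hA ▸ pow_card_eq_one'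
  by_cases hC : ∃ c : S, (c : Ω) ∈ centralizerIn S R ∧ ψ c ≠ 1
  · obtain ⟨c, hc, hc1⟩ := hC
    have htop : chi hp g ∈ Subgroup.zpowers (ψ c) := mem_zpowers_of_prime_card hA hc1
    obtain ⟨i, hi⟩ := htop
    refine ⟨c ^ i, ?_, by rw [map_zpow]; exact hi⟩
    rw [Subgroup.coe_zpow]
    exact Subgroup.zpow_mem _ hc i
  replace hC : ∀ c : S, (c : Ω) ∈ centralizerIn S R → ψ c = 1 := fun c hc => by
    by_contra h
    exact hC ⟨c, hc, h⟩
  refine ⟨1, (centralizerIn S R).one_mem, ?_⟩
  rw [map_one]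
  symm
  haveI := finite_of_le hR.1
  let Q := Quotient (rightSetoid S X)
  letI : MulAction R Q :=
    MulAction.compHom Q ((quotPermHom S X).comp ((leftRep S X).comp (Subgroup.inclusion hR.1)))
  have hsm : ∀ (r : R) (x : X), r • (Quotient.mk (rightSetoid S X) x) =
      Quotient.mk (rightSetoid S X) (((Subgroup.inclusion hR.1 r, 1) : S × S) • x) := fun _ _ => rfl
  have hgc : ∀ (r : S), (r : Ω) ∈ R → ∀ x : X, (g : Equiv.Perm X) (((r, 1) : S × S) • x) =
      ((r, 1) : S × S) • (g : Equiv.Perm X) x := fun r hr x =>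
    Equiv.ext_iff.1 (congrArg Subtype.val (hg r hr r.2)) x
  have hDinv : ∀ (r : R) (o : Q), delta hp g (r • o) = delta hp g o := fun r o =>
    Quotient.inductionOn o fun x => by
      rw [hsm, delta_mk, delta_mk, hgc _ r.2, hp, hp, mul_div_mul_left_eq_div]
  show ∏ o, delta hp g o = 1
  rw [prod_eq_prod_fixed (hS.to_le hR.1) _ hDinv hAp]
  -- a potential invariant under `g` on the points over fixed orbits
  let Y : Set X := {x | ∀ (r : S), (r : Ω) ∈ R → ∃ t : S, ((r, t) : S × S) • x = x}
  have hYfix : ∀ x : X, Quotient.mk (rightSetoid S X) x ∈ MulAction.fixedPoints R Q → x ∈ Y := by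
    intro x hx r hr
    have h := hx ⟨r, hr⟩
    rw [hsm, Quotient.eq (r := rightSetoid S X)] at h
    obtain ⟨t, ht⟩ := h
    refine ⟨t, ?_⟩
    conv_rhs => rw [← ht]
    rw [smul_smul, show Subgroup.inclusion hR.1 (⟨r, hr⟩ : R) = r from rfl]
    simp
  let Γ := Subgroup.zpowers (g : Equiv.Perm X)
  let rp : S →* Equiv.Perm X := (MulAction.toPermHom (S × S) X).comp (MonoidHom.inr S S)
  have hcomm : ∀ (k : Γ) (t : S), Commute (Γ.subtype k) (rp t) := fun k t => Equiv.ext fun x =>
    (Subgroup.zpowers_le.2 g.2 k.2 : (k : Equiv.Perm X) ∈ rightComm S X) t x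
  letI actΓ : MulAction (Γ × S) X := MulAction.compHom X (MonoidHom.noncommCoprod Γ.subtype rp hcomm)
  have hsmΓ : ∀ (a : Γ × S) (x : X), a • x = (a.1 : Equiv.Perm X) (((1, a.2) : S × S) • x) :=
    fun _ _ => rfl
  have hkc : ∀ (k : Γ) (r : S), (r : Ω) ∈ R → ∀ x : X, (k : Equiv.Perm X) (((r, 1) : S × S) • x) =
      ((r, 1) : S × S) • (k : Equiv.Perm X) x := fun k r hr x => by
    have hc : Commute (g : Equiv.Perm X) (leftRep S X r : Equiv.Perm X) :=
      congrArg Subtype.val (hg r hr r.2)
    obtain ⟨i, hi⟩ := Subgroup.mem_zpowers_iff.1 k.2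
    rw [← hi]
    exact Equiv.ext_iff.1 (hc.zpow_left i) x
  have hk2 : ∀ (k : Γ) (r t : S), (r : Ω) ∈ R → ∀ x : X, (k : Equiv.Perm X) (((r, t) : S × S) • x) =
      ((r, t) : S × S) • (k : Equiv.Perm X) x := fun k r t hr x => by
    rw [show ((r, t) : S × S) = (r, 1) * (1, t) by simp, mul_smul, hkc k r hr,
      (Subgroup.zpowers_le.2 g.2 k.2 : (k : Equiv.Perm X) ∈ rightComm S X) t x, mul_smul]
  have hYinv : ∀ (a : Γ × S) (x : X), x ∈ Y → a • x ∈ Y := by
    intro a x hx r hr
    obtain ⟨t, ht⟩ := hx r hr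
    refine ⟨a.2 * t * a.2⁻¹, ?_⟩
    rw [hsmΓ, ← hk2 a.1 r _ hr, smul_smul]
    conv_rhs => rw [← ht]
    rw [smul_smul]
    congr 2
    simp
  let d : Γ × S →* A := (ψ.comp (MonoidHom.snd Γ S))⁻¹
  have hd : ∀ (a : Γ × S) (x : X), x ∈ Y → a • x = x → d a = 1 := by
    intro a x hx ha
    rw [hsmΓ] at ha
    obtain ⟨P, f, hgr⟩ := hst x
    obtain ⟨I, hI⟩ := hgr.1.exists_image
    have hRI : R ≤ I := fun r hr => by
      obtain ⟨t, ht⟩ := hx ⟨r, hR.1 hr⟩ hr
      obtain ⟨h1, h2⟩ := (hgr.2 _).1 (MulAction.mem_stabilizer_iff.2 ht)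
      have := hI.mem h1
      rwa [h2] at this
    obtain ⟨fi, hfi, hfil, hfir⟩ := hI.exists_inv
    obtain ⟨P', hP'P, hP'⟩ := hfi.restrict hRI
    obtain ⟨f₂, hf₂, hf₂l, hf₂r⟩ := hP'.exists_inv
    -- `a.2` centralizes `P'`
    have hcen : (a.2 : Ω) ∈ centralizerIn S P' := by
      refine ⟨a.2.2, Subgroup.mem_centralizer_iff.mpr fun u hu => ?_⟩
      obtain ⟨r, hr, rfl⟩ := hP'.exists_preimage hu
      let r' : S := ⟨r, hR.1 hr⟩
      let u' : S := ⟨fi r, hgr.1.dom_le (hP'P hu)⟩
      have hru : ((r', u') : S × S) • x = x :=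
        MulAction.mem_stabilizer_iff.1 ((hgr.2 (r', u')).2 ⟨hP'P hu, hfir r (hRI hr)⟩)
      have h1 : ((r', a.2⁻¹ * u' * a.2) : S × S) • x = x := by
        have h2 : ((r', u') : S × S) • (a.1 : Equiv.Perm X) (((1, a.2) : S × S) • x) =
            (a.1 : Equiv.Perm X) (((1, a.2) : S × S) • x) := by rw [ha]; exact hru
        rw [← hk2 a.1 r' u' hr, (a.1 : Equiv.Perm X).injective.eq_iff, smul_smul] at h2
        rw [show ((r', a.2⁻¹ * u' * a.2) : S × S) = ((1, a.2) : S × S)⁻¹ * ((r', u') * (1, a.2)) by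
          simp [mul_assoc], mul_smul, h2, inv_smul_smul]
      obtain ⟨h3, h4⟩ := (hgr.2 _).1 (MulAction.mem_stabilizer_iff.2 h1)
      have h5 : ((a.2⁻¹ * u' * a.2 : S) : Ω) = fi r :=
        hgr.1.injOn h3 (hP'P hu) (h4.trans (hfir r (hRI hr)).symm)
      have h6 : (a.2 : Ω)⁻¹ * fi r * a.2 = fi r := h5
      calc fi r * (a.2 : Ω) = a.2 * ((a.2 : Ω)⁻¹ * fi r * a.2) := by group
        _ = a.2 * fi r := by rw [h6]
    obtain ⟨f', hf', hf'e⟩ := receptive_extend hR hf₂ (isExtendable_centralizerIn f₂)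
    have hmem : (a.2 : Ω) ∈ P' ⊔ centralizerIn S P' := Subgroup.mem_sup_right hcen
    have h7 := hψ _ f' hf' _ hmem
    have h8 := map_mem_centralizer hf' le_sup_left ((Set.image_congr hf'e).trans hf₂.2) hmem hcen.2
    show (ψ a.2)⁻¹ = 1
    rw [inv_eq_one, ← hC ⟨_, hf'.apply_mem hmem⟩ h8, h7]
  obtain ⟨q, hq⟩ := exists_potential d Y hYinv hd
  have hqg : ∀ x ∈ Y, q ((g : Equiv.Perm X) x) = q x := fun x hx => by
    have h := hq (⟨(g : Equiv.Perm X), Subgroup.mem_zpowers _⟩, 1) x hx
    rw [hsmΓ] at h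
    simpa [d, ← Prod.one_eq_mk] using h
  have hqt : ∀ (t : S), ∀ x ∈ Y, q (((1, t) : S × S) • x) = (ψ t)⁻¹ * q x := fun t x hx => by
    have h := hq (1, t) x hx
    rw [hsmΓ] at h
    exact h
  let u : Q → A := fun o => pot o.out / q o.out
  have hu : ∀ x, Quotient.mk (rightSetoid S X) x ∈ MulAction.fixedPoints R Q →
      u (Quotient.mk (rightSetoid S X) x) = pot x / q x := by
    intro x hx
    obtain ⟨t, ht⟩ := Quotient.mk_out (s := rightSetoid S X) x
    have hoY : (Quotient.mk (rightSetoid S X) x).out ∈ Y :=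
      hYfix _ (by rw [Quotient.out_eq]; exact hx)
    show pot _ / q _ = pot x / q x
    conv_rhs => rw [← ht]
    rw [hp, hqt t _ hoY, map_one, one_mul, mul_div_mul_left_eq_div]
  have hfixg : ∀ o : Q, o ∈ MulAction.fixedPoints R Q ↔ quotPerm g o ∈ MulAction.fixedPoints R Q := by
    intro o
    have he : ∀ r : R, quotPerm g (r • o) = r • quotPerm g o := fun r =>
      Quotient.inductionOn o fun x => by
        rw [hsm, quotPerm_mk, quotPerm_mk, hsm, hgc _ r.2]
    exact ⟨fun h r => by rw [← he r, h r], fun h r => (quotPerm g).injective (by rw [he r, h r])⟩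
  have hD : ∀ o ∈ Finset.univ.filter (fun o : Q => o ∈ MulAction.fixedPoints R Q),
      delta hp g o = u (quotPerm g o) / u o := by
    intro o ho
    replace ho := (Finset.mem_filter.1 ho).2
    induction o using Quotient.inductionOn with
    | _ x =>
      have h2 := (hfixg _).1 ho
      rw [quotPerm_mk] at h2 ⊢
      rw [hu x ho, hu _ h2, hqg x (hYfix x ho), delta_mk, div_div_div_cancel_right]
  rw [Finset.prod_congr rfl hD, Finset.prod_div_distrib, div_eq_one]
  exact Finset.prod_equiv (quotPerm g) (fun o => by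
    simp only [Finset.mem_filter, Finset.mem_univ, true_and]
    exact hfixg o) (fun o _ => rfl)

end Cfsg.Agent.Fusion.PPow
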