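import Cfsg.Agent.Lib.Fusion.SatJoin
import Cfsg.Agent.Lib.Thompson.Cores

/-!
# Saturation criterion, second part: every automorphism of a fully normalized `P` extends to the
subgroup `Q₀(P)` of the elements of `N_S(P)` inducing elements of `O_p(Aut_F(P))`
-/

set_option autoImplicit false
set_option linter.style.haveILetI false

namespace Cfsg.Agent.Fusion.SatCrit

open Cfsg Cfsg.Agent.Fusion
open Cfsg.FusionSystem (normalizerIn centralizerIn)
open scoped Pointwise

variable {Ω : Type*} [Group Ω] {S : Subgroup Ω} {F : FusionSystem S} {p : ℕ}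

/-- `O_p(Aut_F(P))` inside `Aut(P)`. -/
def pCoreAut (F : FusionSystem S) (p : ℕ) (P : Subgroup Ω) : Subgroup (MulAut P) :=
  (pCore p (F.autGroup P)).map (F.autGroup P).subtype

/-- The elements of `N_S(P)` inducing elements of `O_p(Aut_F(P))`. -/
def qZero (F : FusionSystem S) (p : ℕ) (P : Subgroup Ω) : Subgroup Ω :=
  ((pCoreAut F p P).comap (conjAutHom S P)).map (normalizerIn S P).subtype

theorem mem_qZero {P : Subgroup Ω} {g : Ω} :
    g ∈ qZero F p P ↔ ∃ h : g ∈ normalizerIn S P, conjAutHom S P ⟨g, h⟩ ∈ pCoreAut F p P :=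
  ⟨fun ⟨⟨_, h⟩, hm, he⟩ => he ▸ ⟨h, hm⟩, fun ⟨h, hm⟩ => ⟨⟨g, h⟩, hm, rfl⟩⟩

theorem qZero_le {P : Subgroup Ω} : qZero F p P ≤ normalizerIn S P := Subgroup.map_subtype_le _

theorem qZero_le_base {P : Subgroup Ω} : qZero F p P ≤ S := qZero_le.trans (normalizerIn_le S P)

theorem pCoreAut_congr {A B : Subgroup Ω} {a : Ω → Ω} (hab : IsIso F A B a) {α : MulAut A}
    (hα : α ∈ pCoreAut F p A) : MulAut.congr hab.equiv α ∈ pCoreAut F p B := by
  obtain ⟨β, hβ, rfl⟩ := hα
  have h : hab.autEquiv β ∈ pCore p (F.autGroup B) := by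
    rw [← Thompson.map_pCore_equiv hab.autEquiv]
    exact ⟨β, hβ, rfl⟩
  exact ⟨hab.autEquiv β, h, rfl⟩

theorem map_qZero {A B D : Subgroup Ω} {a : Ω → Ω} (ha : IsMap F D a) (hab : IsIso F A B a)
    (hAD : A ≤ D) (hD : D ≤ normalizerIn S A) {g : Ω} (hg : g ∈ D) (hgQ : g ∈ qZero F p A) :
    a g ∈ qZero F p B := by
  obtain ⟨hgN, hgc⟩ := mem_qZero.1 hgQ
  refine mem_qZero.2 ⟨normalizer_map_mem ha hab hAD hD hg, ?_⟩
  have h := pCoreAut_congr hab hgc
  convert h using 1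
  refine MulEquiv.ext fun y => ?_
  obtain ⟨x, rfl⟩ := hab.equiv.surjective y
  apply Subtype.ext
  rw [congr_apply_equiv hab, conjAutHom_apply, conjAutHom_apply, hab.equiv_apply]
  exact (ha.map_conj hg (hAD x.2)).symm

theorem le_qZero [Finite S] [Fact p.Prime] (hS : IsPGroup p S) {P : Subgroup Ω} (hP : P ≤ S) :
    P ≤ qZero F p P := by
  intro g hg
  refine mem_qZero.2 ⟨le_normalizerIn hP hg, ?_⟩
  have h1 : conjAutHom S P ⟨g, le_normalizerIn hP hg⟩ ∈ autInducedBy P P :=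
    mem_autInducedBy.2 ⟨g, hg, fun x => rfl⟩
  rw [← inn_eq_autInducedBy] at h1
  refine ⟨⟨_, inn_le_autGroup hP h1⟩, Thompson.le_pCore inn_subgroupOf_normal ?_
    (Subgroup.mem_subgroupOf.2 h1), rfl⟩
  refine IsPGroup.comap_subtype ?_
  rw [inn_eq_autInducedBy, ← range_conjAutHom]
  exact (hS.to_le ((normalizerIn_le P P).trans hP)).of_surjective (conjAutHom P P).rangeRestrict
    (MonoidHom.rangeRestrict_surjective _)

theorem normalizerIn_le_normalizer_qZero {P : Subgroup Ω} (hP : P ≤ S) :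
    normalizerIn S P ≤ Subgroup.normalizer (qZero F p P : Set Ω) := by
  intro g hg
  have key : ∀ g ∈ normalizerIn S P, ∀ x ∈ qZero F p P, g * x * g⁻¹ ∈ qZero F p P := fun g hg x hx =>
    map_qZero (isMap_conj (normalizerIn_le S P) hg.1) ⟨isMap_conj hP hg.1, image_conj_eq_self hg.2⟩
      (le_normalizerIn hP) le_rfl (qZero_le hx) hx
  refine Subgroup.mem_normalizer_iff.2 fun x => ⟨key g hg x, fun hx => ?_⟩
  have h := key g⁻¹ ((normalizerIn S P).inv_mem hg) _ hx
  simpa [mul_assoc] using h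

/-- `u` extends to `Q₀(P)`. -/
def Ext (F : FusionSystem S) (p : ℕ) (P : Subgroup Ω) (u : Ω → Ω) : Prop :=
  ∃ f, IsMap F (qZero F p P) f ∧ Set.EqOn f u P

theorem Ext.congr {P : Subgroup Ω} {u v : Ω → Ω} (h : Ext F p P u) (he : Set.EqOn u v P) :
    Ext F p P v :=
  let ⟨f, hf, hfe⟩ := h
  ⟨f, hf, hfe.trans he⟩

section Finite

variable [Finite S] [Fact p.Prime]

theorem Ext.iso {P : Subgroup Ω} {u : Ω → Ω} (hS : IsPGroup p S) (hu : IsIso F P P u) {f : Ω → Ω}
    (hf : IsMap F (qZero F p P) f) (hfe : Set.EqOn f u P) :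
    IsIso F (qZero F p P) (qZero F p P) f := by
  have hPQ := le_qZero (F := F) hS hu.dom_le
  have hmaps : ∀ g ∈ qZero F p P, f g ∈ qZero F p P := fun g hg =>
    map_qZero hf ⟨hf.mono hPQ, (Set.image_congr hfe).trans hu.2⟩ hPQ qZero_le hg hg
  exact ⟨hf, Set.Subset.antisymm (fun y ⟨g, hg, e⟩ => e ▸ hmaps g hg)
    fun y hy => surjOn_of_card_le qZero_le_base hf.injOn hmaps le_rfl y hy⟩

theorem Ext.comp {P : Subgroup Ω} {u v : Ω → Ω} (hS : IsPGroup p S) (hu : IsIso F P P u)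
    (h : Ext F p P u) (h' : Ext F p P v) : Ext F p P (v ∘ u) := by
  obtain ⟨f, hf, hfe⟩ := h
  obtain ⟨g, hg, hge⟩ := h'
  refine ⟨g ∘ f, (Ext.iso hS hu hf hfe).comp_map hg, fun x hx => ?_⟩
  rw [Function.comp_apply, hfe hx, Function.comp_apply, hge (hu.mem hx)]

theorem Ext.inv {P : Subgroup Ω} {u v : Ω → Ω} (hS : IsPGroup p S) (hu : IsIso F P P u)
    (hvu : ∀ x ∈ P, v (u x) = x) (h : Ext F p P u) : Ext F p P v := by
  obtain ⟨f, hf, hfe⟩ := h
  obtain ⟨fi, hfi, hfil, -⟩ := (Ext.iso hS hu hf hfe).exists_inv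
  refine ⟨fi, hfi.1, fun y hy => ?_⟩
  obtain ⟨x, hx, rfl⟩ := hu.exists_preimage hy
  rw [hvu x hx, ← hfe hx, hfil x (le_qZero hS hu.dom_le hx)]

namespace Crit

variable {P₀ : Subgroup Ω}

theorem exists_mem_qZero_normalizer (h : Crit F p P₀) {P Q : Subgroup Ω} (hP : P ≤ S)
    (hQ : Q ≤ normalizerIn S P) (hne : ¬ qZero F p P ≤ Q) :
    ∃ c ∈ qZero F p P, c ∈ normalizerIn (normalizerIn S P) Q ∧ c ∉ Q := by
  set K := Q ⊔ qZero F p P with hK
  have hKN : K ≤ normalizerIn S P := sup_le hQ qZero_le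
  have hlt : Q < K := lt_of_le_of_ne le_sup_left fun e => hne (le_sup_right.trans e.ge)
  have hKS : K ≤ S := hKN.trans (normalizerIn_le S P)
  haveI := finite_of_le hKS
  obtain ⟨d, hd, hdQ⟩ := SetLike.exists_of_lt (lt_normalizerIn (h.pgroup.to_le hKS) hlt)
  have hmem : (d : Ω) ∈ ((K : Subgroup Ω) : Set Ω) := hd.1
  rw [hK, Subgroup.coe_mul_of_left_le_normalizer_right Q (qZero F p P)
    (hQ.trans (normalizerIn_le_normalizer_qZero hP))] at hmem
  obtain ⟨q, hq, c, hc, rfl⟩ := hmem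
  refine ⟨c, hc, ⟨qZero_le hc, ?_⟩, fun hcQ => hdQ (Q.mul_mem hq hcQ)⟩
  have := Subgroup.mul_mem _ (Subgroup.inv_mem _ (Subgroup.le_normalizer hq)) hd.2
  rwa [inv_mul_cancel_left] at this

/-- Automorphisms of a fully normalized `P` extending beyond `P` extend to `Q₀(P)`. -/
theorem ext_step (h : Crit F p P₀) {P : Subgroup Ω} (hP : F.IsConj P₀ P)
    (hto : ∀ x, F.IsConj P₀ x → ∃ a, IsMap F (normalizerIn S x) a ∧ IsIso F x P a) :
    ∀ D f, IsMap F D f → P < D → D ≤ normalizerIn S P → IsIso F P P f → Ext F p P f := by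
  suffices H : ∀ n, ∀ D f, IsMap F D f → P < D → D ≤ normalizerIn S P → IsIso F P P f →
      Nat.card S - Nat.card D = n → Ext F p P f from
    fun D f h1 h2 h3 h4 => H _ D f h1 h2 h3 h4 rfl
  intro n
  induction n using Nat.strong_induction_on with
  | _ n ih =>
    intro Q f hf hPQ hQN hfP hn
    have big : ∀ D g, IsMap F D g → P < D → D ≤ normalizerIn S P → Nat.card Q < Nat.card D →
        IsIso F P P g → Ext F p P g :=
      fun D g h1 h2 h3 h4 h5 => ih _ (by
        have := Subgroup.card_le_of_le h1.dom_le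
        omega) D g h1 h2 h3 h5 rfl
    have hPS := hfP.dom_le
    by_cases hQ0 : qZero F p P ≤ Q
    · exact ⟨f, hf.mono hQ0, fun x _ => rfl⟩
    obtain ⟨Q₂, hQ₂⟩ := hf.exists_image
    have hPQ₂ : P ≤ Q₂ := fun w hw => by
      obtain ⟨v, hv, rfl⟩ := hfP.exists_preimage hw
      exact hQ₂.mem (hPQ.le hv)
    by_cases hQ₂0 : qZero F p P ≤ Q₂
    · obtain ⟨fi, hfi, hfil, -⟩ := hQ₂.exists_inv
      have hfiP : IsIso F P P fi := by
        refine ⟨hfi.1.mono hPQ₂, ?_⟩
        conv_lhs => rw [← hfP.2, ← Set.image_comp]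
        exact (Set.image_congr fun v hv => hfil v (hPQ.le hv)).trans (Set.image_id' _)
      refine Ext.inv h.pgroup hfiP (fun y hy => ?_) ⟨fi, hfi.1.mono hQ₂0, fun x _ => rfl⟩
      obtain ⟨v, hv, rfl⟩ := hfP.exists_preimage hy
      rw [hfil v (hPQ.le hv)]
    have hQ₂N : Q₂ ≤ normalizerIn S P := fun w hw => by
      obtain ⟨v, hv, rfl⟩ := hQ₂.exists_preimage hw
      exact normalizer_map_mem hf hfP hPQ.le hQN hv
    have hPQ₂' : P < Q₂ := lt_of_le_of_ne hPQ₂ fun e => by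
      haveI := finite_of_le hf.dom_le
      refine hPQ.ne (Subgroup.eq_of_le_of_card_ge hPQ.le ?_)
      rw [hQ₂.card_eq, ← e]
    have hP₀Q : Nat.card P₀ < Nat.card Q := by
      rw [isConj_card hP]
      haveI := finite_of_le hf.dom_le
      by_contra hle
      exact hPQ.ne (Subgroup.eq_of_le_of_card_ge hPQ.le (not_lt.mp hle))
    obtain ⟨R, hQR, hRa, hRr⟩ := h.sat Q hf.dom_le hP₀Q
    obtain ⟨α, hα, hαQ, hαN⟩ := exists_normalizer_map h.pgroup hRa hRr hQR
    obtain ⟨α', hα', hα'Q, hα'N⟩ :=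
      exists_normalizer_map h.pgroup hRa hRr (isConj_trans (isConj_symm hQ₂.isConj) hQR)
    obtain ⟨αi, hαi, hαil, -⟩ := hαQ.exists_inv
    set β := α' ∘ f ∘ αi with hβdef
    have hβ : IsIso F R R β := (hαi.comp hQ₂).comp hα'Q
    obtain ⟨x₁, hx₁R, hxx₁⟩ := hαQ.restrict hPQ.le
    obtain ⟨y₁, hy₁R, hyy₁⟩ := hα'Q.restrict hPQ₂
    have hx₁y₁ : IsIso F x₁ y₁ β := by
      refine ⟨hβ.1.mono hx₁R, ?_⟩
      rw [← hxx₁.2, ← Set.image_comp, ← hyy₁.2]
      conv_rhs => rw [← hfP.2, ← Set.image_comp]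
      exact Set.image_congr fun v hv => by
        simp only [hβdef, Function.comp_apply, hαil v (hPQ.le hv)]
    obtain ⟨z, hzR, ⟨V, hV⟩, hz⟩ := exists_rep_fusion h.pgroup hRa hRr hx₁R
    obtain ⟨d₁, hd₁, hd₁z, hd₁R⟩ := hz x₁ id (isIso_id hRa.1) (isIso_id (hx₁R.trans hRa.1))
    obtain ⟨d₂, hd₂, hd₂z, hd₂R⟩ := hz y₁ β hβ hx₁y₁
    have half : ∀ (Q x₁ : Subgroup Ω) (α d : Ω → Ω), P < Q → Q ≤ normalizerIn S P → ¬ qZero F p P ≤ Q →
        IsMap F (normalizerIn S Q) α → IsIso F Q R α → (∀ g ∈ normalizerIn S Q, α g ∈ normalizerIn S R) →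
        IsIso F P x₁ α → IsMap F (normalizerIn (normalizerIn S x₁) R) d → IsIso F x₁ z d →
        IsIso F R R d →
        ∃ D, P < D ∧ D ≤ normalizerIn S P ∧ Nat.card Q < Nat.card D ∧ IsMap F D (d ∘ α) ∧
          IsIso F P z (d ∘ α) ∧ (∀ g ∈ D, d (α g) ∈ normalizerIn S z) ∧
          R ≤ normalizerIn S z ∧ ∃ c ∈ qZero F p z, c ∈ normalizerIn S R ∧ c ∉ R := by
      intro Q x₁ α d hPQ hQN hne hα hαQ hαN hαP hd hdz hdR
      obtain ⟨c, hc, hcD, hcQ⟩ := h.exists_mem_qZero_normalizer hPS hQN hne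
      set D := normalizerIn (normalizerIn S P) Q with hD
      have hQD : Q ≤ D := le_normalizerIn hQN
      have hαD : IsMap F D α := hα.mono fun g hg => ⟨hg.1.1, hg.2⟩
      have hαD' : ∀ g ∈ D, α g ∈ normalizerIn (normalizerIn S x₁) R := fun g hg =>
        ⟨normalizer_map_mem hαD hαP (hPQ.le.trans hQD) (normalizerIn_le _ _) hg,
          (hαN g ⟨hg.1.1, hg.2⟩).2⟩
      have he : IsMap F D (d ∘ α) := hαD.comp hd hαD'
      have heP : IsIso F P z (d ∘ α) := hαP.comp hdz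
      have heN : ∀ g ∈ D, d (α g) ∈ normalizerIn S z := fun g hg =>
        normalizer_map_mem he heP (hPQ.le.trans hQD) (normalizerIn_le _ _) hg
      have hRD : R ≤ normalizerIn (normalizerIn S x₁) R := fun w hw => by
        obtain ⟨v, hv, rfl⟩ := hαQ.exists_preimage hw
        exact hαD' v (hQD hv)
      have hcard : Nat.card Q < Nat.card D := by
        haveI := finite_of_le ((normalizerIn_le (normalizerIn S P) Q).trans (normalizerIn_le S P))
        by_contra hle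
        exact hcQ ((Subgroup.eq_of_le_of_card_ge hQD (not_lt.mp hle)).ge hcD)
      refine ⟨D, hPQ.trans_le hQD, normalizerIn_le _ _, hcard, he, heP, heN, fun w hw => ?_,
        d (α c), map_qZero he heP (hPQ.le.trans hQD) (normalizerIn_le _ _) hcD hc,
        map_mem_normalizer hd hRD hdR.2 (hαD' c hcD) (hαD' c hcD).2, fun hR => hcQ ?_⟩
      · obtain ⟨v, hv, rfl⟩ := hdR.exists_preimage hw
        obtain ⟨u, hu, rfl⟩ := hαQ.exists_preimage hv
        exact heN u (hQD hu)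
      · obtain ⟨v, hv, hve⟩ := hdR.exists_preimage hR
        obtain ⟨u, hu, rfl⟩ := hαQ.exists_preimage hv
        rwa [← he.injOn (hQD hu) hcD hve]
    obtain ⟨D₁, hPD₁, hD₁N, hD₁c, he₁, he₁P, he₁N, hRz, c, hc, hcR, hcR'⟩ :=
      half Q x₁ α d₁ hPQ hQN hQ0 hα hαQ hαN hxx₁ hd₁ hd₁z hd₁R
    obtain ⟨D₂, hPD₂, hD₂N, hD₂c, he₂, he₂P, he₂N, -, -⟩ :=
      half Q₂ y₁ α' d₂ hPQ₂' hQ₂N hQ₂0 hα' hα'Q hα'N hyy₁ hd₂ hd₂z hd₂R
    rw [← hQ₂.card_eq] at hD₂c
    have hzc : F.IsConj P₀ z := isConj_trans hP he₁P.isConj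
    obtain ⟨χ, hχ, hχz⟩ := hto z hzc
    have hzS : z ≤ S := hzR.trans hRa.1
    have hzN : z ≤ normalizerIn S z := le_normalizerIn hzS
    obtain ⟨χi, hχi, hχil, hχir⟩ := hχz.exists_inv
    have hu₁ : Ext F p P (χ ∘ (d₁ ∘ α)) :=
      big D₁ _ (he₁.comp hχ he₁N) hPD₁ hD₁N hD₁c (he₁P.comp hχz)
    have hu₂ : Ext F p P (χ ∘ (d₂ ∘ α')) :=
      big D₂ _ (he₂.comp hχ he₂N) hPD₂ hD₂N hD₂c (he₂P.comp hχz)
    -- the middle automorphism
    obtain ⟨d₁i, hd₁i, hd₁il, -⟩ := hd₁R.exists_inv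
    have hδ₀ : IsIso F R R (d₂ ∘ β ∘ d₁i) := (hd₁i.comp hβ).comp hd₂R
    obtain ⟨δ, hδ, hδe⟩ := hδ₀.exists_aut
    have key : ∀ v ∈ P, autFun δ (d₁ (α v)) = d₂ (α' (f v)) := fun v hv => by
      have h1 : α v ∈ R := hαQ.mem (hPQ.le hv)
      rw [hδe (hd₁R.mem h1)]
      simp only [Function.comp_apply, hd₁il _ h1, hβdef, hαil v (hPQ.le hv)]
    have hδz : autFun δ '' (z : Set Ω) = (z : Set Ω) := by
      conv_lhs => rw [← he₁P.2, ← Set.image_comp]
      conv_rhs => rw [← he₂P.2]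
      conv_rhs => rw [← hfP.2, ← Set.image_comp]
      exact Set.image_congr fun v hv => key v hv
    let L := stab F R z hRa.1 hzR
    have hrestr : ∀ a : L, IsIso F z z (autFun (((a : F.autGroup R)) : MulAut R)) := fun a =>
      ⟨((mem_autGroup hRa.1).1 (a : F.autGroup R).2).1.mono hzR, a.2⟩
    let ρ : L →* F.autGroup z :=
      MonoidHom.mk' (fun a => ⟨(hrestr a).equiv, (hrestr a).equiv_mem_autGroup⟩) fun a b =>
        Subtype.ext (MulEquiv.ext fun x => Subtype.ext (autFun_mul _ _ (hzR x.2)))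
    let L₀ : Subgroup L := (pCore p (F.autGroup z)).comap ρ
    haveI : L₀.Normal := Thompson.instPCoreNormal.comap ρ
    haveI := finite_of_le hRa.1
    haveI := finite_mulAut R
    haveI : Finite (MulAut z) := by
      haveI := finite_of_le hzS
      exact finite_mulAut z
    obtain ⟨W₀⟩ := (inferInstance : Nonempty (Sylow p L₀))
    obtain ⟨W₁, hW₁⟩ := (W₀.isPGroup'.map L₀.subtype).exists_le_sylow
    obtain ⟨l, hl⟩ := MulAction.exists_smul_eq L W₁ V
    let W : Sylow p L₀ := (MulAut.conjNormal l : MulAut L₀) • W₀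
    have hW : ∀ a ∈ W, (((a : L) : F.autGroup R) : MulAut R) ∈ autInducedBy S R := by
      rintro _ ⟨a, ha, rfl⟩
      refine hV _ ?_
      rw [← hl]
      exact ⟨(a : L), hW₁ ⟨a, ha, rfl⟩, rfl⟩
    let U : Subgroup L₀ := (autInducedBy S R).comap ((F.autGroup R).subtype.comp (L.subtype.comp L₀.subtype))
    have hUp : IsPGroup p U := by
      refine IsPGroup.comap_of_injective ?_ _ ?_
      · rw [← range_conjAutHom]
        exact (h.pgroup.to_le (normalizerIn_le S R)).of_surjective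
          (conjAutHom S R).rangeRestrict (MonoidHom.rangeRestrict_surjective _)
      · intro a b hab
        exact Subtype.ext (Subtype.ext (Subtype.ext hab))
    have hWU : U = (W : Subgroup L₀) := W.is_maximal' hUp fun a ha => hW a ha
    obtain ⟨nn, hnn, l₀, hl₀, hδeq⟩ := Subgroup.mem_sup_of_normal_right.1
      ((Sylow.normalizer_sup_eq_top W).ge (Subgroup.mem_top (⟨⟨δ, hδ⟩, hδz⟩ : L)))
    -- `l₀` acts on `z` as conjugation by an element of `N_S(z)`
    let ρ₀ : L₀ →* F.autGroup z := ρ.comp L₀.subtype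
    have hρp : IsPGroup p ρ₀.range :=
      Thompson.isPGroup_pCore.to_le (by rintro _ ⟨a, rfl⟩; exact a.2)
    obtain ⟨w, hw, hwl⟩ : ∃ w ∈ W, ρ₀ w = ρ₀ ⟨l₀, hl₀⟩ := by
      have htop : ((W.mapSurjective ρ₀.rangeRestrict_surjective : Sylow p ρ₀.range) : Subgroup ρ₀.range) = ⊤ :=
        ((W.mapSurjective ρ₀.rangeRestrict_surjective).is_maximal' (hρp.to_subgroup ⊤) le_top).symm
      obtain ⟨w, hw, hwe⟩ : ρ₀.rangeRestrict ⟨l₀, hl₀⟩ ∈ (W : Subgroup L₀).map ρ₀.rangeRestrict := by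
        rw [show (W : Subgroup L₀).map ρ₀.rangeRestrict = ⊤ from htop]
        exact Subgroup.mem_top _
      exact ⟨w, hw, congrArg Subtype.val hwe⟩
    obtain ⟨t, ht, htw⟩ := mem_autInducedBy.1 (hW w hw)
    have hweq : ∀ v ∈ z, autFun (((w : L) : F.autGroup R) : MulAut R) v = t * v * t⁻¹ := fun v hv =>
      (autFun_of_mem _ (hzR hv)).trans (htw ⟨v, hzR hv⟩)
    have hl₀eq : ∀ v ∈ z, autFun ((l₀ : F.autGroup R) : MulAut R) v = t * v * t⁻¹ := fun v hv => by
      rw [← hweq v hv]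
      exact (congrArg (fun a : F.autGroup z => (((a : MulAut z) ⟨v, hv⟩ : z) : Ω)) hwl).symm
    have htN : t ∈ normalizerIn S z := by
      refine ⟨ht, Subgroup.mem_normalizer_iff.2 fun v => ?_⟩
      have him : (fun v => t * v * t⁻¹) '' (z : Set Ω) = (z : Set Ω) :=
        (Set.image_congr fun v hv => (hweq v hv).symm).trans (hrestr w).2
      constructor
      · intro hv
        rw [← SetLike.mem_coe, ← him]
        exact ⟨v, hv, rfl⟩
      · intro hv
        rw [← SetLike.mem_coe, ← him] at hv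
        obtain ⟨v', hv', he⟩ := hv
        exact mul_left_cancel (mul_right_cancel he) ▸ hv'
    have hs : χ t ∈ normalizerIn S P := normalizer_map_mem hχ hχz hzN le_rfl htN
    -- `nn` extends beyond `R`
    set M := normalizerIn (qZero F p z) R with hM
    have hMS : M ≤ S := (normalizerIn_le _ _).trans qZero_le_base
    have hMU : ∀ g (hg : g ∈ M), ∃ u : L₀, u ∈ W ∧
        ((((u : L) : F.autGroup R)) : MulAut R) = conjAutHom S R ⟨g, hMS hg, hg.2⟩ := by
      intro g hg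
      obtain ⟨hgN, hgc⟩ := mem_qZero.1 hg.1
      have hgA : conjAutHom S R ⟨g, hMS hg, hg.2⟩ ∈ F.autGroup R :=
        autInducedBy_le_autGroup hRa.1 (by rw [← range_conjAutHom]; exact ⟨_, rfl⟩)
      have hgL : (⟨_, hgA⟩ : F.autGroup R) ∈ L := by
        rw [mem_stab, show autFun (conjAutHom S R ⟨g, hMS hg, hg.2⟩) '' (z : Set Ω) =
          (fun v => g * v * g⁻¹) '' (z : Set Ω) from Set.image_congr fun v hv => autFun_of_mem _ (hzR hv)]
        exact image_conj_eq_self hgN.2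
      have hg0 : (⟨_, hgL⟩ : L) ∈ L₀ := by
        obtain ⟨b, hb, hbe⟩ := hgc
        rw [Subgroup.mem_comap]
        have he : ρ ⟨⟨_, hgA⟩, hgL⟩ = b := by
          refine Subtype.ext (Eq.trans (MulEquiv.ext fun v => Subtype.ext ?_) hbe.symm)
          exact (autFun_of_mem _ (hzR v.2)).trans rfl
        rw [he]
        exact hb
      refine ⟨⟨_, hg0⟩, ?_, rfl⟩
      show _ ∈ (W : Subgroup L₀)
      rw [← hWU, Subgroup.mem_comap, ← range_conjAutHom]
      exact ⟨_, rfl⟩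
    have hnnR : IsIso F R R (autFun ((nn : F.autGroup R) : MulAut R)) := (mem_autGroup hRa.1).1 (nn : F.autGroup R).2
    have hext : IsExtendable S R (autFun ((nn : F.autGroup R) : MulAut R)) M := by
      refine ⟨hMS, fun g hg => ⟨hg.2, ?_⟩⟩
      obtain ⟨u, hu, hue⟩ := hMU g hg
      obtain ⟨u', hu', hu'e⟩ := (Subgroup.mem_normalizer_iff.1 hnn (u : L)).1 ⟨u, hu, rfl⟩
      obtain ⟨s, hs, hse⟩ := mem_autInducedBy.1 (hW u' hu')
      refine ⟨s, hs, fun r hr => ?_⟩
      have hN : ((nn * (u : L) * nn⁻¹ : L) : F.autGroup R) = ((u' : L) : F.autGroup R) :=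
        congrArg Subtype.val hu'e.symm
      have h1 := hse (((nn : F.autGroup R) : MulAut R) ⟨r, hr⟩)
      rw [← hN] at h1
      simp only [Subgroup.coe_mul, Subgroup.coe_inv, MulAut.mul_apply, MulAut.inv_apply_self, hue] at h1
      rw [autFun_of_mem _ hr, ← h1, autFun_of_mem _ (conj_mem_of_mem_normalizer hg.2 hr)]
      rfl
    obtain ⟨fn, hfn, hfne⟩ := receptive_extend hRr hnnR hext
    have hMD : R ⊔ M ≤ normalizerIn S z := sup_le hRz ((normalizerIn_le _ _).trans qZero_le)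
    have hnz : IsIso F z z fn := by
      refine ⟨(hnnR.1.mono hzR).congr (hfne.mono hzR).symm, ?_⟩
      rw [Set.image_congr (hfne.mono hzR)]
      exact (hrestr nn).2
    obtain ⟨D', hD'⟩ := (hχ.mono hMD).exists_image
    obtain ⟨χj, hχj, hχjl, -⟩ := hD'.exists_inv
    have hzRM : z ≤ R ⊔ M := hzR.trans le_sup_left
    have hPD' : P ≤ D' := fun v hv => by
      obtain ⟨u, hu, rfl⟩ := hχz.exists_preimage hv
      exact hD'.mem (hzRM hu)
    have hcardD' : Nat.card Q < Nat.card D' := by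
      rw [hαQ.card_eq, ← hD'.card_eq]
      have hRMS : R ⊔ M ≤ S := hMD.trans (normalizerIn_le S z)
      haveI := finite_of_le hRMS
      by_contra hle
      exact hcR' ((Subgroup.eq_of_le_of_card_ge (le_sup_left : R ≤ R ⊔ M) (not_lt.mp hle)).ge
        (Subgroup.mem_sup_right ⟨hc, hcR.2⟩))
    have hun₀ : IsMap F D' (χ ∘ fn ∘ χj) := (hχj.comp_map hfn).comp hχ fun w hw =>
      normalizer_map_mem hfn hnz hzRM hMD (hχj.mem hw)
    have hun₁ : IsIso F P P (χ ∘ fn ∘ χj) := by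
      refine ⟨hun₀.mono hPD', ?_⟩
      conv_lhs => rw [← hχz.2, ← Set.image_comp]
      rw [← hχz.2]
      conv_rhs => rw [← hnz.2, ← Set.image_comp]
      exact Set.image_congr fun v hv => by simp only [Function.comp_apply, hχjl v (hzRM hv)]
    have hun : Ext F p P (χ ∘ fn ∘ χj) :=
      big D' _ hun₀ (lt_of_le_of_ne hPD' fun e => by
        subst e
        haveI := finite_of_le hf.dom_le
        exact hcardD'.not_ge (Subgroup.card_le_of_le hPQ.le)) (fun w hw => by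
        obtain ⟨u, hu, rfl⟩ := hD'.exists_preimage hw
        exact normalizer_map_mem hχ hχz hzN le_rfl (hMD hu)) hcardD' hun₁
    -- put the pieces together
    have hcs : Ext F p P (fun v => χ t * v * (χ t)⁻¹) :=
      ⟨_, isMap_conj qZero_le_base hs.1, fun v _ => rfl⟩
    have hcsP : IsIso F P P (fun v => χ t * v * (χ t)⁻¹) :=
      ⟨isMap_conj hPS hs.1, image_conj_eq_self hs.2⟩
    have hiu₁ : IsIso F P P (χ ∘ (d₁ ∘ α)) := he₁P.comp hχz
    have hiu₂ : IsIso F P P (χ ∘ (d₂ ∘ α')) := he₂P.comp hχz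
    obtain ⟨v₂, hv₂, hv₂l, -⟩ := hiu₂.exists_inv
    refine ((hu₁.comp h.pgroup hiu₁ hcs).comp h.pgroup (hiu₁.comp hcsP)
      hun).comp h.pgroup ((hiu₁.comp hcsP).comp hun₁) (Ext.inv h.pgroup hiu₂ hv₂l hu₂) |>.congr ?_
    intro v hv
    have hev : d₁ (α v) ∈ z := he₁P.mem hv
    have htz : t * d₁ (α v) * t⁻¹ ∈ z := conj_mem_of_mem_normalizer htN.2 hev
    simp only [Function.comp_apply]
    rw [← hχ.map_conj htN (hzN hev), hχjl _ (hzRM htz), hfne (hzR htz), ← hl₀eq _ hev]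
    have hmul := autFun_mul ((nn : F.autGroup R) : MulAut R) ((l₀ : F.autGroup R) : MulAut R) (hzR hev)
    rw [Function.comp_apply, ← Subgroup.coe_mul, ← Subgroup.coe_mul, hδeq] at hmul
    rw [← hmul, key v hv]
    exact hv₂l (f v) (hfP.mem hv)

/-- All automorphisms of `P` extend to `Q₀(P)`. -/
theorem ext_all (h : Crit F p P₀) {ℋ : Set (Subgroup Ω)} (hℋS : ∀ P ∈ ℋ, P ≤ S)
    (hℋconj : ∀ P ∈ ℋ, ∀ Q, F.IsConj P Q → Q ∈ ℋ)
    (hgen : ∀ E : FusionSystem S, (∀ P ∈ ℋ, F.Hom P ⊆ E.Hom P) → F ≤ E) (hP₀ : P₀ ∉ ℋ)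
    {P : Subgroup Ω} (hPn : F.IsFullyNormalized P) (hP : F.IsConj P₀ P) {u : Ω → Ω}
    (hu : IsIso F P P u) : Ext F p P u := by
  have hto : ∀ x, F.IsConj P₀ x → ∃ a, IsMap F (normalizerIn S x) a ∧ IsIso F x P a :=
    fun x hx => h.exists_to_fullyNormalized hℋS hℋconj hgen hP₀ hPn hP hx
  let Good : Subgroup Ω → (Ω → Ω) → Prop := fun R f =>
    ∀ x y, x ≤ R → F.IsConj P₀ x → IsIso F x y f → ∀ a b u, IsMap F (normalizerIn S x) a →
      IsIso F x P a → IsMap F (normalizerIn S y) b → IsIso F y P b → IsIso F P P u →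
      (∀ v ∈ x, u (a v) = b (f v)) → Ext F p P u
  have good_of_big : ∀ R f, IsMap F R f → ∀ x y, x ≤ R → F.IsConj P₀ x → IsIso F x y f →
      x < normalizerIn R x → ∀ a b u, IsMap F (normalizerIn S x) a →
      IsIso F x P a → IsMap F (normalizerIn S y) b → IsIso F y P b → IsIso F P P u →
      (∀ v ∈ x, u (a v) = b (f v)) → Ext F p P u := by
    intro R f hf x y hxR hxP hxy hlt a b u ha hxa hb hyb _ he
    have hDN : normalizerIn R x ≤ normalizerIn S x := inf_le_inf_right _ hf.dom_le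
    obtain ⟨D', hD'⟩ := (ha.mono hDN).exists_image
    obtain ⟨ai, hai, hail, -⟩ := hD'.exists_inv
    have hPD' : P ≤ D' := fun v hv => by
      obtain ⟨w, hw, rfl⟩ := hxa.exists_preimage hv
      exact hD'.mem (hlt.le hw)
    have hg : IsMap F D' (b ∘ f ∘ ai) := (hai.comp_map (hf.mono (normalizerIn_le R x))).comp hb
      fun w hw => normalizer_map_mem (hf.mono (normalizerIn_le R x)) hxy hlt.le hDN (hai.mem hw)
    have hge : Set.EqOn (b ∘ f ∘ ai) u P := fun v hv => by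
      obtain ⟨w, hw, rfl⟩ := hxa.exists_preimage hv
      rw [he w hw]
      simp only [Function.comp_apply, hail w (hlt.le hw)]
    refine (h.ext_step hP hto D' _ hg ?_ ?_ ?_).congr hge
    · refine lt_of_le_of_ne hPD' fun e => ?_
      subst e
      haveI := finite_of_le ((normalizerIn_le R x).trans hf.dom_le)
      exact hlt.ne (Subgroup.eq_of_le_of_card_ge hlt.le (hD'.card_eq.trans hxa.card_eq.symm).le)
    · intro v hv
      obtain ⟨w, hw, rfl⟩ := hD'.exists_preimage hv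
      exact normalizer_map_mem ha hxa (le_normalizerIn hxy.dom_le) le_rfl (hDN hw)
    · refine ⟨hg.mono hPD', ?_⟩
      conv_lhs => rw [← hxa.2, ← Set.image_comp]
      rw [← hyb.2]
      conv_rhs => rw [← hxy.2, ← Set.image_comp]
      exact Set.image_congr fun v hv => by simp only [Function.comp_apply, hail v (hlt.le hv)]
  let E : FusionSystem S := mkSub F S (fun R f => IsMap F R f ∧ Good R f)
    (fun {R f g} ⟨h1, h2⟩ he => ⟨h1.congr he, fun x y hx hxP hxy a b u ha hxa hb hyb hu hue =>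
      h2 x y hx hxP (hxy.congr (he.mono hx).symm) a b u ha hxa hb hyb hu fun v hv => by
        rw [hue v hv, ← he (hx hv)]⟩)
    (fun {R f} h1 => ⟨h1.1, h1.1.dom_le, fun x hx => h1.1.apply_mem hx⟩)
    (fun {R g} hR hg => ⟨isMap_conj hR hg, fun x y hx hxP hxy a b u ha hxa hb hyb hu hue =>
      good_of_big S _ (isMap_conj le_rfl hg) x y (hx.trans hR) hxP
        ⟨isMap_conj (hx.trans hR) hg, hxy.2⟩ (lt_normalizerIn h.pgroup (lt_of_le_of_ne (hx.trans hR) fun e => by
          subst e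
          exact h.lt.ne (Subgroup.eq_of_le_of_card_ge h.le (isConj_card hxP).ge))) a b u ha hxa hb hyb hu hue⟩)
    (fun {R Q f g} ⟨h1, h2⟩ ⟨k1, k2⟩ hmaps => ⟨h1.comp k1 hmaps,
      fun x y hx hxP hxy a b u ha hxa hb hyb hu hue => by
        obtain ⟨w, hw⟩ := (h1.mono hx).exists_image
        have hwQ : w ≤ Q := fun r hr => by
          obtain ⟨v, hv, rfl⟩ := hw.exists_preimage hr
          exact hmaps v (hx hv)
        have hwy : IsIso F w y g := ⟨k1.mono hwQ, by rw [← hw.2, ← Set.image_comp]; exact hxy.2⟩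
        obtain ⟨c, hc, hwc⟩ := hto w (isConj_trans hxP hw.isConj)
        obtain ⟨ai, hai, hail, -⟩ := hxa.exists_inv
        obtain ⟨ci, hci, hcil, -⟩ := hwc.exists_inv
        have hi1 : IsIso F P P (c ∘ f ∘ ai) := (hai.comp hw).comp hwc
        have e1 := h2 x w hx hxP hw a c (c ∘ f ∘ ai) ha hxa hc hwc hi1 fun v hv => by
          simp only [Function.comp_apply, hail v hv]
        have e2 := k2 w y hwQ (isConj_trans hxP hw.isConj) hwy c b (b ∘ g ∘ ci) hc hwc hb hyb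
          ((hci.comp hwy).comp hyb) fun v hv => by simp only [Function.comp_apply, hcil v hv]
        refine (e1.comp h.pgroup hi1 e2).congr fun v hv => ?_
        obtain ⟨r, hr, rfl⟩ := hxa.exists_preimage hv
        rw [hue r hr]
        simp only [Function.comp_apply, hail r hr, hcil _ (hw.mem hr)]⟩)
    (fun {R Q f g} ⟨_, h2⟩ hi hg hgl => ⟨hg.1, fun x y hx hxP hxy a b u ha hxa hb hyb hu hue => by
      have hyR : y ≤ R := fun w hw => by
        obtain ⟨v, hv, rfl⟩ := hxy.exists_preimage hw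
        exact hg.mem (hx hv)
      have hfg : ∀ v ∈ x, f (g v) = v := fun v hv => by
        obtain ⟨w, hw, rfl⟩ := hi.exists_preimage (hx hv)
        rw [hgl w hw]
      have hyx : IsIso F y x f := ⟨hi.1.mono hyR, by
        conv_lhs => rw [← hxy.2, ← Set.image_comp]
        exact (Set.image_congr hfg).trans (Set.image_id' _)⟩
      obtain ⟨ui, hui, huil, huir⟩ := hu.exists_inv
      refine Ext.inv h.pgroup hui (fun w hw => huir w hw) ?_
      refine h2 y x hyR (isConj_trans hxP hxy.isConj) hyx b a ui hb hyb ha hxa hui fun w hw => ?_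
      obtain ⟨v, hv, rfl⟩ := hxy.exists_preimage hw
      rw [hfg v hv, ← hue v hv, huil _ (hxa.mem hv)]⟩)
  have hle : F ≤ E := hgen E fun R hR => hom_subset_of_isMap fun f hf => isMap_mkSub.2 ⟨hf,
    fun x y hxR hxP hxy => good_of_big R f hf x y hxR hxP hxy (by
      have hRS := hℋS R hR
      haveI := finite_of_le hRS
      exact lt_normalizerIn (h.pgroup.to_le hRS)
        (lt_of_le_of_ne hxR fun e => hP₀ (hℋconj R hR P₀ (e ▸ isConj_symm hxP))))⟩
  exact (isMap_mkSub.1 (hu.1.of_le hle)).2 P P le_rfl hP hu id id u (isMap_id (normalizerIn_le S P))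
    (isIso_id hu.dom_le) (isMap_id (normalizerIn_le S P)) (isIso_id hu.dom_le) hu fun v _ => rfl

end Crit

end Finite

end Cfsg.Agent.Fusion.SatCrit
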