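import Cfsg.Agent.Lib.Fusion.Alperin
import Cfsg.Agent.Lib.Fusion.Subsystem
import Mathlib.Algebra.Group.Action.Pointwise.Set.Basic

/-!
# Saturation criterion, first part: maps of normalizers inside one conjugacy class

`F` is a fusion system generated by a class of subgroups, all subgroups larger than `P₀` satisfy the
saturation axioms. Then every conjugate of `P₀` has a map of its normalizer carrying it onto any
given fully normalized conjugate.
-/

set_option autoImplicit false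
set_option linter.style.haveILetI false

namespace Cfsg.Agent.Fusion.SatCrit

open Cfsg Cfsg.Agent.Fusion
open Cfsg.FusionSystem (normalizerIn centralizerIn)
open scoped Pointwise

/-- In an orbit there is a point `z` whose stabilizer is met by the Sylow subgroup in one of its own
Sylow subgroups; every `p`-subgroup fixing a point of the orbit is then carried into the Sylow
subgroup by an element moving that point to `z`. -/
theorem exists_rep_orbit {G α : Type*} [Group G] [Finite G] [MulAction G α] {p : ℕ} [Fact p.Prime]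
    (P₀ : Sylow p G) (x : α) :
    ∃ z ∈ MulAction.orbit G x, ∀ y ∈ MulAction.orbit G x, ∀ A : Subgroup G, IsPGroup p A →
      (∀ a ∈ A, a • y = y) → ∃ δ : G, δ • y = z ∧ ∀ a ∈ A, δ * a * δ⁻¹ ∈ (P₀ : Subgroup G) := by
  obtain ⟨W⟩ := (inferInstance : Nonempty (Sylow p (MulAction.stabilizer G x)))
  obtain ⟨Q, hQ⟩ := (W.isPGroup'.map (MulAction.stabilizer G x).subtype).exists_le_sylow
  obtain ⟨γ, hγ⟩ := MulAction.exists_smul_eq G Q P₀
  refine ⟨γ • x, MulAction.mem_orbit x γ, fun y hy A hA hAy => ?_⟩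
  obtain ⟨ε, rfl⟩ := hy
  obtain ⟨V, hV⟩ := (hA.map (MulAut.conj ε⁻¹).toMonoidHom).comap_subtype
    (K := MulAction.stabilizer G x) |>.exists_le_sylow
  obtain ⟨l, hl⟩ := MulAction.exists_smul_eq (MulAction.stabilizer G x) V W
  refine ⟨γ * (l : G) * ε⁻¹, ?_, fun a ha => ?_⟩
  · have h : (l : G) • x = x := l.2
    show (γ * (l : G) * ε⁻¹) • ε • x = γ • x
    rw [mul_smul, inv_smul_smul, mul_smul, h]
  · have hstab : ε⁻¹ * a * ε ∈ MulAction.stabilizer G x := by
      show (ε⁻¹ * a * ε) • x = x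
      rw [mul_smul, mul_smul, hAy a ha, inv_smul_smul]
    have h1 : (⟨ε⁻¹ * a * ε, hstab⟩ : MulAction.stabilizer G x) ∈ (V : Subgroup _) :=
      hV (Subgroup.mem_subgroupOf.2 ⟨a, ha, by simp⟩)
    have h2 : l * ⟨ε⁻¹ * a * ε, hstab⟩ * l⁻¹ ∈ ((l • V : Sylow p _) : Subgroup _) := ⟨_, h1, rfl⟩
    rw [hl] at h2
    have h3 : γ * ((l : G) * (ε⁻¹ * a * ε) * (l : G)⁻¹) * γ⁻¹ ∈ ((γ • Q : Sylow p G) : Subgroup G) :=
      ⟨_, hQ ⟨_, h2, rfl⟩, rfl⟩
    rw [hγ] at h3
    convert h3 using 1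
    group

variable {Ω : Type*} [Group Ω] {S : Subgroup Ω} {F : FusionSystem S} {p : ℕ}

/-- The saturation axioms at the class of `P`. -/
def Sat (F : FusionSystem S) (p : ℕ) (P : Subgroup Ω) : Prop :=
  ∃ Q, F.IsConj P Q ∧ F.IsFullyAutomized p Q ∧ F.IsReceptive Q

/-- `A` and `B` have maps of their normalizers carrying both onto one subgroup. -/
def Joined (F : FusionSystem S) (A B : Subgroup Ω) : Prop :=
  ∃ C a b, IsMap F (normalizerIn S A) a ∧ IsIso F A C a ∧ IsMap F (normalizerIn S B) b ∧ IsIso F B C b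

theorem Joined.symm {A B : Subgroup Ω} (h : Joined F A B) : Joined F B A := by
  obtain ⟨C, a, b, ha, ha', hb, hb'⟩ := h
  exact ⟨C, b, a, hb, hb', ha, ha'⟩

theorem joined_of_map {A B : Subgroup Ω} {a : Ω → Ω} (ha : IsMap F (normalizerIn S A) a)
    (ha' : IsIso F A B a) : Joined F A B :=
  ⟨B, a, id, ha, ha', isMap_id (normalizerIn_le S B), isIso_id ha'.cod_le⟩

theorem normalizer_map_mem {A B : Subgroup Ω} {a : Ω → Ω} {D : Subgroup Ω} (ha : IsMap F D a)
    (ha' : IsIso F A B a) (hAD : A ≤ D) (hD : D ≤ normalizerIn S A) {g : Ω} (hg : g ∈ D) :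
    a g ∈ normalizerIn S B :=
  map_mem_normalizer ha hAD ha'.2 hg (hD hg).2

theorem normalizerIn_mem_iff {K P : Subgroup Ω} {g : Ω} :
    g ∈ normalizerIn K P ↔ g ∈ K ∧ g ∈ Subgroup.normalizer (P : Set Ω) := Iff.rfl

/-- The automorphisms of `R` in the system carrying `z` onto itself. -/
def stab (F : FusionSystem S) (R z : Subgroup Ω) (hR : R ≤ S) (hz : z ≤ R) :
    Subgroup (F.autGroup R) where
  carrier := {a | autFun (a : MulAut R) '' (z : Set Ω) = (z : Set Ω)}
  one_mem' := by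
    show autFun ((1 : F.autGroup R) : MulAut R) '' (z : Set Ω) = _
    rw [Subgroup.coe_one, Set.image_congr (autFun_one.mono hz), Set.image_id]
  mul_mem' {a b} ha hb := by
    show autFun ((a * b : F.autGroup R) : MulAut R) '' (z : Set Ω) = _
    rw [Subgroup.coe_mul, Set.image_congr ((autFun_mul _ _).mono hz), Set.image_comp, hb, ha]
  inv_mem' {a} ha := by
    show autFun ((a⁻¹ : F.autGroup R) : MulAut R) '' (z : Set Ω) = _
    have h := (mem_autGroup (F := F) hR).1 a.2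
    conv_lhs => rw [← ha, ← Set.image_comp]
    refine (Set.image_congr fun v hv => ?_).trans (Set.image_id' _)
    rw [← autFun_mul _ _ (hz hv), Subgroup.coe_inv, inv_mul_cancel, autFun_one (hz hv), id]

theorem mem_stab {R z : Subgroup Ω} {hR : R ≤ S} {hz : z ≤ R} {a : F.autGroup R} :
    a ∈ stab F R z hR hz ↔ autFun (a : MulAut R) '' (z : Set Ω) = (z : Set Ω) := Iff.rfl

section Rep

variable [Finite S] [Fact p.Prime]

/-- Automorphisms of a fully automized receptive `R` move the subgroups in an orbit to one of them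
by maps defined on all of the normalizer inside `N_S(R)`. -/
theorem exists_rep_fusion (hS : IsPGroup p S) {R x : Subgroup Ω} (hA : F.IsFullyAutomized p R)
    (hrec : F.IsReceptive R) (hx : x ≤ R) :
    ∃ z, ∃ hz : z ≤ R, (∃ V : Sylow p (stab F R z hA.1 hz),
        ∀ a ∈ V, ((a : F.autGroup R) : MulAut R) ∈ autInducedBy S R) ∧
      ∀ y e, IsIso F R R e → IsIso F x y e →
        ∃ d, IsMap F (normalizerIn (normalizerIn S y) R) d ∧ IsIso F y z d ∧ IsIso F R R d := by
  haveI := finite_of_le hA.1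
  haveI := finite_mulAut R
  let set' : Subgroup Ω → Set R := fun y => {r : R | (r : Ω) ∈ y}
  have hsm : ∀ (a : F.autGroup R) (y : Subgroup Ω), y ≤ R → ∀ w : Ω, w ∈ autFun (a : MulAut R) '' (y : Set Ω) ↔
      ∃ hw : w ∈ R, (⟨w, hw⟩ : R) ∈ a • set' y := by
    intro a y hy w
    constructor
    · rintro ⟨v, hv, rfl⟩
      rw [autFun_of_mem _ (hy hv)]
      exact ⟨((a : MulAut R) ⟨v, hy hv⟩).2, ⟨v, hy hv⟩, hv, rfl⟩
    · rintro ⟨hw, ⟨v, hv⟩, hvy, he⟩
      exact ⟨v, hvy, (autFun_of_mem _ hv).trans (congrArg Subtype.val he)⟩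
  have hset : ∀ (a : F.autGroup R) (y z : Subgroup Ω), y ≤ R → z ≤ R →
      (a • set' y = set' z ↔ autFun (a : MulAut R) '' (y : Set Ω) = (z : Set Ω)) := by
    intro a y z hy hz
    constructor
    · intro h
      ext w
      rw [hsm a y hy, h]
      exact ⟨fun ⟨_, h⟩ => h, fun h => ⟨hz h, h⟩⟩
    · intro h
      ext ⟨w, hw⟩
      have h' := (hsm a y hy w)
      rw [h] at h'
      exact ⟨fun hm => h'.2 ⟨hw, hm⟩, fun hm => (h'.1 hm).2⟩
  obtain ⟨P₀, hP₀⟩ := hA.2
  obtain ⟨zs, ⟨γ, hγ⟩, hz⟩ := exists_rep_orbit P₀ (set' x)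
  have hγi := (mem_autGroup hA.1).1 γ.2
  obtain ⟨z, hzR, hxz⟩ := hγi.restrict hx
  have hzs : zs = set' z := hγ.symm.trans ((hset γ x z hx hzR).2 hxz.2)
  refine ⟨z, hzR, ?_, fun y e he hxy => ?_⟩
  · obtain ⟨W⟩ := (inferInstance : Nonempty (Sylow p (stab F R z hA.1 hzR)))
    obtain ⟨δ, hδ, hδA⟩ := hz (set' z) (hzs ▸ ⟨γ, hγ⟩)
      ((W : Subgroup (stab F R z hA.1 hzR)).map (stab F R z hA.1 hzR).subtype) (W.isPGroup'.map _)
      (by rintro _ ⟨a, -, rfl⟩; exact (hset _ z z hzR hzR).2 a.2)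
    rw [hzs] at hδ
    refine ⟨(⟨δ, (hset δ z z hzR hzR).1 hδ⟩ : stab F R z hA.1 hzR) • W, ?_⟩
    rintro _ ⟨a, ha, rfl⟩
    have h := hδA _ ⟨a, ha, rfl⟩
    rw [hP₀, Subgroup.mem_subgroupOf] at h
    exact h
  have hy : y ≤ R := fun w hw => by
    obtain ⟨v, hv, rfl⟩ := hxy.exists_preimage hw
    exact he.mem (hx hv)
  obtain ⟨ε, hε, hεe⟩ := he.exists_aut
  have hεy : (⟨ε, hε⟩ : F.autGroup R) • set' x = set' y :=
    (hset _ x y hx hy).2 ((Set.image_congr (hεe.mono hx)).trans hxy.2)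
  let M := normalizerIn (normalizerIn S y) R
  have hMS : M ≤ S := (normalizerIn_le _ _).trans (normalizerIn_le _ _)
  have hMN : M ≤ normalizerIn S R := fun g hg => ⟨hMS hg, hg.2⟩
  let A : Subgroup (F.autGroup R) := (autInducedBy M R).subgroupOf (F.autGroup R)
  have hAp : IsPGroup p A := by
    refine IsPGroup.comap_subtype ?_
    rw [← range_conjAutHom]
    exact (hS.to_le ((normalizerIn_le M R).trans hMS)).of_surjective
      (conjAutHom M R).rangeRestrict (MonoidHom.rangeRestrict_surjective _)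
  have hAy : ∀ a ∈ A, a • set' y = set' y := by
    intro a ha
    obtain ⟨g, hg, hga⟩ := mem_autInducedBy.1 (Subgroup.mem_subgroupOf.1 ha)
    refine (hset a y y hy hy).2 ?_
    rw [show autFun (a : MulAut R) '' (y : Set Ω) = (fun w => g * w * g⁻¹) '' (y : Set Ω) from
      Set.image_congr fun w hw => (autFun_of_mem _ (hy hw)).trans (hga ⟨w, hy hw⟩)]
    exact image_conj_eq_self hg.1.2
  obtain ⟨δ, hδ, hδA⟩ := hz (set' y) ⟨_, hεy⟩ A hAp hAy
  have hδi := (mem_autGroup hA.1).1 δ.2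
  have hM : IsExtendable S R (autFun (δ : MulAut R)) M := by
    refine ⟨hMS, fun g hg => ⟨hg.2, ?_⟩⟩
    have hgA : (⟨conjAutHom S R ⟨g, hMN hg⟩, autInducedBy_le_autGroup hA.1
        (by rw [← range_conjAutHom]; exact ⟨_, rfl⟩)⟩ : F.autGroup R) ∈ A :=
      Subgroup.mem_subgroupOf.2 (mem_autInducedBy.2 ⟨g, hg, fun r => rfl⟩)
    have h := hδA _ hgA
    rw [hP₀, Subgroup.mem_subgroupOf, mem_autInducedBy] at h
    obtain ⟨t, ht, htx⟩ := h
    refine ⟨t, ht, fun r hr => ?_⟩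
    have h1 := htx ((δ : MulAut R) ⟨r, hr⟩)
    simp only [Subgroup.coe_mul, Subgroup.coe_inv, MulAut.mul_apply, MulAut.inv_apply_self] at h1
    rw [autFun_of_mem _ hr, ← h1, autFun_of_mem _ (conj_mem_of_mem_normalizer hg.2 hr)]
    rfl
  obtain ⟨d, hd, hde⟩ := receptive_extend hrec hδi hM
  refine ⟨d, hd.mono le_sup_right, ⟨(hδi.1.mono hy).congr (hde.mono hy).symm, ?_⟩, hδi.congr hde.symm⟩
  rw [Set.image_congr (hde.mono hy)]
  exact (hset δ y z hy hzR).1 (hδ.trans hzs)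

end Rep

/-- The hypotheses of the criterion at `P₀`. -/
structure Crit (F : FusionSystem S) (p : ℕ) (P₀ : Subgroup Ω) : Prop where
  pgroup : IsPGroup p S
  le : P₀ ≤ S
  lt : P₀ < S
  sat : ∀ R : Subgroup Ω, R ≤ S → Nat.card P₀ < Nat.card R → Sat F p R

namespace Crit

variable [Finite S] [Fact p.Prime] {P₀ : Subgroup Ω}

theorem card_lt (h : Crit F p P₀) {x : Subgroup Ω} (hx : F.IsConj P₀ x) :
    Nat.card x < Nat.card (normalizerIn S x) := by
  haveI := finite_of_le (normalizerIn_le S x)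
  have hxS : x < S := by
    refine lt_of_le_of_ne (isConj_le_right hx) fun e => h.lt.ne ?_
    subst e
    exact Subgroup.eq_of_le_of_card_ge h.le (isConj_card hx).ge
  by_contra hle
  exact (lt_normalizerIn h.pgroup hxS).ne
    (Subgroup.eq_of_le_of_card_ge (lt_normalizerIn h.pgroup hxS).le (not_lt.mp hle))

/-- A subgroup properly between `x` and its normalizer grows inside the normalizer. -/
theorem card_lt_of_lt (h : Crit F p P₀) {K Q : Subgroup Ω} (hK : K ≤ S) (hQ : Q < K) :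
    Nat.card Q < Nat.card (normalizerIn K Q) := by
  haveI := finite_of_le hK
  haveI := finite_of_le (normalizerIn_le K Q)
  have hlt := lt_normalizerIn (h.pgroup.to_le hK) hQ
  by_contra hle
  exact hlt.ne (Subgroup.eq_of_le_of_card_ge hlt.le (not_lt.mp hle))

theorem joined_trans (_h : Crit F p P₀) {a b c : Subgroup Ω}
    (ih : ∀ x y, ∀ D f, IsMap F D f → x < D → D ≤ normalizerIn S x →
      Nat.card (normalizerIn S b) ≤ Nat.card D → F.IsConj P₀ x → IsIso F x y f → Joined F x y)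
    (hb : F.IsConj P₀ b) (hb' : Nat.card b < Nat.card (normalizerIn S b))
    (h1 : Joined F a b) (h2 : Joined F b c) : Joined F a c := by
  obtain ⟨x, fa, fb, hfa, hax, hfb, hbx⟩ := h1
  obtain ⟨y, gb, gc, hgb, hby, hgc, hcy⟩ := h2
  have hbN : b ≤ normalizerIn S b := le_normalizerIn (isConj_le_right hb)
  obtain ⟨D, hD⟩ := hfb.exists_image
  obtain ⟨fi, hfi, hfil, -⟩ := hD.exists_inv
  have hxD : x ≤ D := fun w hw => by
    obtain ⟨v, hv, rfl⟩ := hbx.exists_preimage hw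
    exact hD.mem (hbN hv)
  have hxlt : x < D := lt_of_le_of_ne hxD fun e => by
    subst e
    exact hb'.ne (hbx.card_eq.trans hD.card_eq.symm)
  have hDN : D ≤ normalizerIn S x := fun w hw => by
    obtain ⟨v, hv, rfl⟩ := hD.exists_preimage hw
    exact normalizer_map_mem hfb hbx hbN le_rfl hv
  have hxy : IsIso F x y (gb ∘ fi) := by
    refine ⟨(hfi.comp_map hgb).mono hxD, ?_⟩
    rw [← hbx.2, ← Set.image_comp, ← hby.2]
    exact Set.image_congr fun v hv => by simp only [Function.comp_apply, hfil v (hbN hv)]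
  obtain ⟨z, k, l, hk, hxz, hl, hyz⟩ :=
    ih x y D (gb ∘ fi) (hfi.comp_map hgb) hxlt hDN hD.card_eq.le
      (isConj_trans hb hbx.isConj) hxy
  exact ⟨z, k ∘ fa, l ∘ gc,
    hfa.comp hk fun g hg => normalizer_map_mem hfa hax (le_normalizerIn hax.dom_le) le_rfl hg,
    hax.comp hxz,
    hgc.comp hl fun g hg => normalizer_map_mem hgc hcy (le_normalizerIn hcy.dom_le) le_rfl hg,
    hcy.comp hyz⟩

/-- Conjugates linked by a map defined on a larger subgroup of the normalizer are joined. -/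
theorem joined_step (h : Crit F p P₀) : ∀ x y D f, IsMap F D f → x < D → D ≤ normalizerIn S x →
    F.IsConj P₀ x → IsIso F x y f → Joined F x y := by
  suffices H : ∀ n, ∀ x y D f, IsMap F D f → x < D → D ≤ normalizerIn S x → F.IsConj P₀ x →
      IsIso F x y f → Nat.card S - Nat.card D = n → Joined F x y from
    fun x y D f h1 h2 h3 h4 h5 => H _ x y D f h1 h2 h3 h4 h5 rfl
  intro n
  induction n using Nat.strong_induction_on with
  | _ n ih =>
    intro x y Q f hf hxQ hQN hxP hxy hn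
    have big : ∀ x' y' D g, IsMap F D g → x' < D → D ≤ normalizerIn S x' →
        Nat.card Q < Nat.card D → F.IsConj P₀ x' → IsIso F x' y' g → Joined F x' y' :=
      fun x' y' D g h1 h2 h3 h4 h5 h6 => ih _ (by
        have := Subgroup.card_le_of_le h1.dom_le
        omega) x' y' D g h1 h2 h3 h5 h6 rfl
    rcases hQN.eq_or_lt with rfl | hQlt
    · exact joined_of_map hf hxy
    obtain ⟨Q₂, hQ₂⟩ := hf.exists_image
    have hxN : x ≤ normalizerIn S x := le_normalizerIn hxy.dom_le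
    have hQ₂N : Q₂ ≤ normalizerIn S y := fun w hw => by
      obtain ⟨v, hv, rfl⟩ := hQ₂.exists_preimage hw
      exact normalizer_map_mem hf hxy hxQ.le hQN hv
    have hyQ₂ : y ≤ Q₂ := fun w hw => by
      obtain ⟨v, hv, rfl⟩ := hxy.exists_preimage hw
      exact hQ₂.mem (hxQ.le hv)
    rcases hQ₂N.eq_or_lt with rfl | hQ₂lt
    · obtain ⟨fi, hfi, hfil, -⟩ := hQ₂.exists_inv
      refine (joined_of_map hfi.1 ⟨hfi.1.mono hyQ₂, ?_⟩).symm
      rw [← hxy.2, ← Set.image_comp]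
      exact (Set.image_congr fun v hv => hfil v (hxQ.le hv)).trans (Set.image_id' _)
    have hQS : Q ≤ S := hf.dom_le
    have hP₀Q : Nat.card P₀ < Nat.card Q := by
      rw [isConj_card hxP]
      haveI := finite_of_le hQS
      by_contra hle
      exact hxQ.ne (Subgroup.eq_of_le_of_card_ge hxQ.le (not_lt.mp hle))
    obtain ⟨R, hQR, hRa, hRr⟩ := h.sat Q hQS hP₀Q
    obtain ⟨α, hα, hαQ, hαN⟩ := exists_normalizer_map h.pgroup hRa hRr hQR
    obtain ⟨α', hα', hα'Q, hα'N⟩ :=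
      exists_normalizer_map h.pgroup hRa hRr (isConj_trans (isConj_symm hQ₂.isConj) hQR)
    obtain ⟨αi, hαi, hαil, -⟩ := hαQ.exists_inv
    set β := α' ∘ f ∘ αi with hβdef
    have hβ : IsIso F R R β := (hαi.comp hQ₂).comp hα'Q
    obtain ⟨x₁, hx₁R, hxx₁⟩ := hαQ.restrict hxQ.le
    obtain ⟨y₁, hy₁R, hyy₁⟩ := hα'Q.restrict hyQ₂
    have hx₁y₁ : IsIso F x₁ y₁ β := by
      refine ⟨hβ.1.mono hx₁R, ?_⟩
      rw [← hxx₁.2, ← Set.image_comp, ← hyy₁.2, ← hxy.2, ← Set.image_comp]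
      exact Set.image_congr fun v hv => by
        simp only [hβdef, Function.comp_apply, hαil v (hxQ.le hv)]
    obtain ⟨z, -, -, hz⟩ := exists_rep_fusion h.pgroup hRa hRr hx₁R
    -- the two halves
    have half : ∀ (x Q x₁ : Subgroup Ω) (α : Ω → Ω), F.IsConj P₀ x → x < Q → Q < normalizerIn S x →
        IsIso F x x₁ α → IsMap F (normalizerIn S Q) α → IsIso F Q R α →
        (∀ g ∈ normalizerIn S Q, α g ∈ normalizerIn S R) →
        (∃ d, IsMap F (normalizerIn (normalizerIn S x₁) R) d ∧ IsIso F x₁ z d ∧ IsIso F R R d) →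
        Nat.card R < Nat.card (normalizerIn S x₁) ∧ Nat.card R < Nat.card (normalizerIn S z) ∧
          ((∀ x' y' D g, IsMap F D g → x' < D → D ≤ normalizerIn S x' →
            Nat.card Q < Nat.card D → F.IsConj P₀ x' → IsIso F x' y' g → Joined F x' y') →
              Joined F x x₁ ∧ Joined F x₁ z) := by
      intro x Q x₁ α hxP hxQ hQlt hxx₁ hα hαQ hαN ⟨d, hd, hdz, hdR⟩
      set D := normalizerIn (normalizerIn S x) Q with hD
      have hDlt : Nat.card Q < Nat.card D := h.card_lt_of_lt (normalizerIn_le _ _) hQlt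
      have hQD : Q ≤ D := le_normalizerIn hQlt.le
      have hαD : IsMap F D α := hα.mono fun g hg => ⟨hg.1.1, hg.2⟩
      have hαD' : ∀ g ∈ D, α g ∈ normalizerIn (normalizerIn S x₁) R := fun g hg =>
        ⟨normalizer_map_mem hαD hxx₁ (hxQ.le.trans hQD) (normalizerIn_le _ _) hg,
          (hαN g ⟨hg.1.1, hg.2⟩).2⟩
      have hc1 : Nat.card R < Nat.card (normalizerIn (normalizerIn S x₁) R) := by
        rw [← hαQ.card_eq]
        exact hDlt.trans_le (card_le_of_injOn ((normalizerIn_le _ _).trans (normalizerIn_le _ _))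
          hαD.injOn hαD')
      have hc2 : Nat.card R < Nat.card (normalizerIn S x₁) := hc1.trans_le (by
        haveI := finite_of_le (normalizerIn_le S x₁)
        exact Subgroup.card_le_of_le (normalizerIn_le _ _))
      have hx₁le : x₁ ≤ normalizerIn (normalizerIn S x₁) R := fun w hw => by
        obtain ⟨v, hv, rfl⟩ := hxx₁.exists_preimage hw
        exact hαD' v (hQD (hxQ.le hv))
      refine ⟨hc2, hc1.trans_le (card_le_of_injOn (normalizerIn_le _ _) hd.injOn fun g hg =>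
        normalizer_map_mem hd hdz hx₁le (normalizerIn_le _ _) hg), fun big => ⟨?_, ?_⟩⟩
      · exact big x x₁ D α hαD (hxQ.trans_le hQD) (normalizerIn_le _ _) hDlt hxP hxx₁
      · refine big x₁ z _ d hd ?_ (normalizerIn_le _ _) (hαQ.card_eq ▸ hc1)
          (isConj_trans hxP hxx₁.isConj) hdz
        refine lt_of_le_of_ne hx₁le fun e => ?_
        have h3 := hxQ
        haveI := finite_of_le hαQ.dom_le
        have h4 : Nat.card x ≤ Nat.card Q := Subgroup.card_le_of_le hxQ.le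
        rw [← e, ← hxx₁.card_eq, ← hαQ.card_eq] at hc1
        omega
    obtain ⟨c1, c3, k1⟩ := half x Q x₁ α hxP hxQ hQlt hxx₁ hα hαQ hαN
      (hz x₁ id (isIso_id hRa.1) (isIso_id (hx₁R.trans hRa.1)))
    have hcQ : Nat.card Q₂ = Nat.card Q := hQ₂.card_eq.symm
    have hyQ₂' : y < Q₂ := lt_of_le_of_ne hyQ₂ fun e => by
      subst e
      haveI := finite_of_le hQS
      exact hxQ.ne (Subgroup.eq_of_le_of_card_ge hxQ.le (hcQ ▸ hxy.card_eq).ge)
    obtain ⟨c2, -, k2⟩ := half y Q₂ y₁ α' (isConj_trans hxP hxy.isConj) hyQ₂' hQ₂lt hyy₁ hα' hα'Q hα'N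
      (hz y₁ β hβ hx₁y₁)
    obtain ⟨j1, j2⟩ := k1 big
    obtain ⟨j3, j4⟩ := k2 (hcQ.symm ▸ big)
    have hQR' : Nat.card Q = Nat.card R := isConj_card hQR
    have mid : ∀ b, F.IsConj P₀ b → Nat.card R < Nat.card (normalizerIn S b) →
        ∀ {a c}, Joined F a b → Joined F b c → Joined F a c := by
      intro b hb hbc a c ha hc
      refine h.joined_trans (fun x' y' D g g1 g2 g3 g4 g5 g6 => big x' y' D g g1 g2 g3 ?_ g5 g6) hb
        (h.card_lt hb) ha hc
      omega
    have hx₁P := isConj_trans hxP hxx₁.isConj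
    have hzP : F.IsConj P₀ z := by
      obtain ⟨d, -, hd, -⟩ := hz x₁ id (isIso_id hRa.1) (isIso_id (hx₁R.trans hRa.1))
      exact isConj_trans hx₁P hd.isConj
    exact mid y₁ (isConj_trans (isConj_trans hxP hxy.isConj) hyy₁.isConj) c2
      (mid z hzP c3 (mid x₁ hx₁P c1 j1 j2) j4.symm) j3.symm

theorem joined_trans' (h : Crit F p P₀) {a b c : Subgroup Ω} (hb : F.IsConj P₀ b)
    (h1 : Joined F a b) (h2 : Joined F b c) : Joined F a c :=
  h.joined_trans (fun x y D g g1 g2 g3 _ g5 g6 => h.joined_step x y D g g1 g2 g3 g5 g6) hb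
    (h.card_lt hb) h1 h2

/-- With generation, all conjugates are joined. -/
theorem joined_all (h : Crit F p P₀) {ℋ : Set (Subgroup Ω)} (hℋS : ∀ P ∈ ℋ, P ≤ S)
    (hℋconj : ∀ P ∈ ℋ, ∀ Q, F.IsConj P Q → Q ∈ ℋ)
    (hgen : ∀ E : FusionSystem S, (∀ P ∈ ℋ, F.Hom P ⊆ E.Hom P) → F ≤ E) (hP₀ : P₀ ∉ ℋ)
    {a b : Subgroup Ω} (ha : F.IsConj P₀ a) (hb : F.IsConj P₀ b) : Joined F a b := by
  let E : FusionSystem S := mkSub F S
    (fun R f => IsMap F R f ∧ ∀ x y, x ≤ R → F.IsConj P₀ x → IsIso F x y f → Joined F x y)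
    (fun {R f g} ⟨h1, h2⟩ he => ⟨h1.congr he,
      fun x y hx hxP hxy => h2 x y hx hxP (hxy.congr ((he.mono hx).symm))⟩)
    (fun {R f} h1 => ⟨h1.1, h1.1.dom_le, fun x hx => h1.1.apply_mem hx⟩)
    (fun {R g} hR hg => ⟨isMap_conj hR hg,
      fun x y _ _ hxy => joined_of_map (isMap_conj (normalizerIn_le S x) hg) hxy⟩)
    (fun {R Q f g} ⟨h1, h2⟩ ⟨k1, k2⟩ hmaps => ⟨h1.comp k1 hmaps, fun x y hx hxP hxy => by
      obtain ⟨u, hu⟩ := (h1.mono hx).exists_image
      have huQ : u ≤ Q := fun w hw => by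
        obtain ⟨v, hv, rfl⟩ := hu.exists_preimage hw
        exact hmaps v (hx hv)
      refine h.joined_trans' (isConj_trans hxP hu.isConj) (h2 x u hx hxP hu)
        (k2 u y huQ (isConj_trans hxP hu.isConj) ⟨k1.mono huQ, ?_⟩)
      rw [← hu.2, ← Set.image_comp]
      exact hxy.2⟩)
    (fun {R Q f g} ⟨_, h2⟩ hi hg hgl => ⟨hg.1, fun x y hx hxP hxy => by
      have hyR : y ≤ R := fun w hw => by
        obtain ⟨v, hv, rfl⟩ := hxy.exists_preimage hw
        exact hg.mem (hx hv)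
      refine (h2 y x hyR (isConj_trans hxP hxy.isConj) ⟨hi.1.mono hyR, ?_⟩).symm
      rw [← hxy.2, ← Set.image_comp]
      refine (Set.image_congr fun v hv => ?_).trans (Set.image_id' _)
      obtain ⟨w, hw, rfl⟩ := hi.exists_preimage (hx hv)
      simp only [Function.comp_apply, hgl w hw]⟩)
  have hle : F ≤ E := hgen E fun R hR => hom_subset_of_isMap fun f hf => isMap_mkSub.2 ⟨hf,
    fun x y hxR hxP hxy => by
      have hne : x ≠ R := fun e => hP₀ (hℋconj R hR P₀ (e ▸ isConj_symm hxP))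
      have hRS := hℋS R hR
      haveI := finite_of_le hRS
      have hlt := lt_normalizerIn (h.pgroup.to_le hRS) (lt_of_le_of_ne hxR hne)
      exact h.joined_step x y _ f (hf.mono (normalizerIn_le R x)) hlt (inf_le_inf_right _ hRS) hxP hxy⟩
  obtain ⟨f, hf⟩ := isConj_iff.1 (isConj_trans (isConj_symm ha) hb)
  exact (isMap_mkSub.1 (hf.1.of_le hle)).2 a b le_rfl ha hf

/-- Maps onto a fully normalized conjugate, defined on the normalizers. -/
theorem exists_to_fullyNormalized (h : Crit F p P₀) {ℋ : Set (Subgroup Ω)} (hℋS : ∀ P ∈ ℋ, P ≤ S)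
    (hℋconj : ∀ P ∈ ℋ, ∀ Q, F.IsConj P Q → Q ∈ ℋ)
    (hgen : ∀ E : FusionSystem S, (∀ P ∈ ℋ, F.Hom P ⊆ E.Hom P) → F ≤ E) (hP₀ : P₀ ∉ ℋ)
    {P x : Subgroup Ω} (hP : F.IsFullyNormalized P) (hPc : F.IsConj P₀ P) (hx : F.IsConj P₀ x) :
    ∃ a, IsMap F (normalizerIn S x) a ∧ IsIso F x P a := by
  obtain ⟨C, a, b, ha, ha', hb, hb'⟩ := h.joined_all hℋS hℋconj hgen hP₀ hx hPc
  have hbN : IsIso F (normalizerIn S P) (normalizerIn S C) b :=
    ⟨hb, Set.Subset.antisymm
      (fun y ⟨g, hg, e⟩ => e ▸ normalizer_map_mem hb hb' (le_normalizerIn hb'.dom_le) le_rfl hg)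
      (fun y hy => surjOn_of_card_le (normalizerIn_le _ _) hb.injOn
        (fun g hg => normalizer_map_mem hb hb' (le_normalizerIn hb'.dom_le) le_rfl hg)
        (hP.2 C hb'.isConj) y hy)⟩
  obtain ⟨bi, hbi, hbil, -⟩ := hbN.exists_inv
  refine ⟨bi ∘ a, ha.comp hbi.1 fun g hg =>
    normalizer_map_mem ha ha' (le_normalizerIn ha'.dom_le) le_rfl hg, ha'.comp ?_⟩
  refine ⟨hbi.1.mono (le_normalizerIn hb'.cod_le), ?_⟩
  rw [← hb'.2, ← Set.image_comp]
  exact (Set.image_congr fun v hv => hbil v (le_normalizerIn hb'.dom_le hv)).trans (Set.image_id' _)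

end Crit

end Cfsg.Agent.Fusion.SatCrit
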