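import Cfsg.Agent.Lib.Fusion.Normal
import Cfsg.Agent.Lib.Fusion.Group
import Cfsg.Agent.Lib.Fusion.Alperin
import Cfsg.Agent.Lib.Fusion.Invariant
import Cfsg.Agent.Lib.Fusion.Hyperfocal
import Cfsg.Agent.Fus93.GroupNormal
import Cfsg.Agent.Lib.Transfer.Residual

/-!
# Normal subsystems of the fusion system of a strictly `p`-constrained group

A normal subsystem over `T` comes from exactly one normal subgroup with Sylow subgroup `T`.
-/

set_option autoImplicit false

namespace Cfsg.Agent.Fusion.StrictlyConstrained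

open Cfsg
open Cfsg.FusionSystem (normalizerIn centralizerIn)

variable {G : Type*} [Group G] {p : ℕ}

/-- An element of prime-to-`p` order acting by a `p`-element commuting with it acts trivially. -/
theorem eq_one_of_conj_eq_mul {g r x : G} (hg : Nat.Coprime (orderOf g) p)
    (hx : ∃ k, x ^ p ^ k = 1) (h1 : g * r * g⁻¹ = x * r) (h2 : g * x = x * g) : x = 1 := by
  have key : ∀ n : ℕ, g ^ n * r * (g ^ n)⁻¹ = x ^ n * r := by
    intro n
    induction n with
    | zero => simp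
    | succ n ih =>
      have hc : g * x ^ n * g⁻¹ = x ^ n := by
        rw [(Commute.pow_right h2 n).eq, mul_inv_cancel_right]
      calc g ^ (n + 1) * r * (g ^ (n + 1))⁻¹ = g * (g ^ n * r * (g ^ n)⁻¹) * g⁻¹ := by
            rw [pow_succ']; group
        _ = (g * x ^ n * g⁻¹) * (g * r * g⁻¹) := by rw [ih]; group
        _ = x ^ (n + 1) * r := by rw [hc, h1, ← mul_assoc, ← pow_succ]
  have h := key (orderOf g)
  rw [pow_orderOf_eq_one] at h
  have h3 : x ^ orderOf g = 1 := by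
    simpa using h.symm
  obtain ⟨k, hk⟩ := hx
  rw [← orderOf_eq_one_iff]
  exact Nat.eq_one_of_dvd_coprimes (hg.pow_right k) (orderOf_dvd_of_pow_eq_one h3)
    (orderOf_dvd_of_pow_eq_one hk)

/-- A subgroup whose Sylow subgroup lies in a normal `B` and whose elements are, modulo `B`,
of `p`-power order, lies in `B`. -/
theorem le_of_mod_pElement [Fact p.Prime] [Finite G] {A B : Subgroup G} [B.Normal]
    (hA : ∀ a ∈ A, ∃ b ∈ B, ∃ k, (b⁻¹ * a) ^ p ^ k = 1) (U : Sylow p A)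
    (hU : (U : Subgroup A).map A.subtype ≤ B) : A ≤ B := by
  have h1 : (U : Subgroup A) ⊔ pResidual p A ≤ B.subgroupOf A := by
    refine sup_le (fun x hx => Subgroup.mem_subgroupOf.mpr (hU ⟨x, hx, rfl⟩))
      (Transfer.pResidual_le_iff.mpr fun a ha => ?_)
    obtain ⟨b, hb, k, hk⟩ := hA a a.2
    have e : (QuotientGroup.mk' B) (a : G) = QuotientGroup.mk' B (b⁻¹ * a) := by
      rw [map_mul, map_inv, show QuotientGroup.mk' B b = 1 from (QuotientGroup.eq_one_iff b).mpr hb,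
        inv_one, one_mul]
    refine Subgroup.mem_subgroupOf.mpr ((QuotientGroup.eq_one_iff (a : G)).mp ?_)
    show QuotientGroup.mk' B (a : G) = 1
    rw [← orderOf_eq_one_iff]
    refine Nat.eq_one_of_dvd_coprimes (ha.pow_right k) ?_ ?_
    · exact (orderOf_map_dvd _ _).trans (Subgroup.orderOf_coe a).dvd
    · refine orderOf_dvd_of_pow_eq_one ?_
      rw [e, ← map_pow, hk, map_one]
  rw [Transfer.sylow_sup_pResidual_eq_top, top_le_iff, Subgroup.subgroupOf_eq_top] at h1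
  exact h1

/-- Conjugation inside `G` on a normal subgroup. -/
theorem autInducedBy_eq_map (K Q : Subgroup G) [Q.Normal] :
    autInducedBy K Q = K.map (MulAut.conjNormal (H := Q)) := by
  ext α
  rw [mem_autInducedBy]
  constructor
  · rintro ⟨g, hg, hx⟩
    exact ⟨g, hg, MulEquiv.ext fun x => Subtype.ext ((MulAut.conjNormal_apply g x).trans (hx x).symm)⟩
  · rintro ⟨g, hg, rfl⟩
    exact ⟨g, hg, fun x => MulAut.conjNormal_apply g x⟩

theorem autGroup_sub {H T P : Subgroup G} (hTH : T ≤ H) (hP : P ≤ T) [Finite G] :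
    (fusionSystemOfSubgroup H T hTH).autGroup P = autInducedBy H P := by
  ext α
  rw [mem_autGroup hP, mem_autInducedBy]
  constructor
  · intro h
    obtain ⟨-, -, g, hg, he⟩ := Fus93.isMap_sub_iff.mp h.1
    exact ⟨g, hg, fun x => (autFun_coe α x).symm.trans (he x x.2)⟩
  · rintro ⟨g, hg, he⟩
    refine ⟨Fus93.isMap_sub_iff.mpr ⟨hP, fun x hx => ?_, g, hg, fun x hx => ?_⟩, autFun_image α⟩
    · rw [autFun_of_mem α hx]
      exact hP (α _).2
    · rw [autFun_of_mem α hx]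
      exact he ⟨x, hx⟩

/-- Members of `Aut_F(P)` conjugate `Aut_E(P)` into itself, for `E` strongly invariant. -/
theorem autGroup_conj_mem {S T P : Subgroup G} {F : FusionSystem S} {E : FusionSystem T}
    (hTS : T ≤ S) (h : StrongInv E F) (hP : P ≤ T) {α β : MulAut P} (hα : α ∈ E.autGroup P)
    (hβ : β ∈ F.autGroup P) : β * α * β⁻¹ ∈ E.autGroup P := by
  have ha := (mem_autGroup hP).mp hα
  have hb := (mem_autGroup (hP.trans hTS)).mp hβ
  obtain ⟨χ, hχ, hχe⟩ := h P P P (autFun α) (autFun β) le_rfl hP ha.1 (fun x hx => ha.mem hx) hb.1 hb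
  refine autGroup_mem_of_isMap (hχ.congr fun y hy => ?_)
  have h1 := hχe ((β⁻¹ : MulAut P) ⟨y, hy⟩ : G) (Subtype.mem _)
  rw [autFun_coe β, autFun_coe α, autFun_coe β] at h1
  rw [autFun_of_mem _ hy]
  have h2 : β ((β⁻¹ : MulAut P) ⟨y, hy⟩) = ⟨y, hy⟩ := β.apply_symm_apply _
  rw [h2] at h1
  exact h1

/-- The elements acting trivially on `R/Q`. -/
def relCentralizer (Q R : Subgroup G) [Q.Normal] : Subgroup G :=
  (Subgroup.centralizer ((R.map (QuotientGroup.mk' Q) : Subgroup (G ⧸ Q)) : Set (G ⧸ Q))).comap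
    (QuotientGroup.mk' Q)

instance relCentralizer_normal (Q R : Subgroup G) [Q.Normal] [R.Normal] :
    (relCentralizer Q R).Normal := by
  haveI : (R.map (QuotientGroup.mk' Q)).Normal :=
    Subgroup.Normal.map ‹R.Normal› _ (QuotientGroup.mk'_surjective Q)
  exact Subgroup.Normal.comap inferInstance _

theorem mem_relCentralizer {Q R : Subgroup G} [Q.Normal] {g : G} :
    g ∈ relCentralizer Q R ↔ ∀ r ∈ R, g * r * g⁻¹ * r⁻¹ ∈ Q := by
  rw [relCentralizer, Subgroup.mem_comap, Subgroup.mem_centralizer_iff]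
  constructor
  · intro h r hr
    rw [← QuotientGroup.eq_one_iff]
    show QuotientGroup.mk' Q (g * r * g⁻¹ * r⁻¹) = 1
    rw [map_mul, map_mul, map_mul, map_inv, map_inv, ← h _ ⟨r, hr, rfl⟩]
    group
  · rintro h _ ⟨r, hr, rfl⟩
    have h1 : QuotientGroup.mk' Q (g * r * g⁻¹ * r⁻¹) = 1 := (QuotientGroup.eq_one_iff _).mpr (h r hr)
    rw [map_mul, map_mul, map_mul, map_inv, map_inv] at h1
    rw [← map_mul, ← map_mul]
    rw [← map_mul, ← map_inv, ← map_mul, ← map_inv, ← map_mul] at h1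
    calc QuotientGroup.mk' Q (r * g) = QuotientGroup.mk' Q (g * r * g⁻¹ * r⁻¹) * QuotientGroup.mk' Q (r * g) := by
          rw [h1, one_mul]
      _ = QuotientGroup.mk' Q (g * r) := by rw [← map_mul]; congr 1; group

/-- The data: `R = O_p(G)`, `Q = R ∩ T`. -/
structure Setup (S : Sylow p G) {T : Subgroup G} (E : FusionSystem T) (R Q : Subgroup G) : Prop where
  rS : R ≤ (S : Subgroup G)
  qEq : Q = R ⊓ T
  self_centralizing : Subgroup.centralizer (R : Set G) ≤ R
  largest : ∀ N : Subgroup G, N.Normal → IsPGroup p N → N ≤ R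
  closed : ∀ g : G, ∀ t ∈ T, g * t * g⁻¹ ∈ (S : Subgroup G) → g * t * g⁻¹ ∈ T
  tS : T ≤ (S : Subgroup G)
  normal : E.IsNormalIn (groupFusionSystem (S : Subgroup G)) p

variable [Finite G] [Fact p.Prime] {S : Sylow p G} {T : Subgroup G} {E : FusionSystem T}
  {R Q : Subgroup G} [R.Normal] [Q.Normal]

theorem Setup.qT (h : Setup S E R Q) : Q ≤ T := h.qEq.le.trans inf_le_right

theorem Setup.qR (h : Setup S E R Q) : Q ≤ R := h.qEq.le.trans inf_le_left

theorem Setup.mem_q (h : Setup S E R Q) {x : G} (hR : x ∈ R) (hT : x ∈ T) : x ∈ Q :=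
  h.qEq.ge ⟨hR, hT⟩

theorem Setup.conj_t (h : Setup S E R Q) {s t : G} (hs : s ∈ (S : Subgroup G)) (ht : t ∈ T) :
    s * t * s⁻¹ ∈ T :=
  h.closed s t ht (Subgroup.mul_mem _ (Subgroup.mul_mem _ hs (h.tS ht)) (Subgroup.inv_mem _ hs))

theorem Setup.s_le_normalizer (h : Setup S E R Q) :
    (S : Subgroup G) ≤ Subgroup.normalizer (T : Set G) := fun s hs =>
  Subgroup.mem_normalizer_iff.mpr fun t => ⟨fun ht => h.conj_t hs ht, fun ht => by
    simpa [mul_assoc] using h.conj_t (Subgroup.inv_mem _ hs) ht⟩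

theorem Setup.t_le_rel (h : Setup S E R Q) : T ≤ relCentralizer Q R := fun t ht =>
  mem_relCentralizer.mpr fun r hr => h.mem_q
    (R.mul_mem (Subgroup.Normal.conj_mem ‹R.Normal› r hr t) (R.inv_mem hr))
    (by simpa [mul_assoc] using T.mul_mem ht (h.conj_t (h.rS hr) (T.inv_mem ht)))

theorem Setup.m_le (h : Setup S E R Q) :
    relCentralizer Q R ⊓ Subgroup.centralizer (Q : Set G) ≤ R := by
  refine h.largest _ inferInstance fun ⟨g, hgK, hgC⟩ => ?_
  obtain ⟨k, m, hm, hkm⟩ :=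
    Nat.exists_eq_pow_mul_and_not_dvd (orderOf_pos g).ne' p (Fact.out : p.Prime).ne_one
  refine ⟨k, Subtype.ext ?_⟩
  show g ^ p ^ k = 1
  have hco : Nat.Coprime (orderOf (g ^ p ^ k)) p := by
    rw [orderOf_pow, hkm, Nat.gcd_eq_right (dvd_mul_right _ _),
      Nat.mul_div_cancel_left _ (pow_pos (Fact.out : p.Prime).pos k)]
    exact ((Nat.Prime.coprime_iff_not_dvd (Fact.out : p.Prime)).mpr hm).symm
  have hRp : IsPGroup p R := S.isPGroup'.to_le h.rS
  have hpR : g ^ p ^ k ∈ R := h.self_centralizing (Subgroup.mem_centralizer_iff.mpr fun r hr => by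
    set a := g ^ p ^ k with ha
    set x := a * r * a⁻¹ * r⁻¹ with hx
    have hxQ : x ∈ Q := mem_relCentralizer.mp (Subgroup.pow_mem _ hgK _) r hr
    have hax : a * x = x * a :=
      (Subgroup.mem_centralizer_iff.mp (Subgroup.pow_mem _ hgC _) x hxQ).symm
    have hxp : ∃ j, x ^ p ^ j = 1 := by
      obtain ⟨j, hj⟩ := hRp ⟨x, h.qR hxQ⟩
      exact ⟨j, congrArg Subtype.val hj⟩
    have := eq_one_of_conj_eq_mul hco hxp (show a * r * a⁻¹ = x * r by rw [hx]; group) hax
    exact (mul_inv_eq_iff_eq_mul.mp (mul_inv_eq_one.mp this)).symm)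
  exact Transfer.eq_one_of_coprime_of_mem hRp hpR hco

theorem Setup.centralizer_q (h : Setup S E R Q) {t : G} (ht : t ∈ T)
    (hc : t ∈ Subgroup.centralizer (Q : Set G)) : t ∈ Q :=
  h.mem_q (h.m_le ⟨h.t_le_rel ht, hc⟩) ht

theorem Setup.strongInv (h : Setup S E R Q) : StrongInv E (groupFusionSystem (S : Subgroup G)) :=
  strongInv_of_invariant h.normal.1.2.2

theorem Setup.conj_iterate (h : Setup S E R Q) {g c : G} (hgN : g ∈ Subgroup.normalizer (T : Set G))
    (hc : c⁻¹ * (g * c * g⁻¹) ∈ T) (n : ℕ) : c⁻¹ * (g ^ n * c * (g ^ n)⁻¹) ∈ T := by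
  have := h.tS
  induction n with
  | zero => simp
  | succ n ih =>
    have h1 := T.mul_mem hc (conj_mem_of_mem_normalizer hgN ih)
    convert h1 using 1
    rw [pow_succ']
    group

/-- Every automorphism of `T` in `E` is induced by an element trivial on `R/Q`. -/
theorem Setup.autT_le (h : Setup S E R Q) :
    E.autGroup T ≤ autInducedBy (relCentralizer Q R) T := by
  set F := groupFusionSystem (S : Subgroup G) with hF
  have hTp : IsPGroup p T := S.isPGroup'.to_le h.tS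
  obtain ⟨U, hU⟩ := (fullyAutomized_of_fullyNormalized hTp h.normal.1.1 fullyNormalized_self).2
  have hUn : (U : Subgroup (E.autGroup T)).Normal := by
    rw [hU, autInducedBy_self_eq_inn]
    exact inn_subgroupOf_normal
  intro α hα
  suffices hB : (⊤ : Subgroup (E.autGroup T)) ≤
      (autInducedBy (relCentralizer Q R) T).subgroupOf (E.autGroup T) from
    Subgroup.mem_subgroupOf.mp (hB (Subgroup.mem_top ⟨α, hα⟩))
  haveI := finite_mulAut T
  rw [← Transfer.sylow_sup_pResidual_eq_top U]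
  refine sup_le (fun a ha => ?_) (Transfer.pResidual_le_iff.mpr fun a ha => ?_)
  · rw [hU, Subgroup.mem_subgroupOf] at ha
    exact Subgroup.mem_subgroupOf.mpr (autInducedBy_mono h.t_le_rel ha)
  -- an element of prime-to-`p` order
  obtain ⟨β, hβ, hβT, hβC⟩ := h.normal.2 (a : MulAut T) a.2
  rw [autGroup_group S (sup_le h.tS (centralizerIn_le _ _)), mem_autInducedBy] at hβ
  obtain ⟨g₀, -, hg₀⟩ := hβ
  have ha₀ : ∀ x : T, ((a : MulAut T) x : G) = g₀ * x * g₀⁻¹ := fun x => by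
    rw [← hβT x, hg₀]
    rfl
  have hg₀N : g₀ ∈ Subgroup.normalizer (T : Set G) := mem_normalizer_of_induces ha₀
  have hg₀C : ∀ c ∈ centralizerIn (S : Subgroup G) T, c⁻¹ * (g₀ * c * g₀⁻¹) ∈ T := fun c hc => by
    have := hβC ⟨c, Subgroup.mem_sup_right hc⟩ hc
    rw [hg₀] at this
    exact this.1
  have hpow : ∀ (n : ℕ) (x : T), (((a : MulAut T) ^ n) x : G) = g₀ ^ n * x * (g₀ ^ n)⁻¹ := by
    intro n
    induction n with
    | zero => simp
    | succ n ih =>
      intro x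
      rw [pow_succ', MulAut.mul_apply, ha₀, ih, pow_succ']
      group
  obtain ⟨k, m, hm, hkm⟩ :=
    Nat.exists_eq_pow_mul_and_not_dvd (orderOf_pos g₀).ne' p (Fact.out : p.Prime).ne_one
  obtain ⟨j, hj⟩ : ∃ j : ℕ, (a ^ p ^ k) ^ j = a :=
    exists_pow_eq_self_of_coprime ((ha.pow_right k).symm)
  set g := g₀ ^ (p ^ k * j) with hg
  have hga : ∀ x : T, ((a : MulAut T) x : G) = g * x * g⁻¹ := fun x => by
    rw [hg, ← hpow]
    conv_lhs => rw [← hj, ← pow_mul]
    rfl
  have hgN : g ∈ Subgroup.normalizer (T : Set G) := Subgroup.pow_mem _ hg₀N _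
  have hgC : ∀ c ∈ centralizerIn (S : Subgroup G) T, c⁻¹ * (g * c * g⁻¹) ∈ T := fun c hc =>
    h.conj_iterate hg₀N (hg₀C c hc) _
  have hgo : Nat.Coprime (orderOf g) p := by
    rw [hg, pow_mul]
    refine Nat.Coprime.coprime_dvd_left (orderOf_pow_dvd _) ?_
    rw [orderOf_pow, hkm, Nat.gcd_eq_right (dvd_mul_right _ _),
      Nat.mul_div_cancel_left _ (pow_pos (Fact.out : p.Prime).pos k)]
    exact ((Nat.Prime.coprime_iff_not_dvd (Fact.out : p.Prime)).mpr hm).symm
  refine Subgroup.mem_subgroupOf.mpr (mem_autInducedBy.mpr ⟨g, mem_relCentralizer.mpr fun r hr => ?_, hga⟩)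
  set x := g * r * g⁻¹ * r⁻¹ with hxdef
  have hxR : x ∈ R := R.mul_mem (Subgroup.Normal.conj_mem ‹R.Normal› r hr g) (R.inv_mem hr)
  have hxS := h.rS hxR
  have hrN : r ∈ normalizerIn (S : Subgroup G) T := ⟨h.rS hr, h.s_le_normalizer (h.rS hr)⟩
  have hxN : x ∈ normalizerIn (S : Subgroup G) T := ⟨hxS, h.s_le_normalizer hxS⟩
  set γ : MulAut T := conjAutHom (S : Subgroup G) T ⟨r, hrN⟩ with hγ
  set δ : MulAut T := conjAutHom (S : Subgroup G) T ⟨x, hxN⟩ with hδ
  have hγF : γ ∈ F.autGroup T := autInducedBy_le_autGroup h.tS (by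
    rw [← range_conjAutHom]; exact ⟨_, rfl⟩)
  have hδeq : δ = (a : MulAut T) * (γ * (a : MulAut T)⁻¹ * γ⁻¹) := by
    rw [← mul_assoc, ← mul_assoc, eq_mul_inv_iff_mul_eq, eq_mul_inv_iff_mul_eq]
    refine MulEquiv.ext fun t => Subtype.ext ?_
    show x * (r * ((a : MulAut T) t : G) * r⁻¹) * x⁻¹ = ((a : MulAut T) (γ t) : G)
    rw [hga, hga]
    show x * (r * (g * t * g⁻¹) * r⁻¹) * x⁻¹ = g * (r * t * r⁻¹) * g⁻¹
    rw [hxdef]
    group
  have hδE : δ ∈ E.autGroup T := by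
    rw [hδeq]
    exact Subgroup.mul_mem _ a.2 (autGroup_conj_mem h.tS h.strongInv le_rfl (Subgroup.inv_mem _ a.2) hγF)
  have hδp : ∃ i, (⟨δ, hδE⟩ : E.autGroup T) ^ p ^ i = 1 := by
    obtain ⟨i, hi⟩ := S.isPGroup' ⟨x, hxS⟩
    refine ⟨i, Subtype.ext ?_⟩
    show δ ^ p ^ i = 1
    rw [hδ, ← map_pow]
    have : (⟨x, hxN⟩ : ↥(normalizerIn (S : Subgroup G) T)) ^ p ^ i = 1 :=
      Subtype.ext (congrArg Subtype.val hi : x ^ p ^ i = 1)
    rw [this, map_one]
  have hδU : (⟨δ, hδE⟩ : E.autGroup T) ∈ (U : Subgroup (E.autGroup T)) := by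
    obtain ⟨i, hi⟩ := hδp
    have hz : IsPGroup p (Subgroup.zpowers (⟨δ, hδE⟩ : E.autGroup T)) := by
      obtain ⟨n, -, hn⟩ := (Nat.dvd_prime_pow (Fact.out : p.Prime)).mp (orderOf_dvd_of_pow_eq_one hi)
      exact IsPGroup.of_card (n := n) (by rw [Nat.card_zpowers, hn])
    obtain ⟨V, hV⟩ := hz.exists_le_sylow
    haveI := Sylow.unique_of_normal U hUn
    rw [show U = V from Subsingleton.elim _ _]
    exact hV (Subgroup.mem_zpowers _)
  rw [hU, Subgroup.mem_subgroupOf, mem_autInducedBy] at hδU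
  obtain ⟨t, ht, hte⟩ := hδU
  set c := t⁻¹ * x with hc
  have hcC : c ∈ centralizerIn (S : Subgroup G) T := by
    refine ⟨Subgroup.mul_mem _ (Subgroup.inv_mem _ (h.tS ht)) hxS, Subgroup.mem_centralizer_iff.mpr fun y hy => ?_⟩
    have h1 : x * y * x⁻¹ = t * y * t⁻¹ := hte ⟨y, hy⟩
    calc y * c = t⁻¹ * (t * y * t⁻¹) * x := by rw [hc]; group
      _ = c * y := by rw [← h1, hc]; group
  have hxQ : g * x * g⁻¹ * x⁻¹ ∈ Q := by
    refine h.mem_q (R.mul_mem (Subgroup.Normal.conj_mem ‹R.Normal› x hxR g) (R.inv_mem hxR)) ?_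
    have h1 := hgC c hcC
    have h2 : c * (c⁻¹ * (g * c * g⁻¹)) = (c⁻¹ * (g * c * g⁻¹)) * c :=
      ((Subgroup.mem_centralizer_iff.mp hcC.2) _ h1).symm
    have h3 : g * c * g⁻¹ * c⁻¹ = c⁻¹ * (g * c * g⁻¹) := by
      rw [mul_inv_eq_iff_eq_mul, ← h2]
      group
    have h4 := T.mul_mem (T.mul_mem (conj_mem_of_mem_normalizer hgN ht) h1) (T.inv_mem ht)
    rw [← h3] at h4
    convert h4 using 1
    rw [hc]
    group
  have hq := eq_one_of_conj_eq_mul (g := QuotientGroup.mk' Q g) (r := QuotientGroup.mk' Q r)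
    (x := QuotientGroup.mk' Q x) (hgo.coprime_dvd_left (orderOf_map_dvd _ g))
    (by
      obtain ⟨i, hi⟩ := S.isPGroup' ⟨x, hxS⟩
      exact ⟨i, by rw [← map_pow, show x ^ p ^ i = 1 from congrArg Subtype.val hi, map_one]⟩)
    (by rw [← map_inv, ← map_mul, ← map_mul, ← map_mul, hxdef]; congr 1; group)
    (by
      have h5 : QuotientGroup.mk' Q (g * x * g⁻¹ * x⁻¹) = 1 := (QuotientGroup.eq_one_iff _).mpr hxQ
      rw [map_mul, map_mul, map_mul, map_inv, map_inv, mul_inv_eq_one, mul_inv_eq_iff_eq_mul] at h5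
      exact h5)
  exact (QuotientGroup.eq_one_iff x).mp hq

theorem Setup.fullyNormalized_q (h : Setup S E R Q) : E.IsFullyNormalized Q := by
  refine ⟨h.qT, fun Q' hQ' => ?_⟩
  refine Subgroup.card_le_of_le (le_inf inf_le_left fun x _ => ?_)
  rw [Subgroup.normalizer_eq_top]
  trivial

/-- Every automorphism of `Q` in `E` is induced by an element trivial on `R/Q`. -/
theorem Setup.autQ_le (h : Setup S E R Q) :
    E.autGroup Q ≤ autInducedBy (relCentralizer Q R) Q := by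
  have hTp : IsPGroup p T := S.isPGroup'.to_le h.tS
  have hsat := h.normal.1.1
  haveI := finite_mulAut Q
  set A := E.autGroup Q with hA
  obtain ⟨U, hU⟩ := (fullyAutomized_of_fullyNormalized hTp hsat h.fullyNormalized_q).2
  set B := (autInducedBy (relCentralizer Q R) Q).subgroupOf A with hB
  have hBn : B.Normal := by
    refine ⟨fun b hb a => ?_⟩
    rw [hB, Subgroup.mem_subgroupOf, autInducedBy_eq_map] at hb ⊢
    obtain ⟨k, hk, hke⟩ := hb
    have ha := autGroup_mono (h.normal.1.2.2.1 Q) a.2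
    rw [autGroup_group S (h.qT.trans h.tS), autInducedBy_eq_map] at ha
    obtain ⟨g, -, hge⟩ := ha
    refine ⟨g * k * g⁻¹, Subgroup.Normal.conj_mem inferInstance k hk g, ?_⟩
    rw [map_mul, map_mul, map_inv, hke, hge]
    rfl
  have hUB : (U : Subgroup A) ≤ B := fun a ha => by
    rw [hU, Subgroup.mem_subgroupOf] at ha
    exact autInducedBy_mono h.t_le_rel ha
  have hfr := Sylow.normalizer_sup_eq_top (U.subtype hUB)
  rw [Sylow.coe_subtype, Subgroup.subgroupOf_map_subtype, inf_eq_left.mpr hUB] at hfr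
  intro α hα
  obtain ⟨ν, hν, b, hb, hab⟩ := Subgroup.mem_sup_of_normal_right.mp
    (hfr ▸ Subgroup.mem_top (⟨α, hα⟩ : A) :
      (⟨α, hα⟩ : A) ∈ Subgroup.normalizer ((U : Subgroup A) : Set A) ⊔ B)
  rw [show α = (ν : MulAut Q) * (b : MulAut Q) from (congrArg Subtype.val hab).symm]
  refine Subgroup.mul_mem _ ?_ (Subgroup.mem_subgroupOf.mp hb)
  have hiso := (mem_autGroup h.qT).mp ν.2
  have hext : IsExtendable T Q (autFun (ν : MulAut Q)) T := by
    refine ⟨le_rfl, fun t ht => ⟨by rw [Subgroup.normalizer_eq_top]; trivial, ?_⟩⟩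
    let τ : MulAut Q := MulAut.conjNormal t
    have hτ : τ ∈ A := autInducedBy_le_autGroup h.qT (by
      rw [autInducedBy_eq_map]; exact ⟨t, ht, rfl⟩)
    have hτU : (⟨τ, hτ⟩ : A) ∈ (U : Subgroup A) := by
      rw [hU, Subgroup.mem_subgroupOf, autInducedBy_eq_map]; exact ⟨t, ht, rfl⟩
    have h1 := conj_mem_of_mem_normalizer hν hτU
    rw [hU, Subgroup.mem_subgroupOf, mem_autInducedBy] at h1
    obtain ⟨t', ht', he⟩ := h1
    refine ⟨t', ht', fun x hx => ?_⟩
    have h2 := he ((ν : MulAut Q) ⟨x, hx⟩)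
    rw [autFun_of_mem _ (Subgroup.Normal.conj_mem ‹Q.Normal› x hx t), autFun_of_mem _ hx]
    refine Eq.trans ?_ h2
    show _ = (((ν : MulAut Q) (τ ((ν : MulAut Q).symm ((ν : MulAut Q) ⟨x, hx⟩)))) : G)
    rw [MulEquiv.symm_apply_apply]
    congr 2
  obtain ⟨f, hf, hfe⟩ := receptive_extend
    (receptive_of_fullyNormalized hTp hsat h.fullyNormalized_q) hiso hext
  rw [sup_eq_right.mpr h.qT] at hf
  have hfT : IsIso E T T f := ⟨hf, Set.Subset.antisymm
    (fun y ⟨x, hx, hy⟩ => hy ▸ hf.apply_mem hx)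
    (fun y hy => surjOn_of_card_le le_rfl hf.injOn (fun x hx => hf.apply_mem hx) le_rfl y hy)⟩
  obtain ⟨ε, hε, hεe⟩ := hfT.exists_aut
  obtain ⟨g, hg, hge⟩ := mem_autInducedBy.mp (h.autT_le hε)
  refine mem_autInducedBy.mpr ⟨g, hg, fun x => ?_⟩
  rw [← autFun_coe (ν : MulAut Q) x, ← hfe x.2, ← hεe (h.qT x.2), autFun_of_mem _ (h.qT x.2)]
  exact hge _

/-- The elements trivial on `R/Q` that act on `Q` as elements of `E`. -/
def hOne (E : FusionSystem T) (R Q : Subgroup G) [Q.Normal] : Subgroup G :=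
  relCentralizer Q R ⊓ (E.autGroup Q).comap (MulAut.conjNormal (H := Q))

theorem mem_centralizer_of_same {g g' : G}
    (he : (MulAut.conjNormal g : MulAut Q) = MulAut.conjNormal g') :
    g'⁻¹ * g ∈ Subgroup.centralizer (Q : Set G) := by
  refine Subgroup.mem_centralizer_iff.mpr fun y hy => ?_
  have h1 : g * y * g⁻¹ = g' * y * g'⁻¹ := by
    have := congrArg (fun φ : MulAut Q => (φ ⟨y, hy⟩ : G)) he
    simpa only [MulAut.conjNormal_apply] using this
  calc y * (g'⁻¹ * g) = g'⁻¹ * (g' * y * g'⁻¹) * g := by group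
    _ = g'⁻¹ * g * y := by rw [← h1]; group

theorem Setup.hOne_normal (h : Setup S E R Q) : (hOne E R Q).Normal := by
  refine ⟨fun k hk g => ⟨Subgroup.Normal.conj_mem inferInstance k hk.1 g, ?_⟩⟩
  show MulAut.conjNormal (g * k * g⁻¹) ∈ E.autGroup Q
  rw [map_mul, map_mul, map_inv]
  refine autGroup_conj_mem h.tS h.strongInv h.qT hk.2 ?_
  rw [autGroup_group S (h.qT.trans h.tS), autInducedBy_eq_map]
  exact ⟨g, trivial, rfl⟩

theorem Setup.t_le_hOne (h : Setup S E R Q) : T ≤ hOne E R Q := fun t ht =>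
  ⟨h.t_le_rel ht, Subgroup.mem_comap.mpr (autInducedBy_le_autGroup h.qT (by
    rw [autInducedBy_eq_map]; exact ⟨t, ht, rfl⟩))⟩

theorem m_le_hOne : relCentralizer Q R ⊓ Subgroup.centralizer (Q : Set G) ≤ hOne E R Q :=
  fun m hm => ⟨hm.1, Subgroup.mem_comap.mpr (by
    rw [show (MulAut.conjNormal m : MulAut Q) = 1 from MulEquiv.ext fun x => Subtype.ext (by
      rw [MulAut.conjNormal_apply, ← Subgroup.mem_centralizer_iff.mp hm.2 x x.2]; simp)]
    exact Subgroup.one_mem _)⟩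

theorem Setup.sylow_hOne (h : Setup S E R Q) :
    (S : Subgroup G) ⊓ hOne E R Q = T ⊔ (relCentralizer Q R ⊓ Subgroup.centralizer (Q : Set G)) := by
  refine le_antisymm (fun x hx => ?_) (sup_le (le_inf h.tS h.t_le_hOne) (le_inf (h.m_le.trans h.rS) m_le_hOne))
  have hTp : IsPGroup p T := S.isPGroup'.to_le h.tS
  obtain ⟨U, hU⟩ := (fullyAutomized_of_fullyNormalized hTp h.normal.1.1 h.fullyNormalized_q).2
  have hV : IsPGroup p ((autInducedBy ((S : Subgroup G) ⊓ hOne E R Q) Q).subgroupOf (E.autGroup Q)) := by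
    rw [autInducedBy_eq_map]
    exact ((S.isPGroup'.to_le inf_le_left).map _).comap_subtype
  have heq := U.is_maximal' hV (by
    rw [hU]
    exact Subgroup.comap_mono (autInducedBy_mono (le_inf h.tS h.t_le_hOne)))
  have hxV : (⟨MulAut.conjNormal x, Subgroup.mem_comap.mp hx.2.2⟩ : E.autGroup Q) ∈
      (U : Subgroup (E.autGroup Q)) := by
    rw [← heq, Subgroup.mem_subgroupOf, autInducedBy_eq_map]
    exact ⟨x, hx, rfl⟩
  rw [hU, Subgroup.mem_subgroupOf, autInducedBy_eq_map] at hxV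
  obtain ⟨t, ht, hte⟩ := hxV
  rw [show x = t * (t⁻¹ * x) by group]
  exact Subgroup.mul_mem_sup ht ⟨Subgroup.mul_mem _ (Subgroup.inv_mem _ (h.t_le_rel ht)) hx.2.1,
    mem_centralizer_of_same hte.symm⟩

/-- The candidate subgroup `T O^p(H₁)`. -/
def hSub (p : ℕ) {T : Subgroup G} (E : FusionSystem T) (R Q : Subgroup G) [Q.Normal] : Subgroup G :=
  T ⊔ (pResidual p ↥(hOne E R Q)).map (hOne E R Q).subtype

theorem Setup.w_normal (h : Setup S E R Q) :
    ((pResidual p ↥(hOne E R Q)).map (hOne E R Q).subtype).Normal := by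
  haveI := h.hOne_normal
  infer_instance

theorem Setup.hSub_le (h : Setup S E R Q) : hSub p E R Q ≤ hOne E R Q :=
  sup_le h.t_le_hOne (Subgroup.map_subtype_le _)

theorem Setup.hOne_le (h : Setup S E R Q) :
    hOne E R Q ≤ hSub p E R Q ⊔ (relCentralizer Q R ⊓ Subgroup.centralizer (Q : Set G)) := by
  haveI := h.hOne_normal
  obtain ⟨U, hU⟩ := Fus93.exists_sylow_inf S (hOne E R Q)
  intro x hx
  have := Transfer.sylow_sup_pResidual_eq_top U
  have hle := (Subgroup.map_mono (f := (hOne E R Q).subtype) this.ge) ⟨⟨x, hx⟩, trivial, rfl⟩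
  rw [Subgroup.map_sup, hU, Subgroup.subgroupOf_map_subtype, inf_assoc, inf_idem, h.sylow_hOne] at hle
  have hkey : T ⊔ (relCentralizer Q R ⊓ Subgroup.centralizer (Q : Set G)) ⊔
      (pResidual p ↥(hOne E R Q)).map (hOne E R Q).subtype ≤
      hSub p E R Q ⊔ (relCentralizer Q R ⊓ Subgroup.centralizer (Q : Set G)) :=
    sup_le (sup_le (le_sup_left.trans le_sup_left) le_sup_right) (le_sup_right.trans le_sup_left)
  exact hkey hle

theorem Setup.w_inf_le (h : Setup S E R Q) :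
    (pResidual p ↥(hOne E R Q)).map (hOne E R Q).subtype ⊓ (S : Subgroup G) ≤ T := by
  haveI := h.hOne_normal
  obtain ⟨U, hU⟩ := Fus93.exists_sylow_inf S (hOne E R Q)
  rintro _ ⟨⟨w, hw, rfl⟩, hwS⟩
  have hwU : w ∈ (U : Subgroup ↥(hOne E R Q)) := by rw [hU]; exact ⟨hwS, w.2⟩
  have hhyp : w ∈ (groupFusionSystem (U : Subgroup ↥(hOne E R Q))).hyperfocalSubgroup p := by
    rw [hyperfocal_eq]; exact ⟨hwU, hw⟩
  suffices hle : (groupFusionSystem (U : Subgroup ↥(hOne E R Q))).hyperfocalSubgroup p ≤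
      T.subgroupOf (hOne E R Q) from Subgroup.mem_subgroupOf.mp (hle hhyp)
  rw [FusionSystem.hyperfocalSubgroup, Subgroup.closure_le]
  rintro _ ⟨P, α, x, hP, -, rfl⟩
  have hα := (autGroup_group U hP).le α.2
  rw [mem_autInducedBy] at hα
  obtain ⟨g, -, hge⟩ := hα
  rw [SetLike.mem_coe, Subgroup.mem_subgroupOf, hge]
  simp only [Subgroup.coe_mul, Subgroup.coe_inv]
  have hxU := hP x.2
  have hyU := hP ((α : MulAut P) x).2
  rw [hge] at hyU
  rw [hU, Subgroup.mem_subgroupOf, h.sylow_hOne] at hxU hyU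
  simp only [Subgroup.coe_mul, Subgroup.coe_inv] at hyU
  obtain ⟨t, ht, m, hm, hx⟩ := Subgroup.mem_sup_of_normal_right.mp hxU
  rw [← hx] at hyU ⊢
  have hq : (g : G) * m * (g : G)⁻¹ * m⁻¹ ∈ Q := mem_relCentralizer.mp g.2.1 m (h.m_le hm)
  have hmS : m ∈ (S : Subgroup G) := h.rS (h.m_le hm)
  have hyS : (g : G) * (t * m) * (g : G)⁻¹ ∈ (S : Subgroup G) :=
    (sup_le h.tS (h.m_le.trans h.rS) : _ ≤ (S : Subgroup G)) hyU
  have hgt : (g : G) * t * (g : G)⁻¹ ∈ T := by
    refine h.closed _ t ht ?_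
    have h1 := Subgroup.mul_mem _ (Subgroup.mul_mem _ hyS (Subgroup.inv_mem _ hmS))
      (Subgroup.inv_mem _ (h.tS (h.qT hq)))
    convert Subgroup.mul_mem _ hyS (Subgroup.inv_mem _ (Subgroup.mul_mem _ (h.tS (h.qT hq)) hmS))
      using 1
    group
  have h2 := h.conj_t (Subgroup.inv_mem _ hmS)
    (T.mul_mem (T.mul_mem (T.inv_mem ht) hgt) (h.qT hq))
  convert h2 using 1
  group

theorem Setup.hSub_inf (h : Setup S E R Q) : (S : Subgroup G) ⊓ hSub p E R Q = T := by
  refine le_antisymm (fun x hx => ?_) (le_inf h.tS le_sup_left)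
  haveI := h.w_normal
  obtain ⟨t, ht, w, hw, rfl⟩ := Subgroup.mem_sup_of_normal_right.mp hx.2
  refine T.mul_mem ht (h.w_inf_le ⟨hw, ?_⟩)
  have := Subgroup.mul_mem _ (Subgroup.inv_mem _ (h.tS ht)) hx.1
  rwa [inv_mul_cancel_left] at this

theorem Setup.hSub_normal (h : Setup S E R Q) : (hSub p E R Q).Normal := by
  haveI := h.hOne_normal
  haveI := h.w_normal
  set W := (pResidual p ↥(hOne E R Q)).map (hOne E R Q).subtype with hW
  obtain ⟨U, hU⟩ := Fus93.exists_sylow_inf S (hOne E R Q)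
  set U' := (S : Subgroup G) ⊓ hOne E R Q with hU'
  have hN : ∀ g, g ∈ Subgroup.normalizer (T : Set G) →
      g ∈ Subgroup.normalizer ((hSub p E R Q : Subgroup G) : Set G) := by
    intro g hg
    refine Subgroup.mem_normalizer_iff.mpr fun x => ?_
    have key : ∀ a, a ∈ Subgroup.normalizer (T : Set G) → ∀ y ∈ hSub p E R Q, a * y * a⁻¹ ∈ hSub p E R Q := by
      intro a ha y hy
      obtain ⟨t, ht, w, hw, rfl⟩ := Subgroup.mem_sup_of_normal_right.mp hy
      have := Subgroup.mul_mem_sup (conj_mem_of_mem_normalizer ha ht)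
        (Subgroup.Normal.conj_mem inferInstance w hw a : a * w * a⁻¹ ∈ W)
      show a * (t * w) * a⁻¹ ∈ T ⊔ W
      rw [show a * (t * w) * a⁻¹ = a * t * a⁻¹ * (a * w * a⁻¹) by group]
      exact this
    refine ⟨key g hg x, fun hx => ?_⟩
    simpa [mul_assoc] using key g⁻¹ (Subgroup.inv_mem _ hg) _ hx
  have hfr := Sylow.normalizer_sup_eq_top U
  rw [hU, Subgroup.subgroupOf_map_subtype, inf_eq_left.mpr (inf_le_right : U' ≤ hOne E R Q)] at hfr
  rw [← Subgroup.normalizer_eq_top_iff, eq_top_iff, ← hfr]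
  have hU'N : U' ≤ Subgroup.normalizer ((hSub p E R Q : Subgroup G) : Set G) :=
    fun x hx => hN x (h.s_le_normalizer hx.1)
  refine sup_le (fun g hg => hN g ?_) ?_
  · refine Subgroup.mem_normalizer_fintype fun t ht => ?_
    exact h.closed g t ht (conj_mem_of_mem_normalizer hg ⟨h.tS ht, h.t_le_hOne ht⟩).1
  · intro x hx
    obtain ⟨a, ha, b, hb, hab⟩ := Subgroup.mem_sup_of_normal_right.mp (h.hOne_le hx)
    rw [← hab]
    exact Subgroup.mul_mem _ ((hSub p E R Q).le_normalizer ha) (hU'N ⟨h.rS (h.m_le hb), m_le_hOne hb⟩)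

/-- Two automorphisms of `P ⊇ Q` induced in `G` and agreeing on `Q` differ by a `p`-element. -/
theorem Setup.agree (h : Setup S E R Q) {P : Subgroup G} (hP : P ≤ T) (hQP : Q ≤ P) {a b : MulAut P}
    {g k : G} (ha : ∀ x : P, (a x : G) = g * x * g⁻¹) (hb : ∀ x : P, (b x : G) = k * x * k⁻¹)
    (hQ : (MulAut.conjNormal g : MulAut Q) = MulAut.conjNormal k) :
    ∃ i, (b⁻¹ * a) ^ p ^ i = 1 := by
  set γ := b⁻¹ * a with hγ
  have hc := mem_centralizer_of_same hQ
  have hγb : ∀ x : P, b (γ x) = a x := fun x => b.apply_symm_apply _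
  have hfix : ∀ x : P, (x : G) ∈ Q → γ x = x := fun x hx => b.injective (by
    rw [hγb]
    refine Subtype.ext ?_
    rw [ha, hb]
    simpa only [MulAut.conjNormal_apply] using
      congrArg (fun φ : MulAut Q => (φ ⟨x, hx⟩ : G)) hQ)
  have hmod : ∀ x : P, ((x⁻¹ * γ x : P) : G) ∈ Q := by
    intro x
    set z := x⁻¹ * γ x with hz
    have hb' : ((b z : P) : G) = k * (z : G) * k⁻¹ := hb z
    have h1 : b z = (b x)⁻¹ * a x := by rw [hz, map_mul, map_inv, hγb]
    have h2 : ((b z : P) : G) = k * ((x : G)⁻¹ * ((k⁻¹ * g) * (x : G) * (k⁻¹ * g)⁻¹)) * k⁻¹ := by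
      rw [h1, Subgroup.coe_mul, Subgroup.coe_inv, ha, hb]
      group
    rw [hb'] at h2
    have h3 := mul_left_cancel (mul_right_cancel h2)
    refine h.centralizer_q (hP z.2) ?_
    rw [h3]
    have hx : (x : G)⁻¹ * (k⁻¹ * g) * (x : G) ∈ Subgroup.centralizer (Q : Set G) := by
      simpa using Subgroup.Normal.conj_mem (inferInstance : (Subgroup.centralizer (Q : Set G)).Normal) _ hc (x : G)⁻¹
    have := Subgroup.mul_mem _ hx (Subgroup.inv_mem _ hc)
    convert this using 1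
    group
  have hit : ∀ (x : P) (n : ℕ), (γ ^ n) x = x * (x⁻¹ * γ x) ^ n := by
    intro x n
    induction n with
    | zero => simp
    | succ n ih =>
      rw [pow_succ', MulAut.mul_apply, ih, map_mul, map_pow, hfix _ (hmod x), pow_succ' (x⁻¹ * γ x),
        ← mul_assoc x, mul_inv_cancel_left]
  obtain ⟨i, hi⟩ := IsPGroup.iff_card.mp (S.isPGroup'.to_le (hP.trans h.tS) : IsPGroup p P)
  refine ⟨i, MulEquiv.ext fun x => ?_⟩
  rw [hit, ← hi, pow_card_eq_one']
  exact mul_one x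

theorem Setup.q_normal (h : Setup S E R Q) : E.IsNormal Q := by
  have hTp : IsPGroup p T := S.isPGroup'.to_le h.tS
  obtain ⟨n, hn⟩ := exists_zSer_top hTp h.qT
  refine isNormal_of_series hTp h.normal.1.1 (zSer Q) n (zSer_zero Q) hn (fun i _ => ?_)
    fun i _ => zSer_commutator Q i
  have hz : (zSer Q i).Normal := by unfold zSer; infer_instance
  refine stronglyClosed_iff.mpr ⟨(zSer_le Q i).trans h.qT, fun P f hf x hx hxZ => ?_⟩
  obtain ⟨-, -, g, hg⟩ := isMap_group_iff.mp (hf.of_isSubsystemOf h.normal.1.2.2.1)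
  rw [hg x hx]
  exact hz.conj_mem x hxZ g

theorem Setup.exists_hSub_same (h : Setup S E R Q) {α : MulAut Q} (hα : α ∈ E.autGroup Q) :
    ∃ k ∈ hSub p E R Q, MulAut.conjNormal k = α := by
  have h1 := h.autQ_le hα
  rw [autInducedBy_eq_map] at h1
  obtain ⟨g, hg, rfl⟩ := h1
  haveI : (relCentralizer Q R ⊓ Subgroup.centralizer (Q : Set G)).Normal := inferInstance
  obtain ⟨k, hk, m, hm, rfl⟩ := Subgroup.mem_sup_of_normal_right.mp
    (h.hOne_le ⟨hg, Subgroup.mem_comap.mpr hα⟩)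
  refine ⟨k, hk, ?_⟩
  rw [map_mul, show (MulAut.conjNormal m : MulAut Q) = 1 from MulEquiv.ext fun x => Subtype.ext (by
    rw [MulAut.conjNormal_apply, ← Subgroup.mem_centralizer_iff.mp hm.2 x x.2]; simp), mul_one]

theorem Setup.hom_eq (h : Setup S E R Q) (hTH : T ≤ hSub p E R Q) :
    E = fusionSystemOfSubgroup (hSub p E R Q) T hTH := by
  haveI := h.hSub_normal
  set H := hSub p E R Q with hH
  set F := groupFusionSystem (S : Subgroup G) with hF
  set E' := fusionSystemOfSubgroup H T hTH with hE'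
  have hTp : IsPGroup p T := S.isPGroup'.to_le h.tS
  have hEsub : ∀ {P : Subgroup G} {α : MulAut P}, P ≤ T → α ∈ E.autGroup P →
      ∃ g, ∀ x : P, (α x : G) = g * x * g⁻¹ := fun hP hα => by
    have := autGroup_mono (h.normal.1.2.2.1 _) hα
    rw [autGroup_group S (hP.trans h.tS), mem_autInducedBy] at this
    obtain ⟨g, -, hg⟩ := this
    exact ⟨g, hg⟩
  have hn' : E'.IsNormalIn F p := by
    have := Fus93.normalSubgroup_isNormalIn S H
    convert this using 1
    · exact h.hSub_inf.symm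
    · congr! 1
  have hQn' : E'.IsNormal Q := by
    obtain ⟨n, hn⟩ := exists_zSer_top hTp h.qT
    refine isNormal_of_series hTp hn'.1.1 (zSer Q) n (zSer_zero Q) hn (fun i _ => ?_)
      fun i _ => zSer_commutator Q i
    have hz : (zSer Q i).Normal := by unfold zSer; infer_instance
    refine stronglyClosed_iff.mpr ⟨(zSer_le Q i).trans h.qT, fun P f hf x hx hxZ => ?_⟩
    obtain ⟨-, -, g, -, hg⟩ := Fus93.isMap_sub_iff.mp hf
    rw [hg x hx]
    exact hz.conj_mem x hxZ g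
  have hnormal : ∀ {E₁ : FusionSystem T}, StrongInv E₁ F → ∀ {P : Subgroup G}, P ≤ T →
      ((E₁.autGroup P).subgroupOf (F.autGroup P)).Normal := fun hi P hP =>
    ⟨fun b hb a => Subgroup.mem_subgroupOf.mpr
      (autGroup_conj_mem h.tS hi hP (Subgroup.mem_subgroupOf.mp hb) a.2)⟩
  have main : ∀ (E₁ E₂ : FusionSystem T), E₁.IsWeaklyNormalIn F p → E₂.IsInvariantIn F →
      ∀ P, E₁.IsFullyNormalized P →
      (∀ α ∈ E₁.autGroup P, ∃ β ∈ E₂.autGroup P, ∃ i, (β⁻¹ * α) ^ p ^ i = 1) →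
      E₁.autGroup P ≤ E₂.autGroup P := by
    intro E₁ E₂ h₁ h₂ P hP hmod
    haveI := finite_mulAut P
    haveI := hnormal (strongInv_of_invariant h₂) hP.1
    have hle : E₁.autGroup P ≤ F.autGroup P := autGroup_mono (h₁.2.2.1 P)
    have hle₂ : E₂.autGroup P ≤ F.autGroup P := autGroup_mono (h₂.1 P)
    obtain ⟨U, hU⟩ := (fullyAutomized_of_fullyNormalized hTp h₁.1 hP).2
    let e := Subgroup.subgroupOfEquivOfLe hle
    have key : (E₁.autGroup P).subgroupOf (F.autGroup P) ≤ (E₂.autGroup P).subgroupOf (F.autGroup P) := by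
      refine le_of_mod_pElement (fun a ha => ?_) (U.comapOfInjective e.toMonoidHom e.injective ?_) ?_
      · obtain ⟨β, hβ, i, hi⟩ := hmod _ (Subgroup.mem_subgroupOf.mp ha)
        exact ⟨⟨β, hle₂ hβ⟩, hβ, i, Subtype.ext hi⟩
      · rw [MonoidHom.range_eq_top.mpr e.surjective]; exact le_top
      · rintro _ ⟨a, ha, rfl⟩
        have ha' : e a ∈ (U : Subgroup (E₁.autGroup P)) := ha
        rw [hU, Subgroup.mem_subgroupOf] at ha'
        exact Subgroup.mem_subgroupOf.mpr (autInducedBy_le_autGroup hP.1 ha')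
    exact fun α hα => key (Subgroup.mem_subgroupOf.mpr hα : (⟨α, hle hα⟩ : F.autGroup P) ∈ _)
  apply fusion_antisymm
  · refine le_of_autGroup_le_cr hTp h.normal.1.1 E' fun P hc hr hn => main E E' h.normal.1 hn'.1.2.2 P hn ?_
    intro α hα
    have hQP := normal_le_centric_radical hTp h.q_normal hc hr
    obtain ⟨g, hg⟩ := hEsub hn.1 hα
    have hgQ : (MulAut.conjNormal g : MulAut Q) ∈ E.autGroup Q := by
      refine autGroup_mem_of_isMap ((((mem_autGroup hn.1).mp hα).1.mono hQP).congr fun x hx => ?_)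
      rw [autFun_of_mem _ hx, autFun_of_mem α (hQP hx), hg, MulAut.conjNormal_apply]
    obtain ⟨k, hk, hke⟩ := h.exists_hSub_same hgQ
    have hkP : k ∈ Subgroup.normalizer (P : Set G) := by
      refine Subgroup.mem_normalizer_fintype fun x hx => ?_
      have hy : g * x * g⁻¹ ∈ P := hg ⟨x, hx⟩ ▸ (α ⟨x, hx⟩).2
      set u := (g * x * g⁻¹)⁻¹ * (k * x * k⁻¹) with hu
      have huM : u ∈ relCentralizer Q R ⊓ Subgroup.centralizer (Q : Set G) := by
        refine ⟨Subgroup.mul_mem _ (Subgroup.inv_mem _ (h.t_le_rel (hn.1 hy)))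
          (Subgroup.Normal.conj_mem inferInstance x (h.t_le_rel (hn.1 hx)) k), ?_⟩
        refine mem_centralizer_of_same (Q := Q) ?_
        rw [map_mul, map_mul, map_inv, hke, map_mul, map_mul, map_inv]
      have hkS : k * x * k⁻¹ ∈ (S : Subgroup G) := by
        have := Subgroup.mul_mem _ (h.tS (hn.1 hy)) (h.rS (h.m_le huM))
        convert this using 1
        rw [hu]; group
      have huT : u ∈ T := T.mul_mem (T.inv_mem (hn.1 hy)) (h.closed k x (hn.1 hx) hkS)
      have := P.mul_mem hy (hQP (h.centralizer_q huT huM.2))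
      rw [hu, mul_inv_cancel_left] at this
      exact this
    let β : MulAut P := conjAutHom H P ⟨k, hk, hkP⟩
    refine ⟨β, ?_, h.agree hn.1 hQP hg (fun x => rfl) (hke.symm ▸ rfl)⟩
    rw [autGroup_sub hTH hn.1, ← range_conjAutHom]
    exact ⟨_, rfl⟩
  · refine le_of_autGroup_le_cr hTp hn'.1.1 E fun P hc hr hn => main E' E hn'.1 h.normal.1.2.2 P hn ?_
    intro α hα
    have hQP := normal_le_centric_radical hTp hQn' hc hr
    have hα' := hα
    rw [autGroup_sub hTH hn.1, mem_autInducedBy] at hα'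
    obtain ⟨k, hk, hkα⟩ := hα'
    let φ : MulAut Q := MulAut.conjNormal k
    have hφ : φ ∈ E.autGroup Q := Subgroup.mem_comap.mp (h.hSub_le hk).2
    have hiso := (mem_autGroup h.qT).mp hφ
    have hext : IsExtendable T Q (autFun φ) P := by
      refine ⟨hn.1, fun x hx => ⟨by rw [Subgroup.normalizer_eq_top]; trivial, (α ⟨x, hx⟩ : G), hn.1 (α _).2, fun q hq => ?_⟩⟩
      rw [autFun_of_mem _ (Subgroup.Normal.conj_mem ‹Q.Normal› q hq x), autFun_of_mem _ hq, hkα,
        MulAut.conjNormal_apply, MulAut.conjNormal_apply]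
      group
    obtain ⟨f, hf, hfe⟩ := receptive_extend
      (receptive_of_fullyNormalized hTp h.normal.1.1 h.fullyNormalized_q) hiso hext
    rw [sup_eq_right.mpr hQP] at hf
    obtain ⟨-, -, g, hg⟩ := isMap_group_iff.mp (hf.of_isSubsystemOf h.normal.1.2.2.1)
    have hgQ : (MulAut.conjNormal g : MulAut Q) = MulAut.conjNormal k :=
      MulEquiv.ext fun q => Subtype.ext (by
        rw [MulAut.conjNormal_apply, MulAut.conjNormal_apply, ← hg q (hQP q.2), hfe q.2, autFun_coe]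
        exact MulAut.conjNormal_apply k q)
    have hfP : ∀ x ∈ P, f x ∈ P := by
      intro x hx
      have hy : k * x * k⁻¹ ∈ P := hkα ⟨x, hx⟩ ▸ (α ⟨x, hx⟩).2
      have huC : (k * x * k⁻¹)⁻¹ * f x ∈ Subgroup.centralizer (Q : Set G) := by
        rw [hg x hx]
        refine mem_centralizer_of_same (Q := Q) ?_
        rw [map_mul, map_mul, map_inv, hgQ, map_mul, map_mul, map_inv]
      have := P.mul_mem hy (hQP (h.centralizer_q (T.mul_mem (T.inv_mem (hn.1 hy)) (hf.apply_mem hx)) huC))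
      rw [mul_inv_cancel_left] at this
      exact this
    obtain ⟨β, hβ, hβe⟩ := (show IsIso E P P f from ⟨hf, Set.Subset.antisymm
      (fun y ⟨x, hx, hy⟩ => hy ▸ hfP x hx)
      (fun y hy => surjOn_of_card_le hn.1 hf.injOn hfP le_rfl y hy)⟩).exists_aut
    refine ⟨β, hβ, h.agree hn.1 hQP hkα (fun x => ?_) hgQ.symm⟩
    rw [← autFun_coe β x, hβe x.2, hg x x.2]

theorem Setup.exists_unique (h : Setup S E R Q) : ∃ H : Subgroup G,
    (∃ hTH : T ≤ H, H.Normal ∧ (∃ U : Sylow p H, (U : Subgroup H) = T.subgroupOf H) ∧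
      ∀ P : Subgroup G, E.Hom P = (fusionSystemOfSubgroup H T hTH).Hom P) ∧
    ∀ H' : Subgroup G, (∃ hTH' : T ≤ H', H'.Normal ∧ (∃ U : Sylow p H', (U : Subgroup H') = T.subgroupOf H') ∧
      ∀ P : Subgroup G, E.Hom P = (fusionSystemOfSubgroup H' T hTH').Hom P) → H' = H := by
  haveI := h.hSub_normal
  have hTH : T ≤ hSub p E R Q := le_sup_left
  obtain ⟨U, hU⟩ := Fus93.exists_sylow_inf S (hSub p E R Q)
  rw [h.hSub_inf] at hU
  refine ⟨_, ⟨hTH, inferInstance, ⟨U, hU⟩, fun P => congrArg (fun F : FusionSystem T => F.Hom P) (h.hom_eq hTH)⟩, ?_⟩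
  rintro H' ⟨hTH', hn', ⟨U', hU'⟩, hom'⟩
  have hinf : (S : Subgroup G) ⊓ H' ≤ T := by
    obtain ⟨V, hV⟩ := Fus93.exists_sylow_inf S H'
    have := U'.is_maximal' V.isPGroup' (by
      rw [hU', hV]; exact Subgroup.comap_mono (le_inf h.tS hTH'))
    intro x hx
    have hxV : (⟨x, hx.2⟩ : H') ∈ (V : Subgroup H') := by rw [hV]; exact hx
    rw [this, hU'] at hxV
    exact hxV
  have hle1 : H' ≤ hOne E R Q := by
    intro k hk
    have hQT := h.qT
    refine ⟨mem_relCentralizer.mpr fun r hr => h.mem_q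
      (R.mul_mem (Subgroup.Normal.conj_mem ‹R.Normal› r hr k) (R.inv_mem hr)) (hinf ⟨h.rS
      (R.mul_mem (Subgroup.Normal.conj_mem ‹R.Normal› r hr k) (R.inv_mem hr)), ?_⟩),
      Subgroup.mem_comap.mpr ?_⟩
    · simpa [mul_assoc] using H'.mul_mem hk (hn'.conj_mem _ (H'.inv_mem hk) r)
    · refine autGroup_mem_of_isMap (IsMap.of_subset (hom' Q).ge (Fus93.isMap_sub_iff.mpr
        ⟨hQT, fun x hx => ?_, k, hk, fun x hx => ?_⟩))
      · rw [autFun_of_mem _ hx]
        exact hQT (Subtype.mem _)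
      · rw [autFun_of_mem _ hx, MulAut.conjNormal_apply]
  have hcover : ∀ k ∈ hOne E R Q, ∃ k' ∈ H', k'⁻¹ * k ∈
      relCentralizer Q R ⊓ Subgroup.centralizer (Q : Set G) := by
    intro k hk
    have hmap := (mem_autGroup h.qT).mp (Subgroup.mem_comap.mp hk.2)
    obtain ⟨-, -, k', hk', he⟩ := Fus93.isMap_sub_iff.mp (hmap.1.of_subset (hom' Q).le)
    refine ⟨k', hk', Subgroup.mul_mem _ (Subgroup.inv_mem _ (hle1 hk').1) hk.1,
      mem_centralizer_of_same (MulEquiv.ext fun q => Subtype.ext ?_)⟩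
    rw [MulAut.conjNormal_apply k', ← he q q.2, autFun_coe]
  have hW : (pResidual p ↥(hOne E R Q)).map (hOne E R Q).subtype ≤ H' := by
    haveI : (H'.subgroupOf (hOne E R Q)).Normal := hn'.subgroupOf _
    rw [Subgroup.map_le_iff_le_comap, ← Subgroup.subgroupOf]
    refine Transfer.pResidual_le_iff.mpr fun a ha => ?_
    obtain ⟨k', hk', hm⟩ := hcover a a.2
    obtain ⟨i, hi⟩ := (S.isPGroup'.to_le h.rS : IsPGroup p R) ⟨_, h.m_le hm⟩
    rw [Subgroup.mem_subgroupOf, ← QuotientGroup.eq_one_iff (N := H'), ← orderOf_eq_one_iff]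
    refine Nat.eq_one_of_dvd_coprimes (ha.pow_right i) ?_ (orderOf_dvd_of_pow_eq_one ?_)
    · exact (orderOf_map_dvd (QuotientGroup.mk' H') (a : G)).trans (Subgroup.orderOf_coe a).dvd
    · have e : ((a : G) : G ⧸ H') = ((k'⁻¹ * a : G) : G ⧸ H') := by
        rw [QuotientGroup.mk_mul, QuotientGroup.mk_inv, (QuotientGroup.eq_one_iff k').mpr hk',
          inv_one, one_mul]
      rw [e, ← QuotientGroup.mk_pow, show (k'⁻¹ * (a : G)) ^ p ^ i = 1 from congrArg Subtype.val hi,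
        QuotientGroup.mk_one]
  refine le_antisymm (fun k hk => ?_) (sup_le hTH' hW)
  obtain ⟨a, ha, m, hm, rfl⟩ := Subgroup.mem_sup_of_normal_right.mp (h.hOne_le (hle1 hk))
  refine Subgroup.mul_mem _ ha (hTH (hinf ⟨h.rS (h.m_le hm), ?_⟩))
  simpa using H'.mul_mem (H'.inv_mem ((sup_le hTH' hW) ha)) hk

end Cfsg.Agent.Fusion.StrictlyConstrained
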